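import Mathlib

set_option autoImplicit false

namespace Cfsg.Agent.Helper1
open Pointwise

section conj
variable {G : Type*} [Group G]

theorem mem_conj_smul {g x : G} {H : Subgroup G} : x ∈ MulAut.conj g • H ↔ g⁻¹ * x * g ∈ H := by
  rw [Subgroup.mem_pointwise_smul_iff_inv_smul_mem, ← map_inv, MulAut.smul_def, MulAut.conj_apply,
    inv_inv]

theorem conj_mem_conj_smul {g x : G} {H : Subgroup G} (hx : x ∈ H) : g * x * g⁻¹ ∈ MulAut.conj g • H := by
  rw [mem_conj_smul]; simpa [mul_assoc] using hx

theorem map_conj_smul {G' : Type*} [Group G'] (f : G →* G') (g : G) (H : Subgroup G) :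
    (MulAut.conj g • H).map f = MulAut.conj (f g) • H.map f := by
  ext x
  constructor
  · rintro ⟨y, hy, rfl⟩
    rw [SetLike.mem_coe, mem_conj_smul] at hy
    rw [mem_conj_smul]
    exact ⟨g⁻¹ * y * g, hy, by simp⟩
  · intro hx
    rw [mem_conj_smul] at hx
    obtain ⟨y, hy, hxy⟩ := hx
    refine ⟨g * y * g⁻¹, conj_mem_conj_smul hy, ?_⟩
    simp only [map_mul, map_inv, hxy]
    group

theorem comap_conj_smul {G' : Type*} [Group G'] (f : G →* G') (g : G) (H' : Subgroup G') :
    (MulAut.conj (f g) • H').comap f = MulAut.conj g • H'.comap f := by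
  ext x
  simp only [Subgroup.mem_comap, mem_conj_smul, map_mul, map_inv]

theorem card_conj_smul (g : G) (H : Subgroup G) : Nat.card (MulAut.conj g • H : Subgroup G) = Nat.card H :=
  Nat.card_congr (Subgroup.equivSMul (MulAut.conj g) H).toEquiv.symm

theorem conj_smul_conj_smul (g h : G) (H : Subgroup G) :
    MulAut.conj g • MulAut.conj h • H = MulAut.conj (g * h) • H := by
  rw [smul_smul, ← map_mul]

theorem conj_smul_map_subtype {L : Subgroup G} (l : L) (X : Subgroup L) :
    (MulAut.conj l • X).map L.subtype = MulAut.conj (l : G) • X.map L.subtype :=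
  map_conj_smul L.subtype l X

theorem le_normalizer_iff_conj_smul_eq {A H : Subgroup G} :
    A ≤ Subgroup.normalizer (H : Set G) ↔ ∀ a ∈ A, MulAut.conj a • H = H := by
  constructor
  · intro h a ha
    ext x
    rw [mem_conj_smul]
    have := (Subgroup.mem_normalizer_iff'').mp (h ha) x
    exact this.symm
  · intro h a ha
    rw [Subgroup.mem_normalizer_iff'']
    intro x
    have := h a ha
    rw [← mem_conj_smul, this]

end conj

end Cfsg.Agent.Helper1
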