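import Mathlib
import Cfsg.Agent.Lib.Helper1.Basic

set_option autoImplicit false

namespace Cfsg.Agent.Helper1
open Pointwise

variable {G : Type*} [Group G]

theorem isComplement'_iff_disjoint_and_forall {X Y : Subgroup G} :
    Subgroup.IsComplement' X Y ↔ Disjoint X Y ∧ ∀ g : G, ∃ x ∈ X, ∃ y ∈ Y, x * y = g := by
  constructor
  · intro h
    refine ⟨h.disjoint, fun g => ?_⟩
    obtain ⟨⟨x, y⟩, hxy⟩ := h.2 g
    exact ⟨x, x.2, y, y.2, hxy⟩
  · rintro ⟨h1, h2⟩
    refine Subgroup.isComplement'_of_disjoint_and_mul_eq_univ h1 ?_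
    rw [Set.eq_univ_iff_forall]
    intro g
    obtain ⟨x, hx, y, hy, hxy⟩ := h2 g
    exact ⟨x, hx, y, hy, hxy⟩

theorem disjoint_subgroupOf {X Y : Subgroup G} (L : Subgroup G) (h : Disjoint X Y) :
    Disjoint (X.subgroupOf L) (Y.subgroupOf L) := by
  rw [Subgroup.disjoint_def] at h ⊢
  intro x hx hy
  exact Subtype.ext (h (Subgroup.mem_subgroupOf.mp hx) (Subgroup.mem_subgroupOf.mp hy))

/-- Restricting a complement pair to a subgroup containing the first factor. -/
theorem isComplement'_subgroupOf_of_le {X Y L : Subgroup G} (h : Subgroup.IsComplement' X Y) (hXL : X ≤ L) :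
    Subgroup.IsComplement' (X.subgroupOf L) (Y.subgroupOf L) := by
  rw [isComplement'_iff_disjoint_and_forall] at h ⊢
  refine ⟨disjoint_subgroupOf L h.1, fun l => ?_⟩
  obtain ⟨x, hx, y, hy, hxy⟩ := h.2 l
  have hyL : y ∈ L := by
    have : y = x⁻¹ * l := by rw [← hxy]; group
    rw [this]
    exact L.mul_mem (L.inv_mem (hXL hx)) l.2
  exact ⟨⟨x, hXL hx⟩, Subgroup.mem_subgroupOf.mpr hx, ⟨y, hyL⟩, Subgroup.mem_subgroupOf.mpr hy,
    Subtype.ext hxy⟩

/-- A disjoint pair with the first normal gives complements inside the join. -/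
theorem isComplement'_subgroupOf_sup {X Y : Subgroup G} [X.Normal] (h : Disjoint X Y) {L : Subgroup G}
    (hL : L = X ⊔ Y) :
    Subgroup.IsComplement' (X.subgroupOf L) (Y.subgroupOf L) := by
  subst hL
  rw [isComplement'_iff_disjoint_and_forall]
  refine ⟨disjoint_subgroupOf _ h, fun l => ?_⟩
  obtain ⟨x, hx, y, hy, hxy⟩ := Subgroup.mem_sup_of_normal_left.mp l.2
  exact ⟨⟨x, (le_sup_left : X ≤ X ⊔ Y) hx⟩, Subgroup.mem_subgroupOf.mpr hx,
    ⟨y, (le_sup_right : Y ≤ X ⊔ Y) hy⟩, Subgroup.mem_subgroupOf.mpr hy, Subtype.ext hxy⟩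

/-- Conjugating a complement of a normal subgroup gives a complement. -/
theorem isComplement'_conj_smul {N H : Subgroup G} [N.Normal] (h : Subgroup.IsComplement' N H) (g : G) :
    Subgroup.IsComplement' N (MulAut.conj g • H) := by
  rw [isComplement'_iff_disjoint_and_forall] at h ⊢
  constructor
  · rw [Subgroup.disjoint_def]
    intro x hxN hxH
    rw [mem_conj_smul] at hxH
    have h1 : g⁻¹ * x * g ∈ N := by
      have := Subgroup.Normal.conj_mem (inferInstance : N.Normal) x hxN g⁻¹
      simpa using this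
    have := (Subgroup.disjoint_def.mp h.1) h1 hxH
    have hx : x = g * (g⁻¹ * x * g) * g⁻¹ := by group
    rw [hx, this]; group
  · intro y
    obtain ⟨n, hn, k, hk, hnk⟩ := h.2 (g⁻¹ * y * g)
    refine ⟨g * n * g⁻¹, Subgroup.Normal.conj_mem inferInstance n hn g, g * k * g⁻¹, conj_mem_conj_smul hk, ?_⟩
    have : g * n * g⁻¹ * (g * k * g⁻¹) = g * (n * k) * g⁻¹ := by group
    rw [this, hnk]; group

/-- The image of a complement pair in a quotient by a normal subgroup inside the first factor. -/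
theorem isComplement'_map_mk' {N H M : Subgroup G} [M.Normal] (h : Subgroup.IsComplement' N H) (hMN : M ≤ N) :
    Subgroup.IsComplement' (N.map (QuotientGroup.mk' M)) (H.map (QuotientGroup.mk' M)) := by
  rw [isComplement'_iff_disjoint_and_forall] at h ⊢
  constructor
  · rw [Subgroup.disjoint_def]
    rintro x ⟨n, hn, rfl⟩ ⟨k, hk, hnk⟩
    have h1 : n⁻¹ * k ∈ M := by
      rw [← QuotientGroup.eq_one_iff, ← QuotientGroup.mk'_apply, map_mul, map_inv, hnk]; simp
    have h2 : k ∈ N := by
      have : k = n * (n⁻¹ * k) := by group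
      rw [this]; exact N.mul_mem hn (hMN h1)
    have := (Subgroup.disjoint_def.mp h.1) h2 hk
    rw [← hnk, this, map_one]
  · intro y
    obtain ⟨g, rfl⟩ := QuotientGroup.mk'_surjective M y
    obtain ⟨n, hn, k, hk, hnk⟩ := h.2 g
    exact ⟨_, Subgroup.mem_map_of_mem _ hn, _, Subgroup.mem_map_of_mem _ hk, by rw [← map_mul, hnk]⟩

theorem card_subgroupOf_of_le {X L : Subgroup G} (h : X ≤ L) : Nat.card (X.subgroupOf L) = Nat.card X :=
  Nat.card_congr (Subgroup.subgroupOfEquivOfLe h).toEquiv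

theorem card_subgroupOf_dvd (X L : Subgroup G) : Nat.card (X.subgroupOf L) ∣ Nat.card X := by
  have : Nat.card (X.subgroupOf L) = Nat.card (X ⊓ L : Subgroup G) := by
    rw [← card_subgroupOf_of_le (inf_le_right : X ⊓ L ≤ L)]
    congr 2
    ext x
    simp [Subgroup.mem_subgroupOf]
  rw [this]
  exact Subgroup.card_dvd_of_le inf_le_left

theorem card_eq_of_isComplement' [Finite G] {N H K : Subgroup G} (hH : Subgroup.IsComplement' N H)
    (hK : Subgroup.IsComplement' N K) : Nat.card H = Nat.card K := by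
  have h1 := hH.card_mul_card
  have h2 := hK.card_mul_card
  have hpos : 0 < Nat.card N := Nat.card_pos
  exact Nat.eq_of_mul_eq_mul_left hpos (h1.trans h2.symm)

end Cfsg.Agent.Helper1
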