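import Mathlib
import Cfsg.Agent.Lib.Helper1.Basic

set_option autoImplicit false

namespace Cfsg.Agent.Helper1
open Pointwise
open scoped commutatorElement

/-- A nontrivial solvable group has a nontrivial abelian normal subgroup. -/
theorem exists_normal_abelian_of_solvable (G : Type*) [Group G] [Group.IsSolvable G] [Nontrivial G] :
    ∃ D : Subgroup G, D.Normal ∧ D ≠ ⊥ ∧ ⁅D, D⁆ = ⊥ := by
  classical
  have hs : ∃ n : ℕ, derivedSeries G n = ⊥ := Group.IsSolvable.solvable
  have h0 : Nat.find hs ≠ 0 := by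
    intro h
    have := Nat.find_spec hs
    rw [h, derivedSeries_zero] at this
    exact top_ne_bot this
  obtain ⟨k, hk⟩ := Nat.exists_eq_succ_of_ne_zero h0
  refine ⟨derivedSeries G k, derivedSeries_normal G k, ?_, ?_⟩
  · exact Nat.find_min hs (by omega)
  · have := Nat.find_spec hs
    rw [hk, derivedSeries_succ] at this
    exact this

/-- In a finite group, a nontrivial abelian normal subgroup contains, for some prime `p`, a nontrivial
normal subgroup of `G` all of whose elements have order dividing `p`. -/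
theorem exists_normal_elementary_of_abelian {G : Type*} [Group G] [Finite G] (D : Subgroup G) [D.Normal]
    (hD : D ≠ ⊥) (hab : ⁅D, D⁆ = ⊥) :
    ∃ p : ℕ, p.Prime ∧ ∃ A : Subgroup G, A.Normal ∧ A ≠ ⊥ ∧ A ≤ D ∧ ⁅A, A⁆ = ⊥ ∧ ∀ x ∈ A, x ^ p = 1 := by
  have hcomm : ∀ x ∈ D, ∀ y ∈ D, x * y = y * x := by
    intro x hx y hy
    have : ⁅x, y⁆ ∈ ⁅D, D⁆ := Subgroup.commutator_mem_commutator hx hy
    rw [hab, Subgroup.mem_bot, commutatorElement_eq_one_iff_mul_comm] at this
    exact this
  have hcard : Nat.card D ≠ 1 := by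
    intro h
    exact hD (Subgroup.card_eq_one.mp h)
  obtain ⟨p, hp, hpd⟩ := Nat.exists_prime_and_dvd hcard
  have : Fact p.Prime := ⟨hp⟩
  obtain ⟨x, hx⟩ := exists_prime_orderOf_dvd_card' p hpd
  let A : Subgroup G :=
    { carrier := {y | y ∈ D ∧ y ^ p = 1}
      one_mem' := ⟨D.one_mem, one_pow p⟩
      mul_mem' := by
        rintro a b ⟨ha, ha'⟩ ⟨hb, hb'⟩
        refine ⟨D.mul_mem ha hb, ?_⟩
        have hc : Commute a b := hcomm a ha b hb
        rw [hc.mul_pow, ha', hb', one_mul]
      inv_mem' := by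
        rintro a ⟨ha, ha'⟩
        exact ⟨D.inv_mem ha, by rw [inv_pow, ha', inv_one]⟩ }
  have hAD : A ≤ D := fun y hy => hy.1
  refine ⟨p, hp, A, ?_, ?_, hAD, ?_, fun y hy => hy.2⟩
  · constructor
    intro n hn g
    refine ⟨Subgroup.Normal.conj_mem inferInstance n hn.1 g, ?_⟩
    rw [conj_pow, hn.2]; simp
  · intro hA
    have hxA : (x : G) ∈ A := by
      refine ⟨x.2, ?_⟩
      have : x ^ p = 1 := by rw [← hx]; exact pow_orderOf_eq_one x
      have := congrArg (Subtype.val) this
      simpa using this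
    rw [hA, Subgroup.mem_bot] at hxA
    have hx1 : x = 1 := Subtype.ext hxA
    rw [hx1, orderOf_one] at hx
    exact hp.one_lt.ne hx
  · rw [eq_bot_iff]
    calc ⁅A, A⁆ ≤ ⁅D, D⁆ := Subgroup.commutator_mono hAD hAD
      _ = ⊥ := hab

/-- A nontrivial finite solvable group has a nontrivial normal elementary abelian `p`-subgroup. -/
theorem exists_normal_elementary_of_solvable (G : Type*) [Group G] [Finite G] [Group.IsSolvable G] [Nontrivial G] :
    ∃ p : ℕ, p.Prime ∧ ∃ A : Subgroup G, A.Normal ∧ A ≠ ⊥ ∧ ⁅A, A⁆ = ⊥ ∧ ∀ x ∈ A, x ^ p = 1 := by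
  obtain ⟨D, hDn, hD, hab⟩ := exists_normal_abelian_of_solvable G
  obtain ⟨p, hp, A, hAn, hA, -, hAab, hAp⟩ := exists_normal_elementary_of_abelian D hD hab
  exact ⟨p, hp, A, hAn, hA, hAab, hAp⟩

theorem isPGroup_of_forall_pow_eq_one {G : Type*} [Group G] {p : ℕ} (A : Subgroup G)
    (h : ∀ x ∈ A, x ^ p = 1) : IsPGroup p A := by
  intro x
  refine ⟨1, ?_⟩
  rw [pow_one]
  exact Subtype.ext (by simpa using h x x.2)

theorem isMulCommutative_of_commutator_eq_bot {G : Type*} [Group G] (A : Subgroup G) (h : ⁅A, A⁆ = ⊥) :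
    IsMulCommutative A := by
  refine ⟨⟨fun a b => ?_⟩⟩
  have : ⁅(a : G), (b : G)⁆ ∈ ⁅A, A⁆ := Subgroup.commutator_mem_commutator a.2 b.2
  rw [h, Subgroup.mem_bot, commutatorElement_eq_one_iff_mul_comm] at this
  exact Subtype.ext this

/-- A nontrivial finite solvable group has a normal subgroup of prime index. -/
theorem exists_normal_prime_index_of_solvable (G : Type*) [Group G] [Finite G] [Group.IsSolvable G] [Nontrivial G] :
    ∃ M : Subgroup G, M.Normal ∧ M.index.Prime := by
  have hlt := Group.IsSolvable.commutator_lt_top_of_nontrivial G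
  obtain ⟨M, hM, hle⟩ := (eq_top_or_exists_le_coatom (commutator G)).resolve_left hlt.ne
  have hMn : M.Normal := by
    constructor
    intro m hm g
    have h1 : ⁅g, m⁆ ∈ commutator G := Subgroup.commutator_mem_commutator (Subgroup.mem_top g) (Subgroup.mem_top m)
    have h2 : g * m * g⁻¹ = ⁅g, m⁆ * m := by simp [commutatorElement_def]
    rw [h2]
    exact M.mul_mem (hle h1) hm
  refine ⟨M, hMn, ?_⟩
  have hne : M.index ≠ 1 := fun h => hM.1 (Subgroup.index_eq_one.mp h)
  obtain ⟨p, hp, hpd⟩ := Nat.exists_prime_and_dvd hne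
  have : Fact p.Prime := ⟨hp⟩
  rw [Subgroup.index_eq_card] at hpd
  obtain ⟨x, hx⟩ := exists_prime_orderOf_dvd_card' p hpd
  have hx1 : x ≠ 1 := by
    rintro rfl
    rw [orderOf_one] at hx
    exact hp.one_lt.ne hx
  -- the preimage of `zpowers x` contains `M` strictly
  have hlt2 : M < (Subgroup.zpowers x).comap (QuotientGroup.mk' M) := by
    refine lt_of_le_of_ne ?_ ?_
    · intro m hm
      rw [Subgroup.mem_comap]
      have : (QuotientGroup.mk' M) m = 1 := (QuotientGroup.eq_one_iff m).mpr hm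
      rw [this]; exact Subgroup.one_mem _
    · intro heq
      obtain ⟨y, rfl⟩ := QuotientGroup.mk'_surjective M x
      have : y ∈ (Subgroup.zpowers ((QuotientGroup.mk' M) y)).comap (QuotientGroup.mk' M) :=
        Subgroup.mem_comap.mpr (Subgroup.mem_zpowers _)
      rw [← heq] at this
      exact hx1 ((QuotientGroup.eq_one_iff y).mpr this)
  have htop := hM.2 _ hlt2
  have htop2 : Subgroup.zpowers x = ⊤ := by
    rw [eq_top_iff]
    intro y _
    obtain ⟨z, rfl⟩ := QuotientGroup.mk'_surjective M y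
    have : z ∈ (Subgroup.zpowers x).comap (QuotientGroup.mk' M) := by rw [htop]; trivial
    exact this
  have hcard : Nat.card (G ⧸ M) = p := by
    rw [← hx, ← Nat.card_zpowers, htop2, Subgroup.card_top]
  rw [Subgroup.index_eq_card, hcard]
  exact hp
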