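import Mathlib
import Cfsg.Agent.Lib.Helper1.Basic
import Cfsg.Agent.Lib.Helper1.Compl
import Cfsg.Agent.Lib.Helper1.Solv
import Cfsg.Agent.S0002

set_option autoImplicit false

namespace Cfsg.Agent.Helper1
open Pointwise

universe u

theorem commutator_lt_of_solvable {G : Type*} [Group G] (N : Subgroup G) [Group.IsSolvable N] (hN : N ≠ ⊥) :
    ⁅N, N⁆ < N := by
  rw [← Subgroup.nontrivial_iff_ne_bot] at hN
  rw [← N.range_subtype, MonoidHom.range_eq_map, ← Subgroup.map_commutator, Subgroup.map_subtype_lt_map_subtype]
  exact Group.IsSolvable.commutator_lt_top_of_nontrivial N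

theorem isSolvable_of_le {G : Type*} [Group G] {M N : Subgroup G} (h : M ≤ N) [Group.IsSolvable N] :
    Group.IsSolvable M :=
  Group.isSolvable_of_isSolvable_injective (Subgroup.inclusion_injective h)

theorem isSolvable_subgroupOf {G : Type*} [Group G] (M L : Subgroup G) [Group.IsSolvable M] :
    Group.IsSolvable (M.subgroupOf L) := by
  let f : M.subgroupOf L →* M :=
    { toFun := fun x => ⟨(x : G), Subgroup.mem_subgroupOf.mp x.2⟩
      map_one' := rfl
      map_mul' := fun _ _ => rfl }
  have hf : Function.Injective f := by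
    intro x y hxy
    have := congrArg (fun z : M => (z : G)) hxy
    exact Subtype.ext (Subtype.ext this)
  exact Group.isSolvable_of_isSolvable_injective hf

theorem isSolvable_map {G G' : Type*} [Group G] [Group G'] (f : G →* G') (N : Subgroup G) [Group.IsSolvable N] :
    Group.IsSolvable (N.map f) :=
  Group.isSolvable_of_surjective (f.subgroupMap_surjective N)

theorem isSolvable_conj_smul {G : Type*} [Group G] (g : G) (H : Subgroup G) [Group.IsSolvable H] :
    Group.IsSolvable (MulAut.conj g • H : Subgroup G) :=
  Group.isSolvable_of_surjective (f := (Subgroup.equivSMul (MulAut.conj g) H).toMonoidHom)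
    (Subgroup.equivSMul (MulAut.conj g) H).surjective

theorem card_quotient_lt {G : Type*} [Group G] [Finite G] (M : Subgroup G) [M.Normal] (hM : M ≠ ⊥) :
    Nat.card (G ⧸ M) < Nat.card G := by
  rw [← Subgroup.index_eq_card, ← M.index_mul_card]
  exact lt_mul_of_one_lt_right (Nat.pos_of_ne_zero Subgroup.index_ne_zero_of_finite)
    (M.one_lt_card_iff_ne_bot.mpr hM)

theorem card_lt_of_lt {G : Type*} [Group G] [Finite G] {M N : Subgroup G} (h : M < N) :
    Nat.card M < Nat.card N := by
  have hle := Subgroup.card_le_of_le h.le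
  rcases hle.lt_or_eq with h1 | h1
  · exact h1
  · exact absurd (Subgroup.eq_of_le_of_card_ge h.le h1.ge) h.ne

/-- Schur–Zassenhaus conjugacy, case of a solvable normal Hall subgroup. -/
theorem sz_conj_normal_solvable_aux : ∀ (n : ℕ) (G : Type u) [Group G] [Finite G], Nat.card G = n →
    ∀ (N : Subgroup G) [N.Normal] (H K : Subgroup G), (Nat.card N).Coprime (Nat.card H) →
    Group.IsSolvable N → Subgroup.IsComplement' N H → Subgroup.IsComplement' N K →
    ∃ g : G, MulAut.conj g • H = K := by
  intro n
  induction n using Nat.strong_induction_on with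
  | _ n ih =>
  intro G _ _ hn N _ H K hcop hsolv hH hK
  by_cases hab : ⁅N, N⁆ = ⊥
  · have := isMulCommutative_of_commutator_eq_bot N hab
    have hcop' : (Nat.card N).Coprime N.index := by
      rw [hH.symm.index_eq_card]; exact hcop
    obtain ⟨a, -, ha⟩ := Cfsg.Agent.S0002.result N hcop' H K hH hK
    exact ⟨a, ha⟩
  · set M : Subgroup G := ⁅N, N⁆ with hMdef
    have hNbot : N ≠ ⊥ := by
      rintro rfl
      apply hab
      rw [eq_bot_iff]
      exact Subgroup.commutator_le_left ⊥ ⊥
    have hMN : M < N := commutator_lt_of_solvable N hNbot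
    have : M.Normal := Subgroup.commutator_normal N N
    -- quotient step
    have hHK : Nat.card H = Nat.card K := card_eq_of_isComplement' hH hK
    have hq := isComplement'_map_mk' (M := M) hH hMN.le
    have hq' := isComplement'_map_mk' (M := M) hK hMN.le
    have hcopq : (Nat.card (N.map (QuotientGroup.mk' M))).Coprime (Nat.card (H.map (QuotientGroup.mk' M))) :=
      Nat.Coprime.of_dvd (Subgroup.card_map_dvd _ _) (Subgroup.card_map_dvd _ _) hcop
    have : (N.map (QuotientGroup.mk' M)).Normal :=
      Subgroup.Normal.map inferInstance _ (QuotientGroup.mk'_surjective M)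
    obtain ⟨gq, hgq⟩ := ih (Nat.card (G ⧸ M)) (hn ▸ card_quotient_lt M hab) (G ⧸ M) rfl
      (N.map (QuotientGroup.mk' M)) (H.map (QuotientGroup.mk' M)) (K.map (QuotientGroup.mk' M))
      hcopq (isSolvable_map _ N) hq hq'
    obtain ⟨g, rfl⟩ := QuotientGroup.mk'_surjective M gq
    rw [← map_conj_smul] at hgq
    set H1 : Subgroup G := MulAut.conj g • H with hH1def
    have hH1 : Subgroup.IsComplement' N H1 := isComplement'_conj_smul hH g
    have hsup : H1 ⊔ M = K ⊔ M := by
      have := congrArg (Subgroup.comap (QuotientGroup.mk' M)) hgq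
      rwa [Subgroup.comap_map_eq, Subgroup.comap_map_eq, QuotientGroup.ker_mk'] at this
    -- subgroup step
    set L : Subgroup G := M ⊔ K with hLdef
    have hL1 : L = M ⊔ H1 := by rw [hLdef, sup_comm, ← hsup, sup_comm]
    have hdisjK : Disjoint M K := Disjoint.mono_left hMN.le hK.disjoint
    have hdisjH1 : Disjoint M H1 := Disjoint.mono_left hMN.le hH1.disjoint
    have hcK := isComplement'_subgroupOf_sup hdisjK hLdef
    have hcH1 := isComplement'_subgroupOf_sup hdisjH1 hL1
    have hML : M ≤ L := le_sup_left
    have hKL : K ≤ L := le_sup_right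
    have hH1L : H1 ≤ L := hL1 ▸ le_sup_right
    have hcardH1 : Nat.card H1 = Nat.card H := card_conj_smul g H
    have hcardL : Nat.card L < n := by
      have h1 := hcK.card_mul_card
      rw [card_subgroupOf_of_le hML, card_subgroupOf_of_le hKL] at h1
      have h2 := hK.card_mul_card
      rw [← hn, ← h2, ← h1]
      have hpos : 0 < Nat.card K := Nat.card_pos
      exact Nat.mul_lt_mul_of_pos_right (card_lt_of_lt hMN) hpos
    have hcopL : (Nat.card (M.subgroupOf L)).Coprime (Nat.card (H1.subgroupOf L)) := by
      rw [card_subgroupOf_of_le hML, card_subgroupOf_of_le hH1L, hcardH1]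
      exact Nat.Coprime.coprime_dvd_left (Subgroup.card_dvd_of_le hMN.le) hcop
    have : Group.IsSolvable M := isSolvable_of_le hMN.le
    obtain ⟨l, hl⟩ := ih (Nat.card L) hcardL L rfl (M.subgroupOf L) (H1.subgroupOf L) (K.subgroupOf L)
      hcopL (isSolvable_subgroupOf M L) hcH1 hcK
    refine ⟨(l : G) * g, ?_⟩
    rw [← conj_smul_conj_smul, ← hH1def]
    have := congrArg (Subgroup.map L.subtype) hl
    rwa [conj_smul_map_subtype, Subgroup.map_subgroupOf_eq_of_le hH1L,
      Subgroup.map_subgroupOf_eq_of_le hKL] at this

end Cfsg.Agent.Helper1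

namespace Cfsg.Agent.Helper1
open Pointwise

universe u

theorem inf_normal_le_normalizer {G : Type*} [Group G] (X M : Subgroup G) [M.Normal] :
    X ≤ Subgroup.normalizer ((X ⊓ M : Subgroup G) : Set G) := by
  rw [le_normalizer_iff_conj_smul_eq]
  intro x hx
  rw [Subgroup.smul_inf, Subgroup.conj_smul_eq_self_of_mem hx, Subgroup.Normal.conj_smul_eq_self]

/-- In a finite group, a normal subgroup of prime index `p` together with a Sylow `p`-subgroup
generates everything. -/
theorem sup_sylow_eq_top_of_index_prime {X : Type*} [Group X] [Finite X] {p : ℕ} [Fact p.Prime]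
    (D : Subgroup X) (hD : D.index = p) (P : Sylow p X) : D ⊔ (P : Subgroup X) = ⊤ := by
  rw [← Subgroup.index_eq_one]
  have h1 : (D ⊔ (P : Subgroup X)).index ∣ D.index := Subgroup.index_dvd_of_le le_sup_left
  rw [hD] at h1
  have h2 : (D ⊔ (P : Subgroup X)).index ∣ (P : Subgroup X).index := Subgroup.index_dvd_of_le le_sup_right
  have hp : p.Prime := Fact.out
  rcases (Nat.dvd_prime hp).mp h1 with h | h
  · exact h
  · exfalso
    rw [h] at h2
    exact P.not_dvd_index h2

/-- Schur–Zassenhaus conjugacy, case of solvable complements. -/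
theorem sz_conj_compl_solvable_aux : ∀ (n : ℕ) (G : Type u) [Group G] [Finite G], Nat.card G = n →
    ∀ (N : Subgroup G) [N.Normal] (H K : Subgroup G), (Nat.card N).Coprime (Nat.card H) →
    Group.IsSolvable H → Subgroup.IsComplement' N H → Subgroup.IsComplement' N K →
    ∃ g : G, MulAut.conj g • H = K := by
  intro n
  induction n using Nat.strong_induction_on with
  | _ n ih =>
  intro G _ _ hn N _ H K hcop hsolv hH hK
  have hHK : Nat.card H = Nat.card K := card_eq_of_isComplement' hH hK
  by_cases hHbot : H = ⊥
  · refine ⟨1, ?_⟩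
    have hK1 : K = ⊥ := by
      rw [← Subgroup.card_eq_one, ← hHK, hHbot, Subgroup.card_bot]
    rw [hHbot, hK1, Subgroup.smul_bot]
  · -- a normal subgroup of prime index containing `N`
    have φ : G ⧸ N ≃* H := hH.symm.QuotientMulEquiv
    have : Nontrivial H := (Subgroup.nontrivial_iff_ne_bot H).mpr hHbot
    have : Nontrivial (G ⧸ N) := φ.toEquiv.nontrivial
    have : Group.IsSolvable (G ⧸ N) :=
      Group.isSolvable_of_surjective (f := φ.symm.toMonoidHom) φ.symm.surjective
    obtain ⟨Mq, hMqn, hMqp⟩ := exists_normal_prime_index_of_solvable (G ⧸ N)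
    set M : Subgroup G := Mq.comap (QuotientGroup.mk' N) with hMdef
    have hMn : M.Normal := Subgroup.Normal.comap hMqn _
    have hMidx : M.index = Mq.index := Subgroup.index_comap_of_surjective Mq (QuotientGroup.mk'_surjective N)
    set p := Mq.index with hpdef
    have : Fact p.Prime := ⟨hMqp⟩
    have hNM : N ≤ M := by
      intro x hx
      rw [hMdef, Subgroup.mem_comap]
      have : (QuotientGroup.mk' N) x = 1 := (QuotientGroup.eq_one_iff x).mpr hx
      rw [this]; exact Subgroup.one_mem _
    -- induction in `M`
    have hcM := isComplement'_subgroupOf_of_le hH hNM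
    have hcM' := isComplement'_subgroupOf_of_le hK hNM
    have hcardM : Nat.card M < n := by
      rw [← hn, ← M.card_mul_index, hMidx]
      exact lt_mul_of_one_lt_right Nat.card_pos hMqp.one_lt
    have hcopM : (Nat.card (N.subgroupOf M)).Coprime (Nat.card (H.subgroupOf M)) := by
      rw [card_subgroupOf_of_le hNM]
      exact Nat.Coprime.coprime_dvd_right (card_subgroupOf_dvd H M) hcop
    obtain ⟨m, hm⟩ := ih (Nat.card M) hcardM M rfl (N.subgroupOf M) (H.subgroupOf M) (K.subgroupOf M)
      hcopM (isSolvable_subgroupOf H M) hcM hcM'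
    set H1 : Subgroup G := MulAut.conj (m : G) • H with hH1def
    have hH1 : Subgroup.IsComplement' N H1 := isComplement'_conj_smul hH (m : G)
    have hcardH1 : Nat.card H1 = Nat.card H := card_conj_smul _ H
    have hD : H1 ⊓ M = K ⊓ M := by
      have := congrArg (Subgroup.map M.subtype) hm
      rw [conj_smul_map_subtype, Subgroup.subgroupOf_map_subtype, Subgroup.subgroupOf_map_subtype,
        Subgroup.smul_inf, Subgroup.Normal.conj_smul_eq_self (m : G) M] at this
      exact this
    set D : Subgroup G := K ⊓ M with hDdef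
    set L : Subgroup G := Subgroup.normalizer (D : Set G) with hLdef
    have hKL : K ≤ L := inf_normal_le_normalizer K M
    have hH1L : H1 ≤ L := by
      have := inf_normal_le_normalizer H1 M
      rwa [hD] at this
    -- Sylow subgroups
    have hpH : p ∣ Nat.card H := by
      rw [← hH.symm.index_eq_card, ← hMidx]
      exact Subgroup.index_dvd_of_le hNM
    have hpN : ¬ p ∣ Nat.card N := fun h =>
      hMqp.one_lt.ne' (Nat.eq_one_of_dvd_coprimes hcop h hpH)
    have hfac : ∀ X : Subgroup G, Subgroup.IsComplement' N X →
        (Nat.card G).factorization p = (Nat.card X).factorization p := by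
      intro X hX
      rw [← hX.card_mul_card, Nat.factorization_mul Nat.card_pos.ne' Nat.card_pos.ne']
      simp [Nat.factorization_eq_zero_of_not_dvd hpN]
    let P : Sylow p H1 := default
    let Q : Sylow p K := default
    have hP' : Nat.card ((P : Subgroup H1).map H1.subtype) = p ^ (Nat.card G).factorization p := by
      rw [Subgroup.card_map_of_injective H1.subtype_injective, hfac H1 hH1]
      exact P.card_eq_multiplicity
    have hQ' : Nat.card ((Q : Subgroup K).map K.subtype) = p ^ (Nat.card G).factorization p := by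
      rw [Subgroup.card_map_of_injective K.subtype_injective, hfac K hK]
      exact Q.card_eq_multiplicity
    let SP : Sylow p G := Sylow.ofCard _ hP'
    let SQ : Sylow p G := Sylow.ofCard _ hQ'
    have hSPH1 : (SP : Subgroup G) ≤ H1 := Subgroup.map_subtype_le _
    have hSQK : (SQ : Subgroup G) ≤ K := Subgroup.map_subtype_le _
    have hSPL : (SP : Subgroup G) ≤ L := hSPH1.trans hH1L
    have hSQL : (SQ : Subgroup G) ≤ L := hSQK.trans hKL
    obtain ⟨l, hl⟩ := MulAction.exists_smul_eq L (SP.subtype hSPL) (SQ.subtype hSQL)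
    rw [Sylow.smul_subtype] at hl
    have hl' := Sylow.subtype_injective hl
    have hl'' : MulAut.conj (l : G) • (SP : Subgroup G) = SQ := by
      rw [← hl']; rfl
    have hlD : MulAut.conj (l : G) • D = D := (le_normalizer_iff_conj_smul_eq (A := L) (H := D)).mp le_rfl (l : G) l.2
    -- generation
    have hsupK : K ⊔ M = ⊤ := by
      rw [eq_top_iff, ← hK.sup_eq_top, sup_comm]
      exact sup_le_sup_left hNM K
    have hsupH1 : H1 ⊔ M = ⊤ := by
      rw [eq_top_iff, ← hH1.sup_eq_top, sup_comm]
      exact sup_le_sup_left hNM H1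
    have hidxK : (M.subgroupOf K).index = p := by
      have := Subgroup.relIndex_sup_right (H := K) (K := M)
      rw [hsupK, Subgroup.relIndex_top_right, hMidx] at this
      exact this.symm
    have hidxH1 : (M.subgroupOf H1).index = p := by
      have := Subgroup.relIndex_sup_right (H := H1) (K := M)
      rw [hsupH1, Subgroup.relIndex_top_right, hMidx] at this
      exact this.symm
    have hgenK : D ⊔ (SQ : Subgroup G) = K := by
      have := congrArg (Subgroup.map K.subtype) (sup_sylow_eq_top_of_index_prime _ hidxK Q)
      rw [Subgroup.map_sup, Subgroup.subgroupOf_map_subtype, ← MonoidHom.range_eq_map, Subgroup.range_subtype,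
        inf_comm] at this
      exact this
    have hgenH1 : D ⊔ (SP : Subgroup G) = H1 := by
      have := congrArg (Subgroup.map H1.subtype) (sup_sylow_eq_top_of_index_prime _ hidxH1 P)
      rw [Subgroup.map_sup, Subgroup.subgroupOf_map_subtype, ← MonoidHom.range_eq_map, Subgroup.range_subtype,
        inf_comm, hD] at this
      exact this
    refine ⟨(l : G) * m, ?_⟩
    rw [← conj_smul_conj_smul, ← hH1def, ← hgenH1, Subgroup.smul_sup, hlD, hl'', hgenK]

/-- **Schur–Zassenhaus**, conjugacy part: complements of a normal Hall subgroup `N` are conjugate,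
provided `N` or the complement is solvable. -/
theorem sz_conj {G : Type u} [Group G] [Finite G] (N : Subgroup G) [N.Normal] (H K : Subgroup G)
    (hcop : (Nat.card N).Coprime (Nat.card H)) (hsolv : Group.IsSolvable N ∨ Group.IsSolvable H)
    (hH : Subgroup.IsComplement' N H) (hK : Subgroup.IsComplement' N K) :
    ∃ g : G, MulAut.conj g • H = K := by
  rcases hsolv with h | h
  · exact sz_conj_normal_solvable_aux _ G rfl N H K hcop h hH hK
  · exact sz_conj_compl_solvable_aux _ G rfl N H K hcop h hH hK

end Cfsg.Agent.Helper1
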