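import Mathlib
import Cfsg.Agent.Lib.Helper1.Basic
import Cfsg.Agent.Lib.Helper1.Compl
import Cfsg.Agent.Lib.Helper1.Solv
import Cfsg.Agent.Lib.Helper1.SZ

set_option autoImplicit false

namespace Cfsg.Agent.Helper1
open Pointwise

universe u

theorem card_comap_mk' {G : Type*} [Group G] (A : Subgroup G) [A.Normal] (Hq : Subgroup (G ⧸ A)) :
    Nat.card (Hq.comap (QuotientGroup.mk' A)) = Nat.card A * Nat.card Hq :=
  QuotientGroup.card_preimage_mk A (Hq : Set (G ⧸ A))

theorem le_conj_smul_of_map_le {G : Type*} [Group G] (A : Subgroup G) [A.Normal] (K : Subgroup G)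
    (Hq : Subgroup (G ⧸ A)) (g : G)
    (h : K.map (QuotientGroup.mk' A) ≤ MulAut.conj ((QuotientGroup.mk' A) g) • Hq) :
    K ≤ MulAut.conj g • Hq.comap (QuotientGroup.mk' A) := by
  rw [← comap_conj_smul]
  exact (Subgroup.le_comap_map _ K).trans (Subgroup.comap_mono h)

theorem conj_inv_smul_le_iff {G : Type*} [Group G] (g : G) (K H : Subgroup G) :
    MulAut.conj g⁻¹ • K ≤ H ↔ K ≤ MulAut.conj g • H := by
  rw [Subgroup.pointwise_smul_subset_iff, map_inv, inv_inv]

/-- **Hall's theorem** (existence, dominance), by induction on the order. -/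
theorem hall_aux : ∀ (N : ℕ) (G : Type u) [Group G] [Finite G] [Group.IsSolvable G], Nat.card G = N →
    ∀ (m n : ℕ), N = m * n → m.Coprime n →
    ∃ H : Subgroup G, Nat.card H = m ∧
      ∀ K : Subgroup G, (Nat.card K).Coprime n → ∃ g : G, K ≤ MulAut.conj g • H := by
  intro N
  induction N using Nat.strong_induction_on with
  | _ N ih =>
  intro G _ _ _ hN m n hmn hcop
  by_cases hG : Nontrivial G
  swap
  · rw [not_nontrivial_iff_subsingleton] at hG
    have h1 : Nat.card G = 1 := Nat.card_unique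
    have hm : m = 1 := by
      rw [hN, hmn] at h1
      exact Nat.eq_one_of_mul_eq_one_right h1
    refine ⟨⊥, by rw [Subgroup.card_bot, hm], fun K _ => ⟨1, ?_⟩⟩
    rw [Subgroup.eq_bot_of_subsingleton K]
    exact bot_le
  obtain ⟨p, hp, A, hAn, hAbot, hAab, hAp⟩ := exists_normal_elementary_of_solvable G
  have hApg : IsPGroup p A := isPGroup_of_forall_pow_eq_one A hAp
  have : Fact p.Prime := ⟨hp⟩
  obtain ⟨k, hk⟩ := IsPGroup.iff_card.mp hApg
  have hk0 : k ≠ 0 := by
    rintro rfl
    rw [pow_zero] at hk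
    exact hAbot (Subgroup.card_eq_one.mp hk)
  have hcardG : Nat.card (G ⧸ A) * p ^ k = N := by
    rw [← hk, ← hN]; exact (Subgroup.card_eq_card_quotient_mul_card_subgroup A).symm
  have hltq : Nat.card (G ⧸ A) < N := hN ▸ card_quotient_lt A hAbot
  have hpkN : p ^ k ∣ m * n := by rw [← hmn, ← hcardG]; exact dvd_mul_left _ _
  have hNpos : 0 < N := hN ▸ Nat.card_pos
  have hpkpos : 0 < p ^ k := pow_pos hp.pos k
  have hpdvd : p ∣ m * n := (dvd_pow_self p hk0).trans hpkN
  rcases (Nat.Prime.dvd_mul hp).mp hpdvd with hpm | hpn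
  · -- `p ∣ m`
    have hpn : ¬ p ∣ n := fun h => hp.one_lt.ne' (Nat.eq_one_of_dvd_coprimes hcop hpm h)
    have hcopn : (p ^ k).Coprime n := Nat.Coprime.pow_left k ((Nat.Prime.coprime_iff_not_dvd hp).mpr hpn)
    obtain ⟨m', rfl⟩ : p ^ k ∣ m := hcopn.dvd_of_dvd_mul_right hpkN
    have hq : Nat.card (G ⧸ A) = m' * n := by
      apply Nat.eq_of_mul_eq_mul_right hpkpos
      rw [hcardG, hmn]; ring
    have hcop' : m'.Coprime n := Nat.Coprime.coprime_dvd_left (dvd_mul_left _ _) hcop
    obtain ⟨Hq, hHq, hdom⟩ := ih _ hltq (G ⧸ A) rfl m' n hq hcop'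
    refine ⟨Hq.comap (QuotientGroup.mk' A), by rw [card_comap_mk', hk, hHq], fun K hK => ?_⟩
    obtain ⟨gq, hgq⟩ := hdom (K.map (QuotientGroup.mk' A))
      (Nat.Coprime.coprime_dvd_left (Subgroup.card_map_dvd _ _) hK)
    obtain ⟨g, rfl⟩ := QuotientGroup.mk'_surjective A gq
    exact ⟨g, le_conj_smul_of_map_le A K Hq g hgq⟩
  · -- `p ∣ n`
    have hpm : ¬ p ∣ m := fun h => hp.one_lt.ne' (Nat.eq_one_of_dvd_coprimes hcop h hpn)
    have hcopm : (p ^ k).Coprime m := Nat.Coprime.pow_left k ((Nat.Prime.coprime_iff_not_dvd hp).mpr hpm)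
    obtain ⟨n', rfl⟩ : p ^ k ∣ n := hcopm.dvd_of_dvd_mul_left hpkN
    have hq : Nat.card (G ⧸ A) = m * n' := by
      apply Nat.eq_of_mul_eq_mul_right hpkpos
      rw [hcardG, hmn]; ring
    have hcop' : m.Coprime n' := Nat.Coprime.coprime_dvd_right (dvd_mul_left _ _) hcop
    by_cases hn' : n' = 1
    · -- `A` is a normal Hall subgroup
      subst hn'
      rw [mul_one] at hmn hcop
      have hAidx : A.index = m := by
        rw [Subgroup.index_eq_card, hq, mul_one]
      obtain ⟨H, hH⟩ := Subgroup.exists_right_complement'_of_coprime (N := A)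
        (by rw [hk, hAidx]; exact hcopm)
      have hcardH : Nat.card H = m := by rw [← hH.symm.index_eq_card, hAidx]
      refine ⟨H, hcardH, fun K hK => ?_⟩
      rw [mul_one] at hK
      have hdisj : Disjoint A K :=
        Subgroup.disjoint_of_coprime_natCard (by rw [hk]; exact hK.symm)
      have hc1 := isComplement'_subgroupOf_sup hdisj (L := A ⊔ K) rfl
      have hc2 := isComplement'_subgroupOf_of_le hH (L := A ⊔ K) le_sup_left
      have hcopL : (Nat.card (A.subgroupOf (A ⊔ K))).Coprime (Nat.card (K.subgroupOf (A ⊔ K))) := by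
        rw [card_subgroupOf_of_le le_sup_left, card_subgroupOf_of_le le_sup_right, hk]
        exact hK.symm
      obtain ⟨l, hl⟩ := sz_conj (A.subgroupOf (A ⊔ K)) (K.subgroupOf (A ⊔ K)) (H.subgroupOf (A ⊔ K)) hcopL
        (Or.inl inferInstance) hc1 hc2
      refine ⟨(l : G)⁻¹, ?_⟩
      rw [← conj_inv_smul_le_iff, inv_inv]
      have := congrArg (Subgroup.map (A ⊔ K).subtype) hl
      rw [conj_smul_map_subtype, Subgroup.map_subgroupOf_eq_of_le le_sup_right,
        Subgroup.subgroupOf_map_subtype] at this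
      rw [this]
      exact inf_le_left
    · obtain ⟨Hq, hHq, hdom⟩ := ih _ hltq (G ⧸ A) rfl m n' hq hcop'
      set L : Subgroup G := Hq.comap (QuotientGroup.mk' A) with hLdef
      have hcardL : Nat.card L = m * p ^ k := by rw [card_comap_mk', hk, hHq, mul_comm]
      have hn'pos : 0 < n' := by
        rcases Nat.eq_zero_or_pos n' with h | h
        · subst h; simp at hmn; omega
        · exact h
      have hltL : Nat.card L < N := by
        rw [hcardL, hmn]
        apply Nat.mul_lt_mul_of_pos_left _ (Nat.pos_of_ne_zero _)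
        · have : 1 < n' := by omega
          exact lt_mul_of_one_lt_right hpkpos this
        · rintro rfl; simp at hmn; omega
      obtain ⟨HL, hHL, hdomL⟩ := ih _ hltL L rfl m (p ^ k) hcardL hcopm.symm
      refine ⟨HL.map L.subtype, by rw [Subgroup.card_map_of_injective L.subtype_injective, hHL],
        fun K hK => ?_⟩
      obtain ⟨gq, hgq⟩ := hdom (K.map (QuotientGroup.mk' A))
        (Nat.Coprime.coprime_dvd_left (Subgroup.card_map_dvd _ _)
          (Nat.Coprime.coprime_dvd_right (dvd_mul_left _ _) hK))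
      obtain ⟨g, rfl⟩ := QuotientGroup.mk'_surjective A gq
      have hKL : MulAut.conj g⁻¹ • K ≤ L := by
        rw [conj_inv_smul_le_iff]
        exact le_conj_smul_of_map_le A K Hq g hgq
      have hcardK1 : (Nat.card ((MulAut.conj g⁻¹ • K).subgroupOf L)).Coprime (p ^ k) := by
        rw [card_subgroupOf_of_le hKL, card_conj_smul]
        exact Nat.Coprime.coprime_dvd_right (dvd_mul_right _ _) hK
      obtain ⟨l, hl⟩ := hdomL _ hcardK1
      refine ⟨g * (l : G), ?_⟩
      rw [← conj_smul_conj_smul, ← conj_inv_smul_le_iff, ← conj_smul_map_subtype]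
      have := Subgroup.map_mono (f := L.subtype) hl
      rwa [Subgroup.map_subgroupOf_eq_of_le hKL] at this

end Cfsg.Agent.Helper1

namespace Cfsg.Agent.Helper1
open Pointwise

universe u

/-- Hall existence plus dominance. -/
theorem hall_exists_dominant {G : Type u} [Group G] [Finite G] [Group.IsSolvable G] (m n : ℕ)
    (hG : Nat.card G = m * n) (hmn : m.Coprime n) :
    ∃ H : Subgroup G, Nat.card H = m ∧
      ∀ K : Subgroup G, (Nat.card K).Coprime n → ∃ g : G, K ≤ MulAut.conj g • H :=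
  hall_aux _ G rfl m n hG hmn

/-- Hall conjugacy. -/
theorem hall_conj {G : Type u} [Group G] [Finite G] [Group.IsSolvable G] (m n : ℕ)
    (hG : Nat.card G = m * n) (hmn : m.Coprime n) (H K : Subgroup G)
    (hH : Nat.card H = m) (hK : Nat.card K = m) : ∃ g : G, MulAut.conj g • H = K := by
  obtain ⟨H0, hH0, hdom⟩ := hall_exists_dominant m n hG hmn
  have key : ∀ X : Subgroup G, Nat.card X = m → ∃ g : G, X = MulAut.conj g • H0 := by
    intro X hX
    obtain ⟨g, hg⟩ := hdom X (hX ▸ hmn)
    refine ⟨g, Subgroup.eq_of_le_of_card_ge hg ?_⟩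
    rw [card_conj_smul, hH0, hX]
  obtain ⟨a, ha⟩ := key H hH
  obtain ⟨b, hb⟩ := key K hK
  refine ⟨b * a⁻¹, ?_⟩
  rw [ha, hb, conj_smul_conj_smul]
  congr 2
  group

end Cfsg.Agent.Helper1
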