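import Mathlib
import Cfsg.Prelude.Def_OddOrderLocal
import Cfsg.Agent.Lib.Helper73.BG161Defs
import Cfsg.Agent.Lib.Helper35.BG153Defs
import Cfsg.Agent.Lib.Helper34.BG10a
import Cfsg.Agent.Lib.Helper55.BGDecomp
import Cfsg.Agent.Lib.Helper55.BGBasic
import Cfsg.Agent.Lib.Helper55.BGFit
import Cfsg.Agent.Lib.Helper60.BG144b
import Cfsg.Agent.Lib.Helper23.FittingHall
import Cfsg.Agent.Lib.Helper95.BG15.FitSigma

/-!
# BG153 (E) (helper35's lemma server for S1356 = B-G Cor. 15.3(b)): the case `M_F ≠ M_σ`, part (2 ≥)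

`M ⊓ C(M_F) ≤ F(M)`.
-/

set_option autoImplicit false

namespace Cfsg.Agent.Helper1.BG153

open Subgroup Cfsg
open Cfsg.Agent.Helper73.BG161 (T1350 T1352 T1365 T1420 T1430 T1437)
open Cfsg.Agent.Helper35.BG153 (T1351 T1355 T1438 T1439)

/-- a subgroup of `p`-rank `> 1` has order divisible by `p`. -/
theorem dvd_card_of_not_pRankLE_one {X : Type*} [Group X] [Finite X] {p : ℕ} (hp : p.Prime)
    (h : ¬ Cfsg.PRankLE p 1 X) : p ∣ Nat.card X := by
  unfold Cfsg.PRankLE at h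
  push Not at h
  obtain ⟨A, -, hAp, hcard⟩ := h
  have hA1 : A ≠ ⊥ := by
    rintro rfl
    rw [Subgroup.card_bot] at hcard
    have : 1 ≤ p ^ 1 := Nat.one_le_pow _ _ hp.pos
    omega
  obtain ⟨a, haA, ha1⟩ := (Subgroup.ne_bot_iff_exists_ne_one (H := A)).mp hA1 |>.imp
    (fun a h => h) |> fun ⟨a, h⟩ => (⟨(a : X), a.2, fun h1 => h (Subtype.ext h1)⟩ :
      ∃ a : X, a ∈ A ∧ a ≠ 1)
  haveI : Fact p.Prime := ⟨hp⟩
  have ho : orderOf a = p := orderOf_eq_prime (hAp a haA) ha1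
  exact ho ▸ orderOf_dvd_natCard a

variable {G : Type*} [Group G] [Finite G]

/-- Pure: if `Q ⊴ S` with coprime order and index and every complement of `Q` in `S` is nilpotent, then
`S ⊓ C(Q)` is nilpotent. -/
theorem nilpotent_inf_centralizer {S Q : Subgroup G} (hQS : Q ≤ S)
    (hn : S ≤ normalizer (Q : Set G)) (hcop : (Nat.card Q).Coprime (Q.relIndex S))
    (hD : ∀ D : Subgroup G, Cfsg.IsComplIn Q D S → Group.IsNilpotent D) :
    Group.IsNilpotent ↥(S ⊓ centralizer (Q : Set G)) := by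
  set Q' : Subgroup S := Q.subgroupOf S with hQ'
  haveI hQn : Q'.Normal := Subgroup.normal_subgroupOf_of_le_normalizer hn
  have hcard : Nat.card Q' = Nat.card Q := Cfsg.Agent.Helper34.BG.card_subgroupOf_of_le hQS
  have hcop' : (Nat.card Q').Coprime Q'.index := by rw [hcard]; exact hcop
  obtain ⟨D', hD'⟩ := Subgroup.exists_right_complement'_of_coprime hcop'
  have hcompl : Cfsg.IsComplIn Q (D'.map S.subtype) S := by
    refine ⟨hQS, Subgroup.map_subtype_le _, ?_, ?_⟩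
    · rw [eq_bot_iff]
      rintro x ⟨hxQ, ⟨d, hd, rfl⟩⟩
      have : d ∈ Q' ⊓ D' := ⟨Subgroup.mem_subgroupOf.mpr hxQ, hd⟩
      rw [hD'.disjoint.eq_bot] at this
      rw [Subgroup.mem_bot] at this ⊢
      rw [this]; rfl
    · intro m hm
      obtain ⟨⟨⟨q, hq⟩, ⟨d, hd⟩⟩, hmul, -⟩ := hD'.existsUnique (⟨m, hm⟩ : S)
      refine ⟨(q : G), Subgroup.mem_subgroupOf.mp hq, (d : G), ⟨d, hd, rfl⟩, ?_⟩
      have := congrArg Subtype.val hmul
      simpa using this.symm
  have hDnil : Group.IsNilpotent ↥(D'.map S.subtype) := hD _ hcompl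
  have hD'nil : Group.IsNilpotent ↥D' :=
    (Group.isNilpotent_congr (D'.equivMapOfInjective S.subtype S.subtype_injective)).mpr hDnil
  have hquot : Group.IsNilpotent (S ⧸ Q') := by
    let f : D' →* S ⧸ Q' := (QuotientGroup.mk' Q').comp D'.subtype
    have hf : Function.Surjective f := by
      intro x
      obtain ⟨s, rfl⟩ := QuotientGroup.mk'_surjective Q' x
      obtain ⟨⟨⟨q, hq⟩, ⟨d, hd⟩⟩, hmul, -⟩ := hD'.existsUnique s
      refine ⟨⟨d, hd⟩, ?_⟩
      have hmul' : q * d = s := hmul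
      simp only [f, MonoidHom.comp_apply, Subgroup.coe_subtype, QuotientGroup.mk'_apply]
      rw [← hmul', QuotientGroup.mk_mul, (QuotientGroup.eq_one_iff q).mpr hq, one_mul]
    exact Group.nilpotent_of_surjective f hf
  set C' : Subgroup S := (S ⊓ centralizer (Q : Set G)).subgroupOf S with hC'
  have hC'nil : Group.IsNilpotent ↥C' := by
    let g : C' →* S ⧸ Q' := (QuotientGroup.mk' Q').comp C'.subtype
    haveI := hquot
    refine Subgroup.isNilpotent_of_ker_le_center g ?_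
    intro x hx
    rw [MonoidHom.mem_ker] at hx
    have hxQ : (x : S) ∈ Q' := by
      have : ((x : S) : S ⧸ Q') = 1 := hx
      exact (QuotientGroup.eq_one_iff _).mp this
    rw [Subgroup.mem_center_iff]
    intro y
    have hy : ((y : S) : G) ∈ centralizer (Q : Set G) := (Subgroup.mem_subgroupOf.mp y.2).2
    have := hy ((x : S) : G) (Subgroup.mem_subgroupOf.mp hxQ)
    apply Subtype.ext; apply Subtype.ext
    simpa using this.symm
  exact (Group.isNilpotent_congr (Subgroup.subgroupOfEquivOfLe inf_le_left)).mp hC'nil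

theorem case_ne_cent (hG : IsMinSimpleOddOrder G)
    (h1350 : T1350 G) (h1351 : T1351 G) (h1352 : T1352 G) (h1355 : T1355 G) (h1437 : T1437 G)
    (h1438 : T1438 G)
    (M : Subgroup G) (hM : IsCoatom M) (hne : Cfsg.fittingHallOf M ≠ Cfsg.sigmaCore M) :
    M ⊓ centralizer (Cfsg.fittingHallOf M : Set G) ≤ Cfsg.fittingOf M := by
  obtain ⟨⟨K, hK⟩, hKcyc⟩ := h1351 M hM
  have hKc : IsCyclic K := hKcyc K hK
  obtain ⟨⟨U, hKU⟩, -⟩ := h1352 M hM K hKc hK
  obtain ⟨hU, -, -, hqpr, -, -, Q, hQF, hMQ, hQp, hQidx, hQD⟩ := h1437 M hM K U hKU hne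
  -- (i) τ₂(M) = ∅
  have htau2 : ∀ p : ℕ, p ∉ Cfsg.tau2 M := by
    intro p hp
    have hpp : p.Prime := hp.1
    have hpM : p ∣ Nat.card M := dvd_card_of_not_pRankLE_one hpp hp.2.2.2
    have hcard := Cfsg.Agent.Helper55.BGB.card_decomp hKU
    rw [hU, Subgroup.card_bot, one_mul] at hcard
    rw [hcard] at hpM
    rcases (Nat.Prime.dvd_mul hpp).mp hpM with h | h
    · exact Cfsg.Agent.Helper60.BG144.not_mem_kappa_of_mem_tau2 hp (hK.2.1 p hpp h)
    · exact hp.2.1 (Cfsg.Agent.Helper55.BGB.isPi_sigmaCore M p hpp h)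
  -- (ii)
  obtain ⟨hF1, hFσ, -, -, -⟩ := h1355 M hM
  have hσM : Cfsg.sigmaCore M ≤ M := by
    unfold Cfsg.sigmaCore; exact Subgroup.map_subtype_le _
  have hFM : Cfsg.fittingHallOf M ≤ M := Cfsg.Agent.Helper55.BGB.fittingHallOf_le M
  have hFcop : (Nat.card (Cfsg.fittingHallOf M)).Coprime
      ((Cfsg.fittingHallOf M).relIndex (Cfsg.sigmaCore M)) := by
    have h1 := Cfsg.Agent.Helper23.fittingHall_coprime ↥M
    rw [← Cfsg.Agent.Helper23.card_fittingHallOf] at h1
    have h2 : (Cfsg.fittingHall ↥M).index = (Cfsg.fittingHallOf M).relIndex M := by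
      unfold Cfsg.fittingHallOf Subgroup.relIndex
      congr 1
      exact (Subgroup.comap_map_eq_self_of_injective M.subtype_injective _).symm
    rw [h2] at h1
    have h3 : (Cfsg.fittingHallOf M).relIndex (Cfsg.sigmaCore M) ∣
        (Cfsg.fittingHallOf M).relIndex M :=
      Dvd.intro _ (Subgroup.relIndex_mul_relIndex _ _ _ hFσ hσM)
    exact Nat.Coprime.coprime_dvd_right h3 h1
  obtain ⟨⟨X, -, hXτ, hXeq⟩, -⟩ := h1438 M hM (Cfsg.fittingHallOf M) hFσ hF1 hFcop
  have hX1 : X = ⊥ := by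
    rw [← Subgroup.card_eq_one]
    by_contra h
    obtain ⟨p, hp, hpd⟩ := Nat.exists_prime_and_dvd h
    exact htau2 p (hXτ p hp hpd)
  rw [hX1, sup_bot_eq] at hXeq
  -- (iii)
  haveI : Fact (Nat.card ↥(Cfsg.sigmaCore M ⊓ centralizer (K : Set G))).Prime := ⟨hqpr⟩
  have hQσ : Q ≤ Cfsg.sigmaCore M := hQF.trans hFσ
  have hcopQ : (Nat.card Q).Coprime (Q.relIndex (Cfsg.sigmaCore M)) := by
    obtain ⟨n, hn⟩ := hQp.exists_card_eq
    rw [hn]
    exact Nat.Coprime.pow_left n ((Nat.Prime.coprime_iff_not_dvd hqpr).mpr hQidx)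
  have hC1 : Group.IsNilpotent ↥(Cfsg.sigmaCore M ⊓ centralizer (Q : Set G)) :=
    nilpotent_inf_centralizer hQσ (hσM.trans hMQ) hcopQ (fun D hD => (hQD D hD).1)
  have hle : M ⊓ centralizer (Cfsg.fittingHallOf M : Set G) ≤
      Cfsg.sigmaCore M ⊓ centralizer (Q : Set G) := by
    rw [hXeq]
    exact inf_le_inf_left _ (Subgroup.centralizer_le hQF)
  -- (iv)
  have hnil : Group.IsNilpotent ↥(M ⊓ centralizer (Cfsg.fittingHallOf M : Set G)) := by
    haveI := hC1
    have h1 : Group.IsNilpotent ↥((M ⊓ centralizer (Cfsg.fittingHallOf M : Set G)).subgroupOf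
        (Cfsg.sigmaCore M ⊓ centralizer (Q : Set G))) := inferInstance
    exact (Group.isNilpotent_congr (Subgroup.subgroupOfEquivOfLe hle)).mp h1
  have hnorm : M ≤ normalizer ((M ⊓ centralizer (Cfsg.fittingHallOf M : Set G) : Subgroup G) : Set G) := by
    intro g hg
    have hgF := Cfsg.Agent.Helper55.BGB.le_normalizer_fittingHallOf M hg
    rw [Subgroup.mem_normalizer_iff] at hgF ⊢
    intro h
    constructor
    · rintro ⟨hhM, hhC⟩
      refine ⟨M.mul_mem (M.mul_mem hg hhM) (M.inv_mem hg), ?_⟩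
      intro x hx
      -- g⁻¹ x g ∈ M_F
      have hx' : g⁻¹ * x * g ∈ Cfsg.fittingHallOf M := by
        have := (hgF (g⁻¹ * x * g)).mpr (by simpa [mul_assoc] using hx)
        exact this
      have := hhC _ hx'
      -- this : g⁻¹ x g * h = h * (g⁻¹ x g)
      calc x * (g * h * g⁻¹) = g * ((g⁻¹ * x * g) * h) * g⁻¹ := by group
        _ = g * (h * (g⁻¹ * x * g)) * g⁻¹ := by rw [this]
        _ = g * h * g⁻¹ * x := by group
    · rintro ⟨hhM, hhC⟩
      have hhM' : h ∈ M := by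
        have := M.mul_mem (M.mul_mem (M.inv_mem hg) hhM) hg
        simpa [mul_assoc] using this
      refine ⟨hhM', ?_⟩
      intro x hx
      have hx' : g * x * g⁻¹ ∈ Cfsg.fittingHallOf M := (hgF x).mp hx
      have := hhC _ hx'
      -- this : g x g⁻¹ * (g h g⁻¹) = (g h g⁻¹) * (g x g⁻¹)
      calc x * h = g⁻¹ * ((g * x * g⁻¹) * (g * h * g⁻¹)) * g := by group
        _ = g⁻¹ * ((g * h * g⁻¹) * (g * x * g⁻¹)) * g := by rw [this]
        _ = h * x := by group
  exact Cfsg.Agent.Helper95.BG15.FitSigma.le_fittingOf_of_normal inf_le_left hnorm le_rfl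
    Subgroup.le_normalizer hnil

end Cfsg.Agent.Helper1.BG153
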