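import Cfsg.Agent.Lib.Helper55.CD3Defs
import Cfsg.Agent.Lib.Helper1.CD3.Main

/-!
# CD3 (CD3B) interface wrapper for helper55's S4460 assembly: case (B2), `p ∣ n`.
-/

set_option autoImplicit false

namespace Cfsg.Agent.Helper1.CD3

open Cfsg Cfsg.Agent.Helper79 Cfsg.Agent.Helper81 Cfsg.Agent.Helper55.CD3

universe u

/-- (CD3B) INTERFACE of helper1's sub-server (tools/cd3_b2_helper1.md): relative split Isaacs–Knutson. -/
theorem cd3b_main {G : Type u} [Group G] [Finite G] (F : Subgroup G) [F.Normal]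
    (hFs : Group.IsSolvable F) (p a d : ℕ) (hp : p.Prime)
    (ha : 1 ≤ a)
    (h1 : ∀ χ : IrrCharacter G, ¬ ⁅F, F⁆ ≤ irrKer χ → charDegree (χ : G → ℂ) = d)
    (h2 : ∀ θ : IrrCharacter F, charDegree (θ : F → ℂ) ≠ 1 →
      (charDegree (θ : F → ℂ)).factorization p = a) :
    ⁅⁅F, F⁆, ⁅F, F⁆⁆ = ⊥ := by
  classical
  haveI : Fact p.Prime := ⟨hp⟩
  haveI : Fintype G := Fintype.ofFinite G
  haveI : Fintype F := Fintype.ofFinite F
  have hF : F.Normal := inferInstance
  refine main F hF hFs p a d (by omega) ?_ ?_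
  · intro χ hχ ⟨x, hx, hne⟩
    obtain ⟨k, _, hk⟩ := irr_one_pos hχ
    have hcd : charDegree χ = k := charDegree_eq_of_one k hk
    have hnot : ¬ ⁅F, F⁆ ≤ irrKer (⟨χ, hχ⟩ : IrrCharacter G) := by
      intro hle
      exact hne ((mem_irrKer (⟨χ, hχ⟩ : IrrCharacter G) x).mp (hle hx))
    have := h1 ⟨χ, hχ⟩ hnot
    simp only at this
    rw [hk, ← hcd, this]
  · intro θ hθ hne
    obtain ⟨k, _, hk⟩ := irr_one_pos hθ
    have hcd : charDegree θ = k := charDegree_eq_of_one k hk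
    refine ⟨k, hk, ?_⟩
    have hk1 : charDegree θ ≠ 1 := by
      rw [hcd]
      intro h
      apply hne
      rw [hk, h]
      simp
    have := h2 ⟨θ, hθ⟩ hk1
    simp only at this
    rw [← hcd]
    exact this

end Cfsg.Agent.Helper1.CD3
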