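import Mathlib
import Cfsg.Agent.Lib.Helper1.Basic
import Cfsg.Agent.Lib.Helper1.Compl
import Cfsg.Agent.Lib.Helper1.Solv
import Cfsg.Agent.Lib.Helper1.SZ

set_option autoImplicit false

namespace Cfsg.Agent.Helper1
open Pointwise
open scoped commutatorElement

variable {G : Type*} [Group G]

/-- A disjoint pair `X`, `Y` with `Y` normalising `X` gives complements inside the join. -/
theorem isComplement'_subgroupOf_sup_of_le_normalizer {X Y : Subgroup G}
    (hY : Y ≤ Subgroup.normalizer (X : Set G)) (h : Disjoint X Y) {L : Subgroup G} (hL : L = X ⊔ Y) :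
    Subgroup.IsComplement' (X.subgroupOf L) (Y.subgroupOf L) := by
  subst hL
  rw [isComplement'_iff_disjoint_and_forall]
  refine ⟨disjoint_subgroupOf _ h, fun l => ?_⟩
  have hl : (l : G) ∈ ((X ⊔ Y : Subgroup G) : Set G) := l.2
  rw [Subgroup.coe_mul_of_right_le_normalizer_left X Y hY] at hl
  obtain ⟨x, hx, y, hy, hxy⟩ := hl
  exact ⟨⟨x, (le_sup_left : X ≤ X ⊔ Y) hx⟩, Subgroup.mem_subgroupOf.mpr hx,
    ⟨y, (le_sup_right : Y ≤ X ⊔ Y) hy⟩, Subgroup.mem_subgroupOf.mpr hy, Subtype.ext hxy⟩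

theorem le_normalizer_of_conj_smul_le {A H : Subgroup G} (h : ∀ a ∈ A, MulAut.conj a • H ≤ H) :
    A ≤ Subgroup.normalizer (H : Set G) := by
  rw [le_normalizer_iff_conj_smul_eq]
  intro a ha
  apply le_antisymm (h a ha)
  have := h a⁻¹ (A.inv_mem ha)
  rw [conj_inv_smul_le_iff'] at this
  exact this
where
  conj_inv_smul_le_iff' {g : G} {K H : Subgroup G} :
      MulAut.conj g⁻¹ • K ≤ H ↔ K ≤ MulAut.conj g • H := by
    rw [Subgroup.pointwise_smul_subset_iff, map_inv, inv_inv]

/-- **Fixed points on invariant cosets** (a form of Glauberman's lemma): if `A` normalises `N`,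
the orders are coprime, one of them is solvable, and `A` fixes the coset `k N` under conjugation,
then the coset contains an element centralising `A`. -/
theorem exists_mem_centralizer_of_coset_fixed [Finite G] (A N : Subgroup G)
    (hAN : A ≤ Subgroup.normalizer (N : Set G)) (hcop : (Nat.card A).Coprime (Nat.card N))
    (hsolv : Group.IsSolvable A ∨ Group.IsSolvable N) (k : G)
    (hfix : ∀ a ∈ A, k⁻¹ * a * k * a⁻¹ ∈ N) :
    ∃ c ∈ Subgroup.centralizer (A : Set G), k⁻¹ * c ∈ N := by
  set L : Subgroup G := N ⊔ A with hL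
  have hNL : N ≤ L := le_sup_left
  have hAL : A ≤ L := le_sup_right
  have hdisj : Disjoint N A := Subgroup.disjoint_of_coprime_natCard hcop.symm
  have hcA := isComplement'_subgroupOf_sup_of_le_normalizer hAN hdisj hL
  have hLn : L ≤ Subgroup.normalizer (N : Set G) := sup_le Subgroup.le_normalizer hAN
  have : (N.subgroupOf L).Normal := (Subgroup.normal_subgroupOf_iff_le_normalizer hNL).mpr hLn
  set A1 : Subgroup G := MulAut.conj k⁻¹ • A with hA1
  have hA1L : A1 ≤ L := by
    intro x hx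
    rw [hA1, mem_conj_smul, inv_inv] at hx
    have h1 := hfix _ hx
    have h2 : x = (k⁻¹ * (k * x * k⁻¹) * k * (k * x * k⁻¹)⁻¹) * (k * x * k⁻¹) := by group
    rw [h2]
    exact L.mul_mem (hNL h1) (hAL hx)
  have hcardA1 : Nat.card A1 = Nat.card A := card_conj_smul _ A
  have hcA1 : Subgroup.IsComplement' (N.subgroupOf L) (A1.subgroupOf L) := by
    apply Subgroup.isComplement'_of_coprime
    · rw [← hcA.card_mul_card, card_subgroupOf_of_le hA1L, card_subgroupOf_of_le hAL, hcardA1]
    · rw [card_subgroupOf_of_le hA1L, card_subgroupOf_of_le hNL, hcardA1]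
      exact hcop.symm
  have hcopL : (Nat.card (N.subgroupOf L)).Coprime (Nat.card (A1.subgroupOf L)) := by
    rw [card_subgroupOf_of_le hA1L, card_subgroupOf_of_le hNL, hcardA1]
    exact hcop.symm
  have hsolvL : Group.IsSolvable (N.subgroupOf L) ∨ Group.IsSolvable (A1.subgroupOf L) := by
    rcases hsolv with h | h
    · right
      have : Group.IsSolvable A1 := isSolvable_conj_smul _ A
      exact isSolvable_subgroupOf A1 L
    · left
      exact isSolvable_subgroupOf N L
  obtain ⟨l, hl⟩ := sz_conj (N.subgroupOf L) (A1.subgroupOf L) (A.subgroupOf L) hcopL hsolvL hcA1 hcA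
  have hl' : MulAut.conj (l : G) • A1 = A := by
    have := congrArg (Subgroup.map L.subtype) hl
    rwa [conj_smul_map_subtype, Subgroup.map_subgroupOf_eq_of_le hA1L,
      Subgroup.map_subgroupOf_eq_of_le hAL] at this
  obtain ⟨a0, ha0, n, hn, hl0⟩ := (isComplement'_iff_disjoint_and_forall.mp hcA.symm).2 l
  rw [Subgroup.mem_subgroupOf] at ha0 hn
  have hl1 : (a0 : G) * (n : G) = (l : G) := congrArg Subtype.val hl0
  have hconj : MulAut.conj ((n : G) * k⁻¹) • A = A := by
    have h1 : MulAut.conj ((a0 : G) * (n : G)) • A1 = A := by rw [hl1]; exact hl'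
    rw [← conj_smul_conj_smul] at h1
    have h2 := congrArg (fun Z => MulAut.conj (a0 : G)⁻¹ • Z) h1
    rw [conj_smul_conj_smul (a0 : G)⁻¹ (a0 : G), inv_mul_cancel, map_one, one_smul,
      Subgroup.conj_smul_eq_self_of_mem (A.inv_mem ha0), hA1, conj_smul_conj_smul] at h2
    exact h2
  set c : G := k * (n : G)⁻¹ with hc
  have hcinv : c⁻¹ = (n : G) * k⁻¹ := by rw [hc]; group
  have hconj' : MulAut.conj c⁻¹ • A = A := by rw [hcinv]; exact hconj
  have hcA' : ∀ a ∈ A, c⁻¹ * a * c ∈ A := by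
    intro a ha
    have : a ∈ MulAut.conj c • A := by
      have h3 : MulAut.conj c • A = A := by
        have h4 := congrArg (fun Z => MulAut.conj c • Z) hconj'
        rw [conj_smul_conj_smul, mul_inv_cancel, map_one, one_smul] at h4
        exact h4.symm
      rw [h3]; exact ha
    rwa [mem_conj_smul] at this
  refine ⟨c, ?_, ?_⟩
  · rw [Subgroup.mem_centralizer_iff]
    intro a ha
    have h1 : c⁻¹ * a * c * a⁻¹ ∈ A := A.mul_mem (hcA' a ha) (A.inv_mem ha)
    have h2 : c⁻¹ * a * c * a⁻¹ ∈ N := by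
      have e : c⁻¹ * a * c * a⁻¹ = (n : G) * (k⁻¹ * a * k * a⁻¹) * (a * (n : G)⁻¹ * a⁻¹) := by
        rw [hc]; group
      rw [e]
      refine N.mul_mem (N.mul_mem hn (hfix a ha)) ?_
      have := (Subgroup.mem_normalizer_iff).mp (hAN ha) (n : G)⁻¹
      exact this.mp (N.inv_mem hn)
    have h3 := (Subgroup.disjoint_def.mp hdisj) h2 h1
    have : a * c = c * (c⁻¹ * a * c * a⁻¹) * a := by group
    rw [this, h3, mul_one]
  · have : k⁻¹ * c = (n : G)⁻¹ := by rw [hc]; group
    rw [this]; exact N.inv_mem hn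

end Cfsg.Agent.Helper1

namespace Cfsg.Agent.Helper1
open Pointwise
open scoped commutatorElement

variable {G : Type*} [Group G]

theorem commutator_le_of_le_normalizer {K A : Subgroup G} (hAK : A ≤ Subgroup.normalizer (K : Set G)) :
    ⁅K, A⁆ ≤ K := by
  rw [Subgroup.commutator_le]
  intro k hk a ha
  have h1 : a * k⁻¹ * a⁻¹ ∈ K := (Subgroup.mem_normalizer_iff.mp (hAK ha) k⁻¹).mp (K.inv_mem hk)
  have : ⁅k, a⁆ = k * (a * k⁻¹ * a⁻¹) := by rw [commutatorElement_def]; group
  rw [this]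
  exact K.mul_mem hk h1

/-- `K` normalises `[K, A]`. -/
theorem le_normalizer_commutator_left (K A : Subgroup G) :
    K ≤ Subgroup.normalizer ((⁅K, A⁆ : Subgroup G) : Set G) := by
  apply le_normalizer_of_conj_smul_le
  intro k1 hk1
  rw [Subgroup.commutator_def, Subgroup.smul_closure, Subgroup.closure_le]
  rintro _ ⟨_, ⟨k, hk, a, ha, rfl⟩, rfl⟩
  have e : (MulAut.conj k1) • ⁅k, a⁆ = ⁅k1 * k, a⁆ * ⁅k1, a⁆⁻¹ := by
    rw [MulAut.smul_def, MulAut.conj_apply, commutatorElement_def, commutatorElement_def,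
      commutatorElement_def]; group
  change MulAut.conj k1 • ⁅k, a⁆ ∈ (⁅K, A⁆ : Subgroup G)
  rw [e]
  exact Subgroup.mul_mem _ (Subgroup.commutator_mem_commutator (K.mul_mem hk1 hk) ha)
    (Subgroup.inv_mem _ (Subgroup.commutator_mem_commutator hk1 ha))

/-- If `A` normalises `K` then `A` normalises `[K, A]`. -/
theorem le_normalizer_commutator_right {K A : Subgroup G} (hAK : A ≤ Subgroup.normalizer (K : Set G)) :
    A ≤ Subgroup.normalizer ((⁅K, A⁆ : Subgroup G) : Set G) := by
  apply le_normalizer_of_conj_smul_le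
  intro a1 ha1
  rw [Subgroup.commutator_def, Subgroup.smul_closure, Subgroup.closure_le]
  rintro _ ⟨_, ⟨k, hk, a, ha, rfl⟩, rfl⟩
  have e : (MulAut.conj a1) • ⁅k, a⁆ = ⁅a1 * k * a1⁻¹, a1 * a * a1⁻¹⁆ := by
    rw [MulAut.smul_def, MulAut.conj_apply, commutatorElement_def, commutatorElement_def]; group
  change MulAut.conj a1 • ⁅k, a⁆ ∈ (⁅K, A⁆ : Subgroup G)
  rw [e]
  refine Subgroup.commutator_mem_commutator ?_ (A.mul_mem (A.mul_mem ha1 ha) (A.inv_mem ha1))
  exact (Subgroup.mem_normalizer_iff.mp (hAK ha1) k).mp hk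

/-- Coprime action: every element of `K` is a product of an element of `[K, A]` and a fixed point. -/
theorem exists_commutator_mul_centralizer [Finite G] (A K : Subgroup G)
    (hAK : A ≤ Subgroup.normalizer (K : Set G)) (hcop : (Nat.card A).Coprime (Nat.card K))
    (hsolv : Group.IsSolvable A ∨ Group.IsSolvable K) (k : G) (hk : k ∈ K) :
    ∃ x ∈ ⁅K, A⁆, ∃ c ∈ K ⊓ Subgroup.centralizer (A : Set G), k = x * c := by
  have hle : ⁅K, A⁆ ≤ K := commutator_le_of_le_normalizer hAK
  have hcop' : (Nat.card A).Coprime (Nat.card (⁅K, A⁆ : Subgroup G)) :=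
    Nat.Coprime.coprime_dvd_right (Subgroup.card_dvd_of_le hle) hcop
  have hsolv' : Group.IsSolvable A ∨ Group.IsSolvable (⁅K, A⁆ : Subgroup G) := by
    rcases hsolv with h | h
    · exact Or.inl h
    · exact Or.inr (isSolvable_of_le hle)
  obtain ⟨c, hc, hkc⟩ := exists_mem_centralizer_of_coset_fixed A ⁅K, A⁆
    (le_normalizer_commutator_right hAK) hcop' hsolv' k (by
      intro a ha
      have : k⁻¹ * a * k * a⁻¹ = ⁅k⁻¹, a⁆ := by rw [commutatorElement_def]; group
      rw [this]
      exact Subgroup.commutator_mem_commutator (K.inv_mem hk) ha)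
  have hcK : c ∈ K := by
    have : c = k * (k⁻¹ * c) := by group
    rw [this]; exact K.mul_mem hk (hle hkc)
  refine ⟨k * c⁻¹, ?_, c, ⟨hcK, hc⟩, by group⟩
  -- `k * c⁻¹ = k * (k⁻¹ * c)⁻¹ * k⁻¹`
  have h1 : k * c⁻¹ = k * (k⁻¹ * c)⁻¹ * k⁻¹ := by group
  rw [h1]
  exact (Subgroup.mem_normalizer_iff.mp (le_normalizer_commutator_left K A hk) _).mp
    (Subgroup.inv_mem _ hkc)

/-- Coprime action: `K = [K, A] C_K(A)`. -/
theorem commutator_sup_centralizer [Finite G] (A K : Subgroup G)
    (hAK : A ≤ Subgroup.normalizer (K : Set G)) (hcop : (Nat.card A).Coprime (Nat.card K))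
    (hsolv : Group.IsSolvable A ∨ Group.IsSolvable K) :
    ⁅K, A⁆ ⊔ (K ⊓ Subgroup.centralizer (A : Set G)) = K := by
  apply le_antisymm
  · exact sup_le (commutator_le_of_le_normalizer hAK) inf_le_left
  · intro k hk
    obtain ⟨x, hx, c, hc, rfl⟩ := exists_commutator_mul_centralizer A K hAK hcop hsolv k hk
    exact Subgroup.mul_mem_sup hx hc

/-- Coprime action: `[K, A, A] = [K, A]`. -/
theorem commutator_commutator_eq [Finite G] (A K : Subgroup G)
    (hAK : A ≤ Subgroup.normalizer (K : Set G)) (hcop : (Nat.card A).Coprime (Nat.card K))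
    (hsolv : Group.IsSolvable A ∨ Group.IsSolvable K) :
    ⁅⁅K, A⁆, A⁆ = ⁅K, A⁆ := by
  apply le_antisymm
  · exact Subgroup.commutator_mono (commutator_le_of_le_normalizer hAK) le_rfl
  · rw [Subgroup.commutator_le]
    intro k hk a ha
    obtain ⟨x, hx, c, hc, rfl⟩ := exists_commutator_mul_centralizer A K hAK hcop hsolv k hk
    have hca : a * c = c * a := (Subgroup.mem_centralizer_iff.mp hc.2) a ha
    have : ⁅x * c, a⁆ = ⁅x, a⁆ := by
      rw [commutatorElement_def, commutatorElement_def]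
      have h1 : x * c * a * (x * c)⁻¹ * a⁻¹ = x * (c * a) * c⁻¹ * x⁻¹ * a⁻¹ := by group
      rw [h1, ← hca]; group
    rw [this]
    exact Subgroup.commutator_mem_commutator hx ha

end Cfsg.Agent.Helper1
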