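import Mathlib
import Cfsg.Agent.Lib.Helper1.Basic
import Cfsg.Agent.Lib.Helper1.SZ
import Cfsg.Agent.Lib.Helper1.Hall
import Cfsg.Agent.Lib.Helper1.Coprime
import Cfsg.Agent.Lib.Helper1.Solv

set_option autoImplicit false

namespace Cfsg.Agent.Helper1.Carter

open Subgroup
open scoped Pointwise

universe u

variable {G : Type u} [Group G]

/-- Carter subgroup: nilpotent and self-normalizing. -/
def IsCarter (C : Subgroup G) : Prop :=
  Group.IsNilpotent C ∧ normalizer (C : Set G) = C

/-- Carter subgroup of the subgroup `L`, in ambient terms. -/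
def IsCarterIn (L C : Subgroup G) : Prop :=
  C ≤ L ∧ Group.IsNilpotent C ∧ normalizer (C : Set G) ⊓ L ≤ C

theorem IsCarter.isCarterIn {C : Subgroup G} (hC : IsCarter C) {L : Subgroup G} (hCL : C ≤ L) :
    IsCarterIn L C :=
  ⟨hCL, hC.1, by rw [hC.2]; exact inf_le_left⟩

theorem isCarterIn_top {C : Subgroup G} : IsCarterIn ⊤ C ↔ IsCarter C := by
  constructor
  · rintro ⟨-, h1, h2⟩
    refine ⟨h1, le_antisymm ?_ le_normalizer⟩
    rwa [inf_top_eq] at h2
  · intro h
    exact h.isCarterIn le_top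

/-- In a nilpotent group the only Carter subgroup is the whole group. -/
theorem IsCarter.eq_top_of_isNilpotent [Group.IsNilpotent G] {C : Subgroup G} (hC : IsCarter C) :
    C = ⊤ := by
  by_contra h
  have h1 : C < ⊤ := lt_top_iff_ne_top.mpr h
  have h2 := Group.normalizerCondition_of_isNilpotent (G := G) C h1
  rw [hC.2] at h2
  exact lt_irrefl _ h2

theorem normalizer_conj_smul (g : G) (C : Subgroup G) :
    normalizer ((MulAut.conj g • C : Subgroup G) : Set G) = MulAut.conj g • normalizer (C : Set G) := by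
  ext x
  rw [mem_conj_smul, mem_normalizer_iff, mem_normalizer_iff]
  constructor
  · intro h y
    have h' := h (g * y * g⁻¹)
    rw [mem_conj_smul, mem_conj_smul] at h'
    have e1 : g⁻¹ * (g * y * g⁻¹) * g = y := by group
    have e2 : g⁻¹ * (x * (g * y * g⁻¹) * x⁻¹) * g = g⁻¹ * x * g * y * (g⁻¹ * x * g)⁻¹ := by group
    rw [e1, e2] at h'
    exact h'
  · intro h y
    rw [mem_conj_smul, mem_conj_smul, h (g⁻¹ * y * g)]
    have e2 : g⁻¹ * (x * y * x⁻¹) * g = g⁻¹ * x * g * (g⁻¹ * y * g) * (g⁻¹ * x * g)⁻¹ := by group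
    rw [e2]

theorem IsCarter.conj {C : Subgroup G} (hC : IsCarter C) (g : G) : IsCarter (MulAut.conj g • C) := by
  refine ⟨?_, ?_⟩
  · have := hC.1
    exact Group.nilpotent_of_mulEquiv (Subgroup.equivSMul (MulAut.conj g) C)
  · rw [normalizer_conj_smul, hC.2]

theorem IsCarterIn.conj {L C : Subgroup G} (hC : IsCarterIn L C) {g : G} (hg : g ∈ L) :
    IsCarterIn L (MulAut.conj g • C) := by
  obtain ⟨h1, h2, h3⟩ := hC
  have hL : MulAut.conj g • L = L := Subgroup.conj_smul_eq_self_of_mem hg
  refine ⟨?_, ?_, ?_⟩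
  · rw [← hL]
    exact Subgroup.pointwise_smul_le_pointwise_smul_iff.mpr h1
  · exact Group.nilpotent_of_mulEquiv (Subgroup.equivSMul (MulAut.conj g) C)
  · rw [normalizer_conj_smul]
    nth_rewrite 1 [← hL]
    rw [← Subgroup.smul_inf]
    exact Subgroup.pointwise_smul_le_pointwise_smul_iff.mpr h3

/-- An element whose order is coprime to the index of a normal subgroup lies in it. -/
theorem mem_of_coprime_index [Finite G] (Q : Subgroup G) [Q.Normal] (y : G)
    (h : (orderOf y).Coprime Q.index) : y ∈ Q := by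
  have h1 : orderOf (QuotientGroup.mk' Q y) ∣ orderOf y := orderOf_map_dvd _ y
  have h2 : orderOf (QuotientGroup.mk' Q y) ∣ Q.index := by
    rw [Subgroup.index_eq_card]; exact orderOf_dvd_natCard _
  have h3 : orderOf (QuotientGroup.mk' Q y) = 1 := Nat.eq_one_of_dvd_coprimes h h1 h2
  rw [orderOf_eq_one_iff] at h3
  exact (QuotientGroup.eq_one_iff y).mp h3

/-- The normalizer of a Hall subgroup is self-normalizing. -/
theorem normalizer_normalizer_of_coprime [Finite G] (Q : Subgroup G)
    (h : (Nat.card Q).Coprime Q.index) :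
    normalizer ((normalizer (Q : Set G) : Subgroup G) : Set G) = normalizer (Q : Set G) := by
  apply le_antisymm _ le_normalizer
  set N := normalizer (Q : Set G) with hN
  apply le_normalizer_of_conj_smul_le
  intro x hx z hz
  rw [mem_conj_smul] at hz
  -- z = x y x⁻¹ with y ∈ Q
  have hQN : Q ≤ N := le_normalizer
  have hzN : z ∈ N := by
    have h1 : x⁻¹ * z * x ∈ N := hQN hz
    have h2 := (mem_normalizer_iff.mp hx (x⁻¹ * z * x)).mp h1
    have e : x * (x⁻¹ * z * x) * x⁻¹ = z := by group
    rwa [e] at h2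
  have : (Q.subgroupOf N).Normal := Subgroup.normal_in_normalizer
  have hord : orderOf z = orderOf (x⁻¹ * z * x) := by
    have : x⁻¹ * z * x = MulAut.conj x⁻¹ z := by simp
    rw [this, MulEquiv.orderOf_eq]
  have hcop : (orderOf (⟨z, hzN⟩ : N)).Coprime (Q.subgroupOf N).index := by
    rw [Subgroup.orderOf_mk, hord]
    have h1 : orderOf (x⁻¹ * z * x) ∣ Nat.card Q := by
      have := orderOf_dvd_natCard (⟨_, hz⟩ : Q)
      rwa [Subgroup.orderOf_mk] at this
    have h2 : (Q.subgroupOf N).index ∣ Q.index := Subgroup.relIndex_dvd_index_of_le hQN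
    exact Nat.Coprime.coprime_dvd_left h1 (Nat.Coprime.coprime_dvd_right h2 h)
  have := mem_of_coprime_index (Q.subgroupOf N) ⟨z, hzN⟩ hcop
  exact Subgroup.mem_subgroupOf.mp this

theorem mem_normalizer_iff_conj_smul_eq {a : G} {C : Subgroup G} :
    a ∈ normalizer (C : Set G) ↔ MulAut.conj a • C = C := by
  constructor
  · intro h
    have := (le_normalizer_iff_conj_smul_eq (A := normalizer (C : Set G)) (H := C)).mp le_rfl
    exact this a h
  · intro h3
    rw [mem_normalizer_iff]
    intro h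
    conv_rhs => rw [← h3]
    rw [mem_conj_smul]
    have : a⁻¹ * (a * h * a⁻¹) * a = h := by group
    rw [this]

/-- Conjugacy of Carter subgroups inside a subgroup `L`, ambient form. -/
def ConjIn (L : Subgroup G) : Prop :=
  ∀ C D : Subgroup G, IsCarterIn L C → IsCarterIn L D → ∃ g ∈ L, MulAut.conj g • C = D

/-- If Carter subgroups are conjugate in all proper subgroups, then `C M` is self-normalizing for a
Carter subgroup `C` and a normal subgroup `M`. -/
theorem normalizer_sup_normal (hPC : ∀ L : Subgroup G, L ≠ ⊤ → ConjIn L)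
    {C : Subgroup G} (hC : IsCarter C) (M : Subgroup G) [M.Normal] :
    normalizer ((C ⊔ M : Subgroup G) : Set G) = C ⊔ M := by
  by_cases hL : C ⊔ M = ⊤
  · rw [hL]; exact Subgroup.normalizer_eq_top (H := (⊤ : Subgroup G))
  apply le_antisymm _ le_normalizer
  intro x hx
  set L := C ⊔ M with hLdef
  have hCL : C ≤ L := le_sup_left
  have hxL : MulAut.conj x • L = L := mem_normalizer_iff_conj_smul_eq.mp hx
  have hC1 : IsCarterIn L C := hC.isCarterIn hCL
  have hC2 : IsCarterIn L (MulAut.conj x • C) := by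
    apply (hC.conj x).isCarterIn
    rw [← hxL]
    exact Subgroup.pointwise_smul_le_pointwise_smul_iff.mpr hCL
  obtain ⟨y, hyL, hy⟩ := hPC L hL C (MulAut.conj x • C) hC1 hC2
  have h3 : MulAut.conj (x⁻¹ * y) • C = C := by
    rw [← conj_smul_conj_smul, hy, conj_smul_conj_smul, inv_mul_cancel, map_one, one_smul]
  have h4 : x⁻¹ * y ∈ normalizer (C : Set G) := mem_normalizer_iff_conj_smul_eq.mpr h3
  rw [hC.2] at h4
  have h5 : x⁻¹ * y ∈ L := hCL h4
  have h6 : x = y * (x⁻¹ * y)⁻¹ := by group
  rw [h6]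
  exact L.mul_mem hyL (L.inv_mem h5)

/-- Images of Carter subgroups under surjective homomorphisms are Carter subgroups (given conjugacy in
proper subgroups). -/
theorem IsCarter.map (hPC : ∀ L : Subgroup G, L ≠ ⊤ → ConjIn L)
    {C : Subgroup G} (hC : IsCarter C) {H : Type*} [Group H] (φ : G →* H)
    (hφ : Function.Surjective φ) : IsCarter (C.map φ) := by
  refine ⟨?_, ?_⟩
  · have := hC.1
    exact Group.nilpotent_of_surjective (φ.subgroupMap C) (φ.subgroupMap_surjective C)
  · apply Subgroup.comap_injective hφ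
    rw [Subgroup.comap_normalizer_eq_of_surjective _ hφ, Subgroup.comap_map_eq]
    exact normalizer_sup_normal hPC hC φ.ker

/-- A Hall `p'`-subgroup of a finite solvable group. -/
theorem exists_hall_compl [Finite G] [Group.IsSolvable G] (p : ℕ) [Fact p.Prime] :
    ∃ Q : Subgroup G, (Nat.card Q).Coprime p ∧ ∃ k : ℕ, Q.index = p ^ k := by
  have hp : p.Prime := Fact.out
  have hG0 : Nat.card G ≠ 0 := Nat.card_pos.ne'
  have h1 : Nat.card G = (Nat.card G / p ^ (Nat.card G).factorization p) *
      p ^ (Nat.card G).factorization p := by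
    rw [mul_comm]; exact (Nat.ordProj_mul_ordCompl_eq_self (Nat.card G) p).symm
  have h2 : (Nat.card G / p ^ (Nat.card G).factorization p).Coprime p :=
    (Nat.coprime_ordCompl hp hG0).symm
  have h3 : (Nat.card G / p ^ (Nat.card G).factorization p).Coprime
      (p ^ (Nat.card G).factorization p) := Nat.Coprime.pow_right _ h2
  obtain ⟨Q, hQ, -⟩ := hall_exists_dominant _ _ h1 h3
  refine ⟨Q, by rw [hQ]; exact h2, (Nat.card G).factorization p, ?_⟩
  have h4 := Q.card_mul_index
  rw [hQ] at h4
  have hpos : 0 < Nat.card G / p ^ (Nat.card G).factorization p := by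
    rcases Nat.eq_zero_or_pos (Nat.card G / p ^ (Nat.card G).factorization p) with h | h
    · rw [h, zero_mul] at h1; exact absurd h1 hG0
    · exact h
  have h5 : (Nat.card G / p ^ (Nat.card G).factorization p) * Q.index =
      (Nat.card G / p ^ (Nat.card G).factorization p) * p ^ (Nat.card G).factorization p := by
    rw [h4, ← h1]
  exact Nat.eq_of_mul_eq_mul_left hpos h5

/-- A finite nilpotent group has a normal Hall `p'`-subgroup. -/
theorem exists_normal_hall_compl [Finite G] [Group.IsNilpotent G] (p : ℕ) [Fact p.Prime] :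
    ∃ Q : Subgroup G, Q.Normal ∧ (Nat.card Q).Coprime p ∧ ∃ k : ℕ, Q.index = p ^ k := by
  obtain ⟨Q, hQ, k, hk⟩ := exists_hall_compl (G := G) p
  refine ⟨Q, ?_, hQ, k, hk⟩
  have hcop : (Nat.card Q).Coprime Q.index := by rw [hk]; exact Nat.Coprime.pow_right _ hQ
  have h1 := normalizer_normalizer_of_coprime Q hcop
  rw [← normalizer_eq_top_iff]
  by_contra h
  have h2 := Group.normalizerCondition_of_isNilpotent (G := G) _ (lt_top_iff_ne_top.mpr h)
  rw [h1] at h2
  exact lt_irrefl _ h2

theorem index_dvd_card_of_sup_eq_top [Finite G] (X M : Subgroup G) [M.Normal] (h : X ⊔ M = ⊤) :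
    X.index ∣ Nat.card M := by
  have h1 : M.index = M.relIndex X := by rw [← relIndex_sup_right, h, relIndex_top_right]
  have h2 : Nat.card (M.subgroupOf X) * M.relIndex X = Nat.card X := (M.subgroupOf X).card_mul_index
  have h3 : Nat.card M * M.index = Nat.card G := M.card_mul_index
  have h4 : Nat.card X * X.index = Nat.card G := X.card_mul_index
  have hpos : 0 < M.index := Nat.pos_of_ne_zero Subgroup.index_ne_zero_of_finite
  have h5 : Nat.card M * M.index = (Nat.card (M.subgroupOf X) * X.index) * M.index := by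
    rw [h3, ← h4, ← h2, ← h1]; ring
  have h6 := Nat.eq_of_mul_eq_mul_right hpos h5
  exact Dvd.intro_left _ h6.symm

theorem index_eq_pow_of_sup_eq_top [Finite G] (p : ℕ) [Fact p.Prime] (X M : Subgroup G) [M.Normal]
    (hM : IsPGroup p M) (h : X ⊔ M = ⊤) : ∃ k : ℕ, X.index = p ^ k := by
  obtain ⟨n, hn⟩ := IsPGroup.iff_card.mp hM
  have h1 := index_dvd_card_of_sup_eq_top X M h
  rw [hn] at h1
  obtain ⟨k, -, hk⟩ := (Nat.dvd_prime_pow Fact.out).mp h1
  exact ⟨k, hk⟩

/-- Two Carter subgroups with a common normal Hall `p'`-subgroup are conjugate (given conjugacy in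
proper subgroups). -/
theorem conj_of_common_hall [Finite G] (hPC : ∀ L : Subgroup G, L ≠ ⊤ → ConjIn L)
    (p : ℕ) [Fact p.Prime] {C D Q : Subgroup G} (hC : IsCarter C) (hD : IsCarter D)
    (hQC : Q ≤ C) (hQD : Q ≤ D) (hCN : C ≤ normalizer (Q : Set G)) (hDN : D ≤ normalizer (Q : Set G))
    (k : ℕ) (hk : Q.index = p ^ k) : ∃ g : G, MulAut.conj g • C = D := by
  by_cases hN : normalizer (Q : Set G) = ⊤
  · have hQn : Q.Normal := normalizer_eq_top_iff.mp hN
    have hpg : IsPGroup p (G ⧸ Q) :=
      IsPGroup.of_card (n := k) (by rw [← Subgroup.index_eq_card, hk])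
    have hnil : Group.IsNilpotent (G ⧸ Q) := hpg.isNilpotent
    have key : ∀ X : Subgroup G, IsCarter X → Q ≤ X → X = ⊤ := by
      intro X hX hQX
      have h1 := (hX.map hPC (QuotientGroup.mk' Q)
        (QuotientGroup.mk'_surjective Q)).eq_top_of_isNilpotent
      have h2 := congrArg (Subgroup.comap (QuotientGroup.mk' Q)) h1
      rw [Subgroup.comap_map_eq, QuotientGroup.ker_mk', Subgroup.comap_top,
        sup_eq_left.mpr hQX] at h2
      exact h2
    rw [key C hC hQC, key D hD hQD]
    exact ⟨1, by simp⟩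
  · obtain ⟨g, -, hg⟩ := hPC _ hN C D (hC.isCarterIn hCN) (hD.isCarterIn hDN)
    exact ⟨g, hg⟩

/-- A nilpotent subgroup has a normal Hall `p'`-subgroup (ambient form). -/
theorem exists_normal_hall_compl_sub [Finite G] (p : ℕ) [Fact p.Prime] (C : Subgroup G)
    (hC : Group.IsNilpotent C) :
    ∃ Q : Subgroup G, Q ≤ C ∧ C ≤ normalizer (Q : Set G) ∧ (Nat.card Q).Coprime p ∧
      ∃ k : ℕ, Q.index = p ^ k * C.index := by
  obtain ⟨Q, hQn, hQc, k, hk⟩ := exists_normal_hall_compl (G := C) p
  refine ⟨Q.map C.subtype, Subgroup.map_subtype_le Q, ?_, ?_, k, ?_⟩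
  · rw [le_normalizer_iff_conj_smul_eq]
    intro c hc
    have := conj_smul_map_subtype (⟨c, hc⟩ : C) Q
    rw [Subgroup.Normal.conj_smul_eq_self] at this
    exact this.symm
  · rw [Subgroup.card_map_of_injective C.subtype_injective]; exact hQc
  · rw [Subgroup.index_map_subtype, hk]

theorem eq_of_mul_pow_eq {p a b i j : ℕ} (ha : a.Coprime p) (hb : b.Coprime p)
    (h : a * p ^ i = b * p ^ j) : a = b := by
  apply Nat.dvd_antisymm
  · have : a ∣ b * p ^ j := Dvd.intro _ h
    exact (Nat.Coprime.pow_right j ha).dvd_of_dvd_mul_right this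
  · have : b ∣ a * p ^ i := Dvd.intro _ h.symm
    exact (Nat.Coprime.pow_right i hb).dvd_of_dvd_mul_right this

/-- Two Carter subgroups of `p`-power index are conjugate (given conjugacy in proper subgroups). -/
theorem conj_of_index_pow [Finite G] [Group.IsSolvable G]
    (hPC : ∀ L : Subgroup G, L ≠ ⊤ → ConjIn L)
    (p : ℕ) [Fact p.Prime] {C D : Subgroup G} (hC : IsCarter C) (hD : IsCarter D)
    (a b : ℕ) (ha : C.index = p ^ a) (hb : D.index = p ^ b) : ∃ g : G, MulAut.conj g • C = D := by
  have hp : p.Prime := Fact.out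
  obtain ⟨QC, hQC, hCN, hcC, k, hk⟩ := exists_normal_hall_compl_sub p C hC.1
  obtain ⟨QD, hQD, hDN, hcD, l, hl⟩ := exists_normal_hall_compl_sub p D hD.1
  rw [ha, ← pow_add] at hk
  rw [hb, ← pow_add] at hl
  have h1 : Nat.card QC * p ^ (k + a) = Nat.card G := by rw [← hk]; exact QC.card_mul_index
  have h2 : Nat.card QD * p ^ (l + b) = Nat.card G := by rw [← hl]; exact QD.card_mul_index
  have h3 : Nat.card QC = Nat.card QD := eq_of_mul_pow_eq hcC hcD (h1.trans h2.symm)
  obtain ⟨g, hg⟩ := hall_conj (Nat.card QC) (p ^ (k + a)) h1.symm (Nat.Coprime.pow_right _ hcC)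
    QC QD rfl h3.symm
  have hC' : IsCarter (MulAut.conj g • C) := hC.conj g
  have hQC' : QD ≤ MulAut.conj g • C := by
    rw [← hg]; exact Subgroup.pointwise_smul_le_pointwise_smul_iff.mpr hQC
  have hCN' : MulAut.conj g • C ≤ normalizer (QD : Set G) := by
    rw [← hg, normalizer_conj_smul]
    exact Subgroup.pointwise_smul_le_pointwise_smul_iff.mpr hCN
  obtain ⟨h, hh⟩ := conj_of_common_hall hPC p hC' hD hQC' hQD hCN' hDN (l + b) hl
  exact ⟨h * g, by rw [← conj_smul_conj_smul, hh]⟩

/-- The conjugacy step of Carter's theorem. -/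
theorem conj_step [Finite G] [Group.IsSolvable G]
    (hPCsub : ∀ L : Subgroup G, L ≠ ⊤ → ConjIn L)
    (p : ℕ) [Fact p.Prime] (M : Subgroup G) [M.Normal] (hMp : IsPGroup p M)
    (hPCquot : ∀ C' D' : Subgroup (G ⧸ M), IsCarter C' → IsCarter D' →
      ∃ g : G ⧸ M, MulAut.conj g • C' = D')
    {C D : Subgroup G} (hC : IsCarter C) (hD : IsCarter D) : ∃ g : G, MulAut.conj g • C = D := by
  have hsurj := QuotientGroup.mk'_surjective M
  have hCm := hC.map hPCsub (QuotientGroup.mk' M) hsurj
  have hDm := hD.map hPCsub (QuotientGroup.mk' M) hsurj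
  obtain ⟨g', hg'⟩ := hPCquot _ _ hCm hDm
  obtain ⟨g, rfl⟩ := hsurj g'
  rw [← map_conj_smul] at hg'
  have h1 := congrArg (Subgroup.comap (QuotientGroup.mk' M)) hg'
  rw [Subgroup.comap_map_eq, Subgroup.comap_map_eq, QuotientGroup.ker_mk'] at h1
  have hC' : IsCarter (MulAut.conj g • C) := hC.conj g
  suffices hsuff : ∃ h : G, MulAut.conj h • (MulAut.conj g • C) = D by
    obtain ⟨h, hh⟩ := hsuff
    exact ⟨h * g, by rw [← conj_smul_conj_smul, hh]⟩
  by_cases hL : D ⊔ M = ⊤
  · obtain ⟨a, ha⟩ := index_eq_pow_of_sup_eq_top p _ M hMp (h1.trans hL)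
    obtain ⟨b, hb⟩ := index_eq_pow_of_sup_eq_top p _ M hMp hL
    exact conj_of_index_pow hPCsub p hC' hD a b ha hb
  · obtain ⟨h, -, hh⟩ := hPCsub _ hL _ _ (hC'.isCarterIn (h1 ▸ le_sup_left))
      (hD.isCarterIn le_sup_left)
    exact ⟨h, hh⟩

theorem isNilpotent_of_injective {H K : Type*} [Group H] [Group K] [Group.IsNilpotent K]
    (f : H →* K) (hf : Function.Injective f) : Group.IsNilpotent H :=
  Group.nilpotent_of_mulEquiv (MonoidHom.ofInjective hf).symm

/-- If `G / M` is nilpotent for a normal `p`-subgroup `M`, the normalizer of a Hall `p'`-subgroup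
is a Carter subgroup. -/
theorem exists_of_quotient_nilpotent [Finite G] [Group.IsSolvable G] (p : ℕ) [Fact p.Prime]
    (M : Subgroup G) [M.Normal] (hMp : IsPGroup p M) (hnil : Group.IsNilpotent (G ⧸ M)) :
    ∃ C : Subgroup G, IsCarter C := by
  have hp : p.Prime := Fact.out
  obtain ⟨Q, hQ, k, hk⟩ := exists_hall_compl (G := G) p
  have hcop : (Nat.card Q).Coprime Q.index := by rw [hk]; exact Nat.Coprime.pow_right _ hQ
  set C := normalizer (Q : Set G) with hCdef
  refine ⟨C, ?_, normalizer_normalizer_of_coprime Q hcop⟩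
  have hQC : Q ≤ C := le_normalizer
  have hQn : (Q.subgroupOf C).Normal := Subgroup.normal_in_normalizer
  have hidx : (Q.subgroupOf C).index ∣ p ^ k := by
    rw [← hk]; exact Subgroup.relIndex_dvd_index_of_le hQC
  obtain ⟨j, -, hj⟩ := (Nat.dvd_prime_pow hp).mp hidx
  have hpg : IsPGroup p (C ⧸ Q.subgroupOf C) :=
    IsPGroup.of_card (n := j) (by rw [← Subgroup.index_eq_card, hj])
  have hnil2 : Group.IsNilpotent (C ⧸ Q.subgroupOf C) := hpg.isNilpotent
  let f : C →* (G ⧸ M) × (C ⧸ Q.subgroupOf C) :=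
    ((QuotientGroup.mk' M).comp C.subtype).prod (QuotientGroup.mk' (Q.subgroupOf C))
  have hMQ : M ⊓ Q = ⊥ := by
    obtain ⟨n, hn⟩ := IsPGroup.iff_card.mp hMp
    apply disjoint_iff.mp
    apply Subgroup.disjoint_of_coprime_natCard
    rw [hn]
    exact (Nat.Coprime.pow_right n hQ).symm
  have hf : Function.Injective f := by
    rw [injective_iff_map_eq_one]
    intro x hx
    have h1 : (x : G) ∈ M := by
      have := congrArg Prod.fst hx
      exact (QuotientGroup.eq_one_iff _).mp this
    have h2 : (x : G) ∈ Q := by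
      have := congrArg Prod.snd hx
      exact Subgroup.mem_subgroupOf.mp ((QuotientGroup.eq_one_iff _).mp this)
    have h3 : (x : G) ∈ M ⊓ Q := Subgroup.mem_inf.mpr ⟨h1, h2⟩
    rw [hMQ, Subgroup.mem_bot] at h3
    exact Subtype.ext h3
  exact isNilpotent_of_injective f hf

/-- Existence and conjugacy of Carter subgroups. -/
def Good (G : Type u) [Group G] : Prop :=
  (∃ C : Subgroup G, IsCarter C) ∧
    ∀ C D : Subgroup G, IsCarter C → IsCarter D → ∃ g : G, MulAut.conj g • C = D

theorem isCarter_subgroupOf {L C : Subgroup G} (hC : IsCarterIn L C) : IsCarter (C.subgroupOf L) := by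
  obtain ⟨h1, h2, h3⟩ := hC
  refine ⟨Group.nilpotent_of_mulEquiv (Subgroup.subgroupOfEquivOfLe h1).symm, ?_⟩
  apply le_antisymm _ le_normalizer
  rw [← subgroupOf_normalizer_eq h1]
  intro x hx
  rw [mem_subgroupOf] at hx ⊢
  exact h3 (Subgroup.mem_inf.mpr ⟨hx, x.2⟩)

theorem isCarterIn_map_subtype {L : Subgroup G} {C' : Subgroup L} (hC : IsCarter C') :
    IsCarterIn L (C'.map L.subtype) := by
  have hle : C'.map L.subtype ≤ L := Subgroup.map_subtype_le C'
  have hnil := hC.1
  refine ⟨hle, Group.nilpotent_of_mulEquiv (C'.equivMapOfInjective L.subtype L.subtype_injective), ?_⟩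
  · intro x hx
    obtain ⟨hx1, hx2⟩ := Subgroup.mem_inf.mp hx
    have h1 : (⟨x, hx2⟩ : L) ∈ (normalizer ((C'.map L.subtype : Subgroup G) : Set G)).subgroupOf L :=
      mem_subgroupOf.mpr hx1
    rw [subgroupOf_normalizer_eq hle] at h1
    have h2 : (C'.map L.subtype).subgroupOf L = C' :=
      Subgroup.comap_map_eq_self_of_injective L.subtype_injective C'
    rw [h2, hC.2] at h1
    exact ⟨⟨x, hx2⟩, h1, rfl⟩

theorem conjIn_of_conj (L : Subgroup G)
    (h : ∀ C D : Subgroup L, IsCarter C → IsCarter D → ∃ g : L, MulAut.conj g • C = D) :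
    ConjIn L := by
  intro C D hC hD
  obtain ⟨g, hg⟩ := h _ _ (isCarter_subgroupOf hC) (isCarter_subgroupOf hD)
  refine ⟨g, g.2, ?_⟩
  have := congrArg (Subgroup.map L.subtype) hg
  rw [conj_smul_map_subtype, map_subgroupOf_eq_of_le hC.1, map_subgroupOf_eq_of_le hD.1] at this
  exact this

theorem isCarter_top_of_subsingleton [Subsingleton G] : IsCarter (⊤ : Subgroup G) :=
  ⟨inferInstance, Subgroup.normalizer_eq_top (H := (⊤ : Subgroup G))⟩

theorem card_subgroup_lt_of_ne_top [Finite G] {L : Subgroup G} (hL : L ≠ ⊤) :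
    Nat.card L < Nat.card G := by
  have := card_lt_of_lt (lt_top_iff_ne_top.mpr hL)
  rwa [Subgroup.card_top] at this

/-- Existence step of Carter's theorem. -/
theorem exists_step [Finite G] [Group.IsSolvable G]
    (ih : ∀ (H : Type u) [Group H] [Finite H] [Group.IsSolvable H],
      Nat.card H < Nat.card G → Good H) : ∃ C : Subgroup G, IsCarter C := by
  by_cases hG : Nontrivial G
  swap
  · rw [not_nontrivial_iff_subsingleton] at hG
    exact ⟨⊤, isCarter_top_of_subsingleton⟩
  obtain ⟨p, hp, M, hMn, hMne, -, hMp⟩ := exists_normal_elementary_of_solvable G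
  have : Fact p.Prime := ⟨hp⟩
  have hMpg : IsPGroup p M := isPGroup_of_forall_pow_eq_one M hMp
  obtain ⟨⟨Cq, hCq⟩, -⟩ := ih (G ⧸ M) (card_quotient_lt M hMne)
  have hsurj := QuotientGroup.mk'_surjective M
  set C1 := Cq.comap (QuotientGroup.mk' M) with hC1def
  have hCqnil := hCq.1
  by_cases hC1 : C1 = ⊤
  · have hCqtop : Cq = ⊤ := by
      rw [← Subgroup.map_comap_eq_self_of_surjective hsurj Cq, ← hC1def, hC1,
        Subgroup.map_top_of_surjective _ hsurj]
    have hnil : Group.IsNilpotent (G ⧸ M) := by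
      rw [hCqtop] at hCqnil
      exact Group.nilpotent_of_mulEquiv (Subgroup.topEquiv : (⊤ : Subgroup (G ⧸ M)) ≃* (G ⧸ M))
    exact exists_of_quotient_nilpotent p M hMpg hnil
  · have hlt : Nat.card C1 < Nat.card G := card_subgroup_lt_of_ne_top hC1
    obtain ⟨⟨C', hC'⟩, -⟩ := ih C1 hlt
    have hPC' : ∀ L' : Subgroup C1, L' ≠ ⊤ → ConjIn L' := by
      intro L' _
      apply conjIn_of_conj
      exact (ih L' (lt_of_le_of_lt (Subgroup.card_le_card_group L') hlt)).2
    have hφ := MonoidHom.subgroupComap_surjective_of_surjective (QuotientGroup.mk' M) Cq hsurj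
    have hmap := (hC'.map hPC' _ hφ).eq_top_of_isNilpotent
    have h1 := congrArg (Subgroup.comap ((QuotientGroup.mk' M).subgroupComap Cq)) hmap
    rw [Subgroup.comap_map_eq, Subgroup.comap_top] at h1
    have hMC1 : M ≤ C1 := by
      intro x hx
      rw [hC1def, Subgroup.mem_comap]
      have : QuotientGroup.mk' M x = 1 := (QuotientGroup.eq_one_iff x).mpr hx
      rw [this]; exact Cq.one_mem
    have hker : ((QuotientGroup.mk' M).subgroupComap Cq).ker.map C1.subtype ≤ M := by
      rintro _ ⟨x, hx, rfl⟩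
      have h2 : (QuotientGroup.mk' M).subgroupComap Cq x = 1 := hx
      have h3 := congrArg Subtype.val h2
      exact (QuotientGroup.eq_one_iff _).mp h3
    have hCin := isCarterIn_map_subtype hC'
    set C := C'.map C1.subtype with hCdef
    have hsup : C ⊔ M = C1 := by
      apply le_antisymm (sup_le hCin.1 hMC1)
      have h4 := congrArg (Subgroup.map C1.subtype) h1
      rw [Subgroup.map_sup, ← MonoidHom.range_eq_map, Subgroup.range_subtype] at h4
      rw [← h4]
      exact sup_le_sup_left hker _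
    have hN1 : normalizer (C1 : Set G) = C1 := by
      rw [hC1def, ← Subgroup.comap_normalizer_eq_of_surjective _ hsurj, hCq.2]
    refine ⟨C, hCin.2.1, le_antisymm ?_ le_normalizer⟩
    intro x hx
    have hx1 : x ∈ C1 := by
      rw [← hN1, mem_normalizer_iff_conj_smul_eq, ← hsup, Subgroup.smul_sup,
        mem_normalizer_iff_conj_smul_eq.mp hx, Subgroup.Normal.conj_smul_eq_self]
    exact hCin.2.2 (Subgroup.mem_inf.mpr ⟨hx, hx1⟩)

/-- Conjugacy step of Carter's theorem, from the induction hypothesis. -/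
theorem conj_main_step [Finite G] [Group.IsSolvable G]
    (ih : ∀ (H : Type u) [Group H] [Finite H] [Group.IsSolvable H],
      Nat.card H < Nat.card G → Good H) {C D : Subgroup G} (hC : IsCarter C) (hD : IsCarter D) :
    ∃ g : G, MulAut.conj g • C = D := by
  by_cases hG : Nontrivial G
  swap
  · rw [not_nontrivial_iff_subsingleton] at hG
    refine ⟨1, ?_⟩
    rw [Subgroup.eq_bot_of_subsingleton C, Subgroup.eq_bot_of_subsingleton D, map_one, one_smul]
  obtain ⟨p, hp, M, hMn, hMne, -, hMp⟩ := exists_normal_elementary_of_solvable G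
  have : Fact p.Prime := ⟨hp⟩
  have hMpg : IsPGroup p M := isPGroup_of_forall_pow_eq_one M hMp
  have hPCsub : ∀ L : Subgroup G, L ≠ ⊤ → ConjIn L := by
    intro L hL
    apply conjIn_of_conj
    exact (ih L (card_subgroup_lt_of_ne_top hL)).2
  exact conj_step hPCsub p M hMpg (ih (G ⧸ M) (card_quotient_lt M hMne)).2 hC hD

theorem carter_aux : ∀ (n : ℕ) (G : Type u) [Group G] [Finite G] [Group.IsSolvable G],
    Nat.card G = n → Good G := by
  intro n
  induction n using Nat.strong_induction_on with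
  | _ n ih =>
  intro G _ _ _ hn
  have ih' : ∀ (H : Type u) [Group H] [Finite H] [Group.IsSolvable H],
      Nat.card H < Nat.card G → Good H := by
    intro H _ _ _ hlt
    exact ih (Nat.card H) (hn ▸ hlt) H rfl
  exact ⟨exists_step ih', fun C D hC hD => conj_main_step ih' hC hD⟩

/-- **Carter's theorem.** -/
theorem carter (G : Type u) [Group G] [Finite G] [Group.IsSolvable G] : Good G :=
  carter_aux _ G rfl

end Cfsg.Agent.Helper1.Carter
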