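import Mathlib
import Cfsg.Prelude.Def_SolvableStructure
import Cfsg.Agent.Lib.Helper1.Basic
import Cfsg.Agent.Lib.Helper1.Compl
import Cfsg.Agent.Lib.Helper1.Solv
import Cfsg.Agent.Lib.Helper1.SZ
import Cfsg.Agent.Lib.Helper1.Hall
import Cfsg.Agent.Lib.Helper1.Carter

set_option autoImplicit false

namespace Cfsg.Agent.Helper1.SysNorm

open Subgroup
open scoped Pointwise
open Cfsg.Agent.Helper1 Cfsg.Agent.Helper1.Carter

universe u

variable {G : Type u} [Group G]

/-! ### Numeric lemmas -/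

theorem ppow_of_dvd {p a b : ℕ} (hp : p.Prime) (h : a ∣ b) (hb : ∃ k : ℕ, b = p ^ k) :
    ∃ k : ℕ, a = p ^ k := by
  obtain ⟨k, rfl⟩ := hb
  obtain ⟨j, -, hj⟩ := (Nat.dvd_prime_pow hp).mp h
  exact ⟨j, hj⟩

theorem ppow_mul {p a b : ℕ} (ha : ∃ k : ℕ, a = p ^ k) (hb : ∃ k : ℕ, b = p ^ k) :
    ∃ k : ℕ, a * b = p ^ k := by
  obtain ⟨i, rfl⟩ := ha
  obtain ⟨j, rfl⟩ := hb
  exact ⟨i + j, (pow_add p i j).symm⟩

theorem eq_one_of_ppow_of_coprime {p a m : ℕ} (ha : ∃ k : ℕ, a = p ^ k) (ham : a ∣ m)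
    (hm : m.Coprime p) : a = 1 := by
  obtain ⟨k, rfl⟩ := ha
  have h1 : (p ^ k).Coprime (p ^ k) :=
    Nat.Coprime.coprime_dvd_left ham (Nat.Coprime.pow_right k hm)
  exact (Nat.coprime_self _).mp h1

theorem card_mul_relIndex {H K : Subgroup G} (h : H ≤ K) :
    Nat.card H * H.relIndex K = Nat.card K := by
  rw [← card_subgroupOf_of_le h]
  exact (H.subgroupOf K).card_mul_index

theorem card_sup_mul_card_inf (H N : Subgroup G) [N.Normal] :
    Nat.card (H ⊔ N : Subgroup G) * Nat.card (H ⊓ N : Subgroup G) = Nat.card H * Nat.card N := by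
  have h1 : Nat.card N * N.relIndex (H ⊔ N) = Nat.card (H ⊔ N : Subgroup G) :=
    card_mul_relIndex le_sup_right
  have h2 : Nat.card (H ⊓ N : Subgroup G) * (H ⊓ N).relIndex H = Nat.card H :=
    card_mul_relIndex inf_le_left
  rw [relIndex_sup_right] at h1
  rw [inf_comm, inf_relIndex_right] at h2
  rw [inf_comm, ← h1, ← h2]
  ring

theorem relIndex_sup_mul_card_inf (C N : Subgroup G) [N.Normal] [Finite G] :
    C.relIndex (C ⊔ N) * Nat.card (C ⊓ N : Subgroup G) = Nat.card N := by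
  have h1 := card_sup_mul_card_inf C N
  have h2 : Nat.card C * C.relIndex (C ⊔ N) = Nat.card (C ⊔ N : Subgroup G) :=
    card_mul_relIndex le_sup_left
  rw [← h2, mul_assoc] at h1
  exact Nat.eq_of_mul_eq_mul_left Nat.card_pos h1

theorem relIndex_sup_dvd_card (C N : Subgroup G) [N.Normal] [Finite G] :
    C.relIndex (C ⊔ N) ∣ Nat.card N :=
  Dvd.intro _ (relIndex_sup_mul_card_inf C N)

theorem card_sup_dvd (H N : Subgroup G) [N.Normal] [Finite G] :
    Nat.card (H ⊔ N : Subgroup G) ∣ Nat.card H * Nat.card N :=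
  Dvd.intro _ (card_sup_mul_card_inf H N)

/-- Images under a homomorphism can only decrease the relative index. -/
theorem relIndex_map_map_dvd {G' : Type*} [Group G'] (f : G →* G') (X C : Subgroup G) :
    (X.map f).relIndex (C.map f) ∣ X.relIndex C := by
  have key : ∀ Y : Subgroup G, Y ≤ C → (Y.map f).relIndex (C.map f) ∣ Y.relIndex C := by
    intro Y hY
    have hsurj : Function.Surjective (f.subgroupMap C) := f.subgroupMap_surjective C
    have h1 := (Y.subgroupOf C).index_map_dvd hsurj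
    have h2 : (Y.subgroupOf C).map (f.subgroupMap C) = (Y.map f).subgroupOf (C.map f) := by
      ext ⟨z, hz⟩
      rw [mem_subgroupOf, mem_map]
      constructor
      · rintro ⟨⟨y, hyC⟩, hy, hyz⟩
        rw [mem_subgroupOf] at hy
        refine ⟨y, hy, ?_⟩
        exact congrArg Subtype.val hyz
      · rintro ⟨y, hy, hyz⟩
        refine ⟨⟨y, hY hy⟩, mem_subgroupOf.mpr hy, ?_⟩
        exact Subtype.ext hyz
    rw [h2] at h1
    exact h1
  have h3 : (X.map f).relIndex (C.map f) ∣ ((X ⊓ C).map f).relIndex (C.map f) :=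
    relIndex_dvd_of_le_left _ (Subgroup.map_mono inf_le_left)
  have h4 := key (X ⊓ C) inf_le_right
  rw [inf_relIndex_right] at h4
  exact h3.trans h4

theorem relIndex_sup_sup_dvd (M X C : Subgroup G) [M.Normal] :
    (X ⊔ M).relIndex (C ⊔ M) ∣ X.relIndex C := by
  have h := relIndex_map_map_dvd (QuotientGroup.mk' M) X C
  rwa [relIndex_map_map, QuotientGroup.ker_mk'] at h

/-- A normal `p'`-subgroup lies in every subgroup of `p`-power index. -/
theorem le_of_normal_coprime [Finite G] {p : ℕ} (N X : Subgroup G) [N.Normal]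
    (hN : (Nat.card N).Coprime p) (hX : ∃ k : ℕ, X.index = p ^ k) : N ≤ X := by
  have h1 : X.relIndex (X ⊔ N) ∣ X.index := relIndex_dvd_index_of_le le_sup_left
  have h2 : X.relIndex (X ⊔ N) ∣ Nat.card N := relIndex_sup_dvd_card X N
  obtain ⟨k, hk⟩ := hX
  rw [hk] at h1
  have h3 : (X.relIndex (X ⊔ N)).Coprime (X.relIndex (X ⊔ N)) :=
    Nat.Coprime.coprime_dvd_left h2 (Nat.Coprime.coprime_dvd_right h1 (Nat.Coprime.pow_right k hN))
  have h4 : X.relIndex (X ⊔ N) = 1 := (Nat.coprime_self _).mp h3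
  rw [relIndex_eq_one] at h4
  exact le_sup_right.trans h4

/-- A `p'`-subgroup of `F` lies in any subgroup `Q ≤ F` normalized by `F` of `p`-power relative
index. -/
theorem le_of_coprime_of_relIndex_pow {p : ℕ} {Q F X : Subgroup G}
    (hFQ : F ≤ normalizer (Q : Set G)) (hXF : X ≤ F) (hX : (Nat.card X).Coprime p)
    (hQ : ∃ k : ℕ, Q.relIndex F = p ^ k) : X ≤ Q := by
  have : (Q.subgroupOf F).Normal := normal_subgroupOf_of_le_normalizer hFQ
  have h1 : (Q.subgroupOf F).relIndex (X.subgroupOf F) ∣ (Q.subgroupOf F).index :=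
    relIndex_dvd_index_of_normal _ _
  rw [relIndex_subgroupOf hXF] at h1
  have h2 : Q.relIndex X ∣ Nat.card X := relIndex_dvd_card Q X
  obtain ⟨k, hk⟩ := hQ
  have h1' : Q.relIndex X ∣ p ^ k := hk ▸ h1
  have h3 : (Q.relIndex X).Coprime (Q.relIndex X) :=
    Nat.Coprime.coprime_dvd_left h2 (Nat.Coprime.coprime_dvd_right h1' (Nat.Coprime.pow_right k hX))
  have h4 : Q.relIndex X = 1 := (Nat.coprime_self _).mp h3
  rwa [relIndex_eq_one] at h4

/-! ### Complement systems -/

/-- Hall `p'`-subgroup for every prime `p` (order coprime to `p`, index a power of `p`). -/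
def IsCS (K : Nat.Primes → Subgroup G) : Prop :=
  ∀ p : Nat.Primes, (Nat.card (K p)).Coprime p ∧ ∃ k : ℕ, (K p).index = (p : ℕ) ^ k

/-- The system `K` reduces into `C`. -/
def Red (K : Nat.Primes → Subgroup G) (C : Subgroup G) : Prop :=
  ∀ p : Nat.Primes, ∃ k : ℕ, (K p).relIndex C = (p : ℕ) ^ k

theorem isCS_of_isComplementSystem [Finite G] {K : Nat.Primes → Subgroup G}
    (hK : Cfsg.IsComplementSystem K) : IsCS K := by
  intro p
  have hp : (p : ℕ).Prime := p.2
  refine ⟨?_, _, hK p⟩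
  have h1 : Nat.card (K p) * (K p).index = Nat.card G := (K p).card_mul_index
  rw [hK p] at h1
  rw [Nat.coprime_comm, Nat.Prime.coprime_iff_not_dvd hp]
  intro hdvd
  have h2 : (p : ℕ) ^ ((Nat.card G).factorization p + 1) ∣ Nat.card G := by
    obtain ⟨c, hc⟩ := hdvd
    refine ⟨c, ?_⟩
    generalize (Nat.card G).factorization p = a at h1 ⊢
    rw [← h1, hc, pow_succ]
    ring
  exact Nat.pow_succ_factorization_not_dvd (Nat.card_pos (α := G)).ne' hp h2

theorem isComplementSystem_of_isCS [Finite G] {K : Nat.Primes → Subgroup G}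
    (hK : IsCS K) : Cfsg.IsComplementSystem K := by
  intro p
  have hp : (p : ℕ).Prime := p.2
  obtain ⟨hc, k, hk⟩ := hK p
  have h1 : Nat.card (K p) * (K p).index = Nat.card G := (K p).card_mul_index
  rw [hk] at h1 ⊢
  congr 1
  rw [← h1, Nat.factorization_mul (Nat.card_pos (α := K p)).ne' (pow_ne_zero k hp.ne_zero)]
  have h2 : (Nat.card (K p)).factorization p = 0 := by
    apply Nat.factorization_eq_zero_of_not_dvd
    rw [← Nat.Prime.coprime_iff_not_dvd hp]
    exact hc.symm
  simp [h2, hp.factorization_pow]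

theorem IsCS.map [Finite G] {K : Nat.Primes → Subgroup G} (hK : IsCS K) {H : Type*} [Group H]
    (f : G →* H) (hf : Function.Surjective f) : IsCS (fun p => (K p).map f) := by
  intro p
  obtain ⟨hc, hk⟩ := hK p
  exact ⟨Nat.Coprime.coprime_dvd_left (Subgroup.card_map_dvd _ _) hc,
    ppow_of_dvd p.2 ((K p).index_map_dvd hf) hk⟩

theorem index_conj_smul [Finite G] (g : G) (H : Subgroup G) :
    (MulAut.conj g • H : Subgroup G).index = H.index := by
  have h1 := (MulAut.conj g • H : Subgroup G).card_mul_index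
  have h2 := H.card_mul_index
  rw [card_conj_smul, ← h2] at h1
  exact Nat.eq_of_mul_eq_mul_left Nat.card_pos h1

theorem IsCS.conj [Finite G] {K : Nat.Primes → Subgroup G} (hK : IsCS K) (g : G) :
    IsCS (fun p => MulAut.conj g • K p) := by
  intro p
  obtain ⟨hc, hk⟩ := hK p
  refine ⟨?_, ?_⟩
  · show (Nat.card (MulAut.conj g • K p : Subgroup G)).Coprime p
    rw [card_conj_smul]; exact hc
  · show ∃ k : ℕ, (MulAut.conj g • K p : Subgroup G).index = (p : ℕ) ^ k
    rw [index_conj_smul]; exact hk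

theorem Red.map {K : Nat.Primes → Subgroup G} {C : Subgroup G} (hK : Red K C) {H : Type*}
    [Group H] (f : G →* H) : Red (fun p => (K p).map f) (C.map f) := by
  intro p
  exact ppow_of_dvd p.2 (relIndex_map_map_dvd f (K p) C) (hK p)

theorem mem_systemNormalizer {K : Nat.Primes → Subgroup G} {d : G} :
    d ∈ Cfsg.systemNormalizer K ↔ ∀ p : Nat.Primes, d ∈ normalizer (K p : Set G) := by
  unfold Cfsg.systemNormalizer
  exact Subgroup.mem_iInf

theorem map_mem_systemNormalizer {K : Nat.Primes → Subgroup G} {H : Type*} [Group H]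
    (f : G →* H) {d : G} (hd : d ∈ Cfsg.systemNormalizer K) :
    f d ∈ Cfsg.systemNormalizer (fun p => (K p).map f) := by
  rw [mem_systemNormalizer] at hd ⊢
  intro p
  exact le_normalizer_map f (Subgroup.mem_map_of_mem f (hd p))

/-- The system normalizer of a conjugated system. -/
theorem mem_systemNormalizer_conj {K : Nat.Primes → Subgroup G} (g d : G) :
    d ∈ Cfsg.systemNormalizer (fun p => MulAut.conj g • K p) ↔
      g⁻¹ * d * g ∈ Cfsg.systemNormalizer K := by
  rw [mem_systemNormalizer, mem_systemNormalizer]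
  refine forall_congr' fun p => ?_
  show d ∈ normalizer ((MulAut.conj g • K p : Subgroup G) : Set G) ↔ _
  rw [normalizer_conj_smul, mem_conj_smul]

theorem systemNormalizer_conj {K : Nat.Primes → Subgroup G} (g : G) :
    Cfsg.systemNormalizer (fun p => MulAut.conj g • K p) =
      MulAut.conj g • Cfsg.systemNormalizer K := by
  ext d
  rw [mem_systemNormalizer_conj, mem_conj_smul]

theorem isCarter_iff {C : Subgroup G} : Cfsg.IsCarterSubgroup C ↔ IsCarter C := Iff.rfl

/-! ### Claim R: the system normalizer of a system reducing into a Carter subgroup lies in it -/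

/-- Relative version of `le_of_normal_coprime`. -/
theorem le_of_normal_coprime_rel [Finite G] {p : ℕ} {Q C X : Subgroup G} (hQC : Q ≤ C)
    (hCQ : C ≤ normalizer (Q : Set G)) (hQ : (Nat.card Q).Coprime p)
    (hX : ∃ k : ℕ, X.relIndex C = p ^ k) : Q ≤ X := by
  have : (Q.subgroupOf C).Normal := normal_subgroupOf_of_le_normalizer hCQ
  have h1 : Q.subgroupOf C ≤ X.subgroupOf C := by
    apply le_of_normal_coprime (p := p)
    · rw [card_subgroupOf_of_le hQC]; exact hQ
    · exact hX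
  intro x hx
  have : (⟨x, hQC hx⟩ : C) ∈ X.subgroupOf C := h1 (mem_subgroupOf.mpr hx)
  exact mem_subgroupOf.mp this

def ClaimR (H : Type u) [Group H] : Prop :=
  ∀ (C : Subgroup H) (K : Nat.Primes → Subgroup H), IsCarter C → IsCS K → Red K C →
    Cfsg.systemNormalizer K ≤ C

theorem hPC_of_solvable [Finite G] [Group.IsSolvable G] :
    ∀ L : Subgroup G, L ≠ ⊤ → ConjIn L :=
  fun L _ => conjIn_of_conj L (carter L).2

theorem stepQ [Finite G] [Group.IsSolvable G]
    (ih : ∀ (H : Type u) [Group H] [Finite H] [Group.IsSolvable H],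
      Nat.card H < Nat.card G → ClaimR H)
    {C : Subgroup G} {K : Nat.Primes → Subgroup G} (hC : IsCarter C) (hK : IsCS K) (hR : Red K C)
    (M : Subgroup G) [M.Normal] (hM : M ≠ ⊥) : Cfsg.systemNormalizer K ≤ C ⊔ M := by
  intro d hd
  have h1 := ih (G ⧸ M) (card_quotient_lt M hM) (C.map (QuotientGroup.mk' M))
    (fun p => (K p).map (QuotientGroup.mk' M))
    (hC.map hPC_of_solvable _ (QuotientGroup.mk'_surjective M))
    (hK.map _ (QuotientGroup.mk'_surjective M)) (hR.map _)
  have h2 := h1 (map_mem_systemNormalizer (QuotientGroup.mk' M) hd)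
  have h3 : d ∈ (C.map (QuotientGroup.mk' M)).comap (QuotientGroup.mk' M) := h2
  rwa [Subgroup.comap_map_eq, QuotientGroup.ker_mk'] at h3

theorem caseA [Finite G] [Group.IsSolvable G]
    (ih : ∀ (H : Type u) [Group H] [Finite H] [Group.IsSolvable H],
      Nat.card H < Nat.card G → ClaimR H)
    {C : Subgroup G} {K : Nat.Primes → Subgroup G} (hC : IsCarter C) (hK : IsCS K) (hR : Red K C)
    (r : ℕ) (hr : r.Prime) (N : Subgroup G) [N.Normal] (hNr : ∃ j : ℕ, Nat.card N = r ^ j)
    (hN : N ≠ ⊥) (hL : C ⊔ N ≠ ⊤) : Cfsg.systemNormalizer K ≤ C := by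
  have hDL : Cfsg.systemNormalizer K ≤ C ⊔ N := stepQ ih hC hK hR N hN
  have hidx : ∀ p : Nat.Primes, ∃ k : ℕ, (K p).relIndex (C ⊔ N) = (p : ℕ) ^ k := by
    intro p
    by_cases hpr : (p : ℕ) = r
    · have h1 : (K p).relIndex (C ⊔ N) ∣ (K p ⊓ C).relIndex (C ⊔ N) :=
        relIndex_dvd_of_le_left _ inf_le_left
      have h2 : (K p ⊓ C).relIndex C * C.relIndex (C ⊔ N) = (K p ⊓ C).relIndex (C ⊔ N) :=
        relIndex_mul_relIndex _ _ _ inf_le_right le_sup_left
      rw [inf_relIndex_right] at h2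
      have h3 : ∃ k : ℕ, C.relIndex (C ⊔ N) = (p : ℕ) ^ k := by
        rw [hpr]
        exact ppow_of_dvd hr (relIndex_sup_dvd_card C N) hNr
      exact ppow_of_dvd p.2 h1 (h2 ▸ ppow_mul (hR p) h3)
    · have hcop : (Nat.card N).Coprime p := by
        obtain ⟨j, hj⟩ := hNr
        rw [hj]
        exact Nat.Coprime.pow_left j ((Nat.coprime_primes hr p.2).mpr (Ne.symm hpr))
      have hNK : N ≤ K p := le_of_normal_coprime N (K p) hcop (hK p).2
      have h1 := relIndex_sup_sup_dvd N (K p) C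
      rw [sup_eq_left.mpr hNK] at h1
      exact ppow_of_dvd p.2 h1 (hR p)
  have hlt : Nat.card (C ⊔ N : Subgroup G) < Nat.card G := card_subgroup_lt_of_ne_top hL
  have hCL : C ≤ C ⊔ N := le_sup_left
  have h1 := ih (C ⊔ N : Subgroup G) hlt (C.subgroupOf (C ⊔ N))
    (fun p => (K p).subgroupOf (C ⊔ N)) (isCarter_subgroupOf (hC.isCarterIn hCL)) ?_ ?_
  · intro d hd
    have hdL := hDL hd
    have h2 : (⟨d, hdL⟩ : (C ⊔ N : Subgroup G)) ∈
        Cfsg.systemNormalizer (fun p => (K p).subgroupOf (C ⊔ N)) := by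
      rw [mem_systemNormalizer] at hd ⊢
      intro p
      have h3 := hd p
      rw [mem_normalizer_iff] at h3 ⊢
      intro h
      rw [mem_subgroupOf, mem_subgroupOf]
      exact h3 h
    exact mem_subgroupOf.mp (h1 h2)
  · intro p
    exact ⟨Nat.Coprime.coprime_dvd_left (card_subgroupOf_dvd _ _) (hK p).1, hidx p⟩
  · intro p
    show ∃ k : ℕ, ((K p).subgroupOf (C ⊔ N)).relIndex (C.subgroupOf (C ⊔ N)) = (p : ℕ) ^ k
    rw [relIndex_subgroupOf hCL]
    exact hR p

/-- Case `G = N ⋊ C`. -/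
theorem caseB2 [Finite G] [Group.IsSolvable G]
    (ih : ∀ (H : Type u) [Group H] [Finite H] [Group.IsSolvable H],
      Nat.card H < Nat.card G → ClaimR H)
    {C : Subgroup G} {K : Nat.Primes → Subgroup G} (hC : IsCarter C) (hK : IsCS K) (hR : Red K C)
    (r : ℕ) (hr : r.Prime) (N : Subgroup G) [N.Normal] (hNr : ∃ j : ℕ, Nat.card N = r ^ j)
    (hNab : N ≤ centralizer (N : Set G))
    (hL : C ⊔ N = ⊤) (hCN : C ⊓ N = ⊥) : Cfsg.systemNormalizer K ≤ C := by
  have : Fact r.Prime := ⟨hr⟩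
  set pr : Nat.Primes := ⟨r, hr⟩ with hpr
  obtain ⟨hQc, a, hQa⟩ := hK pr
  change (Nat.card (K pr)).Coprime r at hQc
  change (K pr).index = r ^ a at hQa
  obtain ⟨j, hj⟩ := hNr
  -- orders
  have hcard : Nat.card G = Nat.card C * Nat.card N := by
    have := card_sup_mul_card_inf C N
    rwa [hL, hCN, Subgroup.card_top, Subgroup.card_bot, mul_one] at this
  have hCidx : C.index = r ^ j := by
    have h1 := C.card_mul_index
    rw [hcard, hj] at h1
    exact Nat.eq_of_mul_eq_mul_left Nat.card_pos h1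
  -- the normal Hall `r'`-subgroup of `C` equals `K r`
  obtain ⟨Q', hQ'C, hCQ', hQ'c, k, hk⟩ := exists_normal_hall_compl_sub r C hC.1
  have hQ'le : Q' ≤ K pr := le_of_normal_coprime_rel hQ'C hCQ' hQ'c (hR pr)
  have hQeq : Q' = K pr := by
    apply Subgroup.eq_of_le_of_card_ge hQ'le
    apply le_of_eq
    have h1 := Q'.card_mul_index
    have h2 := (K pr).card_mul_index
    rw [hk, hCidx, ← pow_add] at h1
    rw [hQa, ← h1] at h2
    exact eq_of_mul_pow_eq hQc hQ'c h2
  rw [← hQeq] at hQa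
  -- the subgroup `Z = C_N(Q)`
  set Z : Subgroup G := N ⊓ centralizer (Q' : Set G) with hZ
  have hZN : Z ≤ N := inf_le_left
  have hZn : Z.Normal := by
    rw [← normalizer_eq_top_iff, eq_top_iff, ← hL]
    apply sup_le
    · apply le_normalizer_of_conj_smul_le
      intro c hc x hx
      rw [mem_conj_smul] at hx
      obtain ⟨hx1, hx2⟩ := Subgroup.mem_inf.mp hx
      have hxN : x ∈ N := by
        have := (inferInstance : N.Normal).conj_mem _ hx1 c
        simpa [mul_assoc] using this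
      refine Subgroup.mem_inf.mpr ⟨hxN, ?_⟩
      rw [mem_centralizer_iff] at hx2 ⊢
      intro q hq
      have hq' : c⁻¹ * q * c ∈ Q' := by
        have hc' : c⁻¹ ∈ normalizer (Q' : Set G) := hCQ' (C.inv_mem hc)
        have := (mem_normalizer_iff.mp hc' q).mp hq
        simpa using this
      have h3 := hx2 _ hq'
      have e1 : q * x = c * ((c⁻¹ * q * c) * (c⁻¹ * x * c)) * c⁻¹ := by group
      have e2 : x * q = c * ((c⁻¹ * x * c) * (c⁻¹ * q * c)) * c⁻¹ := by group
      rw [e1, e2, h3]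
    · exact (hNab.trans (centralizer_le hZN)).trans (centralizer_le_normalizer _)
  intro d hd
  have hdtop : d ∈ C ⊔ N := hL ▸ Subgroup.mem_top d
  obtain ⟨c, hc, n, hn, rfl⟩ := mem_sup_of_normal_right.mp hdtop
  have hdQ : c * n ∈ normalizer (Q' : Set G) := by
    rw [hQeq]; exact (mem_systemNormalizer.mp hd) pr
  have hnQ : n ∈ normalizer (Q' : Set G) := by
    have := Subgroup.mul_mem _ (Subgroup.inv_mem _ (hCQ' hc)) hdQ
    simpa using this
  have hnZ : n ∈ Z := by
    refine Subgroup.mem_inf.mpr ⟨hn, ?_⟩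
    rw [mem_centralizer_iff]
    intro x hx
    have h1 : n * x * n⁻¹ ∈ Q' := (mem_normalizer_iff.mp hnQ x).mp hx
    have h2 : n * x * n⁻¹ * x⁻¹ ∈ Q' := Subgroup.mul_mem _ h1 (Subgroup.inv_mem _ hx)
    have h3 : n * x * n⁻¹ * x⁻¹ ∈ N := by
      have h4 : x * n⁻¹ * x⁻¹ ∈ N := (inferInstance : N.Normal).conj_mem _ (N.inv_mem hn) x
      have := N.mul_mem hn h4
      simpa [mul_assoc] using this
    have h5 : n * x * n⁻¹ * x⁻¹ ∈ C ⊓ N := Subgroup.mem_inf.mpr ⟨hQ'C h2, h3⟩
    rw [hCN, Subgroup.mem_bot] at h5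
    have e : x * n = (n * x * n⁻¹ * x⁻¹)⁻¹ * (n * x) := by group
    rw [e, h5, inv_one, one_mul]
  by_cases hZbot : Z = ⊥
  · rw [hZbot, Subgroup.mem_bot] at hnZ
    rw [hnZ, mul_one]; exact hc
  by_cases hCZ : C ⊔ Z = ⊤
  swap
  · have hZr : ∃ i : ℕ, Nat.card Z = r ^ i :=
      ppow_of_dvd hr (Subgroup.card_dvd_of_le hZN) ⟨j, hj⟩
    exact caseA ih hC hK hR r hr Z hZr hZbot hCZ hd
  -- `Q` is normal in `G` and `G ⧸ Q` is an `r`-group
  have hQn : Q'.Normal := by
    rw [← normalizer_eq_top_iff, eq_top_iff, ← hCZ]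
    exact sup_le hCQ' ((inf_le_right).trans (centralizer_le_normalizer _))
  have hnil : Group.IsNilpotent (G ⧸ Q') := by
    have hp : IsPGroup r (G ⧸ Q') := by
      apply IsPGroup.of_card (n := a)
      rw [← Subgroup.index_eq_card, hQa]
    exact hp.isNilpotent
  have h1 : C.map (QuotientGroup.mk' Q') = ⊤ :=
    (hC.map hPC_of_solvable _ (QuotientGroup.mk'_surjective Q')).eq_top_of_isNilpotent
  have h2 : C ⊔ Q' = ⊤ := by
    have := congrArg (Subgroup.comap (QuotientGroup.mk' Q')) h1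
    rwa [Subgroup.comap_map_eq, QuotientGroup.ker_mk', Subgroup.comap_top] at this
  rw [sup_eq_left.mpr hQ'C] at h2
  rw [h2]; exact Subgroup.mem_top _

theorem claimR_step [Finite G] [Group.IsSolvable G]
    (ih : ∀ (H : Type u) [Group H] [Finite H] [Group.IsSolvable H],
      Nat.card H < Nat.card G → ClaimR H) : ClaimR G := by
  intro C K hC hK hR
  by_cases hG : Nontrivial G
  swap
  · rw [not_nontrivial_iff_subsingleton] at hG
    intro d _
    have : d = 1 := Subsingleton.elim _ _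
    rw [this]; exact C.one_mem
  obtain ⟨r, hr, N, hNn, hNbot, hNab, hNexp⟩ := exists_normal_elementary_of_solvable G
  have hNr : IsPGroup r N := isPGroup_of_forall_pow_eq_one N hNexp
  have : Fact r.Prime := ⟨hr⟩
  obtain ⟨j, hj⟩ := IsPGroup.iff_card.mp hNr
  have hNab' : N ≤ centralizer (N : Set G) := commutator_eq_bot_iff_le_centralizer.mp hNab
  by_cases hL : C ⊔ N = ⊤
  swap
  · exact caseA ih hC hK hR r hr N ⟨j, hj⟩ hNbot hL
  by_cases hCN : C ⊓ N = ⊥
  swap
  · have hnorm : (C ⊓ N).Normal := by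
      rw [← normalizer_eq_top_iff, eq_top_iff, ← hL]
      apply sup_le (inf_normal_le_normalizer C N)
      exact (hNab'.trans (centralizer_le inf_le_right)).trans (centralizer_le_normalizer _)
    have := stepQ ih hC hK hR (C ⊓ N) hCN
    rwa [sup_eq_left.mpr inf_le_left] at this
  exact caseB2 ih hC hK hR r hr N ⟨j, hj⟩ hNab' hL hCN

theorem claimR_aux : ∀ (n : ℕ) (G : Type u) [Group G] [Finite G] [Group.IsSolvable G],
    Nat.card G = n → ClaimR G := by
  intro n
  induction n using Nat.strong_induction_on with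
  | _ n ih =>
  intro G _ _ _ hn
  apply claimR_step
  intro H _ _ _ hlt
  exact ih (Nat.card H) (hn ▸ hlt) H rfl

/-- **Claim R.** If a Hall system reduces into the Carter subgroup `C`, then its system normalizer
lies in `C`. -/
theorem systemNormalizer_le_of_red [Finite G] [Group.IsSolvable G]
    {C : Subgroup G} {K : Nat.Primes → Subgroup G} (hC : IsCarter C) (hK : IsCS K) (hR : Red K C) :
    Cfsg.systemNormalizer K ≤ C :=
  claimR_aux _ G rfl C K hC hK hR

/-! ### Existence of a system reducing into a nilpotent subgroup -/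

theorem exists_hall_containing [Finite G] [Group.IsSolvable G] (p : Nat.Primes) (X : Subgroup G)
    (hX : (Nat.card X).Coprime p) :
    ∃ H : Subgroup G, X ≤ H ∧ (Nat.card H).Coprime p ∧
      H.index = (p : ℕ) ^ (Nat.card G).factorization p := by
  have hp : (p : ℕ).Prime := p.2
  have hG0 : Nat.card G ≠ 0 := (Nat.card_pos (α := G)).ne'
  set a := (Nat.card G).factorization p with ha
  set m := Nat.card G / (p : ℕ) ^ a with hm
  have hmn : Nat.card G = m * (p : ℕ) ^ a := by
    rw [mul_comm]; exact (Nat.ordProj_mul_ordCompl_eq_self (Nat.card G) p).symm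
  have hcop : m.Coprime ((p : ℕ) ^ a) :=
    (Nat.Coprime.pow_left a (Nat.coprime_ordCompl hp hG0)).symm
  obtain ⟨H0, hH0, hdom⟩ := hall_exists_dominant m ((p : ℕ) ^ a) hmn hcop
  obtain ⟨g, hg⟩ := hdom X (Nat.Coprime.pow_right a hX)
  refine ⟨MulAut.conj g • H0, hg, ?_, ?_⟩
  · rw [card_conj_smul, hH0]
    exact (Nat.coprime_ordCompl hp hG0).symm
  · rw [index_conj_smul]
    have h1 := H0.card_mul_index
    rw [hH0, hmn] at h1
    have hm0 : 0 < m := by
      rcases Nat.eq_zero_or_pos m with h | h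
      · rw [h, zero_mul] at hmn; exact absurd hmn hG0
      · exact h
    exact Nat.eq_of_mul_eq_mul_left hm0 h1

theorem exists_reducing [Finite G] [Group.IsSolvable G] (C : Subgroup G)
    (hC : Group.IsNilpotent C) :
    ∃ K : Nat.Primes → Subgroup G, Cfsg.IsComplementSystem K ∧ IsCS K ∧ Red K C := by
  have key : ∀ p : Nat.Primes, ∃ H : Subgroup G, (Nat.card H).Coprime p ∧
      H.index = (p : ℕ) ^ (Nat.card G).factorization p ∧ ∃ k : ℕ, H.relIndex C = (p : ℕ) ^ k := by
    intro p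
    have : Fact (p : ℕ).Prime := ⟨p.2⟩
    obtain ⟨Q, hQC, -, hQc, k, hk⟩ := exists_normal_hall_compl_sub (p : ℕ) C hC
    obtain ⟨H, hQH, hHc, hHi⟩ := exists_hall_containing p Q hQc
    refine ⟨H, hHc, hHi, ?_⟩
    have h1 : Q.relIndex C * C.index = Q.index := relIndex_mul_index hQC
    rw [hk] at h1
    have h2 : Q.relIndex C = (p : ℕ) ^ k :=
      Nat.eq_of_mul_eq_mul_right (Nat.pos_of_ne_zero Subgroup.index_ne_zero_of_finite) h1
    exact ppow_of_dvd p.2 (relIndex_dvd_of_le_left C hQH) ⟨k, h2⟩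
  choose K hK1 hK2 hK3 using key
  exact ⟨K, hK2, fun p => ⟨hK1 p, _, hK2 p⟩, hK3⟩

/-! ### Conjugacy of Hall systems -/

/-- Hall conjugacy inside a subgroup. -/
theorem hall_conj_in [Finite G] [Group.IsSolvable G] {Y X X' : Subgroup G} (hX : X ≤ Y)
    (hX' : X' ≤ Y) (m n : ℕ) (hY : Nat.card Y = m * n) (hmn : m.Coprime n)
    (hm : Nat.card X = m) (hm' : Nat.card X' = m) : ∃ y ∈ Y, MulAut.conj y • X = X' := by
  obtain ⟨y, hy⟩ := hall_conj (G := Y) m n hY hmn (X.subgroupOf Y) (X'.subgroupOf Y)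
    (by rw [card_subgroupOf_of_le hX]; exact hm) (by rw [card_subgroupOf_of_le hX']; exact hm')
  refine ⟨y, y.2, ?_⟩
  have := congrArg (Subgroup.map Y.subtype) hy
  rw [conj_smul_map_subtype, map_subgroupOf_eq_of_le hX, map_subgroupOf_eq_of_le hX'] at this
  exact this

def ConjSys (H : Type u) [Group H] : Prop :=
  ∀ K K' : Nat.Primes → Subgroup H, IsCS K → IsCS K' →
    ∃ g : H, ∀ p : Nat.Primes, K' p = MulAut.conj g • K p

theorem card_eq_of_isCS [Finite G] {p : ℕ} (_hp : p.Prime) {X X' : Subgroup G}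
    (hX : (Nat.card X).Coprime p) (hX' : (Nat.card X').Coprime p)
    (hi : ∃ k : ℕ, X.index = p ^ k) (hi' : ∃ k : ℕ, X'.index = p ^ k) :
    Nat.card X = Nat.card X' := by
  obtain ⟨k, hk⟩ := hi
  obtain ⟨k', hk'⟩ := hi'
  have h1 := X.card_mul_index
  have h2 := X'.card_mul_index
  rw [hk] at h1
  rw [hk', ← h1] at h2
  exact (eq_of_mul_pow_eq hX' hX h2).symm

theorem conjSys_step [Finite G] [Group.IsSolvable G]
    (ih : ∀ (H : Type u) [Group H] [Finite H] [Group.IsSolvable H],
      Nat.card H < Nat.card G → ConjSys H) : ConjSys G := by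
  intro K K' hK hK'
  by_cases hG : Nontrivial G
  swap
  · rw [not_nontrivial_iff_subsingleton] at hG
    refine ⟨1, fun p => ?_⟩
    have : Subsingleton (Subgroup G) := inferInstance
    exact Subsingleton.elim _ _
  obtain ⟨r, hr, N, hNn, hNbot, hNab, hNexp⟩ := exists_normal_elementary_of_solvable G
  have hNr : IsPGroup r N := isPGroup_of_forall_pow_eq_one N hNexp
  have : Fact r.Prime := ⟨hr⟩
  obtain ⟨j, hj⟩ := IsPGroup.iff_card.mp hNr
  have hsurj := QuotientGroup.mk'_surjective N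
  obtain ⟨gq, hgq⟩ := ih (G ⧸ N) (card_quotient_lt N hNbot)
    (fun p => (K p).map (QuotientGroup.mk' N)) (fun p => (K' p).map (QuotientGroup.mk' N))
    (hK.map _ hsurj) (hK'.map _ hsurj)
  obtain ⟨g, rfl⟩ := hsurj gq
  -- the conjugated system
  have hK1 : IsCS (fun p => MulAut.conj g • K p) := hK.conj g
  have hsup : ∀ p : Nat.Primes, K' p ⊔ N = (MulAut.conj g • K p) ⊔ N := by
    intro p
    have h1 := hgq p
    change (K' p).map (QuotientGroup.mk' N) =
      MulAut.conj ((QuotientGroup.mk' N) g) • (K p).map (QuotientGroup.mk' N) at h1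
    rw [← map_conj_smul] at h1
    have h2 := congrArg (Subgroup.comap (QuotientGroup.mk' N)) h1
    rwa [Subgroup.comap_map_eq, Subgroup.comap_map_eq, QuotientGroup.ker_mk'] at h2
  set pr : Nat.Primes := ⟨r, hr⟩ with hpr
  -- primes different from `r`
  have hne : ∀ p : Nat.Primes, p ≠ pr → N ≤ K' p ∧ K' p = MulAut.conj g • K p := by
    intro p hp
    have hpr' : (p : ℕ) ≠ r := fun h => hp (Subtype.ext h)
    have hcop : (Nat.card N).Coprime p := by
      rw [hj]
      exact Nat.Coprime.pow_left j ((Nat.coprime_primes hr p.2).mpr (Ne.symm hpr'))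
    have h1 : N ≤ K' p := le_of_normal_coprime N (K' p) hcop (hK' p).2
    have h2 : N ≤ MulAut.conj g • K p := le_of_normal_coprime N _ hcop (hK1 p).2
    have h3 := hsup p
    rw [sup_eq_left.mpr h1, sup_eq_left.mpr h2] at h3
    exact ⟨h1, h3⟩
  -- the prime `r`
  obtain ⟨hc1, hi1⟩ := hK1 pr
  obtain ⟨hc', hi'⟩ := hK' pr
  change (Nat.card (MulAut.conj g • K pr : Subgroup G)).Coprime r at hc1
  change ∃ k : ℕ, (MulAut.conj g • K pr : Subgroup G).index = r ^ k at hi1
  change (Nat.card (K' pr)).Coprime r at hc'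
  change ∃ k : ℕ, (K' pr).index = r ^ k at hi'
  set X := MulAut.conj g • K pr with hX
  have hcardeq : Nat.card X = Nat.card (K' pr) := card_eq_of_isCS hr hc1 hc' hi1 hi'
  have hY : Nat.card (X ⊔ N : Subgroup G) = Nat.card X * X.relIndex (X ⊔ N) :=
    (card_mul_relIndex le_sup_left).symm
  have hrel : ∃ i : ℕ, X.relIndex (X ⊔ N) = r ^ i :=
    ppow_of_dvd hr (relIndex_sup_dvd_card X N) ⟨j, hj⟩
  obtain ⟨i, hi⟩ := hrel
  have hcop : (Nat.card X).Coprime (X.relIndex (X ⊔ N)) := by
    rw [hi]; exact Nat.Coprime.pow_right i hc1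
  have hX'Y : K' pr ≤ X ⊔ N := by
    rw [← hsup pr]; exact le_sup_left
  obtain ⟨y, hyY, hy⟩ := hall_conj_in (le_sup_left : X ≤ X ⊔ N) hX'Y _ _ hY hcop rfl hcardeq.symm
  rw [sup_comm] at hyY
  obtain ⟨n, hn, x, hx, rfl⟩ := mem_sup_of_normal_left.mp hyY
  have hnx : MulAut.conj n • X = K' pr := by
    rw [← hy, ← conj_smul_conj_smul, Subgroup.conj_smul_eq_self_of_mem hx]
  refine ⟨n * g, fun p => ?_⟩
  rw [← conj_smul_conj_smul]
  by_cases hp : p = pr
  · rw [hp]; exact hnx.symm
  · obtain ⟨h1, h2⟩ := hne p hp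
    rw [← h2, Subgroup.conj_smul_eq_self_of_mem (h1 hn)]

theorem conjSys_aux : ∀ (n : ℕ) (G : Type u) [Group G] [Finite G] [Group.IsSolvable G],
    Nat.card G = n → ConjSys G := by
  intro n
  induction n using Nat.strong_induction_on with
  | _ n ih =>
  intro G _ _ _ hn
  apply conjSys_step
  intro H _ _ _ hlt
  exact ih (Nat.card H) (hn ▸ hlt) H rfl

/-- **P. Hall**: any two Hall systems of a finite solvable group are conjugate. -/
theorem conj_systems [Finite G] [Group.IsSolvable G] {K K' : Nat.Primes → Subgroup G}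
    (hK : IsCS K) (hK' : IsCS K') : ∃ g : G, ∀ p : Nat.Primes, K' p = MulAut.conj g • K p :=
  conjSys_aux _ G rfl K K' hK hK'

end Cfsg.Agent.Helper1.SysNorm
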