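import Mathlib
import Cfsg.Prelude.Def_SolvableStructure
import Cfsg.Agent.Lib.Helper1.SysNorm
import Cfsg.Agent.Lib.Helper53.PGroupFix
import Cfsg.Agent.S0043

set_option autoImplicit false

namespace Cfsg.Agent.Helper1.SysNorm

open Subgroup
open scoped Pointwise
open Cfsg.Agent.Helper1 Cfsg.Agent.Helper1.Carter

universe u

variable {G : Type u} [Group G]

/-- A nontrivial normal subgroup of a finite group contains a minimal normal subgroup. -/
theorem exists_minimal_normal_le [Finite G] (A : Subgroup G) [hAn : A.Normal] (hA : A ≠ ⊥) :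
    ∃ N : Subgroup G, N.Normal ∧ N ≠ ⊥ ∧ N ≤ A ∧
      ∀ M : Subgroup G, M.Normal → M ≤ N → M = ⊥ ∨ M = N := by
  have key : ∀ n : ℕ, ∀ A : Subgroup G, A.Normal → A ≠ ⊥ → Nat.card A = n →
      ∃ N : Subgroup G, N.Normal ∧ N ≠ ⊥ ∧ N ≤ A ∧
        ∀ M : Subgroup G, M.Normal → M ≤ N → M = ⊥ ∨ M = N := by
    intro n
    induction n using Nat.strong_induction_on with
    | _ n ih =>
    intro A hAn hA hn
    by_cases hmin : ∀ M : Subgroup G, M.Normal → M ≤ A → M = ⊥ ∨ M = A
    · exact ⟨A, hAn, hA, le_rfl, hmin⟩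
    · push Not at hmin
      obtain ⟨M, hMn, hMA, hM1, hM2⟩ := hmin
      have hlt : M < A := lt_of_le_of_ne hMA hM2
      obtain ⟨N, h1, h2, h3, h4⟩ := ih (Nat.card M) (hn ▸ card_lt_of_lt hlt) M hMn hM1 rfl
      exact ⟨N, h1, h2, h3.trans hMA, h4⟩
  exact key _ A hAn hA rfl

/-- A normal subgroup whose order is coprime to the index of `X` lies in `X`. -/
theorem le_of_normal_coprime_index [Finite G] (N X : Subgroup G) [N.Normal]
    (h : (Nat.card N).Coprime X.index) : N ≤ X := by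
  have h1 : X.relIndex (X ⊔ N) ∣ X.index := relIndex_dvd_index_of_le le_sup_left
  have h2 : X.relIndex (X ⊔ N) ∣ Nat.card N := relIndex_sup_dvd_card X N
  have h4 : X.relIndex (X ⊔ N) = 1 := Nat.eq_one_of_dvd_coprimes h h2 h1
  rw [relIndex_eq_one] at h4
  exact le_sup_right.trans h4

/-- Two Hall systems agreeing modulo a normal `r`-subgroup `N` are conjugate under `N`. -/
theorem conj_of_sup_eq [Finite G] [Group.IsSolvable G] {K1 K' : Nat.Primes → Subgroup G}
    (hK1 : IsCS K1) (hK' : IsCS K') (r : ℕ) (hr : r.Prime) (N : Subgroup G) [N.Normal]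
    (hNr : ∃ j : ℕ, Nat.card N = r ^ j) (hsup : ∀ p : Nat.Primes, K' p ⊔ N = K1 p ⊔ N) :
    ∃ n ∈ N, ∀ p : Nat.Primes, K' p = MulAut.conj n • K1 p := by
  obtain ⟨j, hj⟩ := hNr
  set pr : Nat.Primes := ⟨r, hr⟩ with hpr
  have hne : ∀ p : Nat.Primes, p ≠ pr → N ≤ K' p ∧ K' p = K1 p := by
    intro p hp
    have hpr' : (p : ℕ) ≠ r := fun h => hp (Subtype.ext h)
    have hcop : (Nat.card N).Coprime p := by
      rw [hj]
      exact Nat.Coprime.pow_left j ((Nat.coprime_primes hr p.2).mpr (Ne.symm hpr'))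
    have h1 : N ≤ K' p := le_of_normal_coprime N (K' p) hcop (hK' p).2
    have h2 : N ≤ K1 p := le_of_normal_coprime N _ hcop (hK1 p).2
    have h3 := hsup p
    rw [sup_eq_left.mpr h1, sup_eq_left.mpr h2] at h3
    exact ⟨h1, h3⟩
  obtain ⟨hc1, hi1⟩ := hK1 pr
  obtain ⟨hc', hi'⟩ := hK' pr
  change (Nat.card (K1 pr)).Coprime r at hc1
  change ∃ k : ℕ, (K1 pr).index = r ^ k at hi1
  change (Nat.card (K' pr)).Coprime r at hc'
  change ∃ k : ℕ, (K' pr).index = r ^ k at hi'
  set X := K1 pr with hX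
  have hcardeq : Nat.card X = Nat.card (K' pr) := card_eq_of_isCS hr hc1 hc' hi1 hi'
  have hY : Nat.card (X ⊔ N : Subgroup G) = Nat.card X * X.relIndex (X ⊔ N) :=
    (card_mul_relIndex le_sup_left).symm
  obtain ⟨i, hi⟩ : ∃ i : ℕ, X.relIndex (X ⊔ N) = r ^ i :=
    ppow_of_dvd hr (relIndex_sup_dvd_card X N) ⟨j, hj⟩
  have hcop : (Nat.card X).Coprime (X.relIndex (X ⊔ N)) := by
    rw [hi]; exact Nat.Coprime.pow_right i hc1
  have hX'Y : K' pr ≤ X ⊔ N := by
    rw [← hsup pr]; exact le_sup_left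
  obtain ⟨y, hyY, hy⟩ := hall_conj_in (le_sup_left : X ≤ X ⊔ N) hX'Y _ _ hY hcop rfl hcardeq.symm
  rw [sup_comm] at hyY
  obtain ⟨n, hn, x, hx, rfl⟩ := mem_sup_of_normal_left.mp hyY
  have hnx : MulAut.conj n • X = K' pr := by
    rw [← hy, ← conj_smul_conj_smul, Subgroup.conj_smul_eq_self_of_mem hx]
  refine ⟨n, hn, fun p => ?_⟩
  by_cases hp : p = pr
  · rw [hp]; exact hnx.symm
  · obtain ⟨h1, h2⟩ := hne p hp
    rw [← h2, Subgroup.conj_smul_eq_self_of_mem (h1 hn)]

/-- Refined conjugacy: Hall systems agreeing modulo a normal subgroup `A` are conjugate under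
`A`. -/
def ConjSysRel (H : Type u) [Group H] : Prop :=
  ∀ (A : Subgroup H) (_ : A.Normal) (K K' : Nat.Primes → Subgroup H), IsCS K → IsCS K' →
    (∀ p : Nat.Primes, K' p ⊔ A = K p ⊔ A) →
    ∃ a ∈ A, ∀ p : Nat.Primes, K' p = MulAut.conj a • K p

theorem conjSysRel_step [Finite G] [Group.IsSolvable G]
    (ih : ∀ (H : Type u) [Group H] [Finite H] [Group.IsSolvable H],
      Nat.card H < Nat.card G → ConjSysRel H) : ConjSysRel G := by
  intro A hAn K K' hK hK' hA
  by_cases hAbot : A = ⊥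
  · refine ⟨1, A.one_mem, fun p => ?_⟩
    have := hA p
    rw [hAbot, sup_bot_eq, sup_bot_eq] at this
    rw [this, map_one, one_smul]
  obtain ⟨N, hNn, hNbot, hNA, hNmin⟩ := exists_minimal_normal_le A hAbot
  obtain ⟨-, r, hr, hNexp⟩ := Cfsg.Agent.S0043.result N hNbot hNmin
  have hNr : IsPGroup r N := isPGroup_of_forall_pow_eq_one N hNexp
  have : Fact r.Prime := ⟨hr⟩
  obtain ⟨j, hj⟩ := IsPGroup.iff_card.mp hNr
  have hsurj := QuotientGroup.mk'_surjective N
  have hAqn : (A.map (QuotientGroup.mk' N)).Normal := Subgroup.Normal.map hAn _ hsurj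
  obtain ⟨aq, haq, hgq⟩ := ih (G ⧸ N) (card_quotient_lt N hNbot) (A.map (QuotientGroup.mk' N)) hAqn
    (fun p => (K p).map (QuotientGroup.mk' N)) (fun p => (K' p).map (QuotientGroup.mk' N))
    (hK.map _ hsurj) (hK'.map _ hsurj)
    (fun p => by
      show (K' p).map (QuotientGroup.mk' N) ⊔ A.map (QuotientGroup.mk' N) =
        (K p).map (QuotientGroup.mk' N) ⊔ A.map (QuotientGroup.mk' N)
      rw [← Subgroup.map_sup, ← Subgroup.map_sup, hA p])
  obtain ⟨a, haA, rfl⟩ := Subgroup.mem_map.mp haq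
  have hK1 : IsCS (fun p => MulAut.conj a • K p) := hK.conj a
  have hsup : ∀ p : Nat.Primes, K' p ⊔ N = (MulAut.conj a • K p) ⊔ N := by
    intro p
    have h1 := hgq p
    change (K' p).map (QuotientGroup.mk' N) =
      MulAut.conj ((QuotientGroup.mk' N) a) • (K p).map (QuotientGroup.mk' N) at h1
    rw [← map_conj_smul] at h1
    have h2 := congrArg (Subgroup.comap (QuotientGroup.mk' N)) h1
    rwa [Subgroup.comap_map_eq, Subgroup.comap_map_eq, QuotientGroup.ker_mk'] at h2
  obtain ⟨n, hn, hnK⟩ := conj_of_sup_eq hK1 hK' r hr N ⟨j, hj⟩ hsup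
  refine ⟨n * a, A.mul_mem (hNA hn) haA, fun p => ?_⟩
  rw [← conj_smul_conj_smul]
  exact hnK p

theorem conjSysRel_aux : ∀ (n : ℕ) (G : Type u) [Group G] [Finite G] [Group.IsSolvable G],
    Nat.card G = n → ConjSysRel G := by
  intro n
  induction n using Nat.strong_induction_on with
  | _ n ih =>
  intro G _ _ _ hn
  apply conjSysRel_step
  intro H _ _ _ hlt
  exact ih (Nat.card H) (hn ▸ hlt) H rfl

theorem conj_systems_rel [Finite G] [Group.IsSolvable G] (A : Subgroup G) [hA : A.Normal]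
    {K K' : Nat.Primes → Subgroup G} (hK : IsCS K) (hK' : IsCS K')
    (h : ∀ p : Nat.Primes, K' p ⊔ A = K p ⊔ A) :
    ∃ a ∈ A, ∀ p : Nat.Primes, K' p = MulAut.conj a • K p :=
  conjSysRel_aux _ G rfl A hA K K' hK hK' h

/-- **Covering**: the system normalizer covers every central factor. -/
theorem cover_of_central [Finite G] [Group.IsSolvable G] {K : Nat.Primes → Subgroup G}
    (hK : IsCS K) (A B : Subgroup G) [A.Normal] (hc : ⁅B, (⊤ : Subgroup G)⁆ ≤ A) :
    B ≤ A ⊔ Cfsg.systemNormalizer K := by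
  intro b hb
  have hcomm : ∀ x : G, b * x * b⁻¹ * x⁻¹ ∈ A := fun x =>
    hc (Subgroup.commutator_mem_commutator hb (Subgroup.mem_top x))
  have hsup : ∀ p : Nat.Primes, (MulAut.conj b • K p) ⊔ A = K p ⊔ A := by
    intro p
    apply le_antisymm
    · apply sup_le _ le_sup_right
      intro y hy
      rw [mem_conj_smul] at hy
      have e : y = (b * (b⁻¹ * y * b) * b⁻¹ * (b⁻¹ * y * b)⁻¹) * (b⁻¹ * y * b) := by group
      rw [e, sup_comm]
      exact Subgroup.mul_mem_sup (hcomm _) hy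
    · apply sup_le _ le_sup_right
      intro x hx
      have e : x = (b * x * b⁻¹ * x⁻¹)⁻¹ * (b * x * b⁻¹) := by group
      rw [e, sup_comm]
      exact Subgroup.mul_mem_sup (A.inv_mem (hcomm x)) (conj_mem_conj_smul hx)
  obtain ⟨a, ha, hab⟩ := conj_systems_rel A hK (hK.conj b) hsup
  have hd : a⁻¹ * b ∈ Cfsg.systemNormalizer K := by
    rw [mem_systemNormalizer]
    intro p
    rw [mem_normalizer_iff_conj_smul_eq, ← conj_smul_conj_smul]
    have := hab p
    change MulAut.conj b • K p = MulAut.conj a • K p at this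
    rw [this, conj_smul_conj_smul, inv_mul_cancel, map_one, one_smul]
  have e : b = a * (a⁻¹ * b) := by group
  rw [e]
  exact Subgroup.mul_mem_sup ha hd

/-- **Avoidance** for a minimal normal subgroup: the system normalizer meets a non-central minimal
normal subgroup trivially. -/
theorem avoid_minimal_normal [Finite G] [Group.IsSolvable G] {K : Nat.Primes → Subgroup G}
    (hK : IsCS K) (B : Subgroup G) [hBn : B.Normal] (hB : B ≠ ⊥)
    (hmin : ∀ M : Subgroup G, M.Normal → M ≤ B → M = ⊥ ∨ M = B)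
    (hnc : ¬ B ≤ center G) : B ⊓ Cfsg.systemNormalizer K = ⊥ := by
  obtain ⟨-, r, hr, hBexp⟩ := Cfsg.Agent.S0043.result B hB hmin
  have : Fact r.Prime := ⟨hr⟩
  have hBr : IsPGroup r B := isPGroup_of_forall_pow_eq_one B hBexp
  obtain ⟨j, hj⟩ := IsPGroup.iff_card.mp hBr
  set pr : Nat.Primes := ⟨r, hr⟩ with hpr
  obtain ⟨hSc, hSi⟩ := hK pr
  change (Nat.card (K pr)).Coprime r at hSc
  change ∃ k : ℕ, (K pr).index = r ^ k at hSi
  set S := K pr with hS
  set C := centralizer (B : Set G) with hC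
  have hCn : C.Normal := inferInstance
  have hCtop : C ≠ ⊤ := by
    intro h
    apply hnc
    rw [hC, centralizer_eq_top_iff_subset] at h
    exact h
  have hsurj := QuotientGroup.mk'_surjective C
  have hnt : (⊤ : Subgroup (G ⧸ C)) ≠ ⊥ := by
    intro h
    apply hCtop
    have h1 := congrArg (Subgroup.comap (QuotientGroup.mk' C)) h
    rw [Subgroup.comap_top, MonoidHom.comap_bot, QuotientGroup.ker_mk'] at h1
    exact h1.symm
  obtain ⟨Mq, hMqn, hMqbot, -, hMqmin⟩ := exists_minimal_normal_le (⊤ : Subgroup (G ⧸ C)) hnt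
  obtain ⟨-, q, hq, hMqexp⟩ := Cfsg.Agent.S0043.result Mq hMqbot hMqmin
  have : Fact q.Prime := ⟨hq⟩
  have hMqq : IsPGroup q Mq := isPGroup_of_forall_pow_eq_one Mq hMqexp
  obtain ⟨i, hi⟩ := IsPGroup.iff_card.mp hMqq
  set M := Mq.comap (QuotientGroup.mk' C) with hM
  have hMn : M.Normal := Subgroup.Normal.comap hMqn _
  have hMC : ¬ M ≤ C := by
    intro h
    apply hMqbot
    have h1 : Mq = M.map (QuotientGroup.mk' C) :=
      (Subgroup.map_comap_eq_self_of_surjective hsurj Mq).symm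
    rw [h1, Subgroup.map_eq_bot_iff, QuotientGroup.ker_mk']
    exact h
  have hBM : B ⊓ centralizer (M : Set G) = ⊥ := by
    have hn : (B ⊓ centralizer (M : Set G)).Normal := inferInstance
    rcases hmin _ hn inf_le_left with h | h
    · exact h
    · exfalso
      apply hMC
      have h1 : B ≤ centralizer (M : Set G) := inf_eq_left.mp h
      exact le_centralizer_iff.mp h1
  have key : ∀ (Y : Subgroup G) (x : G), M ≤ Y ⊔ C → x ∈ B → (∀ y ∈ Y, y * x = x * y) →
      x = 1 := by
    intro Y x hMY hxB hxY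
    have h1 : Y ≤ centralizer ({x} : Set G) := fun y hy => by
      rw [mem_centralizer_singleton_iff]; exact hxY y hy
    have h2 : C ≤ centralizer ({x} : Set G) := fun c hc => by
      rw [mem_centralizer_singleton_iff]
      exact (mem_centralizer_iff.mp hc x hxB).symm
    have h3 : x ∈ B ⊓ centralizer (M : Set G) := by
      refine mem_inf.mpr ⟨hxB, ?_⟩
      rw [mem_centralizer_iff]
      intro m hm
      have := (sup_le h1 h2) (hMY hm)
      rw [mem_centralizer_singleton_iff] at this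
      exact this
    rw [hBM, mem_bot] at h3
    exact h3
  have hlift : ∀ Y : Subgroup G, (Nat.card Mq).Coprime Y.index → M ≤ Y ⊔ C := by
    intro Y hY
    have h1 : Mq ≤ Y.map (QuotientGroup.mk' C) :=
      le_of_normal_coprime_index Mq _
        (Nat.Coprime.coprime_dvd_right (Y.index_map_dvd hsurj) hY)
    have h2 := Subgroup.comap_mono (f := QuotientGroup.mk' C) h1
    rwa [Subgroup.comap_map_eq, QuotientGroup.ker_mk'] at h2
  by_cases hqr : q = r
  · -- a normal `r`-subgroup acting on the `r`-group `B` fixes a nontrivial element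
    exfalso
    let P : Sylow r G := default
    have hPidx : ((P : Subgroup G).index).Coprime r := by
      rw [Nat.coprime_comm, Nat.Prime.coprime_iff_not_dvd hr]
      exact P.not_dvd_index
    have hMY : M ≤ (P : Subgroup G) ⊔ C := by
      apply hlift
      rw [hi, hqr]
      exact Nat.Coprime.pow_left i hPidx.symm
    have hPB : (P : Subgroup G) ≤ normalizer (B : Set G) := by
      rw [normalizer_eq_top]; exact le_top
    obtain ⟨u, huB, hu1, huP⟩ :=
      Cfsg.Agent.Helper53.exists_fixed_of_normalizes B (P : Subgroup G) hBr P.isPGroup' hPB hB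
    exact hu1 (key _ u hMY huB huP)
  · have hMY : M ≤ S ⊔ C := by
      apply hlift
      obtain ⟨k, hk⟩ := hSi
      rw [hi, hk]
      exact Nat.Coprime.pow _ _ ((Nat.coprime_primes hq hr).mpr hqr)
    have hBS : B ⊓ S = ⊥ := by
      apply disjoint_iff.mp
      apply Subgroup.disjoint_of_coprime_natCard
      rw [hj]
      exact Nat.Coprime.pow_left j hSc.symm
    rw [eq_bot_iff]
    intro x hx
    obtain ⟨hxB, hxD⟩ := mem_inf.mp hx
    have hxS : x ∈ normalizer (S : Set G) := mem_systemNormalizer.mp hxD pr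
    rw [mem_bot]
    apply key S x hMY hxB
    intro s hs
    have h1 : x * s * x⁻¹ ∈ S := (mem_normalizer_iff.mp hxS s).mp hs
    have h2 : x * s * x⁻¹ * s⁻¹ ∈ S := S.mul_mem h1 (S.inv_mem hs)
    have h3 : x * s * x⁻¹ * s⁻¹ ∈ B := by
      have h4 : s * x⁻¹ * s⁻¹ ∈ B := hBn.conj_mem _ (B.inv_mem hxB) s
      have := B.mul_mem hxB h4
      simpa [mul_assoc] using this
    have h4 : x * s * x⁻¹ * s⁻¹ = 1 := by
      have : x * s * x⁻¹ * s⁻¹ ∈ B ⊓ S := mem_inf.mpr ⟨h3, h2⟩
      rwa [hBS, mem_bot] at this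
    calc s * x = (x * s * x⁻¹ * s⁻¹)⁻¹ * (x * s) := by group
      _ = x * s := by rw [h4, inv_one, one_mul]

/-- **Avoidance**: the system normalizer avoids every eccentric chief factor. -/
theorem avoid_of_eccentric [Finite G] [Group.IsSolvable G] {K : Nat.Primes → Subgroup G}
    (hK : IsCS K) (A B : Subgroup G) [hAn : A.Normal] [hBn : B.Normal] (hAB : A < B)
    (hchief : ∀ N : Subgroup G, N.Normal → A ≤ N → N ≤ B → N = A ∨ N = B)
    (hecc : ¬ ⁅B, (⊤ : Subgroup G)⁆ ≤ A) : B ⊓ Cfsg.systemNormalizer K ≤ A := by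
  have hsurj := QuotientGroup.mk'_surjective A
  have hker : (QuotientGroup.mk' A).ker = A := QuotientGroup.ker_mk' A
  have hBqn : (B.map (QuotientGroup.mk' A)).Normal := Subgroup.Normal.map hBn _ hsurj
  have hBq : B.map (QuotientGroup.mk' A) ≠ ⊥ := by
    intro h
    rw [Subgroup.map_eq_bot_iff, hker] at h
    exact not_le_of_gt hAB h
  have hmin : ∀ M : Subgroup (G ⧸ A), M.Normal → M ≤ B.map (QuotientGroup.mk' A) →
      M = ⊥ ∨ M = B.map (QuotientGroup.mk' A) := by
    intro M hMn hMB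
    have h1 : M = (M.comap (QuotientGroup.mk' A)).map (QuotientGroup.mk' A) :=
      (Subgroup.map_comap_eq_self_of_surjective hsurj M).symm
    have h2 : A ≤ M.comap (QuotientGroup.mk' A) :=
      hker.symm.le.trans (MonoidHom.ker_le_comap _ _)
    have h3 : M.comap (QuotientGroup.mk' A) ≤ B := by
      have := Subgroup.comap_mono (f := QuotientGroup.mk' A) hMB
      rwa [Subgroup.comap_map_eq, hker, sup_eq_left.mpr hAB.le] at this
    rcases hchief _ (Subgroup.Normal.comap hMn _) h2 h3 with h | h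
    · left
      rw [h1, h, Subgroup.map_eq_bot_iff, hker]
    · right
      rw [h1, h]
  have hnc : ¬ B.map (QuotientGroup.mk' A) ≤ center (G ⧸ A) := by
    intro h
    apply hecc
    rw [Subgroup.commutator_le]
    intro b hb g _
    have h1 : (QuotientGroup.mk' A) b ∈ center (G ⧸ A) := h (Subgroup.mem_map_of_mem _ hb)
    apply hker.le
    rw [MonoidHom.mem_ker, map_commutatorElement, commutatorElement_eq_one_iff_mul_comm]
    exact (Subgroup.mem_center_iff.mp h1 _).symm
  have h1 := avoid_minimal_normal (hK.map (QuotientGroup.mk' A) hsurj)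
    (B.map (QuotientGroup.mk' A)) hBq hmin hnc
  intro x hx
  obtain ⟨hxB, hxD⟩ := mem_inf.mp hx
  have h2 : (QuotientGroup.mk' A) x ∈ B.map (QuotientGroup.mk' A) ⊓
      Cfsg.systemNormalizer (fun p => (K p).map (QuotientGroup.mk' A)) :=
    mem_inf.mpr ⟨Subgroup.mem_map_of_mem _ hxB, map_mem_systemNormalizer _ hxD⟩
  rw [h1, mem_bot] at h2
  exact hker.le ((MonoidHom.mem_ker).mpr h2)

/-- S0568. -/
theorem cover_avoid [Finite G] [Group.IsSolvable G] (K : Nat.Primes → Subgroup G)
    (hK : Cfsg.IsComplementSystem K) (A B : Subgroup G) [A.Normal] [B.Normal] (hAB : A < B)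
    (hchief : ∀ N : Subgroup G, N.Normal → A ≤ N → N ≤ B → N = A ∨ N = B) :
    (⁅B, (⊤ : Subgroup G)⁆ ≤ A → B ≤ A ⊔ Cfsg.systemNormalizer K) ∧
      (¬ ⁅B, (⊤ : Subgroup G)⁆ ≤ A → B ⊓ Cfsg.systemNormalizer K ≤ A) :=
  ⟨fun h => cover_of_central (isCS_of_isComplementSystem hK) A B h,
    fun h => avoid_of_eccentric (isCS_of_isComplementSystem hK) A B hAB hchief h⟩

end Cfsg.Agent.Helper1.SysNorm
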