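import Mathlib
import Cfsg.Agent.Lib.Helper1.Basic

set_option autoImplicit false

/-! Bridge from an external action `[MulDistribMulAction A G]` to subgroups of the semidirect product. -/

namespace Cfsg.Agent.Helper1.ExtAction

open Subgroup
open scoped Pointwise

variable (G A : Type*) [Group G] [Group A] [MulDistribMulAction A G]

/-- The semidirect product `G ⋊ A` of an external action. -/
abbrev Sd := G ⋊[MulDistribMulAction.toMulAut A G] A

/-- The image of `G` in the semidirect product. -/
def Kr : Subgroup (Sd G A) := (SemidirectProduct.inl : G →* Sd G A).range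

/-- The image of `A` in the semidirect product. -/
def Ar : Subgroup (Sd G A) := (SemidirectProduct.inr : A →* Sd G A).range

variable {G A}

theorem inl_smul (a : A) (g : G) :
    (SemidirectProduct.inl (a • g) : Sd G A) =
      SemidirectProduct.inr a * SemidirectProduct.inl g * (SemidirectProduct.inr a)⁻¹ := by
  have := SemidirectProduct.inl_aut (φ := MulDistribMulAction.toMulAut A G) a g
  rw [map_inv] at this
  exact this

instance Kr_normal : (Kr G A).Normal := by
  unfold Kr
  rw [SemidirectProduct.range_inl_eq_ker_rightHom]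
  infer_instance

theorem Ar_le_normalizer : Ar G A ≤ normalizer ((Kr G A : Subgroup (Sd G A)) : Set (Sd G A)) := by
  rw [Subgroup.normalizer_eq_top]; exact le_top

/-- `G ≃* Kr`. -/
noncomputable def equivKr : G ≃* Kr G A :=
  MonoidHom.ofInjective (f := (SemidirectProduct.inl : G →* Sd G A)) SemidirectProduct.inl_injective

theorem card_Kr : Nat.card (Kr G A) = Nat.card G := (Nat.card_congr (equivKr (G := G) (A := A)).toEquiv).symm

theorem card_Ar : Nat.card (Ar G A) = Nat.card A :=
  (Nat.card_congr (MonoidHom.ofInjective (f := (SemidirectProduct.inr : A →* Sd G A))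
    SemidirectProduct.inr_injective).toEquiv).symm

theorem inl_mem_centralizer_iff (g : G) :
    (SemidirectProduct.inl g : Sd G A) ∈ centralizer ((Ar G A : Subgroup (Sd G A)) : Set (Sd G A)) ↔
      g ∈ MulAction.fixedPoints A G := by
  rw [Subgroup.mem_centralizer_iff, MulAction.mem_fixedPoints]
  constructor
  · intro h a
    have h1 := h (SemidirectProduct.inr a) ⟨a, rfl⟩
    have h2 := inl_smul a g
    rw [h1, mul_assoc, mul_inv_cancel, mul_one] at h2
    exact SemidirectProduct.inl_injective h2
  · rintro h _ ⟨a, rfl⟩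
    have h2 := inl_smul a g
    rw [h a] at h2
    calc (SemidirectProduct.inr a : Sd G A) * SemidirectProduct.inl g
        = (SemidirectProduct.inr a * SemidirectProduct.inl g * (SemidirectProduct.inr a)⁻¹) *
          SemidirectProduct.inr a := by group
      _ = SemidirectProduct.inl g * SemidirectProduct.inr a := by rw [← h2]

open scoped commutatorElement in
/-- The image of `[G, A]` (generated by `g⁻¹ * a • g`) is the commutator `[Kr, Ar]`. -/
theorem map_closure_eq_commutator :
    (Subgroup.closure {y : G | ∃ (a : A) (g : G), y = g⁻¹ * a • g}).map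
      (SemidirectProduct.inl : G →* Sd G A) = ⁅Kr G A, Ar G A⁆ := by
  apply le_antisymm
  · rw [Subgroup.map_le_iff_le_comap, Subgroup.closure_le]
    rintro _ ⟨a, g, rfl⟩
    rw [SetLike.mem_coe, Subgroup.mem_comap, map_mul, map_inv, inl_smul]
    have h1 : ⁅(SemidirectProduct.inl g⁻¹ : Sd G A), (SemidirectProduct.inr a : Sd G A)⁆ ∈ ⁅Kr G A, Ar G A⁆ :=
      Subgroup.commutator_mem_commutator ⟨g⁻¹, rfl⟩ ⟨a, rfl⟩
    have h2 : ⁅(SemidirectProduct.inl g⁻¹ : Sd G A), (SemidirectProduct.inr a : Sd G A)⁆ =
        (SemidirectProduct.inl g)⁻¹ * (SemidirectProduct.inr a * SemidirectProduct.inl g *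
          (SemidirectProduct.inr a)⁻¹) := by
      rw [commutatorElement_def, map_inv]; group
    rw [← h2]; exact h1
  · rw [Subgroup.commutator_le]
    rintro _ ⟨g, rfl⟩ _ ⟨a, rfl⟩
    refine ⟨(g⁻¹)⁻¹ * a • g⁻¹, Subgroup.subset_closure ⟨a, g⁻¹, rfl⟩, ?_⟩
    rw [map_mul, inl_smul, commutatorElement_def, map_inv, map_inv]
    group

end Cfsg.Agent.Helper1.ExtAction
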