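import Mathlib
import Cfsg.Agent.Lib.Helper1.Basic
import Cfsg.Agent.Lib.Helper1.Compl
import Cfsg.Agent.Lib.Helper1.SZ
import Cfsg.Agent.Lib.Helper1.Coprime
import Cfsg.Agent.Lib.Helper1.Carter
import Cfsg.Agent.S0040
import Cfsg.Agent.S0041

set_option autoImplicit false

namespace Cfsg.Agent.Helper1.ZCoprime

open Subgroup
open scoped Pointwise

/-- Coprime action on an abelian group: a fixed point lying in `[M, A]` is trivial (norm map). -/
theorem eq_one_of_fixed_of_mem_closure {M A : Type*} [CommGroup M] [Finite M] [Group A] [Finite A]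
    [MulDistribMulAction A M] (hcop : (Nat.card A).Coprime (Nat.card M)) (m : M)
    (hfix : ∀ a : A, a • m = m)
    (hm : m ∈ Subgroup.closure {y : M | ∃ (a : A) (x : M), y = a • x * x⁻¹}) : m = 1 := by
  classical
  have : Fintype A := Fintype.ofFinite A
  let ν : M →* M := ∏ a : A, MulDistribMulAction.toMonoidHom M a
  have hν : ∀ x : M, ν x = ∏ a : A, a • x := by
    intro x
    simp only [ν, MonoidHom.finsetProd_apply, MulDistribMulAction.toMonoidHom_apply]
  have hνsmul : ∀ (b : A) (x : M), ν (b • x) = ν x := by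
    intro b x
    rw [hν, hν]
    apply Fintype.prod_equiv (Equiv.mulRight b)
    intro a
    simp [mul_smul]
  have hker : Subgroup.closure {y : M | ∃ (a : A) (x : M), y = a • x * x⁻¹} ≤ ν.ker := by
    rw [Subgroup.closure_le]
    rintro _ ⟨a, x, rfl⟩
    rw [SetLike.mem_coe, MonoidHom.mem_ker, map_mul, map_inv, hνsmul, mul_inv_cancel]
  have h1 : ν m = 1 := hker hm
  have h2 : ν m = m ^ Nat.card A := by
    rw [hν]
    simp only [hfix, Finset.prod_const, Finset.card_univ, Nat.card_eq_fintype_card]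
  rw [h2] at h1
  have h3 : orderOf m ∣ Nat.card A := orderOf_dvd_of_pow_eq_one h1
  have h4 : orderOf m ∣ Nat.card M := orderOf_dvd_natCard m
  have h5 : orderOf m = 1 := Nat.eq_one_of_dvd_coprimes hcop h3 h4
  exact orderOf_eq_one_iff.mp h5

open scoped IsMulCommutative in
/-- Internal form: for an abelian subgroup `N` normalised by `A` of coprime order,
`[N, A] ∩ C(A) = 1`. -/
theorem commutator_inf_centralizer_eq_bot {Γ : Type*} [Group Γ] [Finite Γ] (A N : Subgroup Γ)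
    [IsMulCommutative N] (hAN : A ≤ normalizer (N : Set Γ))
    (hcop : (Nat.card A).Coprime (Nat.card N)) :
    ⁅N, A⁆ ⊓ centralizer (A : Set Γ) = ⊥ := by
  let act : MulDistribMulAction A N := Cfsg.Agent.S0041.conjAction A N hAN
  have hsmul : ∀ (a : A) (v : N), ((a • v : N) : Γ) = (a : Γ) * (v : Γ) * (a : Γ)⁻¹ := fun _ _ => rfl
  rw [eq_bot_iff]
  intro x hx
  obtain ⟨hx1, hx2⟩ := Subgroup.mem_inf.mp hx
  have hle : ⁅N, A⁆ ≤ N := commutator_le_of_le_normalizer hAN
  have hxN : x ∈ N := hle hx1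
  -- `[N, A]` is the image of the closure in `N`
  have hcl : ⁅N, A⁆ ≤ (Subgroup.closure {y : N | ∃ (a : A) (z : N), y = a • z * z⁻¹}).map N.subtype := by
    rw [Subgroup.commutator_le]
    intro n hn a ha
    refine ⟨(⟨a, ha⟩ : A) • (⟨n, hn⟩ : N)⁻¹ * ((⟨n, hn⟩ : N)⁻¹)⁻¹, Subgroup.subset_closure ⟨_, _, rfl⟩, ?_⟩
    rw [Subgroup.coe_subtype, Subgroup.coe_mul, hsmul, commutatorElement_def]
    simp only [Subgroup.coe_inv, inv_inv]
    have hcomm : (a * n⁻¹ * a⁻¹) * n = n * (a * n⁻¹ * a⁻¹) := by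
      have h1 : a * n⁻¹ * a⁻¹ ∈ N :=
        (Subgroup.mem_normalizer_iff.mp (hAN ha) n⁻¹).mp (N.inv_mem hn)
      have := mul_comm (⟨a * n⁻¹ * a⁻¹, h1⟩ : N) ⟨n, hn⟩
      exact congrArg Subtype.val this
    rw [hcomm]; group
  obtain ⟨x', hx', hxx'⟩ := hcl hx1
  have hfix : ∀ a : A, a • x' = x' := by
    intro a
    apply Subtype.ext
    rw [hsmul]
    have hx'' : (x' : Γ) = x := hxx'
    rw [hx'']
    rw [Subgroup.mem_centralizer_iff] at hx2
    have := hx2 a a.2
    calc (a : Γ) * x * (a : Γ)⁻¹ = x * a * (a : Γ)⁻¹ := by rw [this]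
      _ = x := by group
  have := eq_one_of_fixed_of_mem_closure hcop x' hfix hx'
  rw [Subgroup.mem_bot, ← hxx', this]
  rfl

open scoped commutatorElement in
/-- If `x` and `y` (and their inverses) conjugate `d` into powers of `d`, then `[x, y]` centralises `d`. -/
theorem commutator_commute_of_zpowers {Γ : Type*} [Group Γ] {d x y : Γ} {i i' j j' : ℤ}
    (hx : x * d * x⁻¹ = d ^ i) (hx' : x⁻¹ * d * x = d ^ i')
    (hy : y * d * y⁻¹ = d ^ j) (hy' : y⁻¹ * d * y = d ^ j') :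
    ⁅x, y⁆ * d * ⁅x, y⁆⁻¹ = d := by
  have hc : ∀ (g b : Γ) (k : ℤ), g * b ^ k * g⁻¹ = (g * b * g⁻¹) ^ k := fun g b k => conj_zpow.symm
  have e1 : d ^ (i' * i) = d := by
    have : x * (x⁻¹ * d * x) * x⁻¹ = d := by group
    rw [hx', hc, hx, ← zpow_mul] at this
    rw [mul_comm]; exact this
  have e2 : d ^ (j' * j) = d := by
    have : y * (y⁻¹ * d * y) * y⁻¹ = d := by group
    rw [hy', hc, hy, ← zpow_mul] at this
    rw [mul_comm]; exact this
  have hx'' : x⁻¹ * d * x⁻¹⁻¹ = d ^ i' := by rw [inv_inv]; exact hx'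
  calc ⁅x, y⁆ * d * ⁅x, y⁆⁻¹
      = x * (y * (x⁻¹ * (y⁻¹ * d * y) * x⁻¹⁻¹) * y⁻¹) * x⁻¹ := by
        rw [commutatorElement_def]; group
    _ = x * (y * (x⁻¹ * d ^ j' * x⁻¹⁻¹) * y⁻¹) * x⁻¹ := by rw [hy']
    _ = x * (y * (d ^ i') ^ j' * y⁻¹) * x⁻¹ := by rw [hc x⁻¹, hx'']
    _ = x * ((d ^ j) ^ i') ^ j' * x⁻¹ := by rw [hc y, hc y, hy]
    _ = (((d ^ i) ^ j) ^ i') ^ j' := by rw [hc x, hc x, hc x, hx]
    _ = (d ^ (i' * i)) ^ (j' * j) := by
        rw [← zpow_mul, ← zpow_mul, ← zpow_mul, ← zpow_mul]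
        congr 1; ring
    _ = d := by rw [e1, e2]

theorem mem_normalizer_commutator_self {Γ : Type*} [Group Γ] {H : Subgroup Γ} {x : Γ}
    (hH : x ∈ normalizer (H : Set Γ)) : x ∈ normalizer ((⁅H, H⁆ : Subgroup Γ) : Set Γ) := by
  rw [Carter.mem_normalizer_iff_conj_smul_eq] at hH ⊢
  have e : ∀ S : Subgroup Γ, MulAut.conj x • S = S.map (MulAut.conj x).toMonoidHom := fun S => rfl
  rw [e] at hH ⊢
  rw [Subgroup.map_commutator, hH]

open scoped commutatorElement in
/-- Coprime action on a Z-group: `[K, A]` is cyclic. -/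
theorem isCyclic_commutator_of_isZGroup {Γ : Type*} [Group Γ] [Finite Γ] (A K : Subgroup Γ)
    (hAK : A ≤ normalizer (K : Set Γ)) (hcop : (Nat.card A).Coprime (Nat.card K)) [IsZGroup K] :
    IsCyclic (⁅K, A⁆ : Subgroup Γ) := by
  have hsolvK : Group.IsSolvable K := inferInstance
  set N : Subgroup Γ := ⁅K, A⁆ with hN
  have hNK : N ≤ K := commutator_le_of_le_normalizer hAK
  have hNA : ⁅N, A⁆ = N := commutator_commutator_eq A K hAK hcop (Or.inr hsolvK)
  have hAN : A ≤ normalizer (N : Set Γ) := le_normalizer_commutator_right hAK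
  have hZN : IsZGroup N :=
    IsZGroup.of_injective (f := Subgroup.inclusion hNK) (Subgroup.inclusion_injective hNK)
  have hD : (commutator N).map N.subtype = ⁅N, N⁆ := Subgroup.map_subtype_commutator N
  have hcycD : IsCyclic (commutator N) := IsZGroup.isCyclic_commutator N
  obtain ⟨d', hd'⟩ := hcycD.exists_generator
  have hdmem : ((d' : N) : Γ) ∈ ⁅N, N⁆ := by
    rw [← hD]; exact ⟨(d' : N), d'.2, rfl⟩
  have hdD : ∀ y ∈ ⁅N, N⁆, y ∈ zpowers ((d' : N) : Γ) := by
    intro y hy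
    rw [← hD] at hy
    obtain ⟨y', hy', rfl⟩ := hy
    obtain ⟨k, hk⟩ := mem_zpowers_iff.mp (hd' ⟨y', hy'⟩)
    refine mem_zpowers_iff.mpr ⟨k, ?_⟩
    have := congrArg (fun z : commutator N => ((z : N) : Γ)) hk
    simpa using this
  generalize ((d' : N) : Γ) = d at hdmem hdD
  have hnorm : ∀ g ∈ normalizer (N : Set Γ), g * d * g⁻¹ ∈ zpowers d := by
    intro g hg
    apply hdD
    exact (mem_normalizer_iff.mp (mem_normalizer_commutator_self hg) d).mp hdmem
  have hcen : N ≤ centralizer {d} := by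
    rw [← hNA, Subgroup.commutator_le]
    intro x hx a ha
    have hxn : x ∈ normalizer (N : Set Γ) := le_normalizer hx
    have han : a ∈ normalizer (N : Set Γ) := hAN ha
    obtain ⟨i, hi⟩ := mem_zpowers_iff.mp (hnorm x hxn)
    obtain ⟨i', hi'⟩ := mem_zpowers_iff.mp (hnorm x⁻¹ (inv_mem hxn))
    obtain ⟨j, hj⟩ := mem_zpowers_iff.mp (hnorm a han)
    obtain ⟨j', hj'⟩ := mem_zpowers_iff.mp (hnorm a⁻¹ (inv_mem han))
    rw [inv_inv] at hi' hj'
    have h1 := commutator_commute_of_zpowers hi.symm hi'.symm hj.symm hj'.symm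
    rw [mem_centralizer_iff]
    intro y hy
    rw [Set.mem_singleton_iff] at hy
    rw [hy]
    calc d * ⁅x, a⁆ = (⁅x, a⁆ * d * ⁅x, a⁆⁻¹) * ⁅x, a⁆ := by rw [h1]
      _ = ⁅x, a⁆ * d := by group
  have hcc : commutator N ≤ center N := by
    intro y hy
    rw [mem_center_iff]
    intro g
    have hyD : ((y : N) : Γ) ∈ ⁅N, N⁆ := by
      rw [← hD]; exact ⟨y, hy, rfl⟩
    obtain ⟨k, hk⟩ := mem_zpowers_iff.mp (hdD _ hyD)
    have hg := hcen g.2
    rw [mem_centralizer_iff] at hg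
    have hgd : Commute (g : Γ) d := (hg d rfl).symm
    apply Subtype.ext
    rw [Subgroup.coe_mul, Subgroup.coe_mul, ← hk]
    exact (hgd.zpow_right k).eq
  have hcomm : ∀ a b : N, a * b = b * a := fun a b =>
    ((Abelianization.of : N →* Abelianization N).isMulCommutative_of_isCyclic_of_ker_le_center
      (by rw [Abelianization.ker_of]; exact hcc)).is_comm.comm a b
  have hnil : Group.IsNilpotent N := by
    let _ : CommGroup N := { (inferInstance : Group N) with mul_comm := hcomm }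
    exact CommGroup.isNilpotent
  exact inferInstance

/-- Coprime action on a Z-group, internal form. -/
theorem zgroup_coprime {Γ : Type*} [Group Γ] [Finite Γ] (A K : Subgroup Γ)
    (hAK : A ≤ normalizer (K : Set Γ)) (hcop : (Nat.card A).Coprime (Nat.card K)) [IsZGroup K] :
    IsCyclic (⁅K, A⁆ : Subgroup Γ) ∧ ⁅K, A⁆ ⊓ (K ⊓ centralizer (A : Set Γ)) = ⊥ ∧
      ⁅K, A⁆ ⊔ (K ⊓ centralizer (A : Set Γ)) = K ∧
      K ≤ normalizer ((⁅K, A⁆ : Subgroup Γ) : Set Γ) ∧
      Nat.card (⁅K, A⁆ : Subgroup Γ) * Nat.card (K ⊓ centralizer (A : Set Γ) : Subgroup Γ) = Nat.card K ∧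
      (Nat.card (K ⊓ centralizer (A : Set Γ) : Subgroup Γ)).Coprime (Nat.card (⁅K, A⁆ : Subgroup Γ)) := by
  have hsolvK : Group.IsSolvable K := inferInstance
  have hcyc := isCyclic_commutator_of_isZGroup A K hAK hcop
  set N : Subgroup Γ := ⁅K, A⁆ with hN
  set C : Subgroup Γ := K ⊓ centralizer (A : Set Γ) with hC
  have hNK : N ≤ K := commutator_le_of_le_normalizer hAK
  have hNA : ⁅N, A⁆ = N := commutator_commutator_eq A K hAK hcop (Or.inr hsolvK)
  have hAN : A ≤ normalizer (N : Set Γ) := le_normalizer_commutator_right hAK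
  have hKN : K ≤ normalizer (N : Set Γ) := le_normalizer_commutator_left K A
  have hNcomm : IsMulCommutative N := by
    refine ⟨⟨fun a b => ?_⟩⟩
    obtain ⟨g, hg⟩ := hcyc.exists_generator
    obtain ⟨i, hi⟩ := Subgroup.mem_zpowers_iff.mp (hg a)
    obtain ⟨j, hj⟩ := Subgroup.mem_zpowers_iff.mp (hg b)
    rw [← hi, ← hj, ← zpow_add, ← zpow_add, add_comm]
  have hcopN : (Nat.card A).Coprime (Nat.card N) :=
    Nat.Coprime.coprime_dvd_right (Subgroup.card_dvd_of_le hNK) hcop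
  have hbot0 := commutator_inf_centralizer_eq_bot A N hAN hcopN
  rw [hNA] at hbot0
  have hbot : N ⊓ C = ⊥ := by
    rw [eq_bot_iff, ← hbot0]
    exact inf_le_inf_left N inf_le_right
  have hsup : N ⊔ C = K := commutator_sup_centralizer A K hAK hcop (Or.inr hsolvK)
  have hCK : C ≤ K := inf_le_left
  have hcompl := isComplement'_subgroupOf_sup_of_le_normalizer (X := N) (Y := C)
    (hCK.trans hKN) (disjoint_iff.mpr hbot) hsup.symm
  have hcard : Nat.card N * Nat.card C = Nat.card K := by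
    rw [← hcompl.card_mul_card, card_subgroupOf_of_le hNK, card_subgroupOf_of_le hCK]
  refine ⟨hcyc, hbot, hsup, hKN, hcard, ?_⟩
  -- coprimality
  apply Nat.coprime_of_dvd
  intro p hp hpC hpN
  have : Fact p.Prime := ⟨hp⟩
  obtain ⟨c, hc⟩ := exists_prime_orderOf_dvd_card' (G := C) p hpC
  obtain ⟨r, hr⟩ := exists_prime_orderOf_dvd_card' (G := N) p hpN
  have hcord : orderOf (c : Γ) = p := by rw [Subgroup.orderOf_coe]; exact hc
  have hrord : orderOf (r : Γ) = p := by rw [Subgroup.orderOf_coe]; exact hr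
  -- `⟨r⟩` is normalised by `K`
  have hRnorm : K ≤ normalizer ((zpowers (r : Γ) : Subgroup Γ) : Set Γ) := by
    apply le_normalizer_of_conj_smul_le
    intro k hk x hx
    rw [mem_conj_smul] at hx
    obtain ⟨i, hi⟩ := mem_zpowers_iff.mp hx
    -- `x = k r^i k⁻¹ = (k r k⁻¹)^i`
    have hx' : x = (k * r * k⁻¹) ^ i := by rw [conj_zpow, hi]; group
    rw [hx']
    apply Subgroup.zpow_mem
    have hkr : k * r * k⁻¹ ∈ N := (mem_normalizer_iff.mp (hKN hk) r).mp r.2
    have h1 : (⟨k * r * k⁻¹, hkr⟩ : N) ^ p = 1 := by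
      apply Subtype.ext
      rw [Subgroup.coe_pow, Subgroup.coe_one, Subgroup.coe_mk, conj_pow, ← hrord, pow_orderOf_eq_one]
      group
    have h2 := Cfsg.Agent.S0040.mem_zpowers_of_cyclic hp.pos (⟨k * r * k⁻¹, hkr⟩ : N) r h1 hr
    obtain ⟨j, hj⟩ := mem_zpowers_iff.mp h2
    exact mem_zpowers_iff.mpr ⟨j, by simpa using congrArg Subtype.val hj⟩
  have hRp : IsPGroup p (zpowers (r : Γ)) := IsPGroup.of_card (n := 1) (by rw [Nat.card_zpowers, hrord, pow_one])
  have hEp : IsPGroup p (zpowers (c : Γ)) := IsPGroup.of_card (n := 1) (by rw [Nat.card_zpowers, hcord, pow_one])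
  have hEK : zpowers (c : Γ) ≤ K := (zpowers_le).mpr (hCK c.2)
  have hRK : zpowers (r : Γ) ≤ K := (zpowers_le).mpr (hNK r.2)
  have hTp : IsPGroup p (zpowers (c : Γ) ⊔ zpowers (r : Γ) : Subgroup Γ) :=
    IsPGroup.to_sup_of_normal_right' hEp hRp (hEK.trans hRnorm)
  set T : Subgroup Γ := zpowers (c : Γ) ⊔ zpowers (r : Γ) with hT
  have hTK : T ≤ K := sup_le hEK hRK
  have hTp' : IsPGroup p (T.subgroupOf K) := hTp.of_equiv (Subgroup.subgroupOfEquivOfLe hTK).symm
  have hTcyc' : IsCyclic (T.subgroupOf K) := hTp'.isCyclic_of_isZGroup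
  have hTcyc : IsCyclic T := (Subgroup.subgroupOfEquivOfLe hTK).isCyclic.mp hTcyc'
  have hcT : (c : Γ) ∈ T := (le_sup_left : zpowers (c : Γ) ≤ T) (mem_zpowers _)
  have hrT : (r : Γ) ∈ T := (le_sup_right : zpowers (r : Γ) ≤ T) (mem_zpowers _)
  have h3 : (⟨(c : Γ), hcT⟩ : T) ^ p = 1 := by
    apply Subtype.ext
    rw [Subgroup.coe_pow, Subgroup.coe_one, Subgroup.coe_mk, ← hcord, pow_orderOf_eq_one]
  have h4 : orderOf (⟨(r : Γ), hrT⟩ : T) = p := by rw [← hrord]; exact Subgroup.orderOf_mk _ _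
  have h5 := Cfsg.Agent.S0040.mem_zpowers_of_cyclic hp.pos _ _ h3 h4
  obtain ⟨j, hj⟩ := mem_zpowers_iff.mp h5
  have hcN : (c : Γ) ∈ N := by
    have : (r : Γ) ^ j = c := by simpa using congrArg Subtype.val hj
    rw [← this]
    exact N.zpow_mem r.2 j
  have hc1 : (c : Γ) ∈ N ⊓ C := Subgroup.mem_inf.mpr ⟨hcN, c.2⟩
  rw [hbot, Subgroup.mem_bot] at hc1
  rw [hc1, orderOf_one] at hcord
  exact hp.one_lt.ne hcord

end Cfsg.Agent.Helper1.ZCoprime
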