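import Mathlib
import Cfsg.Agent.Lib.Helper1.Coprime
import Cfsg.Agent.Lib.Helper1.ZCoprime

/-!
# Failure of factorization (Glauberman), part A: transvections on an elementary abelian group

Everything is internal to a finite group `G`: `V` is an elementary abelian `p`-subgroup and the
acting elements normalize `V`; the action is conjugation `g * v * g⁻¹` and `⁅g, v⁆ = (g•v) v⁻¹`.
-/

set_option autoImplicit false

namespace Cfsg.Agent.Helper1.FF

open Subgroup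
open scoped commutatorElement

variable {G : Type*} [Group G]

/-- `V` is elementary abelian of exponent `p` (elementwise form). -/
structure EA (p : ℕ) (V : Subgroup G) : Prop where
  comm : ∀ v ∈ V, ∀ w ∈ V, v * w = w * v
  exp : ∀ v ∈ V, v ^ p = 1

theorem conj_mem {V : Subgroup G} {g v : G} (hg : g ∈ normalizer (V : Set G)) (hv : v ∈ V) :
    g * v * g⁻¹ ∈ V := (mem_normalizer_iff.mp hg v).mp hv

theorem conj_mem' {V : Subgroup G} {g v : G} (hg : g ∈ normalizer (V : Set G)) (hv : v ∈ V) :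
    g⁻¹ * v * g ∈ V := by
  have := conj_mem ((normalizer (V : Set G)).inv_mem hg) hv
  simpa using this

theorem comm_mem {V : Subgroup G} {g v : G} (hg : g ∈ normalizer (V : Set G)) (hv : v ∈ V) :
    ⁅g, v⁆ ∈ V := by
  rw [commutatorElement_def]
  exact V.mul_mem (conj_mem hg hv) (V.inv_mem hv)

theorem comm_eq_one_iff {g v : G} : ⁅g, v⁆ = 1 ↔ g * v = v * g := by
  rw [commutatorElement_eq_one_iff_mul_comm]

theorem conj_eq_comm_mul (g v : G) : g * v * g⁻¹ = ⁅g, v⁆ * v := by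
  rw [commutatorElement_def]; group

theorem comm_mul_left (g h v : G) : ⁅g * h, v⁆ = g * ⁅h, v⁆ * g⁻¹ * ⁅g, v⁆ := by
  simp only [commutatorElement_def]; group

theorem comm_inv_left (g v : G) : ⁅g⁻¹, v⁆ = (⁅g, g⁻¹ * v * g⁆)⁻¹ := by
  simp only [commutatorElement_def]; group

namespace EA

variable {p : ℕ} {V : Subgroup G}

theorem comm_mul (hV : EA p V) {g v w : G} (hg : g ∈ normalizer (V : Set G)) (hv : v ∈ V)
    (hw : w ∈ V) : ⁅g, v * w⁆ = ⁅g, v⁆ * ⁅g, w⁆ := by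
  have h1 : g * w * g⁻¹ ∈ V := conj_mem hg hw
  have h2 : (g * w * g⁻¹) * v⁻¹ = v⁻¹ * (g * w * g⁻¹) :=
    hV.comm _ h1 _ (V.inv_mem hv)
  have h3 : w⁻¹ * v⁻¹ = v⁻¹ * w⁻¹ := hV.comm _ (V.inv_mem hw) _ (V.inv_mem hv)
  simp only [commutatorElement_def]
  calc g * (v * w) * g⁻¹ * (v * w)⁻¹ = g * v * g⁻¹ * ((g * w * g⁻¹) * v⁻¹) * w⁻¹ := by
        rw [mul_inv_rev, h3]; group
    _ = g * v * g⁻¹ * v⁻¹ * (g * w * g⁻¹ * w⁻¹) := by rw [h2]; group

theorem comm_one (g : G) : ⁅g, (1 : G)⁆ = 1 := by simp [commutatorElement_def]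

theorem comm_pow (hV : EA p V) {g v : G} (hg : g ∈ normalizer (V : Set G)) (hv : v ∈ V)
    (n : ℕ) : ⁅g, v ^ n⁆ = ⁅g, v⁆ ^ n := by
  induction n with
  | zero => simp [commutatorElement_def]
  | succ n ih => rw [pow_succ, hV.comm_mul hg (V.pow_mem hv n) hv, ih, pow_succ]

theorem comm_inv (hV : EA p V) {g v : G} (hg : g ∈ normalizer (V : Set G)) (hv : v ∈ V) :
    ⁅g, v⁻¹⁆ = ⁅g, v⁆⁻¹ := by
  have h := hV.comm_mul hg hv (V.inv_mem hv)
  rw [mul_inv_cancel, comm_one] at h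
  exact (inv_eq_of_mul_eq_one_right h.symm).symm

theorem comm_zpow (hV : EA p V) {g v : G} (hg : g ∈ normalizer (V : Set G)) (hv : v ∈ V)
    (n : ℤ) : ⁅g, v ^ n⁆ = ⁅g, v⁆ ^ n := by
  cases n with
  | ofNat n => simpa using hV.comm_pow hg hv n
  | negSucc n =>
    rw [zpow_negSucc, zpow_negSucc, hV.comm_inv hg (V.pow_mem hv _), hV.comm_pow hg hv]

theorem mono (hV : EA p V) {W : Subgroup G} (h : W ≤ V) : EA p W :=
  ⟨fun v hv w hw => hV.comm v (h hv) w (h hw), fun v hv => hV.exp v (h hv)⟩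

/-- **Chain lemma.** If `x` centralizes `W` and `⁅x, V⁆ ⊆ W ≤ V` then `x ^ p` centralizes `V`. -/
theorem pow_commute_of_chain (hV : EA p V) {W : Subgroup G} (hWV : W ≤ V) {x : G}
    (hx : ∀ v ∈ V, ⁅x, v⁆ ∈ W) (hxc : ∀ w ∈ W, x * w = w * x) :
    ∀ v ∈ V, x ^ p * v = v * x ^ p := by
  intro v hv
  have key : ∀ n : ℕ, x ^ n * v * (x ^ n)⁻¹ = ⁅x, v⁆ ^ n * v := by
    intro n
    induction n with
    | zero => simp
    | succ n ih =>
      have hc : x * ⁅x, v⁆ ^ n = ⁅x, v⁆ ^ n * x := by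
        have : Commute x ⁅x, v⁆ := hxc _ (hx v hv)
        exact (this.pow_right n)
      calc x ^ (n + 1) * v * (x ^ (n + 1))⁻¹ = x * (x ^ n * v * (x ^ n)⁻¹) * x⁻¹ := by
            rw [pow_succ']; group
        _ = x * (⁅x, v⁆ ^ n * v) * x⁻¹ := by rw [ih]
        _ = (x * ⁅x, v⁆ ^ n) * v * x⁻¹ := by group
        _ = ⁅x, v⁆ ^ n * (x * v * x⁻¹) := by rw [hc]; group
        _ = ⁅x, v⁆ ^ (n + 1) * v := by rw [conj_eq_comm_mul, pow_succ]; group
  have h := key p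
  rw [hV.exp _ (hWV (hx v hv)), one_mul] at h
  calc x ^ p * v = (x ^ p * v * (x ^ p)⁻¹) * x ^ p := by group
    _ = v * x ^ p := by rw [h]

end EA

/-- An element whose `p`-th power centralizes `V` and which has order prime to `p` centralizes `V`. -/
theorem commute_of_pow_of_coprime {p m : ℕ} {V : Subgroup G} {x : G} (hm : m.Coprime p)
    (hxm : x ^ m = 1) (h : ∀ v ∈ V, x ^ p * v = v * x ^ p) : ∀ v ∈ V, x * v = v * x := by
  intro v hv
  have hb := Nat.gcd_eq_gcd_ab m p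
  rw [hm.gcd_eq_one] at hb
  have hx : x = (x ^ p) ^ (Nat.gcdB m p) := by
    have h1 : x = x ^ ((m : ℤ) * Nat.gcdA m p + (p : ℤ) * Nat.gcdB m p) := by
      rw [← hb]; simp
    rw [zpow_add, zpow_mul, zpow_mul, zpow_natCast, zpow_natCast, hxm, one_zpow, one_mul] at h1
    exact h1
  have hc : Commute (x ^ p) v := h v hv
  rw [hx]
  exact (hc.zpow_left _)

/-- In a cyclic group of prime order every nonidentity element generates. -/
theorem mem_zpowers_swap {p : ℕ} [hp : Fact p.Prime] {c e : G} (hc : c ^ p = 1)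
    (he : e ∈ zpowers c) (he1 : e ≠ 1) : c ∈ zpowers e := by
  obtain ⟨k, rfl⟩ := mem_zpowers_iff.mp he
  have hnd : ¬ (p : ℤ) ∣ k := by
    rintro ⟨j, hj⟩
    apply he1
    rw [hj, zpow_mul, zpow_natCast, hc, one_zpow]
  have hcop : IsCoprime (p : ℤ) k :=
    (Nat.prime_iff_prime_int.mp hp.out).coprime_iff_not_dvd.mpr hnd
  obtain ⟨s, t, hst⟩ := hcop
  rw [mem_zpowers_iff]
  refine ⟨t, ?_⟩
  have h1 : c = c ^ (s * (p : ℤ) + t * k) := by rw [hst]; simp
  rw [zpow_add, mul_comm s, zpow_mul, zpow_natCast, hc, one_zpow, one_mul, mul_comm t,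
    zpow_mul] at h1
  exact h1.symm

theorem zpowers_eq_of_mem {p : ℕ} [hp : Fact p.Prime] {c e : G} (hc : c ^ p = 1)
    (he : e ∈ zpowers c) (he1 : e ≠ 1) : zpowers e = zpowers c :=
  le_antisymm (zpowers_le.mpr he) (zpowers_le.mpr (mem_zpowers_swap hc he he1))

theorem commute_zpowers {g c : G} (h : g * c = c * g) : ∀ w ∈ zpowers c, g * w = w * g := by
  intro w hw
  obtain ⟨k, rfl⟩ := mem_zpowers_iff.mp hw
  have : Commute g c := h
  exact this.zpow_right k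

/-- `a` acts on the elementary abelian `V` as a transvection with centre `⟨c⟩`. -/
structure IsTv (p : ℕ) (V : Subgroup G) (a c : G) : Prop where
  hN : a ∈ normalizer (V : Set G)
  hp : a ^ p = 1
  hc : c ∈ V
  him : ∀ v ∈ V, ⁅a, v⁆ ∈ zpowers c
  hac : a * c = c * a
  hne : ∃ v ∈ V, ⁅a, v⁆ ≠ 1

namespace IsTv

variable {p : ℕ} {V : Subgroup G} {a c : G}

theorem c_ne_one (hT : IsTv p V a c) : c ≠ 1 := by
  rintro rfl
  obtain ⟨v, hv, hne⟩ := hT.hne
  have := hT.him v hv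
  rw [zpowers_one_eq_bot, mem_bot] at this
  exact hne this

theorem zpowers_le (hT : IsTv p V a c) : zpowers c ≤ V := Subgroup.zpowers_le.mpr hT.hc

/-- Conjugates of transvections are transvections. -/
theorem conj (hT : IsTv p V a c) {k : G} (hk : k ∈ normalizer (V : Set G)) :
    IsTv p V (k * a * k⁻¹) (k * c * k⁻¹) where
  hN := (normalizer (V : Set G)).mul_mem ((normalizer (V : Set G)).mul_mem hk hT.hN)
    ((normalizer (V : Set G)).inv_mem hk)
  hp := by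
    have : (k * a * k⁻¹) ^ p = k * a ^ p * k⁻¹ := by
      rw [← MulAut.conj_apply, ← map_pow, MulAut.conj_apply]
    rw [this, hT.hp]; group
  hc := conj_mem hk hT.hc
  him := by
    intro v hv
    have h1 : ⁅k * a * k⁻¹, v⁆ = k * ⁅a, k⁻¹ * v * k⁆ * k⁻¹ := by
      simp only [commutatorElement_def]; group
    rw [h1]
    obtain ⟨n, hn⟩ := mem_zpowers_iff.mp (hT.him _ (conj_mem' hk hv))
    rw [← hn, mem_zpowers_iff]
    refine ⟨n, ?_⟩
    rw [← MulAut.conj_apply, ← map_zpow, MulAut.conj_apply]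
  hac := by
    have h := hT.hac
    calc k * a * k⁻¹ * (k * c * k⁻¹) = k * (a * c) * k⁻¹ := by group
      _ = k * (c * a) * k⁻¹ := by rw [h]
      _ = k * c * k⁻¹ * (k * a * k⁻¹) := by group
  hne := by
    obtain ⟨v, hv, hne⟩ := hT.hne
    refine ⟨k * v * k⁻¹, conj_mem hk hv, ?_⟩
    have h1 : ⁅k * a * k⁻¹, k * v * k⁻¹⁆ = k * ⁅a, v⁆ * k⁻¹ := by
      simp only [commutatorElement_def]; group
    rw [h1]
    intro h
    apply hne
    have : ⁅a, v⁆ = k⁻¹ * (k * ⁅a, v⁆ * k⁻¹) * k := by group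
    rw [this, h]; group

end IsTv

/-- **Pair lemma.** Let `a` be a transvection with centre `c`, `b = x a x⁻¹` a conjugate with centre
`d = x c x⁻¹`, and suppose `y = a⁻¹ b` has order prime to `p` and acts faithfully.  If `y ≠ 1` then
`a` does not centralize `d`. -/
theorem pair_lemma {p : ℕ} {V : Subgroup G} (hV : EA p V) {a c : G} (hT : IsTv p V a c) {x : G}
    (hx : x ∈ normalizer (V : Set G)) {m : ℕ} (hm : m.Coprime p)
    (hym : (a⁻¹ * (x * a * x⁻¹)) ^ m = 1)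
    (hyf : (∀ v ∈ V, (a⁻¹ * (x * a * x⁻¹)) * v = v * (a⁻¹ * (x * a * x⁻¹))) →
      a⁻¹ * (x * a * x⁻¹) = 1)
    (hy1 : a⁻¹ * (x * a * x⁻¹) ≠ 1) :
    a * (x * c * x⁻¹) ≠ (x * c * x⁻¹) * a := by
  intro hcomm
  have hTb : IsTv p V (x * a * x⁻¹) (x * c * x⁻¹) := hT.conj hx
  set b := x * a * x⁻¹ with hb
  set d := x * c * x⁻¹ with hd
  set y := a⁻¹ * b with hy
  have hyN : y ∈ normalizer (V : Set G) :=
    (normalizer (V : Set G)).mul_mem ((normalizer (V : Set G)).inv_mem hT.hN) hTb.hN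
  have hainvd : a⁻¹ * d = d * a⁻¹ := by
    have : Commute a d := hcomm
    exact this.inv_left
  have hyd : y * d = d * y := by
    have h1 : Commute a⁻¹ d := hainvd
    have h2 : Commute b d := hTb.hac
    exact (h1.mul_left h2)
  -- the subgroup `W₀ = {w ∈ V | ⁅y, w⁆ ∈ ⟨d⟩}`
  let W₀ : Subgroup G :=
    { carrier := {w | w ∈ V ∧ ⁅y, w⁆ ∈ zpowers d}
      mul_mem' := by
        rintro u w ⟨hu, hu'⟩ ⟨hw, hw'⟩
        exact ⟨V.mul_mem hu hw, by rw [hV.comm_mul hyN hu hw]; exact (zpowers d).mul_mem hu' hw'⟩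
      one_mem' := ⟨V.one_mem, by rw [EA.comm_one]; exact (zpowers d).one_mem⟩
      inv_mem' := by
        rintro u ⟨hu, hu'⟩
        exact ⟨V.inv_mem hu, by rw [hV.comm_inv hyN hu]; exact (zpowers d).inv_mem hu'⟩ }
  have hW₀V : W₀ ≤ V := fun w hw => hw.1
  have hdW : zpowers d ≤ W₀ := by
    rw [Subgroup.zpowers_le]
    refine ⟨hTb.hc, ?_⟩
    have : ⁅y, d⁆ = 1 := comm_eq_one_iff.mpr hyd
    rw [this]; exact (zpowers d).one_mem
  have hcW : zpowers c ≤ W₀ := by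
    rw [Subgroup.zpowers_le]
    refine ⟨hT.hc, ?_⟩
    -- `⁅y, c⁆ = ⁅b, c⁆`
    have hbc : ⁅b, c⁆ ∈ zpowers d := hTb.him c hT.hc
    have h1 : a⁻¹ * ⁅b, c⁆ = ⁅b, c⁆ * a⁻¹ := commute_zpowers hainvd _ hbc
    have hainvc : a⁻¹ * c = c * a⁻¹ := by
      have : Commute a c := hT.hac
      exact this.inv_left
    have h2 : ⁅y, c⁆ = ⁅b, c⁆ := by
      have e1 : ⁅y, c⁆ = a⁻¹ * (⁅b, c⁆ * c) * a * c⁻¹ := by
        rw [hy]; simp only [commutatorElement_def]; group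
      rw [e1]
      calc a⁻¹ * (⁅b, c⁆ * c) * a * c⁻¹ = (a⁻¹ * ⁅b, c⁆) * c * a * c⁻¹ := by group
        _ = ⁅b, c⁆ * (a⁻¹ * c) * a * c⁻¹ := by rw [h1]; group
        _ = ⁅b, c⁆ := by rw [hainvc]; group
    rw [h2]; exact hbc
  -- `⁅y, V⁆ ⊆ W₀`
  have hyV : ∀ v ∈ V, ⁅y, v⁆ ∈ W₀ := by
    intro v hv
    have e1 : ⁅y, v⁆ = a⁻¹ * ⁅b, v⁆ * a⁻¹⁻¹ * ⁅a⁻¹, v⁆ := by
      rw [hy]; exact comm_mul_left a⁻¹ b v
    rw [e1]
    apply W₀.mul_mem
    · have hbv : ⁅b, v⁆ ∈ zpowers d := hTb.him v hv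
      have h1 : a⁻¹ * ⁅b, v⁆ = ⁅b, v⁆ * a⁻¹ := commute_zpowers hainvd _ hbv
      have : a⁻¹ * ⁅b, v⁆ * a⁻¹⁻¹ = ⁅b, v⁆ := by rw [h1]; group
      rw [this]; exact hdW hbv
    · rw [comm_inv_left]
      exact W₀.inv_mem (hcW (hT.him _ (conj_mem' hT.hN hv)))
  -- `y ^ p` centralizes `W₀`
  have hypW : ∀ w ∈ W₀, y ^ p * w = w * y ^ p :=
    (hV.mono hW₀V).pow_commute_of_chain hdW (fun w hw => hw.2) (commute_zpowers hyd)
  -- `y` normalizes `W₀`, so `⁅y ^ n, V⁆ ⊆ W₀`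
  have hyW : ∀ w ∈ W₀, y * w * y⁻¹ ∈ W₀ := by
    intro w hw
    rw [conj_eq_comm_mul]
    exact W₀.mul_mem (hdW hw.2) hw
  have hynW : ∀ n : ℕ, ∀ w ∈ W₀, y ^ n * w * (y ^ n)⁻¹ ∈ W₀ := by
    intro n
    induction n with
    | zero => intro w hw; simpa using hw
    | succ n ih =>
      intro w hw
      have : y ^ (n + 1) * w * (y ^ (n + 1))⁻¹ = y * (y ^ n * w * (y ^ n)⁻¹) * y⁻¹ := by
        rw [pow_succ']; group
      rw [this]
      exact hyW _ (ih w hw)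
  have hynV : ∀ n : ℕ, ∀ v ∈ V, ⁅y ^ n, v⁆ ∈ W₀ := by
    intro n
    induction n with
    | zero => intro v _; simp [commutatorElement_def, W₀.one_mem]
    | succ n ih =>
      intro v hv
      rw [pow_succ, comm_mul_left]
      exact W₀.mul_mem (hynW n _ (hyV v hv)) (ih v hv)
  have hyppV : ∀ v ∈ V, (y ^ p) ^ p * v = v * (y ^ p) ^ p :=
    hV.pow_commute_of_chain hW₀V (hynV p) hypW
  have hyc : ∀ v ∈ V, y * v = v * y := by
    apply commute_of_pow_of_coprime (p := p * p) (m := m) (Nat.Coprime.mul_right hm hm) hym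
    intro v hv
    rw [pow_mul]
    exact hyppV v hv
  exact hy1 (hyf hyc)

end Cfsg.Agent.Helper1.FF
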