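import Mathlib
import Cfsg.Agent.Lib.Helper1.FFA

/-!
# Failure of factorization, part B: the plane spanned by the centres of the conjugates of a
transvection under a `p'`-group
-/

set_option autoImplicit false
set_option linter.unusedSectionVars false
set_option linter.unusedVariables false

namespace Cfsg.Agent.Helper1.FF

open Subgroup
open scoped commutatorElement

variable {G : Type*} [Group G]

theorem conj_mem_zpowers {g d u : G} (h : u ∈ zpowers d) : g * u * g⁻¹ ∈ zpowers (g * d * g⁻¹) := by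
  obtain ⟨n, rfl⟩ := mem_zpowers_iff.mp h
  rw [mem_zpowers_iff]
  refine ⟨n, ?_⟩
  rw [← MulAut.conj_apply, ← map_zpow, MulAut.conj_apply]

theorem pow_conj_eq {x v : G} (h : x * ⁅x, v⁆ = ⁅x, v⁆ * x) (n : ℕ) :
    x ^ n * v * (x ^ n)⁻¹ = ⁅x, v⁆ ^ n * v := by
  induction n with
  | zero => simp
  | succ n ih =>
    have hc : x * ⁅x, v⁆ ^ n = ⁅x, v⁆ ^ n * x := by
      have : Commute x ⁅x, v⁆ := h
      exact (this.pow_right n)
    calc x ^ (n + 1) * v * (x ^ (n + 1))⁻¹ = x * (x ^ n * v * (x ^ n)⁻¹) * x⁻¹ := by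
          rw [pow_succ']; group
      _ = x * (⁅x, v⁆ ^ n * v) * x⁻¹ := by rw [ih]
      _ = (x * ⁅x, v⁆ ^ n) * v * x⁻¹ := by group
      _ = ⁅x, v⁆ ^ n * (x * v * x⁻¹) := by rw [hc]; group
      _ = ⁅x, v⁆ ^ (n + 1) * v := by rw [conj_eq_comm_mul, pow_succ]; group

/-- The local setting: a transvection `a` (centre `c`) normalizing a `p'`-group `K`, with
`K⟨a⟩` faithful on the elementary abelian `V`. -/
structure TvS (p : ℕ) (V K : Subgroup G) (a c : G) : Prop where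
  hV : EA p V
  hT : IsTv p V a c
  hKV : K ≤ normalizer (V : Set G)
  hKp : (Nat.card K).Coprime p
  haK : a ∈ normalizer (K : Set G)
  hf : ∀ g ∈ K ⊔ zpowers a, (∀ v ∈ V, g * v = v * g) → g = 1

/-- the union of the centres of the `K`-conjugates of `a` -/
def ctrSet (K : Subgroup G) (c : G) : Set G := {u | ∃ k ∈ K, u ∈ zpowers (k * c * k⁻¹)}

/-- the subgroup generated by the centres of the `K`-conjugates of `a` -/
def ctr (K : Subgroup G) (c : G) : Subgroup G := closure (ctrSet K c)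

theorem pow_card_eq_one_of_mem [Finite G] {K : Subgroup G} {y : G} (hy : y ∈ K) :
    y ^ Nat.card K = 1 := by
  have := pow_card_eq_one' (G := K) (x := ⟨y, hy⟩)
  exact congrArg Subtype.val this

namespace TvS

variable {p : ℕ} [hp : Fact p.Prime] {V K : Subgroup G} {a c : G} [Finite G]

theorem y_mem (S : TvS p V K a c) {k : G} (hk : k ∈ K) : a⁻¹ * (k * a * k⁻¹) ∈ K := by
  have : a⁻¹ * (k * a * k⁻¹) = (a⁻¹ * k * a) * k⁻¹ := by group
  rw [this]; exact K.mul_mem (conj_mem' S.haK hk) (K.inv_mem hk)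

theorem cp (S : TvS p V K a c) : c ^ p = 1 := S.hV.exp c S.hT.hc

theorem dp (S : TvS p V K a c) {k : G} (hk : k ∈ K) : (k * c * k⁻¹) ^ p = 1 :=
  S.hV.exp _ (conj_mem (S.hKV hk) S.hT.hc)

theorem pair (S : TvS p V K a c) {k : G} (hk : k ∈ K) (hy1 : a⁻¹ * (k * a * k⁻¹) ≠ 1) :
    a * (k * c * k⁻¹) ≠ (k * c * k⁻¹) * a :=
  pair_lemma S.hV S.hT (S.hKV hk) S.hKp (pow_card_eq_one_of_mem (S.y_mem hk))
    (fun h => S.hf _ (mem_sup_left (S.y_mem hk)) h) hy1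

theorem ctr_mem_of_y_eq_one (S : TvS p V K a c) {k : G} (hk : k ∈ K)
    (h : a⁻¹ * (k * a * k⁻¹) = 1) : k * c * k⁻¹ ∈ zpowers c := by
  have hka : k * a * k⁻¹ = a := by
    have : k * a * k⁻¹ = a * (a⁻¹ * (k * a * k⁻¹)) := by group
    rw [this, h, mul_one]
  have hTk : IsTv p V (k * a * k⁻¹) (k * c * k⁻¹) := S.hT.conj (S.hKV hk)
  rw [hka] at hTk
  obtain ⟨v, hv, hne⟩ := S.hT.hne
  have h1 := zpowers_eq_of_mem S.cp (S.hT.him v hv) hne
  have h2 := zpowers_eq_of_mem (S.dp hk) (hTk.him v hv) hne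
  rw [← h1, h2]
  exact mem_zpowers _

theorem y_eq_one_of_ctr_mem (S : TvS p V K a c) {k : G} (hk : k ∈ K)
    (h : k * c * k⁻¹ ∈ zpowers c) : a⁻¹ * (k * a * k⁻¹) = 1 := by
  by_contra hy
  exact S.pair hk hy (commute_zpowers S.hT.hac _ h)

theorem ctrSet_le (S : TvS p V K a c) {u : G} (hu : u ∈ ctrSet K c) : u ∈ V := by
  obtain ⟨k, hk, hu⟩ := hu
  exact (Subgroup.zpowers_le.mpr (conj_mem (S.hKV hk) S.hT.hc)) hu

theorem zpowers_c_subset (S : TvS p V K a c) {w : G} (hw : w ∈ zpowers c) : w ∈ ctrSet K c :=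
  ⟨1, K.one_mem, by simpa using hw⟩

theorem ctrSet_conj {k' u : G} (hk' : k' ∈ K) (hu : u ∈ ctrSet K c) :
    k' * u * k'⁻¹ ∈ ctrSet K c := by
  obtain ⟨k, hk, hu⟩ := hu
  refine ⟨k' * k, K.mul_mem hk' hk, ?_⟩
  have := conj_mem_zpowers (g := k') hu
  have e : k' * (k * c * k⁻¹) * k'⁻¹ = k' * k * c * (k' * k)⁻¹ := by group
  rwa [e] at this

theorem ctrSet_mul_aux (S : TvS p V K a c) {x : G} (hx : x ∈ K) {w w' : G}
    (hw : w ∈ zpowers c) (hw' : w' ∈ zpowers (x * c * x⁻¹)) : w * w' ∈ ctrSet K c := by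
  by_cases hy : a⁻¹ * (x * a * x⁻¹) = 1
  · have hd := S.ctr_mem_of_y_eq_one hx hy
    exact S.zpowers_c_subset ((zpowers c).mul_mem hw (Subgroup.zpowers_le.mpr hd hw'))
  by_cases hw'1 : w' = 1
  · rw [hw'1, mul_one]; exact S.zpowers_c_subset hw
  have hw'V : w' ∈ V := S.ctrSet_le ⟨x, hx, hw'⟩
  have he : ⁅a, w'⁆ ∈ zpowers c := S.hT.him w' hw'V
  have he1 : ⁅a, w'⁆ ≠ 1 := by
    intro h
    have h1 : a * w' = w' * a := comm_eq_one_iff.mp h
    have h2 : x * c * x⁻¹ ∈ zpowers w' := mem_zpowers_swap (S.dp hx) hw' hw'1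
    exact S.pair hx hy (commute_zpowers h1 _ h2)
  have hzz := zpowers_eq_of_mem S.cp he he1
  have hw2 : w ∈ zpowers ⁅a, w'⁆ := by rw [hzz]; exact hw
  obtain ⟨i, hi⟩ := mem_powers_iff_mem_zpowers.mpr hw2
  have hae : a * ⁅a, w'⁆ = ⁅a, w'⁆ * a := commute_zpowers S.hT.hac _ he
  have key := pow_conj_eq hae i
  have hi' : ⁅a, w'⁆ ^ i = w := hi
  rw [hi'] at key
  rw [← key]
  -- `a ^ i * w' * (a ^ i)⁻¹` lies in the centre of a conjugate
  have haiK : a ^ i ∈ normalizer (K : Set G) := (normalizer (K : Set G)).pow_mem S.haK i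
  refine ⟨a ^ i * x * (a ^ i)⁻¹, conj_mem haiK hx, ?_⟩
  have h1 := conj_mem_zpowers (g := a ^ i) hw'
  have hcc : a ^ i * c = c * a ^ i := by
    have : Commute a c := S.hT.hac
    exact this.pow_left i
  have e : a ^ i * (x * c * x⁻¹) * (a ^ i)⁻¹ =
      a ^ i * x * (a ^ i)⁻¹ * c * (a ^ i * x * (a ^ i)⁻¹)⁻¹ := by
    have : a ^ i * (x * c * x⁻¹) * (a ^ i)⁻¹ =
        a ^ i * x * (a ^ i)⁻¹ * ((a ^ i * c) * (a ^ i)⁻¹) * (a ^ i * x * (a ^ i)⁻¹)⁻¹ := by group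
    rw [this, hcc]; group
  rwa [e] at h1

theorem ctrSet_mul (S : TvS p V K a c) {u u' : G} (hu : u ∈ ctrSet K c) (hu' : u' ∈ ctrSet K c) :
    u * u' ∈ ctrSet K c := by
  obtain ⟨k, hk, hu⟩ := hu
  obtain ⟨k', hk', hu'⟩ := hu'
  have h1 : k⁻¹ * u * k⁻¹⁻¹ ∈ zpowers c := by
    have := conj_mem_zpowers (g := k⁻¹) hu
    have e : k⁻¹ * (k * c * k⁻¹) * k⁻¹⁻¹ = c := by group
    rwa [e] at this
  have h2 : k⁻¹ * u' * k⁻¹⁻¹ ∈ zpowers ((k⁻¹ * k') * c * (k⁻¹ * k')⁻¹) := by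
    have := conj_mem_zpowers (g := k⁻¹) hu'
    have e : k⁻¹ * (k' * c * k'⁻¹) * k⁻¹⁻¹ = (k⁻¹ * k') * c * (k⁻¹ * k')⁻¹ := by group
    rwa [e] at this
  have h3 := S.ctrSet_mul_aux (K.mul_mem (K.inv_mem hk) hk') h1 h2
  have h4 := ctrSet_conj hk h3
  have e : k * (k⁻¹ * u * k⁻¹⁻¹ * (k⁻¹ * u' * k⁻¹⁻¹)) * k⁻¹ = u * u' := by group
  rwa [e] at h4

theorem ctrSet_inv {u : G} (hu : u ∈ ctrSet K c) : u⁻¹ ∈ ctrSet K c := by
  obtain ⟨k, hk, hu⟩ := hu
  exact ⟨k, hk, (zpowers _).inv_mem hu⟩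

theorem mem_ctr_iff (S : TvS p V K a c) {u : G} : u ∈ ctr K c ↔ u ∈ ctrSet K c := by
  constructor
  · intro hu
    induction hu using closure_induction with
    | mem x hx => exact hx
    | one => exact S.zpowers_c_subset (zpowers c).one_mem
    | mul x y _ _ hx hy => exact S.ctrSet_mul hx hy
    | inv x _ hx => exact ctrSet_inv hx
  · intro hu
    exact subset_closure hu

theorem ctr_le (S : TvS p V K a c) : ctr K c ≤ V := by
  intro u hu
  exact S.ctrSet_le (S.mem_ctr_iff.mp hu)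

theorem zpowers_c_le_ctr (S : TvS p V K a c) : zpowers c ≤ ctr K c := fun _ hw =>
  S.mem_ctr_iff.mpr (S.zpowers_c_subset hw)

theorem conj_c_mem_ctr (S : TvS p V K a c) {k : G} (hk : k ∈ K) : k * c * k⁻¹ ∈ ctr K c :=
  S.mem_ctr_iff.mpr ⟨k, hk, mem_zpowers _⟩

theorem K_le_normalizer_ctr (S : TvS p V K a c) : K ≤ normalizer (ctr K c : Set G) := by
  apply le_normalizer_of_conj_smul_le
  intro k hk u hu
  obtain ⟨w, hw, rfl⟩ := hu
  change k * w * k⁻¹ ∈ ctr K c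
  exact S.mem_ctr_iff.mpr (ctrSet_conj hk (S.mem_ctr_iff.mp hw))

end TvS

end Cfsg.Agent.Helper1.FF
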