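import Mathlib
import Cfsg.Agent.Lib.Helper1.Basic
import Cfsg.Agent.Lib.Helper1.SZ
import Cfsg.Agent.Lib.Helper1.Coprime

/-!
# Common eigenvectors for an elementary abelian 2-group acting on a solvable group of odd order

`exists_common_eigen`: if an abelian group `A` of exponent 2 normalises a solvable subgroup `X` of odd
order and `a ∈ A` does not centralise `X`, then there is `k ∈ X`, `k ≠ 1`, inverted by `a`, such that
every element of `A` either centralises or inverts `k`.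
-/

set_option autoImplicit false

namespace Cfsg.Agent.Helper1.S4Free

open Subgroup
open scoped Pointwise commutatorElement
open Cfsg.Agent.Helper1

variable {Γ : Type*} [Group Γ]

theorem nconj {H : Subgroup Γ} {g x : Γ} (hg : g ∈ normalizer (H : Set Γ)) (hx : x ∈ H) :
    g⁻¹ * x * g ∈ H :=
  (Subgroup.mem_normalizer_iff''.mp hg x).mp hx

theorem nconj' {H : Subgroup Γ} {g x : Γ} (hg : g ∈ normalizer (H : Set Γ)) (hx : x ∈ H) :
    g * x * g⁻¹ ∈ H :=
  (Subgroup.mem_normalizer_iff.mp hg x).mp hx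

theorem eq_one_of_sq_of_odd {n : ℕ} (hodd : Odd n) {y : Γ} (hy : orderOf y ∣ n) (h : y ^ 2 = 1) :
    y = 1 := by
  have h1 : orderOf y ∣ 2 := orderOf_dvd_of_pow_eq_one h
  have h2 : Nat.Coprime 2 n := Nat.coprime_two_left.mpr hodd
  have h3 : orderOf y = 1 := Nat.eq_one_of_dvd_coprimes h2 h1 hy
  exact orderOf_eq_one_iff.mp h3

theorem mem_of_sq_mem_of_odd {Y : Subgroup Γ} {w : Γ} (hodd : Odd (orderOf w)) (h : w ^ 2 ∈ Y) :
    w ∈ Y := by
  obtain ⟨m, hm⟩ := hodd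
  have h1 : w = (w ^ 2) ^ (m + 1) := by
    rw [← pow_mul]
    have h2 : 2 * (m + 1) = orderOf w + 1 := by omega
    rw [h2, pow_succ, pow_orderOf_eq_one, one_mul]
  rw [h1]
  exact Y.pow_mem h _

theorem le_normalizer_commutator_self {A X : Subgroup Γ} (h : A ≤ normalizer (X : Set Γ)) :
    A ≤ normalizer ((⁅X, X⁆ : Subgroup Γ) : Set Γ) := by
  rw [le_normalizer_iff_conj_smul_eq] at h ⊢
  intro a ha
  have h1 := h a ha
  have h2 : MulAut.conj a • ⁅X, X⁆ = ⁅MulAut.conj a • X, MulAut.conj a • X⁆ := by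
    change (⁅X, X⁆).map (MulAut.conj a).toMonoidHom =
      ⁅X.map (MulAut.conj a).toMonoidHom, X.map (MulAut.conj a).toMonoidHom⁆
    rw [Subgroup.map_commutator]
  rw [h2, h1]

theorem exists_common_eigen_aux [Finite Γ] (A : Subgroup Γ)
    (hA2 : ∀ b ∈ A, b * b = 1) (hAc : ∀ b ∈ A, ∀ c ∈ A, b * c = c * b)
    (a : Γ) (ha : a ∈ A) :
    ∀ (n : ℕ) (X : Subgroup Γ), Nat.card X = n → A ≤ normalizer (X : Set Γ) → Odd (Nat.card X) →
      Group.IsSolvable X → (∃ x ∈ X, a⁻¹ * x * a ≠ x) →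
      ∃ k ∈ X, k ≠ 1 ∧ a⁻¹ * k * a = k⁻¹ ∧
        ∀ b ∈ A, b⁻¹ * k * b = k ∨ b⁻¹ * k * b = k⁻¹ := by
  intro n
  induction n using Nat.strong_induction_on with
  | _ n ih =>
  intro X hn hAX hodd hsol hmove
  by_cases hmin : ∃ Y : Subgroup Γ, Y < X ∧ A ≤ normalizer (Y : Set Γ) ∧ ∃ y ∈ Y, a⁻¹ * y * a ≠ y
  · obtain ⟨Y, hYX, hAY, hy⟩ := hmin
    have hlt : Nat.card Y < n := hn ▸ card_lt_of_lt hYX
    have hoddY : Odd (Nat.card Y) := Odd.of_dvd_nat hodd (Subgroup.card_dvd_of_le hYX.le)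
    have hsolY : Group.IsSolvable Y := isSolvable_of_le hYX.le
    obtain ⟨k, hk, h1, h2, h3⟩ := ih _ hlt Y rfl hAY hoddY hsolY hy
    exact ⟨k, hYX.le hk, h1, h2, h3⟩
  · have hcent : ∀ Z : Subgroup Γ, Z < X → A ≤ normalizer (Z : Set Γ) →
        ∀ z ∈ Z, a⁻¹ * z * a = z := by
      intro Z hZ hAZ z hz
      by_contra hne
      exact hmin ⟨Z, hZ, hAZ, z, hz, hne⟩
    obtain ⟨x, hxX, hxa⟩ := hmove
    have hXne : X ≠ ⊥ := by
      rintro rfl
      rw [Subgroup.mem_bot] at hxX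
      subst hxX
      exact hxa (by group)
    set Y : Subgroup Γ := ⁅X, X⁆ with hY
    have hYX : Y < X := commutator_lt_of_solvable X hXne
    have hAY : A ≤ normalizer (Y : Set Γ) := le_normalizer_commutator_self hAX
    have hXY : X ≤ normalizer (Y : Set Γ) := le_normalizer_commutator_self le_normalizer
    have haY : ∀ y ∈ Y, a⁻¹ * y * a = y := hcent Y hYX hAY
    have haa := hA2 a ha
    have hoddo : ∀ z ∈ X, Odd (orderOf z) := fun z hz =>
      Odd.of_dvd_nat hodd (Subgroup.orderOf_dvd_natCard X hz)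
    -- the element `k`
    set k : Γ := x⁻¹ * (a⁻¹ * x * a) with hk
    have haX : a ∈ normalizer (X : Set Γ) := hAX ha
    have hkX : k ∈ X := X.mul_mem (X.inv_mem hxX) (nconj haX hxX)
    have hka : a⁻¹ * k * a = k⁻¹ := by
      have h1 : a⁻¹ * k * a = (a⁻¹ * x⁻¹ * a) * ((a * a)⁻¹ * x * (a * a)) := by rw [hk]; group
      rw [h1, haa, hk]; group
    have hk1 : k ≠ 1 := by
      intro h
      apply hxa
      have h1 : a⁻¹ * x * a = x * k := by rw [hk]; group
      rw [h1, h, mul_one]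
    -- conjugation by commuting elements
    have hconjcomm : ∀ b ∈ A, ∀ c ∈ A, ∀ z : Γ, c⁻¹ * (b⁻¹ * z * b) * c = b⁻¹ * (c⁻¹ * z * c) * b := by
      intro b hb c hc z
      have h1 : c⁻¹ * (b⁻¹ * z * b) * c = (b * c)⁻¹ * z * (b * c) := by group
      have h2 : b⁻¹ * (c⁻¹ * z * c) * b = (c * b)⁻¹ * z * (c * b) := by group
      rw [h1, h2, hAc b hb c hc]
    -- dichotomy
    have hdich : ∀ b ∈ A, k⁻¹ * (b⁻¹ * k * b) ∈ Y ∨ k * (b⁻¹ * k * b) ∈ Y := by
      intro b hb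
      have hbb := hA2 b hb
      have hbX := hAX hb
      have hbY := hAY hb
      let Cb : Subgroup Γ :=
        { carrier := {z | z ∈ X ∧ z⁻¹ * (b⁻¹ * z * b) ∈ Y}
          mul_mem' := by
            rintro z y ⟨hz1, hz2⟩ ⟨hy1, hy2⟩
            refine ⟨X.mul_mem hz1 hy1, ?_⟩
            have h1 : (z * y)⁻¹ * (b⁻¹ * (z * y) * b) =
                (y⁻¹ * (z⁻¹ * (b⁻¹ * z * b)) * y) * (y⁻¹ * (b⁻¹ * y * b)) := by group
            rw [h1]
            exact Y.mul_mem (nconj (hXY hy1) hz2) hy2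
          one_mem' := by
            refine ⟨X.one_mem, ?_⟩
            have h1 : (1 : Γ)⁻¹ * (b⁻¹ * 1 * b) = 1 := by group
            rw [h1]; exact Y.one_mem
          inv_mem' := by
            rintro z ⟨hz1, hz2⟩
            refine ⟨X.inv_mem hz1, ?_⟩
            have h1 : z⁻¹⁻¹ * (b⁻¹ * z⁻¹ * b) = z * (z⁻¹ * (b⁻¹ * z * b))⁻¹ * z⁻¹ := by group
            rw [h1]
            exact nconj' (hXY hz1) (Y.inv_mem hz2) }
      have hCbmem : ∀ z, z ∈ Cb ↔ z ∈ X ∧ z⁻¹ * (b⁻¹ * z * b) ∈ Y := fun z => Iff.rfl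
      have hCbX : Cb ≤ X := fun z hz => hz.1
      have hACb : A ≤ normalizer (Cb : Set Γ) := by
        apply le_normalizer_of_conj_smul_le
        intro c hc z hz
        rw [mem_conj_smul] at hz
        -- `c⁻¹ z c ∈ Cb`
        rw [hCbmem] at hz ⊢
        obtain ⟨hz1, hz2⟩ := hz
        have hcX := hAX hc
        have hzX : z ∈ X := by
          have := nconj' hcX hz1
          have h1 : c * (c⁻¹ * z * c) * c⁻¹ = z := by group
          rwa [h1] at this
        refine ⟨hzX, ?_⟩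
        have h1 : (c⁻¹ * z * c)⁻¹ * (b⁻¹ * (c⁻¹ * z * c) * b) =
            c⁻¹ * (z⁻¹ * (b⁻¹ * z * b)) * c := by
          rw [← hconjcomm b hb c hc z]; group
        rw [h1] at hz2
        have := nconj' (hAY hc) hz2
        have h2 : c * (c⁻¹ * (z⁻¹ * (b⁻¹ * z * b)) * c) * c⁻¹ = z⁻¹ * (b⁻¹ * z * b) := by group
        rwa [h2] at this
      by_cases hC : Cb = X
      · left
        have h1 : k ∈ Cb := hC ▸ hkX
        exact h1.2
      · right
        have hlt : Cb < X := lt_of_le_of_ne hCbX hC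
        have hc := hcent Cb hlt hACb
        have hkbX : b⁻¹ * k * b ∈ X := nconj hbX hkX
        have hwX : k * (b⁻¹ * k * b) ∈ X := X.mul_mem hkX hkbX
        have hwC : k * (b⁻¹ * k * b) ∈ Cb := by
          refine ⟨hwX, ?_⟩
          have h1 : (k * (b⁻¹ * k * b))⁻¹ * (b⁻¹ * (k * (b⁻¹ * k * b)) * b) =
              (b⁻¹ * k * b)⁻¹ * k⁻¹ * ((b⁻¹ * k * b) * ((b * b)⁻¹ * k * (b * b))) := by group
          rw [h1, hbb]
          have h2 : (b⁻¹ * k * b)⁻¹ * k⁻¹ * ((b⁻¹ * k * b) * ((1 : Γ)⁻¹ * k * 1)) =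
              ⁅(b⁻¹ * k * b)⁻¹, k⁻¹⁆ := by
            rw [commutatorElement_def]; group
          rw [h2]
          exact Subgroup.commutator_mem_commutator (X.inv_mem hkbX) (X.inv_mem hkX)
        have haw := hc _ hwC
        have haw' : a⁻¹ * (k * (b⁻¹ * k * b)) * a = k⁻¹ * (b⁻¹ * k * b)⁻¹ := by
          have h1 : a⁻¹ * (k * (b⁻¹ * k * b)) * a = (a⁻¹ * k * a) * (a⁻¹ * (b⁻¹ * k * b) * a) := by
            group
          rw [h1, hconjcomm b hb a ha k, hka]; group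
        have hw2 : (k * (b⁻¹ * k * b)) ^ 2 = ⁅k, b⁻¹ * k * b⁆ := by
          rw [pow_two]
          nth_rewrite 2 [← haw]
          rw [haw', commutatorElement_def]; group
        have h3 : (k * (b⁻¹ * k * b)) ^ 2 ∈ Y := by
          rw [hw2]; exact Subgroup.commutator_mem_commutator hkX hkbX
        exact mem_of_sq_mem_of_odd (hoddo _ hwX) h3
    -- the subgroup `B`
    let B : Subgroup Γ :=
      { carrier := {b | b ∈ A ∧ k⁻¹ * (b⁻¹ * k * b) ∈ Y}
        mul_mem' := by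
          rintro b c ⟨hb1, hb2⟩ ⟨hc1, hc2⟩
          refine ⟨A.mul_mem hb1 hc1, ?_⟩
          have h1 : k⁻¹ * ((b * c)⁻¹ * k * (b * c)) =
              (k⁻¹ * (c⁻¹ * k * c)) * (c⁻¹ * (k⁻¹ * (b⁻¹ * k * b)) * c) := by group
          rw [h1]
          exact Y.mul_mem hc2 (nconj (hAY hc1) hb2)
        one_mem' := by
          refine ⟨A.one_mem, ?_⟩
          have h1 : k⁻¹ * ((1 : Γ)⁻¹ * k * 1) = 1 := by group
          rw [h1]; exact Y.one_mem
        inv_mem' := by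
          rintro b ⟨hb1, hb2⟩
          refine ⟨A.inv_mem hb1, ?_⟩
          have h1 : b⁻¹ = b := inv_eq_of_mul_eq_one_left (hA2 b hb1)
          rw [h1]
          exact hb2 }
    have hBmem : ∀ b, b ∈ B ↔ b ∈ A ∧ k⁻¹ * (b⁻¹ * k * b) ∈ Y := fun b => Iff.rfl
    have hBA : B ≤ A := fun b hb => hb.1
    have hBY : B ≤ normalizer (Y : Set Γ) := hBA.trans hAY
    have hA2g : IsPGroup 2 A := by
      intro g
      refine ⟨1, ?_⟩
      apply Subtype.ext
      have := hA2 g g.2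
      simp only [pow_one, Subgroup.coe_pow, Subgroup.coe_one]
      rw [pow_two]; exact this
    have hB2g : IsPGroup 2 B := hA2g.to_le hBA
    have hcop : (Nat.card B).Coprime (Nat.card Y) := by
      obtain ⟨m, hm⟩ := IsPGroup.iff_card.mp hB2g
      rw [hm]
      apply Nat.Coprime.pow_left
      rw [Nat.coprime_two_left]
      exact Odd.of_dvd_nat hodd (Subgroup.card_dvd_of_le hYX.le)
    have hsolY : Group.IsSolvable Y := isSolvable_of_le hYX.le
    obtain ⟨c, hcB, hkc⟩ := exists_mem_centralizer_of_coset_fixed B Y hBY hcop (Or.inr hsolY) k (by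
      intro b hb
      have h1 : b⁻¹ = b := inv_eq_of_mul_eq_one_left (hA2 b hb.1)
      have h2 : k⁻¹ * b * k * b⁻¹ = k⁻¹ * (b⁻¹ * k * b) := by
        rw [h1]; group
      rw [h2]; exact hb.2)
    have hcX : c ∈ X := by
      have h1 : c = k * (k⁻¹ * c) := by group
      rw [h1]; exact X.mul_mem hkX (hYX.le hkc)
    have hcB' : ∀ b ∈ B, b⁻¹ * c * b = c := by
      intro b hb
      have := (Subgroup.mem_centralizer_iff.mp hcB) b hb
      rw [mul_assoc, ← this]; group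
    -- `a` moves `c`
    have hca : a⁻¹ * c * a ≠ c := by
      intro h
      have h1 : a⁻¹ * c * a = (a⁻¹ * k * a) * (a⁻¹ * (k⁻¹ * c) * a) := by group
      rw [h1, hka, haY _ hkc] at h
      have h2 : k ^ 2 = 1 := by
        have h3 : k⁻¹ * (k⁻¹ * c) = c := h
        have h4 : k⁻¹ * k⁻¹ * c = 1 * c := by rw [one_mul, mul_assoc]; exact h3
        have h5 : k⁻¹ * k⁻¹ = 1 := mul_right_cancel h4
        have h6 : (k * k)⁻¹ = 1 := by rw [mul_inv_rev]; exact h5
        rw [pow_two]; exact inv_eq_one.mp h6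
      exact hk1 (eq_one_of_sq_of_odd hodd (Subgroup.orderOf_dvd_natCard X hkX) h2)
    -- the final element
    have hea : a⁻¹ * (c⁻¹ * (a⁻¹ * c * a)) * a = (c⁻¹ * (a⁻¹ * c * a))⁻¹ := by
      have h1 : a⁻¹ * (c⁻¹ * (a⁻¹ * c * a)) * a =
          (a⁻¹ * c⁻¹ * a) * ((a * a)⁻¹ * c * (a * a)) := by group
      rw [h1, haa]; group
    refine ⟨c⁻¹ * (a⁻¹ * c * a), X.mul_mem (X.inv_mem hcX) (nconj haX hcX), ?_, hea, ?_⟩
    · intro h
      apply hca
      have h1 : a⁻¹ * c * a = c * (c⁻¹ * (a⁻¹ * c * a)) := by group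
      rw [h1, h, mul_one]
    · -- every element of `A` centralises or inverts
      have hBc : ∀ b ∈ B, b⁻¹ * (c⁻¹ * (a⁻¹ * c * a)) * b = c⁻¹ * (a⁻¹ * c * a) := by
        intro b hb
        have h1 : b⁻¹ * (c⁻¹ * (a⁻¹ * c * a)) * b =
            (b⁻¹ * c * b)⁻¹ * (b⁻¹ * (a⁻¹ * c * a) * b) := by group
        rw [h1, hconjcomm a ha b hb.1 c, hcB' b hb]
      intro b hb
      rcases hdich b hb with h | h
      · left
        exact hBc b ⟨hb, h⟩
      · right
        -- `a * b ∈ B`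
        have hab : a * b ∈ B := by
          refine ⟨A.mul_mem ha hb, ?_⟩
          have h1 : k⁻¹ * ((a * b)⁻¹ * k * (a * b)) = k⁻¹ * (b⁻¹ * (a⁻¹ * k * a) * b) := by group
          rw [h1, hka]
          have h2 : k⁻¹ * (b⁻¹ * k⁻¹ * b) = (k⁻¹ * (k * (b⁻¹ * k * b)) * k)⁻¹ := by group
          rw [h2]
          exact Y.inv_mem (nconj (hXY hkX) h)
        have h3 := hBc (a * b) hab
        have h4 : (a * b)⁻¹ * (c⁻¹ * (a⁻¹ * c * a)) * (a * b) =
            (b⁻¹ * (c⁻¹ * (a⁻¹ * c * a)) * b)⁻¹ := by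
          have h5 : (a * b)⁻¹ * (c⁻¹ * (a⁻¹ * c * a)) * (a * b) =
              b⁻¹ * (a⁻¹ * (c⁻¹ * (a⁻¹ * c * a)) * a) * b := by group
          rw [h5, hea]; group
        rw [h4] at h3
        exact inv_eq_iff_eq_inv.mp h3

/-- **Common eigenvector.** If an abelian subgroup `A` of exponent 2 normalises a solvable subgroup `X`
of odd order and `a ∈ A` does not centralise `X`, there is `1 ≠ k ∈ X` inverted by `a` such that every
element of `A` centralises or inverts `k`. -/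
theorem exists_common_eigen [Finite Γ] (A X : Subgroup Γ)
    (hA2 : ∀ b ∈ A, b * b = 1) (hAc : ∀ b ∈ A, ∀ c ∈ A, b * c = c * b)
    (hAX : A ≤ normalizer (X : Set Γ)) (hodd : Odd (Nat.card X)) (hsol : Group.IsSolvable X)
    (a : Γ) (ha : a ∈ A) (hmove : ∃ x ∈ X, a⁻¹ * x * a ≠ x) :
    ∃ k ∈ X, k ≠ 1 ∧ a⁻¹ * k * a = k⁻¹ ∧ ∀ b ∈ A, b⁻¹ * k * b = k ∨ b⁻¹ * k * b = k⁻¹ :=
  exists_common_eigen_aux A hA2 hAc a ha _ X rfl hAX hodd hsol hmove

end Cfsg.Agent.Helper1.S4Free
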