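import Mathlib
import Cfsg.Prelude.Def_LocalEven
import Cfsg.Agent.Lib.Helper1.Basic
import Cfsg.Agent.Lib.Helper1.Compl
import Cfsg.Agent.Lib.Helper1.S4FreeA

/-!
# Producing a section isomorphic to `S₄`

* `involves_of_hom`: if `f : P →* G` and `ρ : P →* H` is surjective with `ker f ≤ ker ρ`, then `H` is
  involved in `G`.
* `involves_S4_of_four_group`: a four-group `U` normalised by an element `k` of odd order acting
  fixed-point-freely and by an involution `a` inverting `k` gives a section `S₄`.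
-/

set_option autoImplicit false

namespace Cfsg.Agent.Helper1.S4Free

open Subgroup
open scoped Pointwise
open Cfsg.Agent.Helper1

/-- The affine action of a semidirect product `N ⋊ H` on `N`. -/
@[reducible] def affineAction {N H : Type*} [Group N] [Group H] (φ : H →* MulAut N) :
    MulAction (N ⋊[φ] H) N where
  smul p v := p.left * φ p.right v
  one_smul v := by
    change (1 : N ⋊[φ] H).left * φ (1 : N ⋊[φ] H).right v = v
    simp
  mul_smul p q v := by
    change (p * q).left * φ (p * q).right v = p.left * φ p.right (q.left * φ q.right v)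
    simp [mul_assoc]

theorem involves_of_hom {P H G : Type*} [Group P] [Group H] [Group G] (f : P →* G) (ρ : P →* H)
    (hρ : Function.Surjective ρ) (hker : f.ker ≤ ρ.ker) : Cfsg.Involves H G := by
  set K : Subgroup G := f.range with hK
  set R : Subgroup G := ρ.ker.map f with hR
  have hn : (R.subgroupOf K).Normal := by
    constructor
    rintro ⟨x, hx⟩ hxR ⟨y, hy⟩
    rw [Subgroup.mem_subgroupOf] at hxR ⊢
    obtain ⟨p, rfl⟩ := hy
    obtain ⟨q, hq, rfl⟩ := hxR
    refine ⟨p * q * p⁻¹, ?_, by simp⟩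
    exact (inferInstance : ρ.ker.Normal).conj_mem q hq p
  let g : P →* K ⧸ R.subgroupOf K := (QuotientGroup.mk' _).comp f.rangeRestrict
  have hg : Function.Surjective g :=
    (QuotientGroup.mk'_surjective _).comp f.rangeRestrict_surjective
  have hkerg : g.ker = ρ.ker := by
    ext p
    rw [MonoidHom.mem_ker, MonoidHom.mem_ker]
    change (QuotientGroup.mk' _) (f.rangeRestrict p) = 1 ↔ _
    rw [QuotientGroup.mk'_apply, QuotientGroup.eq_one_iff, Subgroup.mem_subgroupOf]
    change f p ∈ R ↔ _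
    constructor
    · rintro ⟨q, hq, hqp⟩
      have h1 : q⁻¹ * p ∈ f.ker := by
        rw [MonoidHom.mem_ker, map_mul, map_inv, hqp, inv_mul_cancel]
      have h2 := hker h1
      rw [MonoidHom.mem_ker, map_mul, map_inv, MonoidHom.mem_ker.mp hq, inv_one, one_mul] at h2
      exact h2
    · intro hp
      exact ⟨p, hp, rfl⟩
  refine ⟨K, R, hn, ⟨?_⟩⟩
  exact ((QuotientGroup.quotientKerEquivOfSurjective g hg).symm.trans
    (QuotientGroup.quotientMulEquivOfEq hkerg)).trans
    (QuotientGroup.quotientKerEquivOfSurjective ρ hρ)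

theorem involves_of_mulEquiv {H H' G : Type*} [Group H] [Group H'] [Group G] (e : H ≃* H')
    (h : Cfsg.Involves H G) : Cfsg.Involves H' G := by
  obtain ⟨K, R, hn, ⟨i⟩⟩ := h
  exact ⟨K, R, hn, ⟨i.trans e⟩⟩

theorem mem_zpowers_of_mul_self {G : Type*} [Group G] {a z : G} (haa : a * a = 1)
    (hz : z ∈ zpowers a) : z = 1 ∨ z = a := by
  obtain ⟨j, hj⟩ := Subgroup.mem_zpowers_iff.mp hz
  rw [← hj]
  have h1 : a ^ (2 : ℤ) = 1 := by rw [zpow_two]; exact haa
  have h2 : a ^ j = a ^ (j % 2) := by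
    conv_lhs => rw [← Int.emod_add_mul_ediv j 2]
    rw [zpow_add, zpow_mul, h1, one_zpow, mul_one]
  rcases Int.emod_two_eq_zero_or_one j with h | h
  · left; rw [h2, h, zpow_zero]
  · right; rw [h2, h, zpow_one]

theorem eq_one_of_odd_of_dvd_four {G : Type*} [Group G] {y : G} {n : ℕ} (hn : Odd n)
    (h1 : orderOf y ∣ n) (h2 : orderOf y ∣ 4) : y = 1 := by
  have hc : Nat.Coprime n 4 := by
    have : (4 : ℕ) = 2 ^ 2 := by norm_num
    rw [this]
    exact Nat.Coprime.pow_right 2 (Nat.coprime_two_right.mpr hn)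
  exact orderOf_eq_one_iff.mp (Nat.eq_one_of_dvd_coprimes hc h1 h2)

/-- **A section `S₄` from a four-group.** -/
theorem involves_S4_of_four_group {G : Type*} [Group G] (U : Subgroup G) (hU4 : Nat.card U = 4)
    (k a : G) (hkU : k ∈ normalizer (U : Set G)) (haU : a ∈ normalizer (U : Set G))
    (haa : a * a = 1) (hka : a⁻¹ * k * a = k⁻¹) (hkodd : Odd (orderOf k))
    (hfix : ∀ u ∈ U, k⁻¹ * u * k = u → u = 1)
    (hCa : Nat.card (U ⊓ centralizer {a} : Subgroup G) = 2) :
    Cfsg.Involves (Equiv.Perm (Fin 4)) G := by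
  classical
  have hUfin : Finite U := Nat.finite_of_card_ne_zero (by rw [hU4]; norm_num)
  have hainv : a⁻¹ = a := inv_eq_of_mul_eq_one_left haa
  have hka' : a * k⁻¹ * a⁻¹ = k := by
    have h1 : a * k⁻¹ * a⁻¹ = a * (a⁻¹ * k * a) * a⁻¹ := by rw [hka]
    rw [h1]; group
  have hk1 : k ≠ 1 := by
    rintro rfl
    have h1 : ∀ u ∈ U, u = 1 := fun u hu => hfix u hu (by group)
    have h2 : U = ⊥ := (Subgroup.eq_bot_iff_forall U).mpr h1
    rw [h2, Subgroup.card_bot] at hU4
    norm_num at hU4
  set N₁ : Subgroup G := closure {k, a} with hN₁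
  have hkN : k ∈ N₁ := subset_closure (by simp)
  have haN : a ∈ N₁ := subset_closure (by simp)
  have hN : N₁ ≤ normalizer (U : Set G) := by
    rw [hN₁, Subgroup.closure_le]
    rintro x (rfl | rfl)
    · exact hkU
    · exact haU
  -- `U ∩ N₁ = 1`
  have hdisj : ∀ x ∈ U, x ∈ N₁ → x = 1 := by
    intro x hxU hxN
    have h1 : N₁ = zpowers k ⊔ zpowers a := by
      rw [hN₁, Set.insert_eq, Subgroup.closure_union, Subgroup.zpowers_eq_closure,
        Subgroup.zpowers_eq_closure]
    have hnorm : zpowers a ≤ normalizer ((zpowers k : Subgroup G) : Set G) := by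
      rw [Subgroup.zpowers_le, Subgroup.mem_normalizer_iff]
      intro h
      constructor
      · rintro ⟨i, rfl⟩
        refine ⟨-i, ?_⟩
        have h2 : a * k ^ i * a⁻¹ = (a * k * a⁻¹) ^ i := conj_zpow.symm
        have h3 : a * k * a⁻¹ = k⁻¹ := by
          have : a * k * a⁻¹ = (a * k⁻¹ * a⁻¹)⁻¹ := by group
          rw [this, hka']
        change k ^ (-i) = a * k ^ i * a⁻¹
        rw [h2, h3, inv_zpow, zpow_neg]
      · rintro ⟨i, hi⟩
        refine ⟨-i, ?_⟩
        have h2 : h = a⁻¹ * (a * h * a⁻¹) * a := by group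
        change k ^ (-i) = h
        change k ^ i = a * h * a⁻¹ at hi
        rw [h2, ← hi]
        have h3 : a⁻¹ * k ^ i * a = (a⁻¹ * k * a) ^ i := by
          have := conj_zpow (a := a⁻¹) (b := k) (i := i)
          rw [inv_inv] at this
          exact this.symm
        rw [h3, hka, inv_zpow, zpow_neg]
    rw [h1, ← SetLike.mem_coe, Subgroup.coe_mul_of_right_le_normalizer_left _ _ hnorm] at hxN
    obtain ⟨y, hy, z, hz, hyz⟩ := hxN
    change y * z = x at hyz
    have hy' : y ∈ zpowers k := hy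
    rcases mem_zpowers_of_mul_self haa hz with rfl | rfl
    · rw [mul_one] at hyz
      subst hyz
      have h2 : orderOf y ∣ 4 := hU4 ▸ Subgroup.orderOf_dvd_natCard U hxU
      exact eq_one_of_odd_of_dvd_four hkodd (orderOf_dvd_of_mem_zpowers hy') h2
    · exfalso
      have hxU' : k⁻¹ * x * k ∈ U := nconj hkU hxU
      have h2 : x * (k⁻¹ * x * k)⁻¹ ∈ U := U.mul_mem hxU (U.inv_mem hxU')
      have hyk : y * k = k * y := by
        obtain ⟨i, rfl⟩ := hy'
        exact ((Commute.refl k).zpow_left i).eq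
      have h3 : x * (k⁻¹ * x * k)⁻¹ = k * k := by
        rw [← hyz]
        have h4 : y * z * (k⁻¹ * (y * z) * k)⁻¹ = (y * (z * k⁻¹ * z⁻¹)) * y⁻¹ * k := by group
        rw [h4, hka']
        rw [hyk]; group
      rw [h3, ← pow_two] at h2
      have h5 : k ∈ U := mem_of_sq_mem_of_odd hkodd h2
      have h6 : orderOf k ∣ 4 := hU4 ▸ Subgroup.orderOf_dvd_natCard U h5
      exact hk1 (eq_one_of_odd_of_dvd_four hkodd dvd_rfl h6)
  -- the semidirect product
  let φ : ↥N₁ →* MulAut ↥U := (U.normalizerMonoidHom).comp (inclusion hN)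
  let f : ↥U ⋊[φ] ↥N₁ →* G := SemidirectProduct.monoidHomSubgroup hN
  let act : MulAction (↥U ⋊[φ] ↥N₁) ↥U := affineAction φ
  have hsmul : ∀ (p : ↥U ⋊[φ] ↥N₁) (v : ↥U), p • v = p.left * φ p.right v := fun _ _ => rfl
  have hφ : ∀ (n : ↥N₁) (v : ↥U), ((φ n v : ↥U) : G) = (n : G) * (v : G) * (n : G)⁻¹ := by
    intro n v
    rfl
  let ρ : ↥U ⋊[φ] ↥N₁ →* Equiv.Perm ↥U := MulAction.toPermHom (↥U ⋊[φ] ↥N₁) ↥U
  have hρ : ∀ (p : ↥U ⋊[φ] ↥N₁) (v : ↥U), ρ p v = p • v := fun _ _ => rfl
  let k' : ↥N₁ := ⟨k, hkN⟩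
  let a' : ↥N₁ := ⟨a, haN⟩
  -- kernel condition
  have hker : f.ker ≤ ρ.ker := by
    intro p hp
    rw [MonoidHom.mem_ker] at hp
    change (p.left : G) * (p.right : G) = 1 at hp
    have h1 : (p.right : G) = (p.left : G)⁻¹ := (inv_eq_of_mul_eq_one_right hp).symm
    have h2 : (p.right : G) = 1 := hdisj _ (by rw [h1]; exact U.inv_mem p.left.2) p.right.2
    have h3 : (p.left : G) = 1 := by rw [h2, mul_one] at hp; exact hp
    have h4 : p = 1 := by
      ext
      · rw [SemidirectProduct.one_left]; exact h3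
      · rw [SemidirectProduct.one_right]; exact h2
    rw [h4]; exact ρ.ker.one_mem
  -- transitivity
  have htrans : MulAction.IsPretransitive (↥U ⋊[φ] ↥N₁) ↥U := by
    constructor
    intro v w
    refine ⟨SemidirectProduct.inl (w * v⁻¹), ?_⟩
    rw [hsmul]
    simp
  -- `inr a'` acts as a swap
  have hswap : (ρ (SemidirectProduct.inr a')).IsSwap := by
    have : Fintype ↥U := Fintype.ofFinite _
    rw [← Equiv.Perm.card_support_eq_two]
    have h1 := Finset.card_add_card_compl (ρ (SemidirectProduct.inr a')).support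
    have h2 : Fintype.card ↥U = 4 := by rw [← Nat.card_eq_fintype_card]; exact hU4
    have h3 : ((ρ (SemidirectProduct.inr a')).support)ᶜ.card = 2 := by
      have h4 : Nat.card ↥((U ⊓ centralizer {a} : Subgroup G).subgroupOf U) = 2 := by
        rw [card_subgroupOf_of_le inf_le_left]; exact hCa
      rw [Nat.card_eq_fintype_card, Fintype.card_subtype] at h4
      rw [← h4]
      congr 1
      ext v
      simp only [Finset.mem_compl, Equiv.Perm.mem_support, ne_eq, not_not, Finset.mem_filter,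
        Finset.mem_univ, true_and]
      rw [hρ, hsmul, Subgroup.mem_subgroupOf, Subgroup.mem_inf, Subgroup.mem_centralizer_iff]
      simp only [SemidirectProduct.left_inr, SemidirectProduct.right_inr, one_mul,
        Set.mem_singleton_iff, forall_eq]
      constructor
      · intro h
        refine ⟨v.2, ?_⟩
        have h5 := congrArg (Subtype.val) h
        rw [hφ] at h5
        change a * (v : G) * a⁻¹ = (v : G) at h5
        have h6 : a * (v : G) = (a * (v : G) * a⁻¹) * a := by group
        rw [h6, h5]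
      · rintro ⟨_, h⟩
        apply Subtype.ext
        rw [hφ]
        change a * (v : G) * a⁻¹ = (v : G)
        rw [h]; group
    omega
  -- generation by conjugates
  have hgen : Subgroup.closure (Group.conjugatesOfSet {(SemidirectProduct.inr a' : ↥U ⋊[φ] ↥N₁)}) = ⊤ := by
    change Subgroup.normalClosure {(SemidirectProduct.inr a' : ↥U ⋊[φ] ↥N₁)} = ⊤
    set W := Subgroup.normalClosure {(SemidirectProduct.inr a' : ↥U ⋊[φ] ↥N₁)} with hW
    have hWn : W.Normal := Subgroup.normalClosure_normal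
    have haW : (SemidirectProduct.inr a' : ↥U ⋊[φ] ↥N₁) ∈ W :=
      Subgroup.subset_normalClosure (Set.mem_singleton _)
    have hkk : (a'⁻¹ * (k'⁻¹ * a' * k')) = k' ^ 2 := by
      apply Subtype.ext
      change a⁻¹ * (k⁻¹ * a * k) = k ^ 2
      have h1 : a⁻¹ * (k⁻¹ * a * k) = (a⁻¹ * k⁻¹ * a) * k := by group
      have h2 : a⁻¹ * k⁻¹ * a = (a⁻¹ * k * a)⁻¹ := by group
      rw [h1, h2, hka, inv_inv, pow_two]
    have hkW : (SemidirectProduct.inr k' : ↥U ⋊[φ] ↥N₁) ∈ W := by
      have h1 : (SemidirectProduct.inr (k'⁻¹ * a' * k') : ↥U ⋊[φ] ↥N₁) ∈ W := by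
        rw [map_mul, map_mul, map_inv]
        have := hWn.conj_mem _ haW (SemidirectProduct.inr k')⁻¹
        rwa [inv_inv] at this
      have h2 : (SemidirectProduct.inr (k' ^ 2) : ↥U ⋊[φ] ↥N₁) ∈ W := by
        rw [← hkk, map_mul, map_inv]
        exact W.mul_mem (W.inv_mem haW) h1
      rw [map_pow] at h2
      refine mem_of_sq_mem_of_odd ?_ h2
      have h3 : orderOf (SemidirectProduct.inr k' : ↥U ⋊[φ] ↥N₁) = orderOf k := by
        rw [orderOf_injective _ SemidirectProduct.inr_injective]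
        exact Subgroup.orderOf_mk k hkN
      rw [h3]; exact hkodd
    have hrW : ∀ n : ↥N₁, (SemidirectProduct.inr n : ↥U ⋊[φ] ↥N₁) ∈ W := by
      have h1 : (⊤ : Subgroup ↥N₁) ≤ W.comap SemidirectProduct.inr := by
        rw [← Subgroup.closure_closure_coe_preimage (k := ({k, a} : Set G)), Subgroup.closure_le]
        rintro ⟨x, hx⟩ hx'
        change x ∈ ({k, a} : Set G) at hx'
        rw [SetLike.mem_coe, Subgroup.mem_comap]
        rcases hx' with rfl | rfl
        · exact hkW
        · exact haW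
      intro n
      exact h1 (Subgroup.mem_top n)
    have hlW : ∀ u : ↥U, (SemidirectProduct.inl u : ↥U ⋊[φ] ↥N₁) ∈ W := by
      have hinj : Function.Injective (fun v : ↥U => v⁻¹ * (φ k')⁻¹ v) := by
        intro v w hvw
        change v⁻¹ * (φ k')⁻¹ v = w⁻¹ * (φ k')⁻¹ w at hvw
        have h1 : (φ k')⁻¹ (v * w⁻¹) = v * w⁻¹ := by
          rw [map_mul, map_inv]
          have h2 : (φ k')⁻¹ v = v * (w⁻¹ * (φ k')⁻¹ w) := by rw [← hvw]; group
          rw [h2]; group
        have h3 : φ k' (v * w⁻¹) = v * w⁻¹ := by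
          conv_lhs => rw [← h1]
          exact (φ k').apply_symm_apply _
        have h4 := congrArg Subtype.val h3
        rw [hφ] at h4
        change k * ((v * w⁻¹ : ↥U) : G) * k⁻¹ = ((v * w⁻¹ : ↥U) : G) at h4
        have h5 : k⁻¹ * ((v * w⁻¹ : ↥U) : G) * k = ((v * w⁻¹ : ↥U) : G) := by
          conv_lhs => rw [← h4]
          group
        have h6 := hfix _ (v * w⁻¹ : ↥U).2 h5
        have h7 : v * w⁻¹ = 1 := Subtype.ext h6
        exact mul_inv_eq_one.mp h7
      have hsurj := Finite.injective_iff_surjective.mp hinj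
      intro u
      obtain ⟨v, hv⟩ := hsurj u
      change v⁻¹ * (φ k')⁻¹ v = u at hv
      rw [← hv, map_mul, map_inv, SemidirectProduct.inl_aut_inv]
      have h1 := hWn.conj_mem _ (W.inv_mem hkW) (SemidirectProduct.inl v)⁻¹
      rw [inv_inv] at h1
      have h2 := W.mul_mem h1 hkW
      have h3 : (SemidirectProduct.inl v : ↥U ⋊[φ] ↥N₁)⁻¹ * (SemidirectProduct.inr k')⁻¹ *
          SemidirectProduct.inl v * SemidirectProduct.inr k' =
          (SemidirectProduct.inl v)⁻¹ * (SemidirectProduct.inr k'⁻¹ * SemidirectProduct.inl v *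
            SemidirectProduct.inr k') := by
        rw [map_inv]; group
      rw [← h3]; exact h2
    rw [eq_top_iff]
    intro p _
    rw [← SemidirectProduct.inl_left_mul_inr_right p]
    exact W.mul_mem (hlW _) (hrW _)
  -- surjectivity
  have hsurj : Function.Surjective ρ := by
    apply surjective_of_isSwap_of_isPretransitive
      (Group.conjugatesOfSet {(SemidirectProduct.inr a' : ↥U ⋊[φ] ↥N₁)}) _ hgen
    intro σ hσ
    rw [Group.mem_conjugatesOfSet_iff] at hσ
    obtain ⟨b, hb, hbσ⟩ := hσ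
    rw [Set.mem_singleton_iff] at hb
    subst hb
    rw [isConj_iff] at hbσ
    obtain ⟨c, rfl⟩ := hbσ
    have : Fintype ↥U := Fintype.ofFinite _
    change (ρ (c * SemidirectProduct.inr a' * c⁻¹)).IsSwap
    rw [map_mul, map_mul, map_inv, ← Equiv.Perm.card_support_eq_two, Equiv.Perm.card_support_conj,
      Equiv.Perm.card_support_eq_two]
    exact hswap
  have h1 : Cfsg.Involves (Equiv.Perm ↥U) G := involves_of_hom f ρ hsurj hker
  have e : ↥U ≃ Fin 4 :=
    (Nat.equivFinOfCardPos (by rw [hU4]; norm_num)).trans (finCongr hU4)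
  exact involves_of_mulEquiv e.permCongrHom h1

end Cfsg.Agent.Helper1.S4Free
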