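import Mathlib
import Cfsg.Prelude.Def_CaseTheorems
import Cfsg.Prelude.Def_LocalEven
import Cfsg.Agent.Lib.Helper1.Basic
import Cfsg.Agent.Lib.Helper1.Compl
import Cfsg.Agent.Lib.Helper1.Coprime
import Cfsg.Agent.Lib.Helper1.SysNorm
import Cfsg.Agent.Lib.Helper1.S4FreeA
import Cfsg.Agent.Lib.Helper1.S4FreeB
import Cfsg.Agent.Lib.Helper54.Solv

/-!
# General lemmas for the `S₄`-free Thompson factorisation (class at most two)
-/

set_option autoImplicit false

namespace Cfsg.Agent.Helper1.S4Free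

open Subgroup
open scoped Pointwise commutatorElement
open Cfsg Cfsg.Agent.Helper1 Cfsg.Agent.Helper1.SysNorm

variable {G : Type*} [Group G]

/-- `O_p(G / O_p(G)) = 1`. -/
theorem pCore_quotient_eq_bot (p : ℕ) [Fact p.Prime] :
    pCore p (G ⧸ pCore p G) = ⊥ := by
  rw [eq_bot_iff]
  apply sSup_le
  rintro M ⟨hM, hMp⟩
  set Q := pCore p G with hQ
  set D := M.comap (QuotientGroup.mk' Q) with hD
  have hDn : D.Normal := hM.comap _
  have hDp : IsPGroup p D := by
    apply IsPGroup.comap_of_ker_isPGroup hMp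
    rw [QuotientGroup.ker_mk']
    exact Cfsg.Agent.Helper54.isPGroup_pCore
  have hDQ : D ≤ Q := Cfsg.Agent.Helper54.le_pCore hDn hDp
  have hmap : D.map (QuotientGroup.mk' Q) = M :=
    Subgroup.map_comap_eq_self_of_surjective (QuotientGroup.mk'_surjective Q) M
  rw [← hmap]
  intro x hx
  obtain ⟨d, hd, rfl⟩ := hx
  rw [Subgroup.mem_bot, QuotientGroup.mk'_apply, QuotientGroup.eq_one_iff]
  exact hDQ hd

/-- In a finite solvable group with `O_p(G) = 1`, the centraliser of `O_{p'}(G)` lies in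
`O_{p'}(G)`. -/
theorem centralizer_pPrimeCore_le [Finite G] [Group.IsSolvable G] (p : ℕ) [Fact p.Prime]
    (h : pCore p G = ⊥) :
    centralizer (pPrimeCore p G : Set G) ≤ pPrimeCore p G := by
  have h' := Cfsg.Agent.Helper54.derived_descent (centralizer (pPrimeCore p G : Set G))
    (centralizer (pPrimeCore p G : Set G) ⊓ pPrimeCore p G) ?_
  · exact h'.trans inf_le_right
  · intro A hAn hAC hAA
    refine le_inf hAC ?_
    have hnil : Group.IsNilpotent A :=
      Cfsg.Agent.Helper54.isNilpotent_of_commutators_central A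
        (Cfsg.Agent.Helper54.commutators_central_of_le_centralizer A _ hAC (hAA.trans inf_le_right))
    apply Cfsg.Agent.Helper54.le_pPrimeCore hAn
    -- the Sylow `p`-subgroup of `A` is trivial
    have hp : p.Prime := Fact.out
    obtain ⟨P⟩ := (inferInstance : Nonempty (Sylow p A))
    have hPn : (P : Subgroup A).Normal := inferInstance
    have hPc : (P : Subgroup A).Characteristic := P.characteristic_of_normal hPn
    have hn : ((P : Subgroup A).map A.subtype).Normal := ConjAct.normal_of_characteristic_of_normal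
    have hPp : IsPGroup p ((P : Subgroup A).map A.subtype) := P.isPGroup'.map _
    have hle : (P : Subgroup A).map A.subtype ≤ pCore p G := Cfsg.Agent.Helper54.le_pCore hn hPp
    rw [h, le_bot_iff] at hle
    have hbot : (P : Subgroup A) = ⊥ :=
      (Subgroup.map_eq_bot_iff_of_injective _ A.subtype_injective).mp hle
    rw [Nat.coprime_comm, Nat.Prime.coprime_iff_not_dvd hp]
    intro hdvd
    exact P.ne_bot_of_dvd_card hdvd hbot

/-- Product formula when `H` normalises `N`. -/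
theorem card_sup_mul_card_inf' (H N : Subgroup G) (h : H ≤ normalizer (N : Set G)) :
    Nat.card (H ⊔ N : Subgroup G) * Nat.card (H ⊓ N : Subgroup G) = Nat.card H * Nat.card N := by
  set L : Subgroup G := H ⊔ N with hL
  have hHL : H ≤ L := le_sup_left
  have hNL : N ≤ L := le_sup_right
  have hLn : L ≤ normalizer (N : Set G) := sup_le h le_normalizer
  have hn : (N.subgroupOf L).Normal := (Subgroup.normal_subgroupOf_iff_le_normalizer hNL).mpr hLn
  have h1 := card_sup_mul_card_inf (H.subgroupOf L) (N.subgroupOf L)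
  have h2 : H.subgroupOf L ⊔ N.subgroupOf L = ⊤ := by
    rw [← Subgroup.subgroupOf_sup hHL hNL, Subgroup.subgroupOf_self]
  have h3 : H.subgroupOf L ⊓ N.subgroupOf L = (H ⊓ N).subgroupOf L := by
    ext x; simp [Subgroup.mem_subgroupOf]
  rw [h2, h3, Subgroup.card_top, card_subgroupOf_of_le (inf_le_left.trans hHL),
    card_subgroupOf_of_le hHL, card_subgroupOf_of_le hNL] at h1
  exact h1

/-- The elements of `Q` that are central in `Q` and of order at most two. -/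
def omegaZ (Q : Subgroup G) : Subgroup G where
  carrier := {z | z ∈ Q ∧ (∀ y ∈ Q, z * y = y * z) ∧ z * z = 1}
  mul_mem' := by
    rintro z w ⟨hz1, hz2, hz3⟩ ⟨hw1, hw2, hw3⟩
    refine ⟨Q.mul_mem hz1 hw1, ?_, ?_⟩
    · intro y hy
      rw [mul_assoc, hw2 y hy, ← mul_assoc, hz2 y hy, mul_assoc]
    · have h1 : z * w * (z * w) = z * (w * z) * w := by group
      rw [h1, ← hz2 w hw1]
      have h2 : z * (z * w) * w = (z * z) * (w * w) := by group
      rw [h2, hz3, hw3, one_mul]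
  one_mem' := ⟨Q.one_mem, fun y _ => by rw [one_mul, mul_one], by rw [one_mul]⟩
  inv_mem' := by
    rintro z ⟨hz1, hz2, hz3⟩
    have h1 : z⁻¹ = z := inv_eq_of_mul_eq_one_left hz3
    rw [h1]
    exact ⟨hz1, hz2, hz3⟩

theorem mem_omegaZ {Q : Subgroup G} {z : G} :
    z ∈ omegaZ Q ↔ z ∈ Q ∧ (∀ y ∈ Q, z * y = y * z) ∧ z * z = 1 := Iff.rfl

theorem omegaZ_le (Q : Subgroup G) : omegaZ Q ≤ Q := fun _ hz => hz.1

theorem conj_mem_omegaZ {Q : Subgroup G} {n z : G} (hn : n ∈ normalizer (Q : Set G))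
    (hz : z ∈ omegaZ Q) : n⁻¹ * z * n ∈ omegaZ Q := by
  obtain ⟨hz1, hz2, hz3⟩ := hz
  refine ⟨nconj hn hz1, ?_, ?_⟩
  · intro y hy
    have hy' : n * y * n⁻¹ ∈ Q := nconj' hn hy
    have h1 : n⁻¹ * z * n * y = n⁻¹ * (z * (n * y * n⁻¹)) * n := by group
    rw [h1, hz2 _ hy']; group
  · have h1 : n⁻¹ * z * n * (n⁻¹ * z * n) = n⁻¹ * (z * z) * n := by group
    rw [h1, hz3]; group

/-- The elements of `N(Q)` acting trivially on `Q / Ω₁(Z(Q))`. -/
def trivMod (Q : Subgroup G) : Subgroup G where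
  carrier := {g | g ∈ normalizer (Q : Set G) ∧ ∀ x ∈ Q, x⁻¹ * (g⁻¹ * x * g) ∈ omegaZ Q}
  mul_mem' := by
    rintro g h ⟨hg1, hg2⟩ ⟨hh1, hh2⟩
    refine ⟨(normalizer (Q : Set G)).mul_mem hg1 hh1, ?_⟩
    intro x hx
    have h1 : x⁻¹ * ((g * h)⁻¹ * x * (g * h)) =
        (x⁻¹ * (h⁻¹ * x * h)) * (h⁻¹ * (x⁻¹ * (g⁻¹ * x * g)) * h) := by group
    rw [h1]
    exact (omegaZ Q).mul_mem (hh2 x hx) (conj_mem_omegaZ hh1 (hg2 x hx))
  one_mem' := by
    refine ⟨(normalizer (Q : Set G)).one_mem, ?_⟩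
    intro x _
    have h1 : x⁻¹ * ((1 : G)⁻¹ * x * 1) = 1 := by group
    rw [h1]; exact (omegaZ Q).one_mem
  inv_mem' := by
    rintro g ⟨hg1, hg2⟩
    refine ⟨(normalizer (Q : Set G)).inv_mem hg1, ?_⟩
    intro x hx
    have hy : g * x * g⁻¹ ∈ Q := nconj' hg1 hx
    have h1 := hg2 _ hy
    have h2 : (g * x * g⁻¹)⁻¹ * (g⁻¹ * (g * x * g⁻¹) * g) = (x⁻¹ * (g⁻¹⁻¹ * x * g⁻¹))⁻¹ := by group
    rw [h2] at h1
    have := (omegaZ Q).inv_mem h1
    rwa [inv_inv] at this

theorem mem_trivMod {Q : Subgroup G} {g : G} :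
    g ∈ trivMod Q ↔ g ∈ normalizer (Q : Set G) ∧ ∀ x ∈ Q, x⁻¹ * (g⁻¹ * x * g) ∈ omegaZ Q := Iff.rfl

theorem conj_mem_trivMod {Q : Subgroup G} {n g : G} (hn : n ∈ normalizer (Q : Set G))
    (hg : g ∈ trivMod Q) : n⁻¹ * g * n ∈ trivMod Q := by
  obtain ⟨hg1, hg2⟩ := hg
  refine ⟨?_, ?_⟩
  · exact (normalizer (Q : Set G)).mul_mem ((normalizer (Q : Set G)).mul_mem
      ((normalizer (Q : Set G)).inv_mem hn) hg1) hn
  · intro x hx
    have hy : n * x * n⁻¹ ∈ Q := nconj' hn hx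
    have h1 : x⁻¹ * ((n⁻¹ * g * n)⁻¹ * x * (n⁻¹ * g * n)) =
        n⁻¹ * ((n * x * n⁻¹)⁻¹ * (g⁻¹ * (n * x * n⁻¹) * g)) * n := by group
    rw [h1]
    exact conj_mem_omegaZ hn (hg2 _ hy)

/-- **Quadratic action in class two.** If `T` has class at most two, `Q ≤ T`, and `t ∈ T` is an
involution normalising `Q`, then `t` acts trivially on `Q / Ω₁(Z(Q))`. -/
theorem mem_trivMod_of_class_two {T Q : Subgroup G} (hcl : ⁅⁅T, T⁆, T⁆ = ⊥) (hQT : Q ≤ T)
    {t : G} (htT : t ∈ T) (htt : t * t = 1) (htQ : t ∈ normalizer (Q : Set G)) :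
    t ∈ trivMod Q := by
  refine ⟨htQ, ?_⟩
  intro x hx
  set c : G := x⁻¹ * (t⁻¹ * x * t) with hc
  have hcT : c ∈ ⁅T, T⁆ := by
    have h1 : c = ⁅x⁻¹, t⁻¹⁆ := by rw [hc, commutatorElement_def]; group
    rw [h1]
    exact Subgroup.commutator_mem_commutator (T.inv_mem (hQT hx)) (T.inv_mem htT)
  have hcent : ∀ y ∈ T, c * y = y * c := by
    intro y hy
    have h1 : ⁅c, y⁆ ∈ ⁅⁅T, T⁆, T⁆ := Subgroup.commutator_mem_commutator hcT hy
    rw [hcl, Subgroup.mem_bot, commutatorElement_eq_one_iff_mul_comm] at h1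
    exact h1
  have hcQ : c ∈ Q := Q.mul_mem (Q.inv_mem hx) (nconj htQ hx)
  refine ⟨hcQ, fun y hy => hcent y (hQT hy), ?_⟩
  -- `c * c = 1`
  have h1 : t⁻¹ * x * t = x * c := by rw [hc]; group
  have h2 : t⁻¹ * (t⁻¹ * x * t) * t = x := by
    have : t⁻¹ * (t⁻¹ * x * t) * t = (t * t)⁻¹ * x * (t * t) := by group
    rw [this, htt]; group
  rw [h1] at h2
  have h3 : t⁻¹ * (x * c) * t = (t⁻¹ * x * t) * (t⁻¹ * (c * t)) := by group
  rw [h3, hcent t htT, h1] at h2
  have h4 : x * c * (t⁻¹ * (t * c)) = x * (c * c) := by group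
  rw [h4] at h2
  exact mul_eq_left.mp h2 |> fun h => h

end Cfsg.Agent.Helper1.S4Free
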