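import Mathlib
import Cfsg.Agent.Lib.Helper1.FFB
import Cfsg.Agent.Lib.Helper1.S4FreeC

/-!
# Failure of factorization, part C: the plane `N` has order `p²`; the commutator `Q = [K, a]`
-/

set_option autoImplicit false
set_option linter.unusedSectionVars false
set_option linter.unusedVariables false

namespace Cfsg.Agent.Helper1.FF

open Subgroup
open scoped commutatorElement
open Cfsg.Agent.Helper1

variable {G : Type*} [Group G]

/-- The elements of `N(V) ∩ N(N)` acting trivially on `V / N`. -/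
def stabS (V N : Subgroup G) : Subgroup G where
  carrier := {g | g ∈ normalizer (V : Set G) ∧ g ∈ normalizer (N : Set G) ∧ ∀ v ∈ V, ⁅g, v⁆ ∈ N}
  mul_mem' := by
    rintro g h ⟨hg1, hg2, hg3⟩ ⟨hh1, hh2, hh3⟩
    refine ⟨(normalizer (V : Set G)).mul_mem hg1 hh1, (normalizer (N : Set G)).mul_mem hg2 hh2, ?_⟩
    intro v hv
    rw [comm_mul_left]
    exact N.mul_mem (conj_mem hg2 (hh3 v hv)) (hg3 v hv)
  one_mem' := ⟨(normalizer (V : Set G)).one_mem, (normalizer (N : Set G)).one_mem, by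
    intro v _; simp [commutatorElement_def, N.one_mem]⟩
  inv_mem' := by
    rintro g ⟨hg1, hg2, hg3⟩
    refine ⟨(normalizer (V : Set G)).inv_mem hg1, (normalizer (N : Set G)).inv_mem hg2, ?_⟩
    intro v hv
    rw [comm_inv_left]
    exact N.inv_mem (hg3 _ (conj_mem' hg1 hv))

theorem mem_stabS {V N : Subgroup G} {g : G} : g ∈ stabS V N ↔
    g ∈ normalizer (V : Set G) ∧ g ∈ normalizer (N : Set G) ∧ ∀ v ∈ V, ⁅g, v⁆ ∈ N := Iff.rfl

namespace TvS

variable {p : ℕ} [hp : Fact p.Prime] {V K : Subgroup G} {a c : G} [Finite G]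

theorem ctr_fixed (S : TvS p V K a c) {u : G} (hu : u ∈ ctr K c) (hau : a * u = u * a) :
    u ∈ zpowers c := by
  obtain ⟨k, hk, huk⟩ := S.mem_ctr_iff.mp hu
  by_cases hy : a⁻¹ * (k * a * k⁻¹) = 1
  · exact Subgroup.zpowers_le.mpr (S.ctr_mem_of_y_eq_one hk hy) huk
  by_cases hu1 : u = 1
  · rw [hu1]; exact (zpowers c).one_mem
  exfalso
  have h2 : k * c * k⁻¹ ∈ zpowers u := mem_zpowers_swap (S.dp hk) huk hu1
  exact S.pair hk hy (commute_zpowers hau _ h2)

theorem orderOf_c (S : TvS p V K a c) : orderOf c = p :=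
  orderOf_eq_prime S.cp S.hT.c_ne_one

theorem card_zpowers_c (S : TvS p V K a c) : Nat.card (zpowers c) = p := by
  rw [Nat.card_zpowers, S.orderOf_c]

theorem conj_c_ne_one (S : TvS p V K a c) (k : G) : k * c * k⁻¹ ≠ 1 := by
  intro h
  apply S.hT.c_ne_one
  have : c = k⁻¹ * (k * c * k⁻¹) * k := by group
  rw [this, h]; group

theorem card_zpowers_d (S : TvS p V K a c) {k : G} (hk : k ∈ K) :
    Nat.card (zpowers (k * c * k⁻¹)) = p := by
  rw [Nat.card_zpowers, orderOf_eq_prime (S.dp hk) (S.conj_c_ne_one k)]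

theorem ctr_eq_sup (S : TvS p V K a c) {x : G} (hx : x ∈ K) (hy : a⁻¹ * (x * a * x⁻¹) ≠ 1) :
    ctr K c = zpowers c ⊔ zpowers (x * c * x⁻¹) := by
  apply le_antisymm
  · intro u hu
    have hdV : x * c * x⁻¹ ∈ V := conj_mem (S.hKV hx) S.hT.hc
    have he : ⁅a, x * c * x⁻¹⁆ ∈ zpowers c := S.hT.him _ hdV
    have he1 : ⁅a, x * c * x⁻¹⁆ ≠ 1 := fun h => S.pair hx hy (comm_eq_one_iff.mp h)
    have hzz := zpowers_eq_of_mem S.cp he he1
    have huV : u ∈ V := S.ctr_le hu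
    have h1 : ⁅a, u⁆ ∈ zpowers ⁅a, x * c * x⁻¹⁆ := by rw [hzz]; exact S.hT.him u huV
    obtain ⟨i, hi⟩ := mem_zpowers_iff.mp h1
    have hdi : (x * c * x⁻¹) ^ i ∈ V := V.zpow_mem hdV i
    have hw : ⁅a, u * ((x * c * x⁻¹) ^ i)⁻¹⁆ = 1 := by
      rw [S.hV.comm_mul S.hT.hN huV (V.inv_mem hdi), S.hV.comm_inv S.hT.hN hdi,
        S.hV.comm_zpow S.hT.hN hdV, hi, mul_inv_cancel]
    have hwN : u * ((x * c * x⁻¹) ^ i)⁻¹ ∈ ctr K c :=
      (ctr K c).mul_mem hu ((ctr K c).inv_mem ((ctr K c).zpow_mem (S.conj_c_mem_ctr hx) i))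
    have hwc := S.ctr_fixed hwN (comm_eq_one_iff.mp hw)
    have : u = u * ((x * c * x⁻¹) ^ i)⁻¹ * (x * c * x⁻¹) ^ i := by group
    rw [this]
    exact mul_mem_sup hwc (zpow_mem (mem_zpowers _) i)
  · exact sup_le S.zpowers_c_le_ctr (Subgroup.zpowers_le.mpr (S.conj_c_mem_ctr hx))

theorem card_ctr (S : TvS p V K a c) {x : G} (hx : x ∈ K) (hy : a⁻¹ * (x * a * x⁻¹) ≠ 1) :
    Nat.card (ctr K c) = p ^ 2 := by
  rw [S.ctr_eq_sup hx hy]
  have hdV : x * c * x⁻¹ ∈ V := conj_mem (S.hKV hx) S.hT.hc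
  have hcd : c * (x * c * x⁻¹) = (x * c * x⁻¹) * c := S.hV.comm _ S.hT.hc _ hdV
  have hnorm : zpowers c ≤ normalizer ((zpowers (x * c * x⁻¹) : Subgroup G) : Set G) := by
    have h1 : zpowers c ≤ centralizer ((zpowers (x * c * x⁻¹) : Subgroup G) : Set G) := by
      rw [Subgroup.zpowers_le]
      rw [mem_centralizer_iff]
      intro w hw
      exact (commute_zpowers hcd w hw).symm
    exact h1.trans (centralizer_le_normalizer _)
  have h := S4Free.card_sup_mul_card_inf' (zpowers c) (zpowers (x * c * x⁻¹)) hnorm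
  have hinf : zpowers c ⊓ zpowers (x * c * x⁻¹) = ⊥ := by
    rw [eq_bot_iff]
    intro u hu
    obtain ⟨hu1, hu2⟩ := mem_inf.mp hu
    rw [mem_bot]
    by_contra hne
    have h2 : x * c * x⁻¹ ∈ zpowers u := mem_zpowers_swap (S.dp hx) hu2 hne
    exact hy (S.y_eq_one_of_ctr_mem hx (Subgroup.zpowers_le.mpr hu1 h2))
  rw [hinf, Subgroup.card_bot, mul_one, S.card_zpowers_c, S.card_zpowers_d hx] at h
  rw [h, pow_two]

theorem ctrSet_conj' (S : TvS p V K a c) {g u : G} (hg : g ∈ normalizer (K : Set G))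
    (hgc : g * c = c * g) (hu : u ∈ ctrSet K c) : g * u * g⁻¹ ∈ ctrSet K c := by
  obtain ⟨k, hk, hu⟩ := hu
  refine ⟨g * k * g⁻¹, conj_mem hg hk, ?_⟩
  have h1 := conj_mem_zpowers (g := g) hu
  have e : g * (k * c * k⁻¹) * g⁻¹ = g * k * g⁻¹ * c * (g * k * g⁻¹)⁻¹ := by
    have : g * (k * c * k⁻¹) * g⁻¹ = g * k * g⁻¹ * ((g * c) * g⁻¹) * (g * k * g⁻¹)⁻¹ := by group
    rw [this, hgc]; group
  rwa [e] at h1

theorem a_mem_normalizer_ctr (S : TvS p V K a c) : a ∈ normalizer (ctr K c : Set G) := by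
  have hainv : a⁻¹ * c = c * a⁻¹ := by
    have : Commute a c := S.hT.hac
    exact this.inv_left
  rw [mem_normalizer_iff]
  intro u
  constructor
  · intro hu
    exact S.mem_ctr_iff.mpr (S.ctrSet_conj' S.haK S.hT.hac (S.mem_ctr_iff.mp hu))
  · intro hu
    have := S.mem_ctr_iff.mpr (S.ctrSet_conj' ((normalizer (K : Set G)).inv_mem S.haK) hainv
      (S.mem_ctr_iff.mp hu))
    have e : a⁻¹ * (a * u * a⁻¹) * a⁻¹⁻¹ = u := by group
    rwa [e] at this

/-- `Q = [K, a]`. -/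
def Qs (K : Subgroup G) (a : G) : Subgroup G := ⁅K, zpowers a⁆

theorem zpowers_a_le_normalizer (S : TvS p V K a c) : zpowers a ≤ normalizer (K : Set G) :=
  Subgroup.zpowers_le.mpr S.haK

theorem Qs_le (S : TvS p V K a c) : Qs K a ≤ K :=
  commutator_le_of_le_normalizer S.zpowers_a_le_normalizer

theorem K_le_normalizer_Qs (S : TvS p V K a c) : K ≤ normalizer (Qs K a : Set G) :=
  le_normalizer_commutator_left K (zpowers a)

theorem a_mem_normalizer_Qs (S : TvS p V K a c) : a ∈ normalizer (Qs K a : Set G) :=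
  le_normalizer_commutator_right S.zpowers_a_le_normalizer (mem_zpowers a)

theorem a_mem_stabS (S : TvS p V K a c) : a ∈ stabS V (ctr K c) :=
  ⟨S.hT.hN, S.a_mem_normalizer_ctr, fun v hv => S.zpowers_c_le_ctr (S.hT.him v hv)⟩

theorem conj_a_mem_stabS (S : TvS p V K a c) {k : G} (hk : k ∈ K) :
    k * a * k⁻¹ ∈ stabS V (ctr K c) := by
  have hT := S.hT.conj (S.hKV hk)
  refine ⟨hT.hN, ?_, fun v hv => ?_⟩
  · exact (normalizer (ctr K c : Set G)).mul_mem ((normalizer (ctr K c : Set G)).mul_mem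
      (S.K_le_normalizer_ctr hk) S.a_mem_normalizer_ctr)
      ((normalizer (ctr K c : Set G)).inv_mem (S.K_le_normalizer_ctr hk))
  · exact (Subgroup.zpowers_le.mpr (S.conj_c_mem_ctr hk)) (hT.him v hv)

theorem Qs_le_stabS (S : TvS p V K a c) : Qs K a ≤ stabS V (ctr K c) := by
  unfold Qs
  rw [commutator_le]
  intro k hk g hg
  obtain ⟨n, rfl⟩ := mem_zpowers_iff.mp hg
  have e : ⁅k, a ^ n⁆ = (k * a * k⁻¹) ^ n * (a ^ n)⁻¹ := by
    rw [commutatorElement_def]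
    have : (k * a * k⁻¹) ^ n = k * a ^ n * k⁻¹ := by
      rw [← MulAut.conj_apply, ← map_zpow, MulAut.conj_apply]
    rw [this]
  rw [e]
  exact (stabS V (ctr K c)).mul_mem ((stabS V (ctr K c)).zpow_mem (S.conj_a_mem_stabS hk) n)
    ((stabS V (ctr K c)).inv_mem ((stabS V (ctr K c)).zpow_mem S.a_mem_stabS n))

theorem y_mem_Qs (S : TvS p V K a c) {k : G} (hk : k ∈ K) : a⁻¹ * (k * a * k⁻¹) ∈ Qs K a := by
  have e : a⁻¹ * (k * a * k⁻¹) = ⁅a⁻¹, k⁆ := by rw [commutatorElement_def]; group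
  rw [e]
  unfold Qs
  rw [commutator_comm]
  exact commutator_mem_commutator (inv_mem (mem_zpowers a)) hk

end TvS

end Cfsg.Agent.Helper1.FF
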