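import Mathlib
import Cfsg.Agent.Lib.Helper1.FFC

/-!
# Failure of factorization, part D: `V = N × C_V(Q)`, `Q` is semiregular on `N`, `E = Q⟨a⟩`
-/

set_option autoImplicit false
set_option linter.unusedSectionVars false
set_option linter.unusedVariables false

namespace Cfsg.Agent.Helper1.FF

open Subgroup
open scoped commutatorElement
open Cfsg.Agent.Helper1

variable {G : Type*} [Group G]

theorem conj_mem_centralizer {Q : Subgroup G} {g w : G} (hg : g ∈ normalizer (Q : Set G))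
    (hw : w ∈ centralizer (Q : Set G)) : g * w * g⁻¹ ∈ centralizer (Q : Set G) := by
  rw [mem_centralizer_iff]
  intro q hq
  have h1 : g⁻¹ * q * g ∈ Q := conj_mem' hg hq
  have h2 := (mem_centralizer_iff.mp hw) _ h1
  calc q * (g * w * g⁻¹) = g * ((g⁻¹ * q * g) * w) * g⁻¹ := by group
    _ = g * (w * (g⁻¹ * q * g)) * g⁻¹ := by rw [h2]
    _ = g * w * g⁻¹ * q := by group

theorem normalizer_le_normalizer_centralizer (Q : Subgroup G) :
    normalizer (Q : Set G) ≤ normalizer ((centralizer (Q : Set G) : Subgroup G) : Set G) := by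
  intro g hg
  rw [mem_normalizer_iff]
  intro w
  constructor
  · exact conj_mem_centralizer hg
  · intro hw
    have := conj_mem_centralizer ((normalizer (Q : Set G)).inv_mem hg) hw
    have e : g⁻¹ * (g * w * g⁻¹) * g⁻¹⁻¹ = w := by group
    rwa [e] at this

namespace TvS

variable {p : ℕ} [hp : Fact p.Prime] {V K : Subgroup G} {a c : G} [Finite G]

theorem ea_ctr (S : TvS p V K a c) : EA p (ctr K c) := S.hV.mono S.ctr_le

theorem card_Qs_coprime (S : TvS p V K a c) : (Nat.card (Qs K a)).Coprime p :=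
  Nat.Coprime.coprime_dvd_left (Subgroup.card_dvd_of_le S.Qs_le) S.hKp

theorem Qs_le_normalizer_V (S : TvS p V K a c) : Qs K a ≤ normalizer (V : Set G) :=
  S.Qs_le.trans S.hKV

theorem Qs_le_normalizer_ctr (S : TvS p V K a c) : Qs K a ≤ normalizer (ctr K c : Set G) :=
  S.Qs_le.trans S.K_le_normalizer_ctr

/-- an element of `Q` centralizing `N` is trivial -/
theorem Qs_eq_one_of_centralizes_ctr (S : TvS p V K a c) {q : G} (hq : q ∈ Qs K a)
    (h : ∀ u ∈ ctr K c, q * u = u * q) : q = 1 := by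
  have hst := S.Qs_le_stabS hq
  have h1 : ∀ v ∈ V, q ^ p * v = v * q ^ p :=
    S.hV.pow_commute_of_chain S.ctr_le hst.2.2 h
  have h2 := commute_of_pow_of_coprime S.hKp (pow_card_eq_one_of_mem (S.Qs_le hq)) h1
  exact S.hf q (mem_sup_left (S.Qs_le hq)) h2

theorem ctr_inf_centralizer_Qs (S : TvS p V K a c) {x : G} (hx : x ∈ K)
    (hy : a⁻¹ * (x * a * x⁻¹) ≠ 1) : ctr K c ⊓ centralizer (Qs K a : Set G) = ⊥ := by
  by_contra hne
  set W := ctr K c ⊓ centralizer (Qs K a : Set G) with hW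
  -- `c ∈ W`
  have hcW : c ∈ W := by
    by_contra hc
    -- every `w ∈ W` is fixed by `a`
    have hfix : ∀ w ∈ W, a * w = w * a := by
      intro w hw
      by_contra hnc
      have hwV : w ∈ V := S.ctr_le (mem_inf.mp hw).1
      have he : ⁅a, w⁆ ∈ zpowers c := S.hT.him w hwV
      have he1 : ⁅a, w⁆ ≠ 1 := fun h => hnc (comm_eq_one_iff.mp h)
      have heW : ⁅a, w⁆ ∈ W := by
        rw [commutatorElement_def]
        refine W.mul_mem (mem_inf.mpr ⟨?_, ?_⟩) (W.inv_mem hw)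
        · exact conj_mem S.a_mem_normalizer_ctr (mem_inf.mp hw).1
        · exact conj_mem_centralizer S.a_mem_normalizer_Qs (mem_inf.mp hw).2
      exact hc (Subgroup.zpowers_le.mpr heW (mem_zpowers_swap S.cp he he1))
    obtain ⟨⟨w, hw⟩, hw0⟩ := (Subgroup.ne_bot_iff_exists_ne_one).mp hne
    have hw1 : w ≠ 1 := fun h => hw0 (Subtype.ext h)
    have hwc := S.ctr_fixed (mem_inf.mp hw).1 (hfix w hw)
    exact hc (Subgroup.zpowers_le.mpr hw (mem_zpowers_swap S.cp hwc hw1))
  -- all conjugates of `c` are centralized by `Q`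
  have hcen : ctr K c ≤ centralizer (Qs K a : Set G) := by
    unfold ctr
    rw [closure_le]
    rintro u ⟨k, hk, hu⟩
    have h1 : k * c * k⁻¹ ∈ centralizer (Qs K a : Set G) :=
      conj_mem_centralizer (S.K_le_normalizer_Qs hk) (mem_inf.mp hcW).2
    exact Subgroup.zpowers_le.mpr h1 hu
  have hQ1 : a⁻¹ * (x * a * x⁻¹) = 1 := by
    apply S.Qs_eq_one_of_centralizes_ctr (S.y_mem_Qs hx)
    intro u hu
    exact ((mem_centralizer_iff.mp (hcen hu)) _ (S.y_mem_Qs hx))
  exact hy hQ1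

theorem isSolvable_of_ea {W : Subgroup G} (hW : EA p W) : Group.IsSolvable W :=
  Group.isSolvable_of_comm (fun x y => Subtype.ext (hW.comm x x.2 y y.2))

theorem isPGroup_of_ea {W : Subgroup G} (hW : EA p W) : IsPGroup p W := by
  intro w
  exact ⟨1, by rw [pow_one]; exact Subtype.ext (hW.exp w w.2)⟩

theorem coprime_card_of_ea (S : TvS p V K a c) {W : Subgroup G} (hW : EA p W) :
    (Nat.card (Qs K a)).Coprime (Nat.card W) := by
  obtain ⟨n, hn⟩ := (isPGroup_of_ea hW).exists_card_eq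
  rw [hn]
  exact Nat.Coprime.pow_right n S.card_Qs_coprime

/-- `[V, Q] = N`. -/
theorem commutator_V_Qs (S : TvS p V K a c) {x : G} (hx : x ∈ K)
    (hy : a⁻¹ * (x * a * x⁻¹) ≠ 1) : ⁅V, Qs K a⁆ = ctr K c := by
  apply le_antisymm
  · rw [commutator_le]
    intro v hv q hq
    rw [← commutatorElement_inv]
    exact (ctr K c).inv_mem ((S.Qs_le_stabS hq).2.2 v hv)
  · have h1 := commutator_sup_centralizer (Qs K a) (ctr K c) S.Qs_le_normalizer_ctr
      (S.coprime_card_of_ea S.ea_ctr) (Or.inr (isSolvable_of_ea S.ea_ctr))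
    rw [S.ctr_inf_centralizer_Qs hx hy, sup_bot_eq] at h1
    rw [← h1]
    exact commutator_mono S.ctr_le le_rfl

theorem V_eq_sup (S : TvS p V K a c) {x : G} (hx : x ∈ K)
    (hy : a⁻¹ * (x * a * x⁻¹) ≠ 1) : ctr K c ⊔ (V ⊓ centralizer (Qs K a : Set G)) = V := by
  have h1 := commutator_sup_centralizer (Qs K a) V S.Qs_le_normalizer_V
    (S.coprime_card_of_ea S.hV) (Or.inr (isSolvable_of_ea S.hV))
  rwa [S.commutator_V_Qs hx hy] at h1

theorem ctr_inf_fix (S : TvS p V K a c) {x : G} (hx : x ∈ K)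
    (hy : a⁻¹ * (x * a * x⁻¹) ≠ 1) : ctr K c ⊓ (V ⊓ centralizer (Qs K a : Set G)) = ⊥ := by
  rw [eq_bot_iff]
  intro u hu
  have := S.ctr_inf_centralizer_Qs hx hy
  rw [← this]
  exact mem_inf.mpr ⟨(mem_inf.mp hu).1, (mem_inf.mp (mem_inf.mp hu).2).2⟩

/-- `a` centralizes `C_V(Q)`. -/
theorem a_commute_fix (S : TvS p V K a c) {x : G} (hx : x ∈ K)
    (hy : a⁻¹ * (x * a * x⁻¹) ≠ 1) {w : G} (hw : w ∈ V ⊓ centralizer (Qs K a : Set G)) :
    a * w = w * a := by
  have hwV := (mem_inf.mp hw).1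
  have h1 : ⁅a, w⁆ ∈ ctr K c := S.zpowers_c_le_ctr (S.hT.him w hwV)
  have h2 : ⁅a, w⁆ ∈ centralizer (Qs K a : Set G) := by
    rw [commutatorElement_def]
    exact (centralizer (Qs K a : Set G)).mul_mem
      (conj_mem_centralizer S.a_mem_normalizer_Qs (mem_inf.mp hw).2)
      ((centralizer (Qs K a : Set G)).inv_mem (mem_inf.mp hw).2)
  have h3 : ⁅a, w⁆ ∈ ctr K c ⊓ centralizer (Qs K a : Set G) := mem_inf.mpr ⟨h1, h2⟩
  rw [S.ctr_inf_centralizer_Qs hx hy, mem_bot] at h3
  exact comm_eq_one_iff.mp h3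

/-- `E = Q⟨a⟩`. -/
def Es (K : Subgroup G) (a : G) : Subgroup G := Qs K a ⊔ zpowers a

theorem Es_le (S : TvS p V K a c) : Es K a ≤ K ⊔ zpowers a :=
  sup_le_sup_right S.Qs_le _

theorem Es_le_centralizer_fix (S : TvS p V K a c) {x : G} (hx : x ∈ K)
    (hy : a⁻¹ * (x * a * x⁻¹) ≠ 1) :
    Es K a ≤ centralizer ((V ⊓ centralizer (Qs K a : Set G) : Subgroup G) : Set G) := by
  unfold Es
  apply sup_le
  · intro q hq
    rw [mem_centralizer_iff]
    intro w hw
    exact ((mem_centralizer_iff.mp (mem_inf.mp hw).2) q hq).symm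
  · rw [Subgroup.zpowers_le, mem_centralizer_iff]
    intro w hw
    exact (S.a_commute_fix hx hy hw).symm

theorem Es_le_normalizer_ctr (S : TvS p V K a c) : Es K a ≤ normalizer (ctr K c : Set G) :=
  sup_le S.Qs_le_normalizer_ctr (Subgroup.zpowers_le.mpr S.a_mem_normalizer_ctr)

theorem Es_le_normalizer_V (S : TvS p V K a c) : Es K a ≤ normalizer (V : Set G) :=
  sup_le S.Qs_le_normalizer_V (Subgroup.zpowers_le.mpr S.hT.hN)

theorem Es_le_stabS (S : TvS p V K a c) : Es K a ≤ stabS V (ctr K c) :=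
  sup_le S.Qs_le_stabS (Subgroup.zpowers_le.mpr S.a_mem_stabS)

/-- an element commuting with `N` and with `C_V(Q)` commutes with `V` -/
theorem commute_V_of (S : TvS p V K a c) {x : G} (hx : x ∈ K)
    (hy : a⁻¹ * (x * a * x⁻¹) ≠ 1) {g : G} (h1 : ∀ u ∈ ctr K c, g * u = u * g)
    (h2 : ∀ w ∈ V ⊓ centralizer (Qs K a : Set G), g * w = w * g) : ∀ v ∈ V, g * v = v * g := by
  have hle : ctr K c ⊔ (V ⊓ centralizer (Qs K a : Set G)) ≤ centralizer ({g} : Set G) := by
    apply sup_le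
    · intro u hu
      rw [mem_centralizer_iff]
      intro g' hg'
      rw [Set.mem_singleton_iff.mp hg']
      exact h1 u hu
    · intro u hu
      rw [mem_centralizer_iff]
      intro g' hg'
      rw [Set.mem_singleton_iff.mp hg']
      exact h2 u hu
  rw [S.V_eq_sup hx hy] at hle
  intro v hv
  exact (mem_centralizer_iff.mp (hle hv)) g (Set.mem_singleton g)

/-- `E` acts faithfully on `N`. -/
theorem Es_faithful (S : TvS p V K a c) {x : G} (hx : x ∈ K)
    (hy : a⁻¹ * (x * a * x⁻¹) ≠ 1) {e : G} (he : e ∈ Es K a)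
    (h : ∀ u ∈ ctr K c, e * u = u * e) : e = 1 := by
  apply S.hf e (S.Es_le he)
  apply S.commute_V_of hx hy h
  intro w hw
  exact ((mem_centralizer_iff.mp (S.Es_le_centralizer_fix hx hy he)) w hw).symm

/-- **Semiregularity**: an element of `Q` fixing `c` is trivial. -/
theorem Qs_semiregular (S : TvS p V K a c) {x : G} (hx : x ∈ K)
    (hy : a⁻¹ * (x * a * x⁻¹) ≠ 1) {q : G} (hq : q ∈ Qs K a) (hqc : q * c * q⁻¹ = c) : q = 1 := by
  have hqK : q ∈ K := S.Qs_le hq
  have hyq : a⁻¹ * (q * a * q⁻¹) = 1 :=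
    S.y_eq_one_of_ctr_mem hqK (by rw [hqc]; exact mem_zpowers c)
  have hqa : q * a * q⁻¹ = a := by
    have : q * a * q⁻¹ = a * (a⁻¹ * (q * a * q⁻¹)) := by group
    rw [this, hyq, mul_one]
  have hqc' : q * c = c * q := by
    calc q * c = (q * c * q⁻¹) * q := by group
      _ = c * q := by rw [hqc]
  have hqN : q ∈ normalizer (ctr K c : Set G) := S.Qs_le_normalizer_ctr hq
  -- `⁅q, u⁆ ∈ ⟨c⟩` for `u ∈ N`
  have hqu : ∀ u ∈ ctr K c, ⁅q, u⁆ ∈ zpowers c := by
    intro u hu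
    have huV : u ∈ V := S.ctr_le hu
    have hquN : ⁅q, u⁆ ∈ ctr K c := comm_mem hqN hu
    apply S.ctr_fixed hquN
    apply comm_eq_one_iff.mp
    have hconjV : q * u * q⁻¹ ∈ V := conj_mem (S.hKV hqK) huV
    have e1 : ⁅a, q * u * q⁻¹⁆ = q * ⁅a, u⁆ * q⁻¹ := by
      have : ⁅q * a * q⁻¹, q * u * q⁻¹⁆ = q * ⁅a, u⁆ * q⁻¹ := by
        simp only [commutatorElement_def]; group
      rwa [hqa] at this
    have e2 : q * ⁅a, u⁆ * q⁻¹ = ⁅a, u⁆ := by
      have h1 := commute_zpowers hqc' _ (S.hT.him u huV)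
      rw [h1]; group
    have e3 : ⁅q, u⁆ = (q * u * q⁻¹) * u⁻¹ := by rw [commutatorElement_def]
    rw [e3, S.hV.comm_mul S.hT.hN hconjV (V.inv_mem huV), S.hV.comm_inv S.hT.hN huV, e1, e2,
      mul_inv_cancel]
  have h1 : ∀ u ∈ ctr K c, q ^ p * u = u * q ^ p :=
    S.ea_ctr.pow_commute_of_chain S.zpowers_c_le_ctr hqu (commute_zpowers hqc')
  have h2 : ∀ v ∈ V, q ^ p * v = v * q ^ p := by
    apply S.commute_V_of hx hy h1
    intro w hw
    have : Commute q w := ((mem_centralizer_iff.mp (mem_inf.mp hw).2) q hq)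
    exact this.pow_left p
  have h3 := commute_of_pow_of_coprime S.hKp (pow_card_eq_one_of_mem hqK) h2
  exact S.hf q (mem_sup_left hqK) h3

theorem card_Qs_le (S : TvS p V K a c) {x : G} (hx : x ∈ K)
    (hy : a⁻¹ * (x * a * x⁻¹) ≠ 1) : Nat.card (Qs K a) + 1 ≤ p ^ 2 := by
  rw [← S.card_ctr hx hy, ← Finite.card_option]
  let f : Option (Qs K a) → ctr K c := fun o =>
    o.elim 1 (fun q => ⟨(q : G) * c * (q : G)⁻¹, S.conj_c_mem_ctr (S.Qs_le q.2)⟩)
  apply Nat.card_le_card_of_injective f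
  intro o o' h
  cases o with
  | none =>
    cases o' with
    | none => rfl
    | some q' =>
      exfalso
      have : (1 : G) = (q' : G) * c * (q' : G)⁻¹ := congrArg Subtype.val h
      exact S.conj_c_ne_one _ this.symm
  | some q =>
    cases o' with
    | none =>
      exfalso
      have : (q : G) * c * (q : G)⁻¹ = 1 := congrArg Subtype.val h
      exact S.conj_c_ne_one _ this
    | some q' =>
      have h1 : (q : G) * c * (q : G)⁻¹ = (q' : G) * c * (q' : G)⁻¹ := congrArg Subtype.val h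
      have h2 : ((q' : G)⁻¹ * q) * c * ((q' : G)⁻¹ * q)⁻¹ = c := by
        calc ((q' : G)⁻¹ * q) * c * ((q' : G)⁻¹ * q)⁻¹
            = (q' : G)⁻¹ * ((q : G) * c * (q : G)⁻¹) * q' := by group
          _ = c := by rw [h1]; group
      have h3 := S.Qs_semiregular hx hy ((Qs K a).mul_mem ((Qs K a).inv_mem q'.2) q.2) h2
      have h4 : (q : G) = q' := by
        calc (q : G) = q' * ((q' : G)⁻¹ * q) := by group
          _ = q' := by rw [h3, mul_one]
      exact congrArg some (Subtype.ext h4)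

theorem a_ne_one (S : TvS p V K a c) : a ≠ 1 := by
  rintro rfl
  obtain ⟨v, hv, hne⟩ := S.hT.hne
  exact hne (by simp [commutatorElement_def])

theorem card_zpowers_a (S : TvS p V K a c) : Nat.card (zpowers a) = p := by
  rw [Nat.card_zpowers, orderOf_eq_prime S.hT.hp S.a_ne_one]

theorem Qs_inf_zpowers (S : TvS p V K a c) : Qs K a ⊓ zpowers a = ⊥ := by
  apply (Subgroup.disjoint_of_coprime_natCard ?_).eq_bot
  rw [S.card_zpowers_a]
  exact S.card_Qs_coprime

theorem card_Es (S : TvS p V K a c) : Nat.card (Es K a) = Nat.card (Qs K a) * p := by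
  have h := S4Free.card_sup_mul_card_inf' (zpowers a) (Qs K a)
    (Subgroup.zpowers_le.mpr S.a_mem_normalizer_Qs)
  rw [inf_comm, S.Qs_inf_zpowers, Subgroup.card_bot, mul_one, S.card_zpowers_a, sup_comm] at h
  unfold Es
  rw [h, mul_comm]

end TvS

end Cfsg.Agent.Helper1.FF
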