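import Mathlib
import Cfsg.Agent.Lib.Helper83.ElemAbSL2
import Cfsg.Agent.Lib.Helper40.SL2
import Cfsg.Agent.Lib.Helper1.FFD

/-!
# Recognition of `SL₂(p)` acting on an elementary abelian group of order `p²`
-/

set_option autoImplicit false

namespace Cfsg.Agent.Helper1.FF

open Subgroup
open scoped commutatorElement
open Cfsg.Agent.Helper83

section abstract

variable {H : Type*} [CommGroup H] [Finite H] {p : ℕ} [hp : Fact p.Prime]

/-- refinement of `Helper83.exists_sl2_hom` which records the preimage of `σ`. -/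
theorem exists_sl2_hom_refined (hexp : ∀ h : H, h ^ p = 1) (hcard : Nat.card H = p ^ 2)
    (A : Subgroup (MulAut H)) {σ τ : MulAut H} (hσA : σ ∈ A) (hτA : τ ∈ A)
    (hσp : σ ^ p = 1) (hσ1 : σ ≠ 1) (hτp : τ ^ p = 1) (hτσ : τ ∉ Subgroup.zpowers σ) :
    ∃ ψ : Matrix.SpecialLinearGroup (Fin 2) (ZMod p) →* MulAut H,
      Function.Injective ψ ∧ ψ.range ≤ A ∧ ∃ t : ZMod p, t ≠ 0 ∧ ψ (uSL t) = σ := by
  obtain ⟨e₁, he₁, hσe₁⟩ := exists_fixed_ne_one hcard σ hσp
  obtain ⟨f, hf, hτf⟩ := exists_fixed_ne_one hcard τ hτp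
  by_cases hfe : f ∈ Subgroup.zpowers e₁
  · exfalso
    have hτe₁ : τ e₁ = e₁ := by
      obtain ⟨k, hk⟩ := (mem_zpowers_iff_epow hexp).1 (epow_swap_mem hexp hf hfe)
      rw [← hk, ← MulEquiv.coe_toMonoidHom, map_epow, MulEquiv.coe_toMonoidHom, hτf]
    obtain ⟨e₃, he₃⟩ := exists_not_mem_zpowers hexp hcard e₁
    obtain ⟨a, ha⟩ := exists_shear hexp hcard he₁ he₃ σ hσp hσe₁
    obtain ⟨a', ha'⟩ := exists_shear hexp hcard he₁ he₃ τ hτp hτe₁
    have ha0 : a ≠ 0 := by
      rintro rfl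
      apply hσ1
      apply hom_ext_of_basis hexp hcard he₁ he₃
      · rw [hσe₁, MulAut.one_apply]
      · rw [ha, epow_zero, one_mul, MulAut.one_apply]
    apply hτσ
    have key := pow_shear hexp hσe₁ ha (a' / a).val
    have : τ = σ ^ (a' / a).val := by
      apply hom_ext_of_basis hexp hcard he₁ he₃
      · rw [key.1, hτe₁]
      · rw [key.2, ha', ZMod.natCast_zmod_val, div_mul_cancel₀ _ ha0]
    rw [this]
    exact Subgroup.pow_mem _ (Subgroup.mem_zpowers σ) _
  · have he₁f : e₁ ∉ Subgroup.zpowers f := fun h => hfe (epow_swap_mem hexp he₁ h)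
    obtain ⟨a, ha⟩ := exists_shear hexp hcard he₁ hfe σ hσp hσe₁
    obtain ⟨c, hc⟩ := exists_shear hexp hcard hf he₁f τ hτp hτf
    have ha0 : a ≠ 0 := by
      rintro rfl
      apply hσ1
      apply hom_ext_of_basis hexp hcard he₁ hfe
      · rw [hσe₁, MulAut.one_apply]
      · rw [ha, epow_zero, one_mul, MulAut.one_apply]
    have hc0 : c ≠ 0 := by
      rintro rfl
      apply hτσ
      have : τ = 1 := by
        apply hom_ext_of_basis hexp hcard he₁ hfe
        · rw [hc, epow_zero, one_mul, MulAut.one_apply]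
        · rw [hτf, MulAut.one_apply]
      rw [this]
      exact Subgroup.one_mem _
    have hu : sl2Hom hexp hcard he₁ hfe (uSL a) = σ := by
      apply hom_ext_of_basis hexp hcard he₁ hfe
      · rw [sl2Hom_apply_e₁, hσe₁]
        simp [epow_zero, epow_one hexp]
      · rw [sl2Hom_apply_e₂, ha]
        simp [epow_one hexp]
    have hl : sl2Hom hexp hcard he₁ hfe (lSL c) = τ := by
      apply hom_ext_of_basis hexp hcard he₁ hfe
      · rw [sl2Hom_apply_e₁, hc]
        simp [epow_one hexp, mul_comm]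
      · rw [sl2Hom_apply_e₂, hτf]
        simp [epow_zero, epow_one hexp]
    refine ⟨sl2Hom hexp hcard he₁ hfe, sl2Hom_injective hexp hcard he₁ hfe, ?_, a, ha0, hu⟩
    rw [MonoidHom.range_eq_map, ← sl2_generation, Subgroup.map_sup, sup_le_iff]
    constructor
    · rintro _ ⟨g, hg, rfl⟩
      obtain ⟨t, rfl⟩ := mem_lowerUnipotentSL2.1 hg
      have : lSL t = (lSL c) ^ (t / c).val := by
        rw [lSL_pow, ZMod.natCast_zmod_val, div_mul_cancel₀ _ hc0]
      rw [this, map_pow, hl]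
      exact Subgroup.pow_mem _ hτA _
    · rintro _ ⟨g, hg, rfl⟩
      obtain ⟨t, rfl⟩ := mem_upperUnipotentSL2.1 hg
      have : uSL t = (uSL a) ^ (t / a).val := by
        rw [uSL_pow, ZMod.natCast_zmod_val, div_mul_cancel₀ _ ha0]
      rw [this, map_pow, hu]
      exact Subgroup.pow_mem _ hσA _

end abstract

/-- version for a `Group` that happens to be commutative -/
theorem exists_sl2_hom_refined' {H : Type*} [Group H] [Finite H] {p : ℕ} [Fact p.Prime]
    (hcomm : ∀ a b : H, a * b = b * a) (hexp : ∀ h : H, h ^ p = 1)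
    (hcard : Nat.card H = p ^ 2)
    (A : Subgroup (MulAut H)) {σ τ : MulAut H} (hσA : σ ∈ A) (hτA : τ ∈ A)
    (hσp : σ ^ p = 1) (hσ1 : σ ≠ 1) (hτp : τ ^ p = 1) (hτσ : τ ∉ Subgroup.zpowers σ) :
    ∃ ψ : Matrix.SpecialLinearGroup (Fin 2) (ZMod p) →* MulAut H,
      Function.Injective ψ ∧ ψ.range ≤ A ∧ ∃ t : ZMod p, t ≠ 0 ∧ ψ (uSL t) = σ := by
  letI : CommGroup H := { ‹Group H› with mul_comm := hcomm }
  exact exists_sl2_hom_refined hexp hcard A hσA hτA hσp hσ1 hτp hτσ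

theorem card_SL2_zmod (p : ℕ) [hp : Fact p.Prime] :
    Nat.card (Matrix.SpecialLinearGroup (Fin 2) (ZMod p)) = p * (p ^ 2 - 1) := by
  rw [Cfsg.Agent.Helper40.card_SL2, ZMod.card]
  have h1 : 1 ≤ p := hp.out.one_lt.le
  have h2 : p ^ 2 - 1 = (p - 1) * (p + 1) := by
    obtain ⟨k, rfl⟩ : ∃ k, p = k + 1 := ⟨p - 1, by omega⟩
    simp only [Nat.add_sub_cancel]
    have : (k + 1) ^ 2 = k * (k + 1 + 1) + 1 := by ring
    rw [this, Nat.add_sub_cancel]
  rw [h2, mul_assoc]

variable {G : Type*} [Group G]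

/-- the conjugation action of a subgroup of the normalizer -/
noncomputable def conjHom {N E : Subgroup G} (hEN : E ≤ normalizer (N : Set G)) : E →* MulAut N :=
  (N.normalizerMonoidHom).comp (inclusion hEN)

theorem conjHom_apply {N E : Subgroup G} (hEN : E ≤ normalizer (N : Set G)) (e : E) (u : N) :
    ((conjHom hEN e) u : G) = (e : G) * u * (e : G)⁻¹ := rfl

theorem conjHom_injective {N E : Subgroup G} (hEN : E ≤ normalizer (N : Set G))
    (hfaith : ∀ e ∈ E, (∀ u ∈ N, e * u = u * e) → e = 1) : Function.Injective (conjHom hEN) := by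
  rw [injective_iff_map_eq_one]
  intro e he
  apply Subtype.ext
  apply hfaith e e.2
  intro u hu
  have h1 := congrArg (fun f : MulAut N => ((f ⟨u, hu⟩ : N) : G)) he
  simp only [conjHom_apply, MulAut.one_apply] at h1
  calc (e : G) * u = ((e : G) * u * (e : G)⁻¹) * e := by group
    _ = u * e := by rw [h1]

/-- **Recognition of `SL₂(p)`.** -/
theorem sl2_recognition [Finite G] {p : ℕ} [hp : Fact p.Prime]
    {N E : Subgroup G} (hN : EA p N) (hcard : Nat.card N = p ^ 2)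
    (hEN : E ≤ normalizer (N : Set G))
    (hfaith : ∀ e ∈ E, (∀ u ∈ N, e * u = u * e) → e = 1)
    {a b : G} (haE : a ∈ E) (hbE : b ∈ E) (hap : a ^ p = 1) (ha1 : a ≠ 1) (hbp : b ^ p = 1)
    (hba : b ∉ zpowers a) (hcardE : Nat.card E ≤ p * (p ^ 2 - 1)) :
    ∃ φ : E ≃* Matrix.SpecialLinearGroup (Fin 2) (ZMod p),
      ∃ t : ZMod p, t ≠ 0 ∧ φ ⟨a, haE⟩ = uSL t := by
  have hinj := conjHom_injective hEN hfaith
  set ρ := conjHom hEN with hρ
  have hcomm : ∀ u v : N, u * v = v * u := fun u v => Subtype.ext (hN.comm u u.2 v v.2)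
  have hexp : ∀ u : N, u ^ p = 1 := fun u => Subtype.ext (hN.exp u u.2)
  have hσp : (ρ ⟨a, haE⟩) ^ p = 1 := by
    rw [← map_pow]
    have : (⟨a, haE⟩ : E) ^ p = 1 := Subtype.ext hap
    rw [this, map_one]
  have hτp : (ρ ⟨b, hbE⟩) ^ p = 1 := by
    rw [← map_pow]
    have : (⟨b, hbE⟩ : E) ^ p = 1 := Subtype.ext hbp
    rw [this, map_one]
  have hσ1 : ρ ⟨a, haE⟩ ≠ 1 := by
    intro h
    rw [← map_one ρ] at h
    exact ha1 (congrArg Subtype.val (hinj h))
  have hτσ : ρ ⟨b, hbE⟩ ∉ zpowers (ρ ⟨a, haE⟩) := by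
    intro h
    obtain ⟨k, hk⟩ := mem_zpowers_iff.mp h
    rw [← map_zpow] at hk
    have := congrArg Subtype.val (hinj hk)
    apply hba
    rw [mem_zpowers_iff]
    exact ⟨k, by simpa using this⟩
  obtain ⟨ψ, hψ, hrange, t, ht0, hψt⟩ := exists_sl2_hom_refined' hcomm hexp hcard ρ.range
    (σ := ρ ⟨a, haE⟩) (τ := ρ ⟨b, hbE⟩) ⟨_, rfl⟩ ⟨_, rfl⟩ hσp hσ1 hτp hτσ
  -- cardinalities
  have hc1 : Nat.card ψ.range = p * (p ^ 2 - 1) := by
    rw [← Nat.card_congr (MonoidHom.ofInjective hψ).toEquiv, card_SL2_zmod]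
  have hc2 : Nat.card ρ.range = Nat.card E :=
    (Nat.card_congr (MonoidHom.ofInjective hinj).toEquiv).symm
  have heq : ψ.range = ρ.range := by
    apply Subgroup.eq_of_le_of_card_ge hrange
    rw [hc1, hc2]
    exact hcardE
  let φ : E ≃* Matrix.SpecialLinearGroup (Fin 2) (ZMod p) :=
    (MonoidHom.ofInjective hinj).trans
      ((MulEquiv.subgroupCongr heq.symm).trans (MonoidHom.ofInjective hψ).symm)
  refine ⟨φ, t, ht0, ?_⟩
  show (MonoidHom.ofInjective hψ).symm _ = _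
  rw [MulEquiv.symm_apply_eq]
  apply Subtype.ext
  rw [MonoidHom.ofInjective_apply]
  simp only [hψt]
  rfl

end Cfsg.Agent.Helper1.FF
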