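import Mathlib
import Cfsg.Agent.Lib.Helper1.FFSL
import Cfsg.Agent.Lib.Helper1.ZCoprime

/-!
# The local `SL₂(p)`: structure of `E = [K, a]⟨a⟩`
-/

set_option autoImplicit false
set_option linter.unusedSectionVars false

namespace Cfsg.Agent.Helper1.FF

open Subgroup
open scoped commutatorElement
open Cfsg.Agent.Helper1
open Cfsg.Agent.Helper83

variable {G : Type*} [Group G]

section sl2

variable {p : ℕ} [hp : Fact p.Prime]

theorem two_ne_zero_zmod (h2 : p ≠ 2) : (2 : ZMod p) ≠ 0 := by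
  intro h
  have h' : ((2 : ℕ) : ZMod p) = 0 := by exact_mod_cast h
  rw [ZMod.natCast_eq_zero_iff] at h'
  have := Nat.le_of_dvd (by norm_num) h'
  have := hp.out.two_le
  omega

/-- the diagonal element `diag(s, t)` with `s t = 1` -/
def dSL (s t : ZMod p) (hst : s * t = 1) : Matrix.SpecialLinearGroup (Fin 2) (ZMod p) :=
  ⟨!![s, 0; 0, t], by simp [Matrix.det_fin_two, hst]⟩

@[simp] theorem dSL_coe (s t : ZMod p) (hst : s * t = 1) :
    ((dSL s t hst : Matrix.SpecialLinearGroup (Fin 2) (ZMod p)) : Matrix (Fin 2) (Fin 2) (ZMod p))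
      = !![s, 0; 0, t] := rfl

theorem exists_conj_uSL (h2 : p ≠ 2) (t : ZMod p) :
    ∃ h : Matrix.SpecialLinearGroup (Fin 2) (ZMod p), h * uSL t * h⁻¹ = (uSL t) ^ 4 := by
  have h20 := two_ne_zero_zmod (p := p) h2
  have h1 : (2 : ZMod p) * 2⁻¹ = 1 := mul_inv_cancel₀ h20
  have h1' : (2 : ZMod p)⁻¹ * 2 = 1 := inv_mul_cancel₀ h20
  have hh : dSL 2 2⁻¹ h1 * dSL 2⁻¹ 2 h1' = 1 := by
    apply sl2_ext <;> simp [Matrix.mul_apply, Fin.sum_univ_two, h20]
  have hinv : (dSL 2 2⁻¹ h1)⁻¹ = dSL 2⁻¹ 2 h1' := inv_eq_of_mul_eq_one_right hh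
  refine ⟨dSL 2 2⁻¹ h1, ?_⟩
  rw [hinv, uSL_pow]
  apply sl2_ext <;> simp [Matrix.mul_apply, Fin.sum_univ_two, h20]
  ring

end sl2

namespace TvS

variable {p : ℕ} [hp : Fact p.Prime] {V K : Subgroup G} {a c : G} [Finite G]

theorem a_mem_Es : a ∈ Es K a := mem_sup_right (mem_zpowers a)

theorem Qs_le_Es : Qs K a ≤ Es K a := le_sup_left

theorem conj_a_eq (x : G) : x * a * x⁻¹ = a * (a⁻¹ * (x * a * x⁻¹)) := by group

theorem conj_a_mem_Es (S : TvS p V K a c) {x : G} (hx : x ∈ K) : x * a * x⁻¹ ∈ Es K a := by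
  rw [conj_a_eq]
  exact (Es K a).mul_mem a_mem_Es (mem_sup_left (S.y_mem_Qs hx))

theorem conj_a_not_mem (S : TvS p V K a c) {x : G} (hx : x ∈ K)
    (hy : a⁻¹ * (x * a * x⁻¹) ≠ 1) : x * a * x⁻¹ ∉ zpowers a := by
  intro h
  have h1 : a⁻¹ * (x * a * x⁻¹) ∈ zpowers a :=
    (zpowers a).mul_mem ((zpowers a).inv_mem (mem_zpowers a)) h
  have h2 : a⁻¹ * (x * a * x⁻¹) ∈ Qs K a ⊓ zpowers a := mem_inf.mpr ⟨S.y_mem_Qs hx, h1⟩
  rw [S.Qs_inf_zpowers, mem_bot] at h2
  exact hy h2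

theorem conj_a_pow (S : TvS p V K a c) (x : G) : (x * a * x⁻¹) ^ p = 1 := by
  have : (x * a * x⁻¹) ^ p = x * a ^ p * x⁻¹ := by
    rw [← MulAut.conj_apply, ← map_pow, MulAut.conj_apply]
  rw [this, S.hT.hp]; group

theorem card_Es_le (S : TvS p V K a c) {x : G} (hx : x ∈ K)
    (hy : a⁻¹ * (x * a * x⁻¹) ≠ 1) : Nat.card (Es K a) ≤ p * (p ^ 2 - 1) := by
  rw [S.card_Es, mul_comm]
  apply Nat.mul_le_mul_left
  have := S.card_Qs_le hx hy
  omega

/-- `E ≃ SL₂(p)`, with `a` mapped to an upper unitriangular matrix. -/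
theorem Es_iso (S : TvS p V K a c) {x : G} (hx : x ∈ K)
    (hy : a⁻¹ * (x * a * x⁻¹) ≠ 1) :
    ∃ φ : Es K a ≃* Matrix.SpecialLinearGroup (Fin 2) (ZMod p),
      ∃ t : ZMod p, t ≠ 0 ∧ φ ⟨a, a_mem_Es⟩ = uSL t :=
  sl2_recognition S.ea_ctr (S.card_ctr hx hy) S.Es_le_normalizer_ctr
    (fun _ he h => S.Es_faithful hx hy he h) a_mem_Es (S.conj_a_mem_Es hx) S.hT.hp S.a_ne_one
    (S.conj_a_pow x) (S.conj_a_not_mem hx hy) (S.card_Es_le hx hy)

theorem card_Es_eq (S : TvS p V K a c) {x : G} (hx : x ∈ K)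
    (hy : a⁻¹ * (x * a * x⁻¹) ≠ 1) : Nat.card (Es K a) = p * (p ^ 2 - 1) := by
  obtain ⟨φ, -⟩ := S.Es_iso hx hy
  rw [Nat.card_congr φ.toEquiv, card_SL2_zmod]

theorem card_Qs_eq (S : TvS p V K a c) {x : G} (hx : x ∈ K)
    (hy : a⁻¹ * (x * a * x⁻¹) ≠ 1) : Nat.card (Qs K a) = p ^ 2 - 1 := by
  have h1 := S.card_Es_eq hx hy
  rw [S.card_Es, mul_comm] at h1
  exact Nat.eq_of_mul_eq_mul_left hp.out.pos h1

/-- the subgroup generated by `a` and its conjugate is all of `E` -/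
theorem zpowers_sup_eq_Es (S : TvS p V K a c) {x : G} (hx : x ∈ K)
    (hy : a⁻¹ * (x * a * x⁻¹) ≠ 1) : zpowers a ⊔ zpowers (x * a * x⁻¹) = Es K a := by
  have hle : zpowers a ⊔ zpowers (x * a * x⁻¹) ≤ Es K a :=
    sup_le (Subgroup.zpowers_le.mpr a_mem_Es) (Subgroup.zpowers_le.mpr (S.conj_a_mem_Es hx))
  apply Subgroup.eq_of_le_of_card_ge hle
  have haE' : a ∈ zpowers a ⊔ zpowers (x * a * x⁻¹) := mem_sup_left (mem_zpowers a)
  have hbE' : x * a * x⁻¹ ∈ zpowers a ⊔ zpowers (x * a * x⁻¹) := mem_sup_right (mem_zpowers _)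
  obtain ⟨φ, -⟩ := sl2_recognition S.ea_ctr (S.card_ctr hx hy) (hle.trans S.Es_le_normalizer_ctr)
    (fun _ he h => S.Es_faithful hx hy (hle he) h) haE' hbE' S.hT.hp S.a_ne_one
    (S.conj_a_pow x) (S.conj_a_not_mem hx hy)
    ((Subgroup.card_le_of_le hle).trans (S.card_Es_le hx hy))
  rw [Nat.card_congr φ.toEquiv, card_SL2_zmod, S.card_Es_eq hx hy]

/-- `p ≤ 3`. -/
theorem p_eq_two_or_three (S : TvS p V K a c) {x : G} (hx : x ∈ K)
    (hy : a⁻¹ * (x * a * x⁻¹) ≠ 1) : p = 2 ∨ p = 3 := by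
  by_contra hcon
  push Not at hcon
  obtain ⟨φ, t, ht0, hφ⟩ := S.Es_iso hx hy
  obtain ⟨h, hh⟩ := exists_conj_uSL hcon.1 t
  -- the preimage of `h`
  set g : Es K a := φ.symm h with hg
  have h1 : g * ⟨a, a_mem_Es⟩ * g⁻¹ = (⟨a, a_mem_Es⟩ : Es K a) ^ 4 := by
    apply φ.injective
    rw [map_mul, map_mul, map_inv, map_pow, hφ, hg, MulEquiv.apply_symm_apply, hh]
  have h2 : (g : G) * a * (g : G)⁻¹ = a ^ 4 := by
    have := congrArg Subtype.val h1
    simpa using this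
  -- decompose `g`
  have hgE : (g : G) ∈ zpowers a ⊔ Qs K a := by
    have h00 : Es K a = zpowers a ⊔ Qs K a := sup_comm _ _
    exact (le_of_eq h00) g.2
  have hcoe := Subgroup.coe_mul_of_left_le_normalizer_right (zpowers a) (Qs K a)
    (Subgroup.zpowers_le.mpr S.a_mem_normalizer_Qs)
  have hgE' : (g : G) ∈ ((zpowers a ⊔ Qs K a : Subgroup G) : Set G) := hgE
  rw [hcoe] at hgE'
  obtain ⟨z, hz, q, hq, hzq⟩ := Set.mem_mul.mp hgE'
  have hza : z * a = a * z := by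
    obtain ⟨n, rfl⟩ := mem_zpowers_iff.mp hz
    exact ((Commute.refl a).zpow_left n)
  have hza4 : z * a ^ 4 = a ^ 4 * z := by
    have : Commute z a := hza
    exact this.pow_right 4
  have h3 : q * a * q⁻¹ = a ^ 4 := by
    have : q * a * q⁻¹ = z⁻¹ * ((z * q) * a * (z * q)⁻¹) * z := by group
    rw [this, hzq, h2]
    calc z⁻¹ * a ^ 4 * z = z⁻¹ * (a ^ 4 * z) := by group
      _ = z⁻¹ * (z * a ^ 4) := by rw [hza4]
      _ = a ^ 4 := by group
  have h4 : a⁻¹ * (q * a * q⁻¹) = a ^ 3 := by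
    rw [h3]; group
  have h5 : a ^ 3 ∈ Qs K a ⊓ zpowers a := by
    refine mem_inf.mpr ⟨?_, Subgroup.pow_mem _ (mem_zpowers a) 3⟩
    rw [← h4]
    exact S.y_mem_Qs (S.Qs_le hq)
  rw [S.Qs_inf_zpowers, mem_bot] at h5
  have h6 : orderOf a ∣ 3 := orderOf_dvd_of_pow_eq_one h5
  rw [orderOf_eq_prime S.hT.hp S.a_ne_one] at h6
  exact hcon.2 ((Nat.prime_dvd_prime_iff_eq hp.out Nat.prime_three).mp h6)

/-- `[V, E] = N`. -/
theorem commutator_V_Es (S : TvS p V K a c) {x : G} (hx : x ∈ K)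
    (hy : a⁻¹ * (x * a * x⁻¹) ≠ 1) : ⁅V, Es K a⁆ = ctr K c := by
  apply le_antisymm
  · rw [commutator_le]
    intro v hv e he
    rw [← commutatorElement_inv]
    exact (ctr K c).inv_mem ((S.Es_le_stabS he).2.2 v hv)
  · rw [← S.commutator_V_Qs hx hy]
    exact commutator_mono le_rfl Qs_le_Es

/-- `C_V(E) = C_V(Q)`. -/
theorem fix_Es (S : TvS p V K a c) {x : G} (hx : x ∈ K)
    (hy : a⁻¹ * (x * a * x⁻¹) ≠ 1) :
    V ⊓ centralizer (Es K a : Set G) = V ⊓ centralizer (Qs K a : Set G) := by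
  apply le_antisymm
  · exact inf_le_inf_left _ (centralizer_le Qs_le_Es)
  · intro w hw
    refine mem_inf.mpr ⟨(mem_inf.mp hw).1, ?_⟩
    rw [mem_centralizer_iff]
    intro e he
    exact (mem_centralizer_iff.mp (S.Es_le_centralizer_fix hx hy he) w hw).symm

/-- **General semiregularity**: an element of `K` acting trivially on `C_V(Q)` and fixing `c`
is trivial. -/
theorem K_semiregular (S : TvS p V K a c) {x : G} (hx : x ∈ K)
    (hy : a⁻¹ * (x * a * x⁻¹) ≠ 1) {q : G} (hqK : q ∈ K)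
    (hqU : ∀ w ∈ V ⊓ centralizer (Qs K a : Set G), q * w = w * q)
    (hqc : q * c * q⁻¹ = c) : q = 1 := by
  have hyq : a⁻¹ * (q * a * q⁻¹) = 1 :=
    S.y_eq_one_of_ctr_mem hqK (by rw [hqc]; exact mem_zpowers c)
  have hqa : q * a * q⁻¹ = a := by
    have : q * a * q⁻¹ = a * (a⁻¹ * (q * a * q⁻¹)) := by group
    rw [this, hyq, mul_one]
  have hqc' : q * c = c * q := by
    calc q * c = (q * c * q⁻¹) * q := by group
      _ = c * q := by rw [hqc]
  have hqN : q ∈ normalizer (ctr K c : Set G) := S.K_le_normalizer_ctr hqK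
  have hqu : ∀ u ∈ ctr K c, ⁅q, u⁆ ∈ zpowers c := by
    intro u hu
    have huV : u ∈ V := S.ctr_le hu
    have hquN : ⁅q, u⁆ ∈ ctr K c := comm_mem hqN hu
    apply S.ctr_fixed hquN
    apply comm_eq_one_iff.mp
    have hconjV : q * u * q⁻¹ ∈ V := conj_mem (S.hKV hqK) huV
    have e1 : ⁅a, q * u * q⁻¹⁆ = q * ⁅a, u⁆ * q⁻¹ := by
      have : ⁅q * a * q⁻¹, q * u * q⁻¹⁆ = q * ⁅a, u⁆ * q⁻¹ := by
        simp only [commutatorElement_def]; group
      rwa [hqa] at this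
    have e2 : q * ⁅a, u⁆ * q⁻¹ = ⁅a, u⁆ := by
      have h1 := commute_zpowers hqc' _ (S.hT.him u huV)
      rw [h1]; group
    have e3 : ⁅q, u⁆ = (q * u * q⁻¹) * u⁻¹ := by rw [commutatorElement_def]
    rw [e3, S.hV.comm_mul S.hT.hN hconjV (V.inv_mem huV), S.hV.comm_inv S.hT.hN huV, e1, e2,
      mul_inv_cancel]
  have h1 : ∀ u ∈ ctr K c, q ^ p * u = u * q ^ p :=
    S.ea_ctr.pow_commute_of_chain S.zpowers_c_le_ctr hqu (commute_zpowers hqc')
  have h2 : ∀ v ∈ V, q ^ p * v = v * q ^ p := by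
    apply S.commute_V_of hx hy h1
    intro w hw
    have : Commute q w := hqU w hw
    exact this.pow_left p
  have h3 := commute_of_pow_of_coprime S.hKp (pow_card_eq_one_of_mem hqK) h2
  exact S.hf q (mem_sup_left hqK) h3

/-- semiregularity at an arbitrary non-identity point of `N` -/
theorem K_semiregular' (S : TvS p V K a c) {x : G} (hx : x ∈ K)
    (hy : a⁻¹ * (x * a * x⁻¹) ≠ 1) {q : G} (hqK : q ∈ K)
    (hqU : ∀ w ∈ V ⊓ centralizer (Qs K a : Set G), q * w = w * q)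
    {u : G} (hu : u ∈ ctr K c) (hu1 : u ≠ 1) (hqu : q * u * q⁻¹ = u) : q = 1 := by
  obtain ⟨k, hk, huk⟩ := S.mem_ctr_iff.mp hu
  have h2 : k * c * k⁻¹ ∈ zpowers u := mem_zpowers_swap (S.dp hk) huk hu1
  have hqu' : q * u = u * q := by
    calc q * u = (q * u * q⁻¹) * q := by group
      _ = u * q := by rw [hqu]
  have h3 : q * (k * c * k⁻¹) = (k * c * k⁻¹) * q := commute_zpowers hqu' _ h2
  -- conjugate by `k⁻¹`
  have hq' : k⁻¹ * q * k ∈ K := K.mul_mem (K.mul_mem (K.inv_mem hk) hqK) hk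
  have hU : ∀ w ∈ V ⊓ centralizer (Qs K a : Set G), (k⁻¹ * q * k) * w = w * (k⁻¹ * q * k) := by
    intro w hw
    -- `k w k⁻¹ ∈ U`
    have hkw : k * w * k⁻¹ ∈ V ⊓ centralizer (Qs K a : Set G) :=
      mem_inf.mpr ⟨conj_mem (S.hKV hk) (mem_inf.mp hw).1,
        conj_mem_centralizer (S.K_le_normalizer_Qs hk) (mem_inf.mp hw).2⟩
    have := hqU _ hkw
    calc k⁻¹ * q * k * w = k⁻¹ * (q * (k * w * k⁻¹)) * k := by group
      _ = k⁻¹ * ((k * w * k⁻¹) * q) * k := by rw [this]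
      _ = w * (k⁻¹ * q * k) := by group
  have hc' : (k⁻¹ * q * k) * c * (k⁻¹ * q * k)⁻¹ = c := by
    calc (k⁻¹ * q * k) * c * (k⁻¹ * q * k)⁻¹ = k⁻¹ * (q * (k * c * k⁻¹)) * q⁻¹ * k := by group
      _ = k⁻¹ * ((k * c * k⁻¹) * q) * q⁻¹ * k := by rw [h3]
      _ = c := by group
  have := S.K_semiregular hx hy hq' hU hc'
  calc q = k * (k⁻¹ * q * k) * k⁻¹ := by group
    _ = 1 := by rw [this]; group

/-- the subgroup of `K` acting trivially on `C_V(Q)` is `Q` -/
theorem K_inf_centralizer_fix (S : TvS p V K a c) {x : G} (hx : x ∈ K)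
    (hy : a⁻¹ * (x * a * x⁻¹) ≠ 1) :
    K ⊓ centralizer ((V ⊓ centralizer (Qs K a : Set G) : Subgroup G) : Set G) = Qs K a := by
  symm
  have hle : Qs K a ≤
      K ⊓ centralizer ((V ⊓ centralizer (Qs K a : Set G) : Subgroup G) : Set G) :=
    le_inf S.Qs_le (Qs_le_Es.trans (S.Es_le_centralizer_fix hx hy))
  apply Subgroup.eq_of_le_of_card_ge hle
  set F := K ⊓ centralizer ((V ⊓ centralizer (Qs K a : Set G) : Subgroup G) : Set G) with hF
  have h1 : Nat.card F + 1 ≤ p ^ 2 := by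
    rw [← S.card_ctr hx hy, ← Finite.card_option]
    let f : Option F → ctr K c := fun o =>
      o.elim 1 (fun q => ⟨(q : G) * c * (q : G)⁻¹, S.conj_c_mem_ctr (mem_inf.mp q.2).1⟩)
    apply Nat.card_le_card_of_injective f
    intro o o' h
    have hsemi : ∀ q : G, q ∈ F → q * c * q⁻¹ = c → q = 1 := by
      intro q hq hqc
      apply S.K_semiregular hx hy (mem_inf.mp hq).1 _ hqc
      intro w hw
      exact (mem_centralizer_iff.mp (mem_inf.mp hq).2 w hw).symm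
    cases o with
    | none =>
      cases o' with
      | none => rfl
      | some q' =>
        exfalso
        have h' : (1 : G) = (q' : G) * c * (q' : G)⁻¹ := congrArg Subtype.val h
        exact S.conj_c_ne_one _ h'.symm
    | some q =>
      cases o' with
      | none =>
        exfalso
        have h' : (q : G) * c * (q : G)⁻¹ = 1 := congrArg Subtype.val h
        exact S.conj_c_ne_one _ h'
      | some q' =>
        have h' : (q : G) * c * (q : G)⁻¹ = (q' : G) * c * (q' : G)⁻¹ := congrArg Subtype.val h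
        have h'' : ((q' : G)⁻¹ * q) * c * ((q' : G)⁻¹ * q)⁻¹ = c := by
          calc ((q' : G)⁻¹ * q) * c * ((q' : G)⁻¹ * q)⁻¹
              = (q' : G)⁻¹ * ((q : G) * c * (q : G)⁻¹) * q' := by group
            _ = c := by rw [h']; group
        have := hsemi _ (F.mul_mem (F.inv_mem q'.2) q.2) h''
        have hqq : (q : G) = q' := by
          calc (q : G) = q' * ((q' : G)⁻¹ * q) := by group
            _ = q' := by rw [this, mul_one]
        exact congrArg some (Subtype.ext hqq)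
  rw [S.card_Qs_eq hx hy]
  omega

/-- `Q` is transitive on `N ∖ 1`. -/
theorem Qs_transitive (S : TvS p V K a c) {x : G} (hx : x ∈ K)
    (hy : a⁻¹ * (x * a * x⁻¹) ≠ 1) {u : G} (hu : u ∈ ctr K c) (hu1 : u ≠ 1) :
    ∃ q ∈ Qs K a, q * c * q⁻¹ = u := by
  classical
  by_contra hcon
  push Not at hcon
  -- the map `Option (Option Q) → N` is injective
  have h1 : Nat.card (Option (Option (Qs K a))) ≤ Nat.card (ctr K c) := by
    let f : Option (Option (Qs K a)) → ctr K c := fun o =>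
      o.elim ⟨u, hu⟩ (fun o' => o'.elim 1
        (fun q => ⟨(q : G) * c * (q : G)⁻¹, S.conj_c_mem_ctr (S.Qs_le q.2)⟩))
    apply Nat.card_le_card_of_injective f
    intro o o' h
    have hinj : ∀ q q' : Qs K a, (q : G) * c * (q : G)⁻¹ = (q' : G) * c * (q' : G)⁻¹ → q = q' := by
      intro q q' h'
      have h'' : ((q' : G)⁻¹ * q) * c * ((q' : G)⁻¹ * q)⁻¹ = c := by
        calc ((q' : G)⁻¹ * q) * c * ((q' : G)⁻¹ * q)⁻¹
            = (q' : G)⁻¹ * ((q : G) * c * (q : G)⁻¹) * q' := by group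
          _ = c := by rw [h']; group
      have := S.Qs_semiregular hx hy ((Qs K a).mul_mem ((Qs K a).inv_mem q'.2) q.2) h''
      apply Subtype.ext
      calc (q : G) = q' * ((q' : G)⁻¹ * q) := by group
        _ = q' := by rw [this, mul_one]
    rcases o with _ | (_ | q) <;> rcases o' with _ | (_ | q')
    · rfl
    · exact absurd (congrArg Subtype.val h) hu1
    · exact absurd (congrArg Subtype.val h).symm (hcon q' q'.2)
    · exact absurd (congrArg Subtype.val h).symm hu1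
    · rfl
    · exact absurd (congrArg Subtype.val h).symm (S.conj_c_ne_one _)
    · exact absurd (congrArg Subtype.val h) (hcon q q.2)
    · exact absurd (congrArg Subtype.val h) (S.conj_c_ne_one _)
    · exact congrArg (fun z => some (some z)) (hinj q q' (congrArg Subtype.val h))
  rw [Finite.card_option, Finite.card_option, S.card_ctr hx hy, S.card_Qs_eq hx hy] at h1
  have := hp.out.two_le
  have : 4 ≤ p ^ 2 := by nlinarith
  omega

/-- `Q` is irreducible on `N`. -/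
theorem Qs_irreducible (S : TvS p V K a c) {x : G} (hx : x ∈ K)
    (hy : a⁻¹ * (x * a * x⁻¹) ≠ 1) {M : Subgroup G} (hM : M ≤ ctr K c)
    (hQM : Qs K a ≤ normalizer (M : Set G)) : M = ⊥ ∨ M = ctr K c := by
  by_cases hM1 : M = ⊥
  · exact Or.inl hM1
  right
  obtain ⟨⟨u, hu⟩, hu0⟩ := (Subgroup.ne_bot_iff_exists_ne_one).mp hM1
  have hu1 : u ≠ 1 := fun h => hu0 (Subtype.ext h)
  apply le_antisymm hM
  intro w hw
  by_cases hw1 : w = 1
  · rw [hw1]; exact M.one_mem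
  obtain ⟨q, hq, hqc⟩ := S.Qs_transitive hx hy (hM hu) hu1
  obtain ⟨q', hq', hqc'⟩ := S.Qs_transitive hx hy hw hw1
  have : w = (q' * q⁻¹) * u * (q' * q⁻¹)⁻¹ := by
    rw [← hqc, ← hqc']; group
  rw [this]
  exact conj_mem (hQM ((Qs K a).mul_mem hq' ((Qs K a).inv_mem hq))) hu

/-- `Q` is not abelian when `p` is odd. -/
theorem Qs_not_comm (S : TvS p V K a c) {x : G} (hx : x ∈ K)
    (hy : a⁻¹ * (x * a * x⁻¹) ≠ 1) (h2 : p ≠ 2) : ¬ IsMulCommutative (Qs K a) := by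
  intro hcomm
  have hza : zpowers a ≤ normalizer (Qs K a : Set G) :=
    Subgroup.zpowers_le.mpr S.a_mem_normalizer_Qs
  have hcop : (Nat.card (zpowers a)).Coprime (Nat.card (Qs K a)) := by
    rw [S.card_zpowers_a]; exact S.card_Qs_coprime.symm
  have hcopK : (Nat.card (zpowers a)).Coprime (Nat.card K) := by
    rw [S.card_zpowers_a]; exact S.hKp.symm
  have h1 := ZCoprime.commutator_inf_centralizer_eq_bot (zpowers a) (Qs K a) hza hcop
  have hsolv : Group.IsSolvable (zpowers a) := inferInstance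
  have h3 : ⁅Qs K a, zpowers a⁆ = Qs K a :=
    commutator_commutator_eq (zpowers a) K S.zpowers_a_le_normalizer hcopK (Or.inl hsolv)
  rw [h3] at h1
  -- count fixed points
  let act : MulDistribMulAction (zpowers a) (Qs K a) :=
    Cfsg.Agent.S0041.conjAction (zpowers a) (Qs K a) hza
  have hsmul : ∀ (z : zpowers a) (v : Qs K a), ((z • v : Qs K a) : G) = (z : G) * (v : G) * (z : G)⁻¹ :=
    fun _ _ => rfl
  have hP : IsPGroup p (zpowers a) := IsPGroup.of_card (n := 1) (by rw [S.card_zpowers_a, pow_one])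
  have hmod := hP.card_modEq_card_fixedPoints (Qs K a)
  have hfix : Nat.card (MulAction.fixedPoints (zpowers a) (Qs K a)) = 1 := by
    rw [Nat.card_eq_one_iff_unique]
    refine ⟨⟨?_⟩, ⟨⟨1, fun z => smul_one z⟩⟩⟩
    rintro ⟨v, hv⟩ ⟨w, hw⟩
    have key : ∀ v : Qs K a, v ∈ MulAction.fixedPoints (zpowers a) (Qs K a) → v = 1 := by
      intro v hv
      have hmem : (v : G) ∈ Qs K a ⊓ centralizer (zpowers a : Set G) := by
        refine mem_inf.mpr ⟨v.2, ?_⟩
        rw [mem_centralizer_iff]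
        intro z hz
        have := congrArg Subtype.val (hv ⟨z, hz⟩)
        rw [hsmul] at this
        simp only at this
        calc z * (v : G) = (z * (v : G) * z⁻¹) * z := by group
          _ = (v : G) * z := by rw [this]
      rw [h1, mem_bot] at hmem
      exact Subtype.ext hmem
    apply Subtype.ext
    exact (key v hv).trans (key w hw).symm
  rw [hfix, S.card_Qs_eq hx hy] at hmod
  -- `p² - 1 ≡ 1 (mod p)` forces `p = 2`
  have h4 : (p ^ 2 - 1 + 1) ≡ 1 + 1 [MOD p] := Nat.ModEq.add_right 1 hmod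
  have h5 : p ^ 2 - 1 + 1 = p ^ 2 := by
    have := hp.out.two_le
    have : 4 ≤ p ^ 2 := by nlinarith
    omega
  rw [h5] at h4
  have h6 : p ∣ 2 := by
    have : p ^ 2 ≡ 0 [MOD p] := (Nat.modEq_zero_iff_dvd).mpr (dvd_pow_self p (by norm_num))
    exact (Nat.modEq_zero_iff_dvd).mp (h4.symm.trans this)
  exact h2 ((Nat.prime_dvd_prime_iff_eq hp.out Nat.prime_two).mp h6)

end TvS

end Cfsg.Agent.Helper1.FF
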