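import Mathlib
import Cfsg.Prelude.Def_PLocal
import Cfsg.Agent.Lib.Helper1.FFE
import Cfsg.Agent.Lib.Helper30.AxB
import Cfsg.Agent.Lib.Helper52.Hyperplane

/-!
# Best offenders are direct products of transvection groups (Glauberman, KS 9.3.7 (a)–(c))
-/

set_option autoImplicit false
set_option linter.unusedSectionVars false

namespace Cfsg.Agent.Helper1.FF

open Subgroup
open scoped commutatorElement
open Cfsg.Agent.Helper1

variable {G : Type*} [Group G]

/-! ### Generalities -/

theorem card_mul_relIndex' {X Y : Subgroup G} (h : X ≤ Y) :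
    Nat.card X * X.relIndex Y = Nat.card Y := by
  have := Subgroup.relIndex_mul_relIndex (⊥ : Subgroup G) X Y bot_le h
  rwa [Subgroup.relIndex_bot_left, Subgroup.relIndex_bot_left] at this

theorem card_sup_le_mul [Finite G] (X Y : Subgroup G) (h : X ≤ normalizer (Y : Set G)) :
    Nat.card (X ⊔ Y : Subgroup G) ≤ Nat.card X * Nat.card Y := by
  have h1 := S4Free.card_sup_mul_card_inf' X Y h
  have h2 : 1 ≤ Nat.card (X ⊓ Y : Subgroup G) := Nat.one_le_iff_ne_zero.mpr Nat.card_pos.ne'
  calc Nat.card (X ⊔ Y : Subgroup G) = Nat.card (X ⊔ Y : Subgroup G) * 1 := (mul_one _).symm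
    _ ≤ Nat.card (X ⊔ Y : Subgroup G) * Nat.card (X ⊓ Y : Subgroup G) := Nat.mul_le_mul_left _ h2
    _ = _ := h1

theorem le_centralizer_biSup {ι : Type*} (B : ι → Subgroup G)
    (hcomm : ∀ i j, i ≠ j → B i ≤ centralizer (B j : Set G)) (S : Finset ι) (i : ι) (hi : i ∉ S) :
    B i ≤ centralizer ((⨆ j ∈ S, B j : Subgroup G) : Set G) := by
  rw [le_centralizer_iff]
  apply iSup₂_le
  intro j hj
  rw [le_centralizer_iff]
  apply hcomm
  rintro rfl
  exact hi hj

theorem card_biSup_le [Finite G] {ι : Type*} [DecidableEq ι] (B : ι → Subgroup G)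
    (hcomm : ∀ i j, i ≠ j → B i ≤ centralizer (B j : Set G)) (S : Finset ι) :
    Nat.card ↥(⨆ i ∈ S, B i) ≤ ∏ i ∈ S, Nat.card (B i) := by
  induction S using Finset.induction_on with
  | empty => simp
  | insert i S hi ih =>
    rw [Finset.iSup_insert, Finset.prod_insert hi]
    refine (card_sup_le_mul _ _ ?_).trans (Nat.mul_le_mul_left _ ih)
    exact (le_centralizer_biSup B hcomm S i hi).trans (centralizer_le_normalizer _)

/-- **Cardinality criterion for independence.** -/
theorem iSupIndep_of_card [Finite G] {ι : Type*} [Fintype ι] (B : ι → Subgroup G)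
    (hcomm : ∀ i j, i ≠ j → B i ≤ centralizer (B j : Set G))
    (hcard : Nat.card ↥(⨆ i, B i) = ∏ i, Nat.card (B i)) : iSupIndep B := by
  classical
  intro i
  have hR : (⨆ (j) (_ : j ≠ i), B j) = ⨆ j ∈ (Finset.univ.erase i), B j := by
    apply le_antisymm
    · apply iSup₂_le
      intro j hj
      exact le_iSup₂_of_le j (Finset.mem_erase.mpr ⟨hj, Finset.mem_univ j⟩) le_rfl
    · apply iSup₂_le
      intro j hj
      exact le_iSup₂_of_le j (Finset.mem_erase.mp hj).1 le_rfl
  rw [hR]
  set R := ⨆ j ∈ (Finset.univ.erase i), B j with hRdef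
  have hall : (⨆ j, B j) = B i ⊔ R := by
    have h1 := Finset.iSup_insert i (Finset.univ.erase i) B
    rw [Finset.insert_erase (Finset.mem_univ i)] at h1
    rw [← h1]
    simp
  have hnorm : B i ≤ normalizer (R : Set G) :=
    (le_centralizer_biSup B hcomm _ i (Finset.notMem_erase i _)).trans (centralizer_le_normalizer _)
  have h1 := S4Free.card_sup_mul_card_inf' (B i) R hnorm
  have h2 : Nat.card R ≤ ∏ j ∈ Finset.univ.erase i, Nat.card (B j) := card_biSup_le B hcomm _
  have h3 : Nat.card (B i) * ∏ j ∈ Finset.univ.erase i, Nat.card (B j) = ∏ j, Nat.card (B j) :=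
    Finset.mul_prod_erase Finset.univ (fun j => Nat.card (B j)) (Finset.mem_univ i)
  rw [← hall, hcard, ← h3] at h1
  have hpos : 0 < Nat.card (B i) * ∏ j ∈ Finset.univ.erase i, Nat.card (B j) := by
    apply Nat.mul_pos Nat.card_pos
    apply Finset.prod_pos
    intro j _
    exact Nat.card_pos
  have h4 : Nat.card (B i ⊓ R : Subgroup G) ≤ 1 := by
    by_contra hcon
    push Not at hcon
    have : Nat.card (B i) * ∏ j ∈ Finset.univ.erase i, Nat.card (B j) <
        (Nat.card (B i) * ∏ j ∈ Finset.univ.erase i, Nat.card (B j)) *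
          Nat.card (B i ⊓ R : Subgroup G) := by
      calc _ = (Nat.card (B i) * ∏ j ∈ Finset.univ.erase i, Nat.card (B j)) * 1 := (mul_one _).symm
        _ < _ := Nat.mul_lt_mul_of_pos_left hcon hpos
    rw [h1] at this
    exact absurd (Nat.mul_le_mul_left _ h2) (not_le.mpr this)
  rw [disjoint_iff]
  exact Subgroup.eq_bot_of_card_le _ h4

/-- A `p`-element normalizing a subgroup of order `p` centralizes it. -/
theorem commute_of_card_prime [Finite G] {p : ℕ} [hp : Fact p.Prime] {a : G} {R : Subgroup G}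
    (hap : a ^ p = 1) (haR : a ∈ normalizer (R : Set G)) (hR : Nat.card R = p) :
    ∀ r ∈ R, a * r = r * a := by
  have hza : zpowers a ≤ normalizer (R : Set G) := Subgroup.zpowers_le.mpr haR
  let act : MulDistribMulAction (zpowers a) R := Cfsg.Agent.S0041.conjAction (zpowers a) R hza
  have hsmul : ∀ (z : zpowers a) (v : R), ((z • v : R) : G) = (z : G) * (v : G) * (z : G)⁻¹ :=
    fun _ _ => rfl
  have hP : IsPGroup p (zpowers a) := by
    intro z
    refine ⟨1, ?_⟩
    obtain ⟨n, hn⟩ := mem_zpowers_iff.mp z.2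
    apply Subtype.ext
    rw [pow_one, Subgroup.coe_pow, ← hn, Subgroup.coe_one, ← zpow_natCast, ← zpow_mul, mul_comm,
      zpow_mul, zpow_natCast, hap, one_zpow]
  have hmod := hP.card_modEq_card_fixedPoints R
  rw [hR] at hmod
  have hdvd : p ∣ Nat.card (MulAction.fixedPoints (zpowers a) R) := by
    have h0 : p ≡ 0 [MOD p] := (Nat.modEq_zero_iff_dvd).mpr dvd_rfl
    exact (Nat.modEq_zero_iff_dvd).mp (hmod.symm.trans h0)
  have hle : Nat.card (MulAction.fixedPoints (zpowers a) R) ≤ Nat.card R :=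
    Nat.card_le_card_of_injective _ Subtype.val_injective
  have hpos : 0 < Nat.card (MulAction.fixedPoints (zpowers a) R) := by
    rw [Nat.card_pos_iff]
    exact ⟨⟨⟨1, fun z => smul_one z⟩⟩, inferInstance⟩
  have hge : p ≤ Nat.card (MulAction.fixedPoints (zpowers a) R) := Nat.le_of_dvd hpos hdvd
  have hall : ∀ v : R, v ∈ MulAction.fixedPoints (zpowers a) R := by
    have hsurj : Function.Surjective (Subtype.val : MulAction.fixedPoints (zpowers a) R → R) := by
      have hbij : Function.Bijective (Subtype.val : MulAction.fixedPoints (zpowers a) R → R) := by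
        rw [Nat.bijective_iff_injective_and_card]
        exact ⟨Subtype.val_injective, le_antisymm hle (hR ▸ hge)⟩
      exact hbij.2
    intro v
    obtain ⟨w, rfl⟩ := hsurj v
    exact w.2
  intro r hr
  have := congrArg Subtype.val (hall ⟨r, hr⟩ ⟨a, mem_zpowers a⟩)
  rw [hsmul] at this
  simp only at this
  calc a * r = (a * r * a⁻¹) * a := by group
    _ = r * a := by rw [this]

/-- the commutator map `v ↦ [a, v]` on `V` -/
noncomputable def commHom {p : ℕ} {V : Subgroup G} (hV : EA p V) {a : G}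
    (ha : a ∈ normalizer (V : Set G)) : V →* V :=
  MonoidHom.mk' (fun v => ⟨⁅a, (v : G)⁆, comm_mem ha v.2⟩)
    (fun v w => Subtype.ext (hV.comm_mul ha v.2 w.2))

theorem commHom_apply {p : ℕ} {V : Subgroup G} (hV : EA p V) {a : G}
    (ha : a ∈ normalizer (V : Set G)) (v : V) : ((commHom hV ha v : V) : G) = ⁅a, (v : G)⁆ := rfl

theorem centralizer_zpowers_eq (a : G) :
    centralizer ((zpowers a : Subgroup G) : Set G) = centralizer {a} := by
  apply le_antisymm
  · exact centralizer_le (by simp)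
  · intro g hg
    rw [mem_centralizer_iff] at hg ⊢
    intro z hz
    obtain ⟨n, rfl⟩ := mem_zpowers_iff.mp hz
    have : Commute a g := hg a rfl
    exact (this.zpow_left n)

theorem mem_centralizer_zpowers_iff {a g : G} :
    g ∈ centralizer ((zpowers a : Subgroup G) : Set G) ↔ a * g = g * a := by
  rw [centralizer_zpowers_eq, mem_centralizer_iff]
  constructor
  · intro h; exact h a rfl
  · intro h z hz
    rw [Set.mem_singleton_iff] at hz
    rw [hz]; exact h

theorem card_ker_commHom {p : ℕ} {V : Subgroup G} (hV : EA p V) {a : G}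
    (ha : a ∈ normalizer (V : Set G)) :
    Nat.card (commHom hV ha).ker = Nat.card ↥(V ⊓ centralizer ((zpowers a : Subgroup G) : Set G)) := by
  have : (commHom hV ha).ker = (V ⊓ centralizer ((zpowers a : Subgroup G) : Set G)).subgroupOf V := by
    ext v
    rw [MonoidHom.mem_ker, mem_subgroupOf, mem_inf, mem_centralizer_zpowers_iff]
    constructor
    · intro h
      have h1 : ⁅a, (v : G)⁆ = 1 := congrArg Subtype.val h
      exact ⟨v.2, comm_eq_one_iff.mp h1⟩
    · intro h
      apply Subtype.ext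
      exact comm_eq_one_iff.mpr h.2
  rw [this, card_subgroupOf_of_le inf_le_left]

/-- **From index `p` to transvections.** -/
theorem exists_isTv [Finite G] {p : ℕ} [hp : Fact p.Prime] {V : Subgroup G} (hV : EA p V) {a : G}
    (haN : a ∈ normalizer (V : Set G)) (hap : a ^ p = 1)
    (hidx : p * Nat.card ↥(V ⊓ centralizer ((zpowers a : Subgroup G) : Set G)) = Nat.card V) :
    ∃ c, IsTv p V a c := by
  set δ := commHom hV haN with hδ
  have h1 : Nat.card δ.ker * Nat.card δ.range = Nat.card V := by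
    rw [← Subgroup.index_ker]; exact Subgroup.card_mul_index _
  rw [card_ker_commHom, ← hidx, mul_comm] at h1
  have hcardR : Nat.card δ.range = p :=
    Nat.eq_of_mul_eq_mul_right Nat.card_pos h1
  -- the range as a subgroup of `G`
  set R : Subgroup G := δ.range.map V.subtype with hRdef
  have hRcard : Nat.card R = p := by
    rw [hRdef, Subgroup.card_map_of_injective V.subtype_injective, hcardR]
  have hmemR : ∀ v ∈ V, ⁅a, v⁆ ∈ R := fun v hv => ⟨δ ⟨v, hv⟩, ⟨⟨v, hv⟩, rfl⟩, rfl⟩
  have hRV : R ≤ V := by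
    rintro _ ⟨r, -, rfl⟩
    exact r.2
  have hR_elim : ∀ r ∈ R, ∃ v ∈ V, r = ⁅a, v⁆ := by
    rintro _ ⟨_, ⟨v, rfl⟩, rfl⟩
    exact ⟨v, v.2, rfl⟩
  -- `a` normalizes `R`
  have haR : a ∈ normalizer (R : Set G) := by
    have key : ∀ g : G, g ∈ normalizer (V : Set G) → g * a = a * g → ∀ r ∈ R, g * r * g⁻¹ ∈ R := by
      intro g hg hga r hr
      obtain ⟨v, hv, rfl⟩ := hR_elim r hr
      have : g * ⁅a, v⁆ * g⁻¹ = ⁅a, g * v * g⁻¹⁆ := by
        have h2 : g * ⁅a, v⁆ * g⁻¹ = ⁅g * a * g⁻¹, g * v * g⁻¹⁆ := by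
          simp only [commutatorElement_def]; group
        have h3 : g * a * g⁻¹ = a := by rw [hga]; group
        rw [h2, h3]
      rw [this]
      exact hmemR _ (conj_mem hg hv)
    rw [mem_normalizer_iff]
    intro r
    constructor
    · exact key a haN rfl r
    · intro h
      have := key a⁻¹ ((normalizer (V : Set G)).inv_mem haN) (by group) _ h
      have e : a⁻¹ * (a * r * a⁻¹) * a⁻¹⁻¹ = r := by group
      rwa [e] at this
  have hcomm := commute_of_card_prime hap haR hRcard
  -- pick a nonidentity element of `R`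
  have hnt : Nontrivial R := by
    rw [← Finite.one_lt_card_iff_nontrivial, hRcard]
    exact hp.out.one_lt
  obtain ⟨⟨c, hc⟩, hc0⟩ := exists_ne (1 : R)
  have hc1 : c ≠ 1 := fun h => hc0 (Subtype.ext h)
  have hRc : R = zpowers c := by
    symm
    apply Subgroup.eq_of_le_of_card_ge (Subgroup.zpowers_le.mpr hc)
    rw [hRcard, Nat.card_zpowers, orderOf_eq_prime (hV.exp c (hRV hc)) hc1]
  obtain ⟨v₀, hv₀, hcv⟩ := hR_elim c hc
  exact ⟨c, ⟨haN, hap, hRV hc, fun v hv => hRc ▸ hmemR v hv, hcomm c hc,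
    ⟨v₀, hv₀, hcv ▸ hc1⟩⟩⟩

namespace IsTv

variable {p : ℕ} [hp : Fact p.Prime] {V : Subgroup G} {a c : G}

theorem a_mem_stabS (hT : IsTv p V a c) : a ∈ stabS V (zpowers c) := by
  refine ⟨hT.hN, ?_, hT.him⟩
  rw [mem_normalizer_iff]
  intro r
  have key : ∀ g : G, g * c = c * g → ∀ r ∈ zpowers c, g * r * g⁻¹ ∈ zpowers c := by
    intro g hg r hr
    have := commute_zpowers hg r hr
    rw [this]; simpa using hr
  constructor
  · exact key a hT.hac r
  · intro h
    have hinv : a⁻¹ * c = c * a⁻¹ := by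
      have : Commute a c := hT.hac
      exact this.inv_left
    have := key a⁻¹ hinv _ h
    have e : a⁻¹ * (a * r * a⁻¹) * a⁻¹⁻¹ = r := by group
    rwa [e] at this

/-- `[V, ⟨a⟩] = ⟨c⟩`. -/
theorem commutator_eq (hT : IsTv p V a c) (hV : EA p V) : ⁅V, zpowers a⁆ = zpowers c := by
  apply le_antisymm
  · rw [commutator_le]
    intro v hv z hz
    rw [← commutatorElement_inv]
    have hz' : z ∈ stabS V (zpowers c) := (Subgroup.zpowers_le.mpr hT.a_mem_stabS) hz
    exact (zpowers c).inv_mem (hz'.2.2 v hv)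
  · obtain ⟨v, hv, hne⟩ := hT.hne
    have h1 : c ∈ zpowers ⁅a, v⁆ := mem_zpowers_swap (hV.exp c hT.hc) (hT.him v hv) hne
    rw [Subgroup.zpowers_le]
    refine (Subgroup.zpowers_le.mpr ?_) h1
    rw [← inv_inv ⁅a, v⁆, commutatorElement_inv]
    exact (⁅V, zpowers a⁆).inv_mem (commutator_mem_commutator hv (mem_zpowers a))

theorem card_commutator [Finite G] (hT : IsTv p V a c) (hV : EA p V) :
    Nat.card ↥(⁅V, zpowers a⁆) = p := by
  rw [hT.commutator_eq hV, Nat.card_zpowers, orderOf_eq_prime (hV.exp c hT.hc) hT.c_ne_one]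

end IsTv

end Cfsg.Agent.Helper1.FF
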