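import Mathlib
import Cfsg.Prelude.Def_PLocal
import Cfsg.Agent.Lib.Helper1.FFG

/-!
# Best offenders are direct products of transvection groups (Glauberman, KS 9.3.7 (a)–(c))
-/

set_option autoImplicit false
set_option linter.unusedSectionVars false

namespace Cfsg.Agent.Helper1.FF

open Subgroup
open scoped commutatorElement
open Cfsg.Agent.Helper1

variable {G : Type*} [Group G]

/-- The global setting. -/
structure FFS (p : ℕ) (V H K : Subgroup G) : Prop where
  hV : EA p V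
  hHV : H ≤ normalizer (V : Set G)
  hf : ∀ g ∈ H, (∀ v ∈ V, g * v = v * g) → g = 1
  hKH : K ≤ H
  hHK : H ≤ normalizer (K : Set G)
  hKp : (Nat.card K).Coprime p
  hCK : ∀ g ∈ H, (∀ k ∈ K, g * k = k * g) → g ∈ K

theorem inf_centralizer_bot (V : Subgroup G) :
    V ⊓ centralizer (((⊥ : Subgroup G) : Subgroup G) : Set G) = V := by
  apply le_antisymm inf_le_left
  intro v hv
  refine mem_inf.mpr ⟨hv, ?_⟩
  rw [mem_centralizer_iff]
  intro h hh
  have : h = 1 := hh
  rw [this]; simp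

namespace FFS

variable {p : ℕ} [hp : Fact p.Prime] {V H K : Subgroup G} [Finite G]

/-- data attached to a best offender in `H` -/
theorem bo_comm (F : FFS p V H K) {A : Subgroup G} (hAH : A ≤ H)
    (hA : Cfsg.IsBestOffenderOn p V A) : ∀ x ∈ A, ∀ y ∈ A, x * y = y * x := by
  intro x hx y hy
  have h1 : ⁅x, y⁆ ∈ centralizer (V : Set G) := hA.2.1 (commutator_mem_commutator hx hy)
  have h2 : ⁅x, y⁆ = 1 := by
    apply F.hf _ (H.mul_mem (H.mul_mem (H.mul_mem (hAH hx) (hAH hy)) (H.inv_mem (hAH hx)))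
      (H.inv_mem (hAH hy)))
    intro v hv
    exact (mem_centralizer_iff.mp h1 v hv).symm
  exact comm_eq_one_iff.mp h2

theorem bo_exp (F : FFS p V H K) {A : Subgroup G} (hAH : A ≤ H)
    (hA : Cfsg.IsBestOffenderOn p V A) : ∀ x ∈ A, x ^ p = 1 := by
  intro x hx
  apply F.hf _ (H.pow_mem (hAH hx) p)
  intro v hv
  exact (mem_centralizer_iff.mp (hA.2.2 x hx) v hv).symm

theorem bo_isPGroup (F : FFS p V H K) {A : Subgroup G} (hAH : A ≤ H)
    (hA : Cfsg.IsBestOffenderOn p V A) : IsPGroup p A := by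
  intro x
  exact ⟨1, by rw [pow_one]; exact Subtype.ext (F.bo_exp hAH hA x x.2)⟩

theorem isPGroup_V (F : FFS p V H K) : IsPGroup p V := TvS.isPGroup_of_ea F.hV

/-- a `p`-element of `K` is trivial -/
theorem eq_one_of_mem_K (F : FFS p V H K) {x : G} (hxK : x ∈ K) (hxp : x ^ p = 1) : x = 1 := by
  have h1 : orderOf x ∣ p := orderOf_dvd_of_pow_eq_one hxp
  have h2 : orderOf x ∣ Nat.card K := by
    have := orderOf_dvd_natCard (⟨x, hxK⟩ : K)
    rwa [Subgroup.orderOf_mk] at this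
  have h3 : orderOf x = 1 := Nat.eq_one_of_dvd_coprimes F.hKp h2 h1
  exact orderOf_eq_one_iff.mp h3

/-- a `p`-element of `H` centralizing `K` is trivial -/
theorem eq_one_of_centralizes_K (F : FFS p V H K) {x : G} (hxH : x ∈ H) (hxp : x ^ p = 1)
    (hxK : ∀ k ∈ K, x * k = k * x) : x = 1 :=
  F.eq_one_of_mem_K (F.hCK x hxH hxK) hxp

/-- a nontrivial `p`-subgroup of exponent `p` of `H` does not centralize `K` -/
theorem not_le_centralizer (F : FFS p V H K) {A : Subgroup G} (hAH : A ≤ H)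
    (hexp : ∀ x ∈ A, x ^ p = 1) (hA1 : A ≠ ⊥) : ¬ K ≤ centralizer (A : Set G) := by
  intro h
  apply hA1
  rw [eq_bot_iff]
  intro x hx
  rw [mem_bot]
  apply F.eq_one_of_centralizes_K (hAH hx) (hexp x hx)
  intro k hk
  exact (mem_centralizer_iff.mp (h hk) x hx)

/-- a nontrivial subgroup of `H` acts nontrivially on `V` -/
theorem fix_lt (F : FFS p V H K) {A : Subgroup G} (hAH : A ≤ H) (hA1 : A ≠ ⊥) :
    Nat.card ↥(V ⊓ centralizer (A : Set G)) < Nat.card V := by
  have hle : V ⊓ centralizer (A : Set G) ≤ V := inf_le_left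
  apply lt_of_le_of_ne (Subgroup.card_le_of_le hle)
  intro hcard
  have heq : V ⊓ centralizer (A : Set G) = V := Subgroup.eq_of_le_of_card_ge hle hcard.ge
  apply hA1
  rw [eq_bot_iff]
  intro x hx
  rw [mem_bot]
  apply F.hf x (hAH hx)
  intro v hv
  have : v ∈ V ⊓ centralizer (A : Set G) := by rw [heq]; exact hv
  exact (mem_centralizer_iff.mp (mem_inf.mp this).2 x hx)

theorem commutator_V_ne_bot (F : FFS p V H K) {A : Subgroup G} (hAH : A ≤ H) (hA1 : A ≠ ⊥) :
    ⁅V, A⁆ ≠ ⊥ := by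
  intro h
  rw [commutator_eq_bot_iff_le_centralizer] at h
  have h1 : V ⊓ centralizer (A : Set G) = V := inf_eq_left.mpr h
  have := F.fix_lt hAH hA1
  rw [h1] at this
  exact lt_irrefl _ this

theorem ne_bot_of_commutator (V : Subgroup G) {A : Subgroup G} (h : ⁅V, A⁆ ≠ ⊥) : A ≠ ⊥ := by
  rintro rfl
  exact h (Subgroup.commutator_bot_right V)

/-- strictly smaller `p`-subgroups -/
theorem mul_card_le_of_lt {X Y : Subgroup G} (hY : IsPGroup p Y) (hXY : X ≤ Y) (hne : X ≠ Y) :
    p * Nat.card X ≤ Nat.card Y := by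
  have h1 := card_mul_relIndex' hXY
  have h2 : X.relIndex Y ≠ 1 := by
    intro h
    exact hne (le_antisymm hXY (Subgroup.relIndex_eq_one.mp h))
  obtain ⟨n, hn⟩ := hY.exists_card_eq
  have h3 : X.relIndex Y ∣ p ^ n := hn ▸ Subgroup.relIndex_dvd_card X Y
  obtain ⟨k, -, hk⟩ := (Nat.dvd_prime_pow hp.out).mp h3
  have hk0 : k ≠ 0 := by
    rintro rfl
    exact h2 (by rw [hk, pow_zero])
  have h4 : p ∣ X.relIndex Y := by rw [hk]; exact dvd_pow_self p hk0
  have h5 : p ≤ X.relIndex Y := Nat.le_of_dvd (Nat.pos_of_ne_zero (by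
    intro h0
    rw [h0, mul_zero] at h1
    exact Nat.card_pos.ne' h1.symm)) h4
  calc p * Nat.card X = Nat.card X * p := mul_comm _ _
    _ ≤ Nat.card X * X.relIndex Y := Nat.mul_le_mul_left _ h5
    _ = Nat.card Y := h1

/-- a subgroup of order `p` whose fixed points have index `p` is a best offender -/
theorem bo_of_card_prime {T : Subgroup G} (hT : Nat.card T = p)
    (hidx : p * Nat.card ↥(V ⊓ centralizer (T : Set G)) = Nat.card V) :
    Cfsg.IsBestOffenderOn p V T := by
  have hcyc : IsCyclic T := isCyclic_of_prime_card hT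
  refine ⟨?_, ?_, ?_⟩
  · intro B hB
    rw [hT, hidx]
    have hd : Nat.card B ∣ p := hT ▸ Subgroup.card_dvd_of_le hB
    rcases (Nat.dvd_prime hp.out).mp hd with h1 | h1
    · have hB1 : B = ⊥ := Subgroup.eq_bot_of_card_le _ h1.le
      rw [hB1, inf_centralizer_bot, Subgroup.card_bot, one_mul]
    · have hBT : B = T := Subgroup.eq_of_le_of_card_ge hB (by rw [h1, hT])
      rw [hBT, hT, hidx]
  · have : ⁅T, T⁆ = ⊥ := by
      rw [commutator_eq_bot_iff_le_centralizer]
      intro x hx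
      rw [mem_centralizer_iff]
      intro y hy
      obtain ⟨g, hg⟩ := hcyc.exists_generator
      obtain ⟨m, hm⟩ := mem_zpowers_iff.mp (hg ⟨x, hx⟩)
      obtain ⟨n, hn⟩ := mem_zpowers_iff.mp (hg ⟨y, hy⟩)
      have hx' : x = (g : G) ^ m := by rw [← Subgroup.coe_zpow, hm]
      have hy' : y = (g : G) ^ n := by rw [← Subgroup.coe_zpow, hn]
      rw [hx', hy', ← zpow_add, ← zpow_add, add_comm]
    rw [this]; exact bot_le
  · intro x hx
    have : x ^ p = 1 := by
      have h := pow_card_eq_one' (G := T) (x := ⟨x, hx⟩)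
      rw [hT] at h
      exact congrArg Subtype.val h
    rw [this]; exact Subgroup.one_mem _

/-- **Hyperplane step.** -/
theorem hyperplane_step (F : FFS p V H K) {A A₀ : Subgroup G} (hAH : A ≤ H)
    (hA : Cfsg.IsBestOffenderOn p V A) (hA₀ : A₀ ≤ A) (hidx : Nat.card A = p * Nat.card A₀)
    (hL : ¬ (K ⊓ centralizer (A₀ : Set G) ≤ centralizer (A : Set G))) :
    Cfsg.IsBestOffenderOn p V A₀ ∧
      Nat.card A₀ * Nat.card ↥(V ⊓ centralizer (A₀ : Set G)) =
        Nat.card A * Nat.card ↥(V ⊓ centralizer (A : Set G)) := by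
  have hcomm := F.bo_comm hAH hA
  have hexp := F.bo_exp hAH hA
  set L := K ⊓ centralizer (A₀ : Set G) with hLdef
  set B := ⁅L, A⁆ with hBdef
  set W := V ⊓ centralizer (A₀ : Set G) with hWdef
  have hAK : A ≤ normalizer (K : Set G) := hAH.trans F.hHK
  have hBK : B ≤ K := (commutator_mono inf_le_left le_rfl).trans (commutator_le_of_le_normalizer hAK)
  have hBH : B ≤ H := hBK.trans F.hKH
  have hB1 : B ≠ ⊥ := by
    intro h
    rw [hBdef, commutator_eq_bot_iff_le_centralizer] at h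
    exact hL h
  have hAcent : A ≤ centralizer (A₀ : Set G) := by
    intro x hx
    rw [mem_centralizer_iff]
    intro y hy
    exact hcomm y (hA₀ hy) x hx
  have hBcent : B ≤ centralizer (A₀ : Set G) := by
    rw [hBdef, commutator_le]
    intro l hl x hx
    have h1 : l ∈ centralizer (A₀ : Set G) := (mem_inf.mp hl).2
    have h2 : x ∈ centralizer (A₀ : Set G) := hAcent hx
    rw [commutatorElement_def]
    exact Subgroup.mul_mem _ (Subgroup.mul_mem _ (Subgroup.mul_mem _ h1 h2)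
      (Subgroup.inv_mem _ h1)) (Subgroup.inv_mem _ h2)
  have hAB : ⁅A₀, B⁆ = ⊥ := by
    rw [commutator_eq_bot_iff_le_centralizer, le_centralizer_iff]
    exact hBcent
  have hA₀p : IsPGroup p A₀ := (F.bo_isPGroup hAH hA).to_le hA₀
  have hBp : (Nat.card B).Coprime p :=
    Nat.Coprime.coprime_dvd_left (Subgroup.card_dvd_of_le hBK) F.hKp
  have hnotC : ¬ (W ≤ centralizer (B : Set G)) := by
    intro hC
    have h1 := Cfsg.Agent.Helper30.thompson_AxB A₀ B hA₀p hBp hAB V F.isPGroup_V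
      (hA₀.trans (hAH.trans F.hHV)) (hBH.trans F.hHV) hC
    rw [commutator_eq_bot_iff_le_centralizer, le_centralizer_iff] at h1
    apply hB1
    rw [eq_bot_iff]
    intro b hb
    rw [mem_bot]
    apply F.hf b (hBH hb)
    intro v hv
    exact (mem_centralizer_iff.mp (h1 hb) v hv).symm
  -- `A` does not centralize `W`
  have hnotA : ¬ (W ≤ centralizer (A : Set G)) := by
    intro hWA
    apply hnotC
    rw [le_centralizer_iff, hBdef, commutator_le]
    intro l hl x hx
    have hx' : x ∈ centralizer (W : Set G) := (le_centralizer_iff.mp hWA) hx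
    -- `l` normalizes `W`
    have hlW : ∀ w ∈ W, l⁻¹ * w * l ∈ W := by
      intro w hw
      have hlV : l ∈ normalizer (V : Set G) := F.hHV (F.hKH (mem_inf.mp hl).1)
      refine mem_inf.mpr ⟨conj_mem' hlV (mem_inf.mp hw).1, ?_⟩
      have h1 : l ∈ centralizer (A₀ : Set G) := (mem_inf.mp hl).2
      exact Subgroup.mul_mem _ (Subgroup.mul_mem _ (Subgroup.inv_mem _ h1) (mem_inf.mp hw).2) h1
    rw [mem_centralizer_iff]
    intro w hw
    have h1 : (l⁻¹ * w * l) * x = x * (l⁻¹ * w * l) := mem_centralizer_iff.mp hx' _ (hlW w hw)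
    have h2 : w * x⁻¹ = x⁻¹ * w := by
      have := mem_centralizer_iff.mp hx' w hw
      calc w * x⁻¹ = x⁻¹ * (x * w) * x⁻¹ := by group
        _ = x⁻¹ * (w * x) * x⁻¹ := by rw [this]
        _ = x⁻¹ * w := by group
    rw [commutatorElement_def]
    calc w * (l * x * l⁻¹ * x⁻¹) = l * ((l⁻¹ * w * l) * x) * l⁻¹ * x⁻¹ := by group
      _ = l * (x * (l⁻¹ * w * l)) * l⁻¹ * x⁻¹ := by rw [h1]
      _ = l * x * l⁻¹ * (w * x⁻¹) := by group
      _ = l * x * l⁻¹ * (x⁻¹ * w) := by rw [h2]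
      _ = l * x * l⁻¹ * x⁻¹ * w := by group
  -- cardinalities
  set C := V ⊓ centralizer (A : Set G) with hCdef
  have hCW : C ≤ W := inf_le_inf_left _ (centralizer_le hA₀)
  have hCne : C ≠ W := by
    intro h
    apply hnotA
    rw [← h]
    exact inf_le_right
  have hWp : IsPGroup p W := F.isPGroup_V.to_le inf_le_left
  have h1 : p * Nat.card C ≤ Nat.card W := mul_card_le_of_lt hWp hCW hCne
  have h2 := hA.1 A₀ hA₀
  rw [hidx] at h2
  have hA₀pos : 0 < Nat.card A₀ := Nat.card_pos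
  have h3 : Nat.card W ≤ p * Nat.card C := by
    have : Nat.card A₀ * Nat.card W ≤ Nat.card A₀ * (p * Nat.card C) := by
      calc Nat.card A₀ * Nat.card W ≤ p * Nat.card A₀ * Nat.card C := h2
        _ = Nat.card A₀ * (p * Nat.card C) := by ring
    exact Nat.le_of_mul_le_mul_left this hA₀pos
  have h4 : Nat.card W = p * Nat.card C := le_antisymm h3 h1
  have heq : Nat.card A₀ * Nat.card W = Nat.card A * Nat.card C := by
    rw [hidx, h4]; ring
  refine ⟨⟨?_, ?_, ?_⟩, heq⟩
  · intro B' hB'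
    rw [heq]
    exact hA.1 B' (hB'.trans hA₀)
  · exact (commutator_mono hA₀ hA₀).trans hA.2.1
  · intro x hx
    exact hA.2.2 x (hA₀ hx)

theorem card_hyperplane {X Y : Subgroup G} (hY : IsPGroup p Y) (hXY : X ≤ Y) (hne : X ≠ Y)
    (hidx : X.relIndex Y ≤ p) : Nat.card Y = p * Nat.card X := by
  apply le_antisymm
  · rw [← card_mul_relIndex' hXY, mul_comm]
    exact Nat.mul_le_mul_right _ hidx
  · exact mul_card_le_of_lt hY hXY hne

/-- the structure of a best offender -/
def BOStruct (p : ℕ) (V A : Subgroup G) : Prop :=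
  Nat.card A * Nat.card ↥(V ⊓ centralizer (A : Set G)) = Nat.card V ∧
    ∃ (ι : Type) (_ : Fintype ι) (B : ι → Subgroup G),
      (∀ i, B i ≤ A ∧ Nat.card (B i) = p ∧
        p * Nat.card ↥(V ⊓ centralizer (B i : Set G)) = Nat.card V) ∧
      (⨆ i, B i) = A ∧ Nat.card A = p ^ Fintype.card ι

/-- **Best offenders are products of transvection groups.** -/
theorem bo_main (F : FFS p V H K) : ∀ (n : ℕ) (A : Subgroup G), Nat.card A = n → A ≤ H →
    Cfsg.IsBestOffenderOn p V A → BOStruct p V A := by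
  intro n
  induction n using Nat.strong_induction_on with
  | _ n ih =>
  intro A hn hAH hA
  by_cases hA1 : A = ⊥
  · subst hA1
    refine ⟨by rw [inf_centralizer_bot, Subgroup.card_bot, one_mul], Empty, inferInstance,
      Empty.elim, fun i => i.elim, by simp, by simp⟩
  have hcomm := F.bo_comm hAH hA
  have hexp := F.bo_exp hAH hA
  have hAp := F.bo_isPGroup hAH hA
  have hge : Nat.card V ≤ Nat.card A * Nat.card ↥(V ⊓ centralizer (A : Set G)) := by
    have := hA.1 ⊥ bot_le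
    rwa [inf_centralizer_bot, Subgroup.card_bot, one_mul] at this
  by_cases hAcard : Nat.card A = p
  · have hlt := F.fix_lt hAH hA1
    have h1 : p * Nat.card ↥(V ⊓ centralizer (A : Set G)) ≤ Nat.card V :=
      mul_card_le_of_lt F.isPGroup_V inf_le_left (fun h => by rw [h] at hlt; exact lt_irrefl _ hlt)
    have heq : p * Nat.card ↥(V ⊓ centralizer (A : Set G)) = Nat.card V :=
      le_antisymm h1 (hAcard ▸ hge)
    refine ⟨by rw [hAcard]; exact heq, Unit, inferInstance, fun _ => A,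
      fun _ => ⟨le_rfl, hAcard, heq⟩, by simp, by simp [hAcard]⟩
  · have hAK : A ≤ normalizer (K : Set G) := hAH.trans F.hHK
    have hK1 : ¬ K ≤ K ⊓ centralizer (A : Set G) :=
      fun h => F.not_le_centralizer hAH hexp hA1 (h.trans inf_le_right)
    obtain ⟨A₀, hA₀A, hA₀idx, hA₀L⟩ := Cfsg.Agent.Helper52.exists_hyperplane_centralizer_not_le
      A K (K ⊓ centralizer (A : Set G)) hcomm hexp hAK F.hKp hK1
    have hA₀ne : A₀ ≠ A := by
      rintro rfl
      exact hA₀L le_rfl
    have hidx₀ : Nat.card A = p * Nat.card A₀ := card_hyperplane hAp hA₀A hA₀ne hA₀idx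
    have hL₀ : ¬ (K ⊓ centralizer (A₀ : Set G) ≤ centralizer (A : Set G)) :=
      fun h => hA₀L (le_inf inf_le_left h)
    have hA₀1 : A₀ ≠ ⊥ := by
      rintro rfl
      apply hAcard
      rw [hidx₀, Subgroup.card_bot, mul_one]
    have hexp₀ : ∀ x ∈ A₀, x ^ p = 1 := fun x hx => hexp x (hA₀A hx)
    have hK2 : ¬ K ≤ K ⊓ centralizer (A₀ : Set G) :=
      fun h => F.not_le_centralizer (hA₀A.trans hAH) hexp₀ hA₀1 (h.trans inf_le_right)
    obtain ⟨A₁, hA₁A, hA₁idx, hA₁L⟩ := Cfsg.Agent.Helper52.exists_hyperplane_centralizer_not_le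
      A K (K ⊓ centralizer (A₀ : Set G)) hcomm hexp hAK F.hKp hK2
    have hA₁ne : A₁ ≠ A := by
      rintro rfl
      exact hA₁L (inf_le_inf_left _ (centralizer_le hA₀A))
    have hA₁ne₀ : A₁ ≠ A₀ := by
      rintro rfl
      exact hA₁L le_rfl
    have hidx₁ : Nat.card A = p * Nat.card A₁ := card_hyperplane hAp hA₁A hA₁ne hA₁idx
    have hL₁ : ¬ (K ⊓ centralizer (A₁ : Set G) ≤ centralizer (A : Set G)) :=
      fun h => hA₁L ((le_inf inf_le_left h).trans (inf_le_inf_left _ (centralizer_le hA₀A)))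
    obtain ⟨hbo₀, heq₀⟩ := F.hyperplane_step hAH hA hA₀A hidx₀ hL₀
    obtain ⟨hbo₁, heq₁⟩ := F.hyperplane_step hAH hA hA₁A hidx₁ hL₁
    have hp2 := hp.out.two_le
    have hlt₀ : Nat.card A₀ < n := by
      rw [← hn, hidx₀]
      have : 0 < Nat.card A₀ := Nat.card_pos
      nlinarith
    have hlt₁ : Nat.card A₁ < n := by
      rw [← hn, hidx₁]
      have : 0 < Nat.card A₁ := Nat.card_pos
      nlinarith
    obtain ⟨hs₀, ι₀, _, B₀, hB₀, hsup₀, hc₀⟩ := ih _ hlt₀ A₀ rfl (hA₀A.trans hAH) hbo₀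
    obtain ⟨hs₁, ι₁, _, B₁, hB₁, hsup₁, hc₁⟩ := ih _ hlt₁ A₁ rfl (hA₁A.trans hAH) hbo₁
    have hnot : ¬ A₁ ≤ A₀ := by
      intro h
      apply hA₁ne₀
      apply Subgroup.eq_of_le_of_card_ge h
      have : p * Nat.card A₀ = p * Nat.card A₁ := by rw [← hidx₀, ← hidx₁]
      exact (Nat.eq_of_mul_eq_mul_left hp.out.pos this).le
    have hex : ∃ i, ¬ B₁ i ≤ A₀ := by
      by_contra hc
      push Not at hc
      exact hnot (hsup₁ ▸ iSup_le hc)
    obtain ⟨i, hi⟩ := hex
    have hTcard : Nat.card (B₁ i) = p := (hB₁ i).2.1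
    have hTA : B₁ i ≤ A := (hB₁ i).1.trans hA₁A
    have hinf : A₀ ⊓ B₁ i = ⊥ := by
      have hd : Nat.card ↥(A₀ ⊓ B₁ i) ∣ p := hTcard ▸ Subgroup.card_dvd_of_le inf_le_right
      rcases (Nat.dvd_prime hp.out).mp hd with h1 | h1
      · exact Subgroup.eq_bot_of_card_le _ h1.le
      · exfalso
        apply hi
        have h2 : A₀ ⊓ B₁ i = B₁ i :=
          Subgroup.eq_of_le_of_card_ge inf_le_right (by rw [h1, hTcard])
        rw [← h2]
        exact inf_le_left
    have hsup : A₀ ⊔ B₁ i = A := by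
      have hnorm : A₀ ≤ normalizer ((B₁ i : Subgroup G) : Set G) := by
        refine le_trans ?_ (centralizer_le_normalizer _)
        intro x hx
        rw [mem_centralizer_iff]
        intro y hy
        exact hcomm y (hTA hy) x (hA₀A hx)
      have h1 := S4Free.card_sup_mul_card_inf' A₀ (B₁ i) hnorm
      rw [hinf, Subgroup.card_bot, mul_one, hTcard] at h1
      apply Subgroup.eq_of_le_of_card_ge (sup_le hA₀A hTA)
      rw [h1, hidx₀, mul_comm]
    refine ⟨by rw [← heq₀]; exact hs₀, Option ι₀, inferInstance, fun o => o.elim (B₁ i) B₀,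
      ?_, ?_, ?_⟩
    · intro o
      cases o with
      | none => exact ⟨hTA, hTcard, (hB₁ i).2.2⟩
      | some j => exact ⟨(hB₀ j).1.trans hA₀A, (hB₀ j).2.1, (hB₀ j).2.2⟩
    · rw [iSup_option]
      simp only [Option.elim]
      rw [hsup₀, sup_comm]
      exact hsup
    · rw [Fintype.card_option, pow_succ, ← hc₀, hidx₀, mul_comm]

end FFS

end Cfsg.Agent.Helper1.FF
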