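import Mathlib
import Cfsg.Prelude.Def_PLocal
import Cfsg.Prelude.Def_Solvable
import Cfsg.Prelude.Def_Transfer
import Cfsg.Agent.Lib.Helper1.FFH
import Cfsg.Agent.Lib.Helper30.Cores

/-!
# Glauberman's theorem: bridging to the statement hypotheses; first consequences
-/

set_option autoImplicit false
set_option linter.unusedSectionVars false

namespace Cfsg.Agent.Helper1.FF

open Subgroup
open scoped commutatorElement
open Cfsg.Agent.Helper1

variable {G : Type*} [Group G]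

/-- the image of `O_{p'}(H)` in `G` -/
noncomputable def KK (p : ℕ) (H : Subgroup G) : Subgroup G := (Cfsg.pPrimeCore p ↥H).map H.subtype

theorem ea_of_isElementaryAbelian {p : ℕ} {V : Subgroup G} (hV : Cfsg.IsElementaryAbelian p V) :
    EA p V := by
  refine ⟨?_, hV.2⟩
  intro v hv w hw
  have := hV.1.is_comm.comm (⟨v, hv⟩ : V) ⟨w, hw⟩
  exact congrArg Subtype.val this

/-- The statement hypotheses give the global setting. -/
theorem ffs_of_hyps [Finite G] {p : ℕ} [Fact p.Prime] (V H : Subgroup G)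
    (hV : Cfsg.IsElementaryAbelian p V) (hHV : H ≤ normalizer (V : Set G))
    (hf : H ⊓ centralizer (V : Set G) = ⊥)
    (hS1 : centralizer (Cfsg.pPrimeCore p ↥H : Set ↥H) ≤ Cfsg.pPrimeCore p ↥H) :
    FFS p V H (KK p H) := by
  refine ⟨ea_of_isElementaryAbelian hV, hHV, ?_, Subgroup.map_subtype_le _, ?_, ?_, ?_⟩
  · intro g hg h
    have : g ∈ H ⊓ centralizer (V : Set G) := by
      refine mem_inf.mpr ⟨hg, ?_⟩
      rw [mem_centralizer_iff]
      intro v hv
      exact (h v hv).symm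
    rw [hf, mem_bot] at this
    exact this
  · have hn : (Cfsg.pPrimeCore p ↥H).Normal := Subgroup.normal_of_characteristic _
    have h1 := Subgroup.le_normalizer_map (H := Cfsg.pPrimeCore p ↥H) H.subtype
    rw [Subgroup.normalizer_eq_top, ← MonoidHom.range_eq_map, Subgroup.range_subtype] at h1
    exact h1
  · unfold KK
    rw [Subgroup.card_map_of_injective H.subtype_injective]
    exact Cfsg.Agent.Helper30.pPrimeCore_coprime p
  · intro g hg h
    have h1 : (⟨g, hg⟩ : H) ∈ centralizer (Cfsg.pPrimeCore p ↥H : Set ↥H) := by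
      rw [mem_centralizer_iff]
      intro k hk
      apply Subtype.ext
      have := h (k : G) ⟨k, hk, rfl⟩
      exact this.symm
    exact ⟨⟨g, hg⟩, hS1 h1, rfl⟩

namespace FFS

variable {p : ℕ} [hp : Fact p.Prime] {V H K : Subgroup G} [Finite G]

/-- KS 9.3.7 (a) -/
theorem bo_card (F : FFS p V H K) {A : Subgroup G} (hAH : A ≤ H)
    (hA : Cfsg.IsBestOffenderOn p V A) :
    Nat.card A * Nat.card ↥(V ⊓ centralizer (A : Set G)) = Nat.card V :=
  (F.bo_main _ A rfl hAH hA).1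

/-- properties of a "transvection group" -/
theorem tg_props (F : FFS p V H K) {T : Subgroup G} (hTH : T ≤ H) (hT : Nat.card T = p)
    (hidx : p * Nat.card ↥(V ⊓ centralizer (T : Set G)) = Nat.card V) :
    Cfsg.IsBestOffenderOn p V T ∧ ⁅V, T⁆ ≠ ⊥ ∧
      ∀ C : Subgroup G, C ≤ T → Cfsg.IsBestOffenderOn p V C → ⁅V, C⁆ ≠ ⊥ → C = T := by
  have hT1 : T ≠ ⊥ := by
    rintro rfl
    rw [Subgroup.card_bot] at hT
    exact hp.out.one_lt.ne hT
  refine ⟨bo_of_card_prime hT hidx, F.commutator_V_ne_bot hTH hT1, ?_⟩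
  intro C hC _ hCV
  have hC1 : C ≠ ⊥ := ne_bot_of_commutator V hCV
  have hd : Nat.card C ∣ p := hT ▸ Subgroup.card_dvd_of_le hC
  rcases (Nat.dvd_prime hp.out).mp hd with h1 | h1
  · exact absurd (Subgroup.eq_bot_of_card_le _ h1.le) hC1
  · exact Subgroup.eq_of_le_of_card_ge hC (by rw [h1, hT])

/-- KS 9.3.7 (c) -/
theorem bo_family (F : FFS p V H K) {A : Subgroup G} (hAH : A ≤ H)
    (hA : Cfsg.IsBestOffenderOn p V A) :
    ∃ (k : ℕ) (B : Fin k → Subgroup G),
      (∀ i, B i ≤ A ∧ Cfsg.IsBestOffenderOn p V (B i) ∧ ⁅V, B i⁆ ≠ ⊥ ∧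
        ∀ C : Subgroup G, C ≤ B i → Cfsg.IsBestOffenderOn p V C → ⁅V, C⁆ ≠ ⊥ → C = B i) ∧
      iSupIndep B ∧ ⨆ i, B i = A := by
  obtain ⟨-, ι, _, B, hB, hsup, hcard⟩ := F.bo_main _ A rfl hAH hA
  have hcomm := F.bo_comm hAH hA
  have hind : iSupIndep B := by
    apply iSupIndep_of_card B
    · intro i j _ x hx
      rw [mem_centralizer_iff]
      intro y hy
      exact hcomm y ((hB j).1 hy) x ((hB i).1 hx)
    · rw [hsup, hcard]
      have : ∀ i ∈ (Finset.univ : Finset ι), Nat.card (B i) = p := fun i _ => (hB i).2.1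
      rw [Finset.prod_congr rfl this, Finset.prod_const, Finset.card_univ]
  let e := Fintype.equivFin ι
  refine ⟨Fintype.card ι, B ∘ e.symm, ?_, hind.comp e.symm.injective, ?_⟩
  · intro i
    obtain ⟨h1, h2, h3⟩ := hB (e.symm i)
    obtain ⟨h4, h5, h6⟩ := F.tg_props (h1.trans hAH) h2 h3
    exact ⟨h1, h4, h5, h6⟩
  · rw [← hsup]
    exact e.symm.iSup_comp (g := B)

/-- KS 9.3.7 (b), numerical part -/
theorem min_bo_card (F : FFS p V H K) {A : Subgroup G} (hAH : A ≤ H)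
    (hA : Cfsg.IsBestOffenderOn p V A) (hAV : ⁅V, A⁆ ≠ ⊥)
    (hmin : ∀ B : Subgroup G, B ≤ A → Cfsg.IsBestOffenderOn p V B → ⁅V, B⁆ ≠ ⊥ → B = A) :
    Nat.card A = p ∧ p * Nat.card ↥(V ⊓ centralizer (A : Set G)) = Nat.card V := by
  obtain ⟨-, ι, _, B, hB, hsup, hcard⟩ := F.bo_main _ A rfl hAH hA
  have hA1 : A ≠ ⊥ := ne_bot_of_commutator V hAV
  have hne : Nonempty ι := by
    by_contra hemp
    rw [not_nonempty_iff] at hemp
    apply hA1
    rw [← hsup]
    exact iSup_of_empty B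
  obtain ⟨i⟩ := hne
  obtain ⟨h1, h2, h3⟩ := hB i
  obtain ⟨h4, h5, -⟩ := F.tg_props (h1.trans hAH) h2 h3
  have := hmin (B i) h1 h4 h5
  rw [this] at h2 h3
  exact ⟨h2, h3⟩

/-- a minimal nontrivial best offender is generated by a transvection -/
theorem min_bo_tv (F : FFS p V H K) {A : Subgroup G} (hAH : A ≤ H)
    (hA : Cfsg.IsBestOffenderOn p V A) (hAV : ⁅V, A⁆ ≠ ⊥)
    (hmin : ∀ B : Subgroup G, B ≤ A → Cfsg.IsBestOffenderOn p V B → ⁅V, B⁆ ≠ ⊥ → B = A) :
    ∃ a c, A = zpowers a ∧ a ∈ H ∧ IsTv p V a c := by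
  obtain ⟨hcard, hidx⟩ := F.min_bo_card hAH hA hAV hmin
  have hcyc : IsCyclic A := isCyclic_of_prime_card hcard
  obtain ⟨g, hg⟩ := hcyc.exists_generator
  have hAz : A = zpowers (g : G) := by
    apply le_antisymm
    · intro x hx
      obtain ⟨n, hn⟩ := mem_zpowers_iff.mp (hg ⟨x, hx⟩)
      rw [mem_zpowers_iff]
      exact ⟨n, by rw [← Subgroup.coe_zpow, hn]⟩
    · exact Subgroup.zpowers_le.mpr g.2
  have hgp : (g : G) ^ p = 1 := F.bo_exp hAH hA g g.2
  rw [hAz] at hidx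
  obtain ⟨c, hc⟩ := exists_isTv F.hV (F.hHV (hAH g.2)) hgp hidx
  exact ⟨g, c, hAz, hAH g.2, hc⟩

/-- the local setting at a transvection of `H` -/
theorem tvs (F : FFS p V H K) {a c : G} (haH : a ∈ H) (hT : IsTv p V a c) : TvS p V K a c := by
  refine ⟨F.hV, hT, F.hKH.trans F.hHV, F.hKp, F.hHK haH, ?_⟩
  intro g hg h
  exact F.hf g ((sup_le F.hKH (Subgroup.zpowers_le.mpr haH)) hg) h

theorem tv_ne_one {a c : G} (hT : IsTv p V a c) : a ≠ 1 := by
  rintro rfl
  obtain ⟨v, _, hne⟩ := hT.hne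
  exact hne (by simp [commutatorElement_def])

/-- a transvection of `H` does not centralize `K` -/
theorem exists_y_ne_one (F : FFS p V H K) {a c : G} (haH : a ∈ H) (hT : IsTv p V a c) :
    ∃ x ∈ K, a⁻¹ * (x * a * x⁻¹) ≠ 1 := by
  by_contra hcon
  push Not at hcon
  apply tv_ne_one hT
  apply F.eq_one_of_centralizes_K haH hT.hp
  intro k hk
  have := hcon k hk
  have h1 : k * a * k⁻¹ = a := by
    calc k * a * k⁻¹ = a * (a⁻¹ * (k * a * k⁻¹)) := by group
      _ = a := by rw [this, mul_one]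
  calc a * k = (k * a * k⁻¹)⁻¹⁻¹ * k := by rw [inv_inv, h1]
    _ = k * a := by group

theorem y_ne_one_of_not_mem_centralizer {a x : G}
    (hx : x ∉ centralizer ((zpowers a : Subgroup G) : Set G)) : a⁻¹ * (x * a * x⁻¹) ≠ 1 := by
  intro h
  apply hx
  rw [mem_centralizer_zpowers_iff]
  have h1 : x * a * x⁻¹ = a := by
    calc x * a * x⁻¹ = a * (a⁻¹ * (x * a * x⁻¹)) := by group
      _ = a := by rw [h, mul_one]
  calc a * x = (x * a * x⁻¹) * x := by rw [h1]
    _ = x * a := by group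

end FFS

end Cfsg.Agent.Helper1.FF
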