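import Mathlib
import Cfsg.Agent.Lib.Helper1.FFI

/-!
# Glauberman's theorem: interaction of two transvections
-/

set_option autoImplicit false
set_option linter.unusedSectionVars false

namespace Cfsg.Agent.Helper1.FF

open Subgroup
open scoped commutatorElement
open Cfsg.Agent.Helper1
open TvS

variable {G : Type*} [Group G]

theorem mem_normalizer_inf {A B : Subgroup G} {g : G} (hA : g ∈ normalizer (A : Set G))
    (hB : g ∈ normalizer (B : Set G)) : g ∈ normalizer ((A ⊓ B : Subgroup G) : Set G) := by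
  rw [mem_normalizer_iff] at *
  intro h
  rw [mem_inf, mem_inf, ← hA h, ← hB h]

theorem mem_sup_comm {X Y : Subgroup G} (hXY : ∀ x ∈ X, ∀ y ∈ Y, x * y = y * x) {g : G}
    (hg : g ∈ X ⊔ Y) : ∃ x ∈ X, ∃ y ∈ Y, g = x * y := by
  have hn : X ≤ normalizer (Y : Set G) := by
    refine le_trans ?_ (centralizer_le_normalizer _)
    intro x hx
    rw [mem_centralizer_iff]
    intro y hy
    exact (hXY x hx y hy).symm
  have hcoe := Subgroup.coe_mul_of_left_le_normalizer_right X Y hn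
  have hg' : g ∈ ((X ⊔ Y : Subgroup G) : Set G) := hg
  rw [hcoe] at hg'
  obtain ⟨x, hx, y, hy, hxy⟩ := Set.mem_mul.mp hg'
  exact ⟨x, hx, y, hy, hxy.symm⟩

/-- `⁅g, g'⁆` centralizes `N` when `g` normalizes and `g'` centralizes `N` -/
theorem comm_mem_centralizer_left {N : Subgroup G} {g g' : G} (hg : g ∈ normalizer (N : Set G))
    (hg' : g' ∈ centralizer (N : Set G)) : ⁅g, g'⁆ ∈ centralizer (N : Set G) := by
  rw [commutatorElement_def]
  exact Subgroup.mul_mem _ (conj_mem_centralizer hg hg') (Subgroup.inv_mem _ hg')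

theorem comm_mem_centralizer_right {N : Subgroup G} {g g' : G} (hg : g ∈ centralizer (N : Set G))
    (hg' : g' ∈ normalizer (N : Set G)) : ⁅g, g'⁆ ∈ centralizer (N : Set G) := by
  have h1 : ⁅g, g'⁆ = g * (g' * g⁻¹ * g'⁻¹) := by rw [commutatorElement_def]; group
  rw [h1]
  exact Subgroup.mul_mem _ hg (conj_mem_centralizer hg' (Subgroup.inv_mem _ hg))

namespace TvS

variable {p : ℕ} [hp : Fact p.Prime] {V K : Subgroup G} {a c : G} [Finite G]

/-- a subgroup containing two independent elements of `N` contains `N` -/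
theorem ctr_le_of_two (S : TvS p V K a c) {x : G} (hx : x ∈ K)
    (hy : a⁻¹ * (x * a * x⁻¹) ≠ 1) {c' u₀ : G} (hc' : c' ∈ ctr K c) (hc'1 : c' ≠ 1)
    (hu₀ : u₀ ∈ ctr K c) (hu₀' : u₀ ∉ zpowers c') {M : Subgroup G} (hc'M : c' ∈ M)
    (hu₀M : u₀ ∈ M) : ctr K c ≤ M := by
  set M' := ctr K c ⊓ M with hM'
  have hM'p : IsPGroup p M' := (isPGroup_of_ea S.ea_ctr).to_le inf_le_left
  have hle : zpowers c' ≤ M' := Subgroup.zpowers_le.mpr (mem_inf.mpr ⟨hc', hc'M⟩)
  have hne : zpowers c' ≠ M' := by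
    intro h
    apply hu₀'
    rw [h]
    exact mem_inf.mpr ⟨hu₀, hu₀M⟩
  have h1 := FFS.mul_card_le_of_lt hM'p hle hne
  have hcard : Nat.card (zpowers c') = p := by
    rw [Nat.card_zpowers, orderOf_eq_prime (S.ea_ctr.exp c' hc') hc'1]
  rw [hcard] at h1
  have h2 : M' = ctr K c := by
    apply Subgroup.eq_of_le_of_card_ge inf_le_left
    rw [S.card_ctr hx hy, pow_two]
    exact h1
  rw [← h2]
  exact inf_le_right

theorem exists_not_mem_zpowers (S : TvS p V K a c) {x : G} (hx : x ∈ K)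
    (hy : a⁻¹ * (x * a * x⁻¹) ≠ 1) {c' : G} (hc' : c' ∈ ctr K c) :
    ∃ u₀ ∈ ctr K c, u₀ ∉ zpowers c' := by
  by_contra hcon
  push Not at hcon
  have hle : ctr K c ≤ zpowers c' := hcon
  have h1 := Subgroup.card_le_of_le hle
  rw [S.card_ctr hx hy, Nat.card_zpowers] at h1
  have h2 : orderOf c' ≤ p := by
    apply Nat.le_of_dvd hp.out.pos
    exact orderOf_dvd_of_pow_eq_one (S.ea_ctr.exp c' hc')
  have := hp.out.one_lt
  nlinarith

end TvS

namespace FFS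

variable {p : ℕ} [hp : Fact p.Prime] {V H K : Subgroup G} [Finite G]

theorem Es_le_H (F : FFS p V H K) {a : G} (haH : a ∈ H) : Es K a ≤ H := by
  unfold Es Qs
  apply sup_le _ (Subgroup.zpowers_le.mpr haH)
  exact (commutator_le_of_le_normalizer ((Subgroup.zpowers_le.mpr haH).trans F.hHK)).trans F.hKH

section pair

variable (F : FFS p V H K) {a c a' c' : G} (haH : a ∈ H) (hT : IsTv p V a c) (haH' : a' ∈ H)
  (hT' : IsTv p V a' c')

include F haH hT haH' hT'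

theorem ctr_cases : ctr K c ⊓ ctr K c' = ⊥ ∨ ctr K c' = ctr K c := by
  have S := F.tvs haH hT
  have S' := F.tvs haH' hT'
  obtain ⟨x, hx, hy⟩ := F.exists_y_ne_one haH hT
  obtain ⟨x', hx', hy'⟩ := F.exists_y_ne_one haH' hT'
  have hnorm : Qs K a ≤ normalizer ((ctr K c ⊓ ctr K c' : Subgroup G) : Set G) := fun q hq =>
    mem_normalizer_inf (S.K_le_normalizer_ctr (S.Qs_le hq)) (S'.K_le_normalizer_ctr (S.Qs_le hq))
  rcases S.Qs_irreducible hx hy inf_le_left hnorm with h | h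
  · exact Or.inl h
  · right
    have hle : ctr K c ≤ ctr K c' := inf_eq_left.mp h
    exact (Subgroup.eq_of_le_of_card_ge hle (by rw [S.card_ctr hx hy, S'.card_ctr hx' hy'])).symm

theorem ctr_le_fix_of_disjoint (h : ctr K c ⊓ ctr K c' = ⊥) :
    ctr K c' ≤ V ⊓ centralizer (Qs K a : Set G) := by
  have S := F.tvs haH hT
  have S' := F.tvs haH' hT'
  intro u hu
  refine mem_inf.mpr ⟨S'.ctr_le hu, ?_⟩
  rw [mem_centralizer_iff]
  intro q hq
  have h1 : ⁅q, u⁆ ∈ ctr K c := (S.Qs_le_stabS hq).2.2 u (S'.ctr_le hu)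
  have h2 : ⁅q, u⁆ ∈ ctr K c' := comm_mem (S'.K_le_normalizer_ctr (S.Qs_le hq)) hu
  have h3 : ⁅q, u⁆ = 1 := by
    have : ⁅q, u⁆ ∈ ctr K c ⊓ ctr K c' := mem_inf.mpr ⟨h1, h2⟩
    rwa [h, mem_bot] at this
  exact comm_eq_one_iff.mp h3

end pair

section pair2

variable (F : FFS p V H K) {a c a' c' : G} (haH : a ∈ H) (hT : IsTv p V a c) (haH' : a' ∈ H)
  (hT' : IsTv p V a' c')

include F haH hT haH' hT'

theorem commute_of_disjoint (h : ctr K c ⊓ ctr K c' = ⊥) :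
    ∀ g ∈ Es K a, ∀ g' ∈ Es K a', g * g' = g' * g := by
  have S := F.tvs haH hT
  have S' := F.tvs haH' hT'
  obtain ⟨x, hx, hy⟩ := F.exists_y_ne_one haH hT
  obtain ⟨x', hx', hy'⟩ := F.exists_y_ne_one haH' hT'
  have hN'U := F.ctr_le_fix_of_disjoint haH hT haH' hT' h
  have hNU' := F.ctr_le_fix_of_disjoint haH' hT' haH hT (by rw [inf_comm]; exact h)
  intro g hg g' hg'
  have hgH : g ∈ H := F.Es_le_H haH hg
  have hg'H : g' ∈ H := F.Es_le_H haH' hg'
  apply comm_eq_one_iff.mp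
  apply F.hf _ (H.mul_mem (H.mul_mem (H.mul_mem hgH hg'H) (H.inv_mem hgH)) (H.inv_mem hg'H))
  set U := V ⊓ centralizer (Qs K a : Set G) with hU
  set U' := V ⊓ centralizer (Qs K a' : Set G) with hU'
  have hgU : g ∈ centralizer (U : Set G) := S.Es_le_centralizer_fix hx hy hg
  have hg'U' : g' ∈ centralizer (U' : Set G) := S'.Es_le_centralizer_fix hx' hy' hg'
  -- the commutator centralizes `N`, `N'` and `U ⊓ U'`
  have w1 : ⁅g, g'⁆ ∈ centralizer (ctr K c : Set G) :=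
    comm_mem_centralizer_left (S.Es_le_normalizer_ctr hg) (centralizer_le hNU' hg'U')
  have w2 : ⁅g, g'⁆ ∈ centralizer (ctr K c' : Set G) :=
    comm_mem_centralizer_right (centralizer_le hN'U hgU) (S'.Es_le_normalizer_ctr hg')
  have w3 : ⁅g, g'⁆ ∈ centralizer ((U ⊓ U' : Subgroup G) : Set G) := by
    have h1 : g ∈ centralizer ((U ⊓ U' : Subgroup G) : Set G) :=
      centralizer_le (show ((U ⊓ U' : Subgroup G) : Set G) ⊆ U from inf_le_left) hgU
    have h2 : g' ∈ centralizer ((U ⊓ U' : Subgroup G) : Set G) :=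
      centralizer_le (show ((U ⊓ U' : Subgroup G) : Set G) ⊆ U' from inf_le_right) hg'U'
    rw [commutatorElement_def]
    exact Subgroup.mul_mem _ (Subgroup.mul_mem _ (Subgroup.mul_mem _ h1 h2)
      (Subgroup.inv_mem _ h1)) (Subgroup.inv_mem _ h2)
  intro v hv
  -- decompose `v`
  have hcommV : ∀ (X Y : Subgroup G), X ≤ V → Y ≤ V → ∀ x ∈ X, ∀ y ∈ Y, x * y = y * x :=
    fun X Y hX hY x hx y hy => F.hV.comm x (hX hx) y (hY hy)
  have hv1 : v ∈ ctr K c ⊔ U := by rw [S.V_eq_sup hx hy]; exact hv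
  obtain ⟨n, hn, u, hu, rfl⟩ := mem_sup_comm (hcommV _ _ S.ctr_le inf_le_left) hv1
  have hu1 : u ∈ ctr K c' ⊔ U' := by rw [S'.V_eq_sup hx' hy']; exact (mem_inf.mp hu).1
  obtain ⟨n', hn', u', hu', rfl⟩ := mem_sup_comm (hcommV _ _ S'.ctr_le inf_le_left) hu1
  have hu'U : u' ∈ U := by
    have : u' = n'⁻¹ * (n' * u') := by group
    rw [this]
    exact U.mul_mem (U.inv_mem (hN'U hn')) hu
  have e1 := mem_centralizer_iff.mp w1 n hn
  have e2 := mem_centralizer_iff.mp w2 n' hn'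
  have e3 := mem_centralizer_iff.mp w3 u' (mem_inf.mpr ⟨hu'U, hu'⟩)
  calc ⁅g, g'⁆ * (n * (n' * u')) = (⁅g, g'⁆ * n) * (n' * u') := by group
    _ = (n * ⁅g, g'⁆) * (n' * u') := by rw [e1]
    _ = n * ((⁅g, g'⁆ * n') * u') := by group
    _ = n * ((n' * ⁅g, g'⁆) * u') := by rw [e2]
    _ = n * (n' * (⁅g, g'⁆ * u')) := by group
    _ = n * (n' * (u' * ⁅g, g'⁆)) := by rw [e3]
    _ = n * (n' * u') * ⁅g, g'⁆ := by group

theorem fix_le_of_ctr_eq (h : ctr K c' = ctr K c) :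
    V ⊓ centralizer (Qs K a : Set G) ≤ V ⊓ centralizer (Qs K a' : Set G) := by
  have S := F.tvs haH hT
  have S' := F.tvs haH' hT'
  obtain ⟨x, hx, hy⟩ := F.exists_y_ne_one haH hT
  intro u hu
  refine mem_inf.mpr ⟨(mem_inf.mp hu).1, ?_⟩
  rw [mem_centralizer_iff]
  intro q' hq'
  have hq'K : q' ∈ K := S'.Qs_le hq'
  have h1 : ⁅q', u⁆ ∈ ctr K c := by
    rw [← h]
    exact (S'.Qs_le_stabS hq').2.2 u (mem_inf.mp hu).1
  have h2 : ⁅q', u⁆ ∈ V ⊓ centralizer (Qs K a : Set G) := by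
    rw [commutatorElement_def]
    refine Subgroup.mul_mem _ (mem_inf.mpr ⟨conj_mem (S.hKV hq'K) (mem_inf.mp hu).1,
      conj_mem_centralizer (S.K_le_normalizer_Qs hq'K) (mem_inf.mp hu).2⟩) (Subgroup.inv_mem _ hu)
  have h3 : ⁅q', u⁆ = 1 := by
    have : ⁅q', u⁆ ∈ ctr K c ⊓ (V ⊓ centralizer (Qs K a : Set G)) := mem_inf.mpr ⟨h1, h2⟩
    rwa [S.ctr_inf_fix hx hy, mem_bot] at this
  exact comm_eq_one_iff.mp h3

theorem Qs_le_of_ctr_eq (h : ctr K c' = ctr K c) : Qs K a' ≤ Qs K a := by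
  have S := F.tvs haH hT
  have S' := F.tvs haH' hT'
  obtain ⟨x, hx, hy⟩ := F.exists_y_ne_one haH hT
  rw [← S.K_inf_centralizer_fix hx hy]
  apply le_inf S'.Qs_le
  have h1 := F.fix_le_of_ctr_eq haH hT haH' hT' h
  refine le_trans ?_ (centralizer_le h1)
  rw [le_centralizer_iff]
  exact inf_le_right

theorem a_mem_Es_of_ctr_eq (h : ctr K c' = ctr K c) : a' ∈ Es K a := by
  have S := F.tvs haH hT
  have S' := F.tvs haH' hT'
  obtain ⟨x, hx, hy⟩ := F.exists_y_ne_one haH hT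
  obtain ⟨x', hx', hy'⟩ := F.exists_y_ne_one haH' hT'
  have hUU := F.fix_le_of_ctr_eq haH hT haH' hT' h
  have hc'N : c' ∈ ctr K c := by rw [← h]; exact S'.zpowers_c_le_ctr (mem_zpowers c')
  have hc'1 : c' ≠ 1 := hT'.c_ne_one
  obtain ⟨q, hq, hqc⟩ := S.Qs_transitive hx hy hc'N hc'1
  have hT'' : IsTv p V (q * a * q⁻¹) c' := hqc ▸ hT.conj (S.Qs_le_normalizer_V hq)
  have ha''E : q * a * q⁻¹ ∈ Es K a := S.conj_a_mem_Es (S.Qs_le hq)
  have ha''H : q * a * q⁻¹ ∈ H := F.Es_le_H haH ha''E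
  set a'' := q * a * q⁻¹ with ha''
  obtain ⟨u₀, hu₀, hu₀'⟩ := S.exists_not_mem_zpowers hx hy hc'N
  have hu₀V : u₀ ∈ V := S.ctr_le hu₀
  -- a general principle
  have key : ∀ g ∈ H, g * c' = c' * g → g * u₀ = u₀ * g →
      (∀ w ∈ V ⊓ centralizer (Qs K a : Set G), g * w = w * g) → g = 1 := by
    intro g hgH hgc hgu hgU
    apply F.hf g hgH
    apply S.commute_V_of hx hy _ hgU
    have hle : ctr K c ≤ centralizer ({g} : Set G) := by
      apply S.ctr_le_of_two hx hy hc'N hc'1 hu₀ hu₀'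
      · rw [mem_centralizer_iff]
        intro z hz
        rw [Set.mem_singleton_iff] at hz
        rw [hz]; exact hgc
      · rw [mem_centralizer_iff]
        intro z hz
        rw [Set.mem_singleton_iff] at hz
        rw [hz]; exact hgu
    intro u hu
    exact (mem_centralizer_iff.mp (hle hu) g rfl)
  have ha''U : ∀ w ∈ V ⊓ centralizer (Qs K a : Set G), a'' * w = w * a'' := fun w hw =>
    (mem_centralizer_iff.mp (S.Es_le_centralizer_fix hx hy ha''E) w hw).symm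
  have ha'U : ∀ w ∈ V ⊓ centralizer (Qs K a : Set G), a' * w = w * a' := fun w hw =>
    (mem_centralizer_iff.mp (S'.Es_le_centralizer_fix hx' hy' a_mem_Es) w (hUU hw)).symm
  -- `e = ⁅a'', u₀⁆ ≠ 1`
  have he1 : ⁅a'', u₀⁆ ≠ 1 := by
    intro he
    exact tv_ne_one hT'' (key a'' ha''H hT''.hac (comm_eq_one_iff.mp he) ha''U)
  have heZ : ⁅a'', u₀⁆ ∈ zpowers c' := hT''.him u₀ hu₀V
  have hcz : c' ∈ zpowers ⁅a'', u₀⁆ := mem_zpowers_swap (F.hV.exp c' hT'.hc) heZ he1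
  have he' : ⁅a', u₀⁆ ∈ zpowers ⁅a'', u₀⁆ :=
    (Subgroup.zpowers_le.mpr hcz) (hT'.him u₀ hu₀V)
  rw [← mem_powers_iff_mem_zpowers] at he'
  obtain ⟨m, hm⟩ := (Submonoid.mem_powers_iff _ _).mp he'
  have hcomm_e : a'' * ⁅a'', u₀⁆ = ⁅a'', u₀⁆ * a'' := commute_zpowers hT''.hac _ heZ
  have h1 := pow_conj_eq hcomm_e m
  have h2 := conj_eq_comm_mul a' u₀
  rw [← hm, ← h1] at h2
  -- `g = (a''^m)⁻¹ a'`
  have hgone : (a'' ^ m)⁻¹ * a' = 1 := by
    apply key _ (H.mul_mem (H.inv_mem (H.pow_mem ha''H m)) haH')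
    · have c1 : Commute a'' c' := hT''.hac
      have c2 : Commute a' c' := hT'.hac
      exact ((c1.pow_left m).inv_left.mul_left c2)
    · calc (a'' ^ m)⁻¹ * a' * u₀ = (a'' ^ m)⁻¹ * (a' * u₀ * a'⁻¹) * a' := by group
        _ = (a'' ^ m)⁻¹ * (a'' ^ m * u₀ * (a'' ^ m)⁻¹) * a' := by rw [h2]
        _ = u₀ * ((a'' ^ m)⁻¹ * a') := by group
    · intro w hw
      have c1 : Commute a'' w := ha''U w hw
      have c2 : Commute a' w := ha'U w hw
      exact ((c1.pow_left m).inv_left.mul_left c2)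
  have : a' = a'' ^ m := by
    calc a' = a'' ^ m * ((a'' ^ m)⁻¹ * a') := by group
      _ = a'' ^ m := by rw [hgone, mul_one]
  rw [this]
  exact Subgroup.pow_mem _ ha''E m

theorem Es_le_of_ctr_eq (h : ctr K c' = ctr K c) : Es K a' ≤ Es K a := by
  have h1 := F.Qs_le_of_ctr_eq haH hT haH' hT' h
  have h2 := F.a_mem_Es_of_ctr_eq haH hT haH' hT' h
  exact sup_le (h1.trans Qs_le_Es) (Subgroup.zpowers_le.mpr h2)

theorem Es_eq_of_ctr_eq (h : ctr K c' = ctr K c) : Es K a' = Es K a :=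
  le_antisymm (F.Es_le_of_ctr_eq haH hT haH' hT' h) (F.Es_le_of_ctr_eq haH' hT' haH hT h.symm)

/-- **Dichotomy** for two transvections. -/
theorem Es_eq_or_commute : Es K a' = Es K a ∨
    ((∀ g ∈ Es K a, ∀ g' ∈ Es K a', g * g' = g' * g) ∧ ctr K c ⊓ ctr K c' = ⊥ ∧
      ctr K c' ≤ V ⊓ centralizer (Qs K a : Set G) ∧ ctr K c ≤ V ⊓ centralizer (Qs K a' : Set G)) := by
  rcases F.ctr_cases haH hT haH' hT' with h | h
  · right
    exact ⟨F.commute_of_disjoint haH hT haH' hT' h, h,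
      F.ctr_le_fix_of_disjoint haH hT haH' hT' h,
      F.ctr_le_fix_of_disjoint haH' hT' haH hT (by rw [inf_comm]; exact h)⟩
  · left
    exact F.Es_eq_of_ctr_eq haH hT haH' hT' h

end pair2

end FFS

end Cfsg.Agent.Helper1.FF
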