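import Mathlib
import Cfsg.Agent.Lib.Helper1.FFJ

/-!
# Glauberman's theorem: global structure
-/

set_option autoImplicit false
set_option linter.unusedSectionVars false

namespace Cfsg.Agent.Helper1.FF

open Subgroup
open scoped commutatorElement
open Cfsg.Agent.Helper1
open TvS

variable {G : Type*} [Group G]

namespace IsTv

variable {p : ℕ} [hp : Fact p.Prime] {V : Subgroup G} {a c : G} [Finite G]

theorem card_zpowers (hT : IsTv p V a c) : Nat.card (zpowers a) = p := by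
  rw [Nat.card_zpowers, orderOf_eq_prime hT.hp (FFS.tv_ne_one hT)]

/-- the fixed points of a transvection have index `p` -/
theorem hidx (hT : IsTv p V a c) (hV : EA p V) :
    p * Nat.card ↥(V ⊓ centralizer ((zpowers a : Subgroup G) : Set G)) = Nat.card V := by
  set δ := commHom hV hT.hN with hδ
  have h1 : Nat.card δ.ker * Nat.card δ.range = Nat.card V := by
    rw [← Subgroup.index_ker]; exact Subgroup.card_mul_index _
  rw [card_ker_commHom] at h1
  set R : Subgroup G := δ.range.map V.subtype with hRdef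
  have hRcard : Nat.card R = Nat.card δ.range :=
    Subgroup.card_map_of_injective V.subtype_injective
  have hRle : R ≤ zpowers c := by
    rintro _ ⟨_, ⟨v, rfl⟩, rfl⟩
    exact hT.him v v.2
  have hcz : Nat.card (zpowers c) = p := by
    rw [Nat.card_zpowers, orderOf_eq_prime (hV.exp c hT.hc) hT.c_ne_one]
  have hR1 : R ≠ ⊥ := by
    obtain ⟨v, hv, hne⟩ := hT.hne
    intro h
    have : ⁅a, v⁆ ∈ R := ⟨δ ⟨v, hv⟩, ⟨⟨v, hv⟩, rfl⟩, rfl⟩
    rw [h, mem_bot] at this
    exact hne this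
  have hd : Nat.card R ∣ p := hcz ▸ Subgroup.card_dvd_of_le hRle
  rcases (Nat.dvd_prime hp.out).mp hd with h2 | h2
  · exact absurd (Subgroup.eq_bot_of_card_le _ h2.le) hR1
  · rw [← hRcard, h2, mul_comm] at h1
    exact h1

end IsTv

namespace FFS

variable {p : ℕ} [hp : Fact p.Prime] {V H K : Subgroup G} [Finite G]

/-- a "transvection group" is generated by a transvection -/
theorem tg_tv (F : FFS p V H K) {T : Subgroup G} (hTH : T ≤ H) (hT : Nat.card T = p)
    (hidx : p * Nat.card ↥(V ⊓ centralizer (T : Set G)) = Nat.card V) :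
    ∃ a c, T = zpowers a ∧ a ∈ H ∧ IsTv p V a c := by
  have hcyc : IsCyclic T := isCyclic_of_prime_card hT
  obtain ⟨g, hg⟩ := hcyc.exists_generator
  have hAz : T = zpowers (g : G) := by
    apply le_antisymm
    · intro x hx
      obtain ⟨n, hn⟩ := mem_zpowers_iff.mp (hg ⟨x, hx⟩)
      rw [mem_zpowers_iff]
      exact ⟨n, by rw [← Subgroup.coe_zpow, hn]⟩
    · exact Subgroup.zpowers_le.mpr g.2
  have hgp : (g : G) ^ p = 1 := by
    have h := pow_card_eq_one' (G := T) (x := g)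
    rw [hT] at h
    exact congrArg Subtype.val h
  rw [hAz] at hidx
  obtain ⟨c, hc⟩ := exists_isTv F.hV (F.hHV (hTH g.2)) hgp hidx
  exact ⟨g, c, hAz, hTH g.2, hc⟩

/-- a transvection generates a minimal nontrivially acting best offender -/
theorem tv_bo (F : FFS p V H K) {a c : G} (haH : a ∈ H) (hT : IsTv p V a c) :
    Cfsg.IsBestOffenderOn p V (zpowers a) ∧ ⁅V, zpowers a⁆ ≠ ⊥ ∧
      ∀ C : Subgroup G, C ≤ zpowers a → Cfsg.IsBestOffenderOn p V C → ⁅V, C⁆ ≠ ⊥ →
        C = zpowers a :=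
  F.tg_props (Subgroup.zpowers_le.mpr haH) hT.card_zpowers (hT.hidx F.hV)

/-- **`H` is generated by its transvections.** -/
theorem H_le_of_tv (F : FFS p V H K)
    (hS3 : H = ⨆ A : {A : Subgroup G // A ≤ H ∧ Cfsg.IsBestOffenderOn p V A}, (A : Subgroup G))
    (X : Subgroup G) (hX : ∀ a c, a ∈ H → IsTv p V a c → a ∈ X) : H ≤ X := by
  refine hS3.le.trans (iSup_le ?_)
  rintro ⟨A, hAH, hA⟩
  obtain ⟨-, ι, _, B, hB, hsup, -⟩ := F.bo_main _ A rfl hAH hA
  show A ≤ X
  rw [← hsup]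
  apply iSup_le
  intro i
  obtain ⟨h1, h2, h3⟩ := hB i
  obtain ⟨a, c, hz, haH, hT⟩ := F.tg_tv (h1.trans hAH) h2 h3
  rw [hz]
  exact Subgroup.zpowers_le.mpr (hX a c haH hT)

/-- if `H ≠ 1` there is a transvection -/
theorem exists_tv (F : FFS p V H K)
    (hS3 : H = ⨆ A : {A : Subgroup G // A ≤ H ∧ Cfsg.IsBestOffenderOn p V A}, (A : Subgroup G))
    (hH1 : H ≠ ⊥) : ∃ a c, a ∈ H ∧ IsTv p V a c := by
  by_contra hcon
  push Not at hcon
  apply hH1
  rw [eq_bot_iff]
  apply F.H_le_of_tv hS3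
  intro a c haH hT
  exact absurd hT (hcon a c haH)

section one

variable (F : FFS p V H K)
  (hS3 : H = ⨆ A : {A : Subgroup G // A ≤ H ∧ Cfsg.IsBestOffenderOn p V A}, (A : Subgroup G))
  {a c : G} (haH : a ∈ H) (hT : IsTv p V a c)

include F hS3 haH hT

theorem H_le_normalizer_Es : H ≤ normalizer (Es K a : Set G) := by
  apply F.H_le_of_tv hS3
  intro a' c' haH' hT'
  rcases F.Es_eq_or_commute haH hT haH' hT' with h | ⟨h, -⟩
  · apply le_normalizer
    rw [← h]
    exact a_mem_Es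
  · apply centralizer_le_normalizer
    rw [mem_centralizer_iff]
    intro g hg
    exact h g hg a' a_mem_Es

theorem H_le_normalizer_ctr : H ≤ normalizer (ctr K c : Set G) := by
  have S := F.tvs haH hT
  obtain ⟨x, hx, hy⟩ := F.exists_y_ne_one haH hT
  have h1 := F.H_le_normalizer_Es hS3 haH hT
  intro g hg
  rw [← S.commutator_V_Es hx hy]
  have hgV := F.hHV hg
  have hgE := h1 hg
  -- `g` normalizes `[V, E]`
  have key : ∀ g : G, g ∈ normalizer (V : Set G) → g ∈ normalizer (Es K a : Set G) →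
      ∀ w ∈ ⁅V, Es K a⁆, g * w * g⁻¹ ∈ ⁅V, Es K a⁆ := by
    intro g hgV hgE w hw
    have hle : ⁅V, Es K a⁆ ≤ (⁅V, Es K a⁆).comap (MulAut.conj g).toMonoidHom := by
      rw [commutator_le]
      intro v hv e he
      rw [mem_comap]
      have : (MulAut.conj g).toMonoidHom ⁅v, e⁆ = ⁅g * v * g⁻¹, g * e * g⁻¹⁆ := by
        simp only [MulEquiv.coe_toMonoidHom, MulAut.conj_apply, commutatorElement_def]
        group
      rw [this]
      exact commutator_mem_commutator (conj_mem hgV hv) (conj_mem hgE he)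
    have := hle hw
    rwa [mem_comap, MulEquiv.coe_toMonoidHom, MulAut.conj_apply] at this
  rw [mem_normalizer_iff]
  intro w
  constructor
  · exact key g hgV hgE w
  · intro h
    have := key g⁻¹ (Subgroup.inv_mem _ hgV) (Subgroup.inv_mem _ hgE) _ h
    have e : g⁻¹ * (g * w * g⁻¹) * g⁻¹⁻¹ = w := by group
    rwa [e] at this

/-- `H = E · C_H(N)` -/
theorem Es_sup_eq : Es K a ⊔ (H ⊓ centralizer (ctr K c : Set G)) = H := by
  have S := F.tvs haH hT
  apply le_antisymm (sup_le (F.Es_le_H haH) inf_le_left)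
  apply F.H_le_of_tv hS3
  intro a' c' haH' hT'
  have S' := F.tvs haH' hT'
  obtain ⟨x', hx', hy'⟩ := F.exists_y_ne_one haH' hT'
  rcases F.Es_eq_or_commute haH hT haH' hT' with h | ⟨-, -, -, h⟩
  · apply mem_sup_left
    rw [← h]
    exact a_mem_Es
  · apply mem_sup_right
    refine mem_inf.mpr ⟨haH', ?_⟩
    exact centralizer_le h (S'.Es_le_centralizer_fix hx' hy' a_mem_Es)

/-- `E ∩ C_H(N) = 1` -/
theorem Es_inf_eq : Es K a ⊓ (H ⊓ centralizer (ctr K c : Set G)) = ⊥ := by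
  have S := F.tvs haH hT
  obtain ⟨x, hx, hy⟩ := F.exists_y_ne_one haH hT
  rw [eq_bot_iff]
  intro e he
  rw [mem_bot]
  apply S.Es_faithful hx hy (mem_inf.mp he).1
  intro u hu
  exact (mem_centralizer_iff.mp (mem_inf.mp (mem_inf.mp he).2).2 u hu).symm

/-- `[E, C_H(N)] = 1` -/
theorem Es_comm_eq : ⁅Es K a, H ⊓ centralizer (ctr K c : Set G)⁆ = ⊥ := by
  have S := F.tvs haH hT
  have hnE := F.H_le_normalizer_Es hS3 haH hT
  have hnN := F.H_le_normalizer_ctr hS3 haH hT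
  rw [eq_bot_iff, commutator_le]
  intro e he d hd
  rw [← F.Es_inf_eq hS3 haH hT]
  have heH : e ∈ H := F.Es_le_H haH he
  have hdH : d ∈ H := (mem_inf.mp hd).1
  refine mem_inf.mpr ⟨?_, mem_inf.mpr ⟨?_, ?_⟩⟩
  · have : ⁅e, d⁆ = e * (d * e⁻¹ * d⁻¹) := by rw [commutatorElement_def]; group
    rw [this]
    exact Subgroup.mul_mem _ he (conj_mem (hnE hdH) (Subgroup.inv_mem _ he))
  · rw [commutatorElement_def]
    exact H.mul_mem (H.mul_mem (H.mul_mem heH hdH) (H.inv_mem heH)) (H.inv_mem hdH)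
  · exact comm_mem_centralizer_left (hnN heH) (mem_inf.mp hd).2

/-- `[V, C_H(N)] ≤ C_V(E)` -/
theorem comm_V_le : ⁅V, H ⊓ centralizer (ctr K c : Set G)⁆ ≤ V ⊓ centralizer (Es K a : Set G) := by
  have S := F.tvs haH hT
  obtain ⟨x, hx, hy⟩ := F.exists_y_ne_one haH hT
  have hcomm := F.Es_comm_eq hS3 haH hT
  rw [commutator_eq_bot_iff_le_centralizer, le_centralizer_iff] at hcomm
  rw [commutator_le]
  intro v hv d hd
  have hdH : d ∈ H := (mem_inf.mp hd).1
  have hdV := F.hHV hdH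
  -- decompose `v = n u`
  have hv1 : v ∈ ctr K c ⊔ (V ⊓ centralizer (Qs K a : Set G)) := by
    rw [S.V_eq_sup hx hy]; exact hv
  obtain ⟨n, hn, u, hu, rfl⟩ := mem_sup_comm
    (fun x hx y hy => F.hV.comm x (S.ctr_le hx) y (mem_inf.mp hy).1) hv1
  rw [← S.fix_Es hx hy] at hu
  have hdn : d * n = n * d := mem_centralizer_iff.mp (mem_inf.mp hd).2 n hn |>.symm
  have hnV : n ∈ V := S.ctr_le hn
  have huV : u ∈ V := (mem_inf.mp hu).1
  have hduV : d * u⁻¹ * d⁻¹ ∈ V := conj_mem hdV (V.inv_mem huV)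
  have e1 : ⁅n * u, d⁆ = ⁅u, d⁆ := by
    have h1 : ⁅n * u, d⁆ = n * (u * (d * u⁻¹ * d⁻¹)) * (d * n⁻¹ * d⁻¹) := by
      rw [commutatorElement_def]; group
    have h2 : d * n⁻¹ * d⁻¹ = n⁻¹ := by
      have : d * n⁻¹ * d⁻¹ = (d * n * d⁻¹)⁻¹ := by group
      rw [this, hdn]; group
    rw [h1, h2]
    have h3 : n * (u * (d * u⁻¹ * d⁻¹)) = (u * (d * u⁻¹ * d⁻¹)) * n :=
      F.hV.comm n hnV _ (V.mul_mem huV hduV)
    rw [h3, commutatorElement_def]; group
  rw [e1]
  -- `⁅u, d⁆ ∈ C_V(E)`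
  have hdE : d ∈ centralizer (Es K a : Set G) := hcomm hd
  have hdn' : d ∈ normalizer ((centralizer (Es K a : Set G) : Subgroup G) : Set G) :=
    normalizer_le_normalizer_centralizer _ (F.H_le_normalizer_Es hS3 haH hT hdH)
  have h4 : ⁅u, d⁆ = u * (d * u⁻¹ * d⁻¹) := by rw [commutatorElement_def]; group
  rw [h4]
  refine mem_inf.mpr ⟨V.mul_mem huV hduV, ?_⟩
  exact Subgroup.mul_mem _ (mem_inf.mp hu).2 (conj_mem hdn' (Subgroup.inv_mem _ (mem_inf.mp hu).2))

end one

end FFS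

end Cfsg.Agent.Helper1.FF
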