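import Mathlib
import Cfsg.Agent.Lib.Helper1.FFK

/-!
# Glauberman's theorem: the direct decomposition
-/

set_option autoImplicit false
set_option linter.unusedSectionVars false

namespace Cfsg.Agent.Helper1.FF

open Subgroup
open scoped commutatorElement
open Cfsg.Agent.Helper1
open TvS

variable {G : Type*} [Group G]

/-- abstract decomposition of an abelian group along a family of direct decompositions -/
theorem decomp_family [Finite G] {ι : Type*} [DecidableEq ι] (V : Subgroup G)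
    (hVc : ∀ v ∈ V, ∀ w ∈ V, v * w = w * v)
    (N U : ι → Subgroup G) (hN : ∀ i, N i ≤ V) (hsup : ∀ i, N i ⊔ U i = V)
    (hinf : ∀ i, N i ⊓ U i = ⊥) (hNU : ∀ i j, i ≠ j → N j ≤ U i) (S : Finset ι) :
    (⨆ i ∈ S, N i) ⊔ (V ⊓ ⨅ i ∈ S, U i) = V ∧
      Nat.card V = (∏ i ∈ S, Nat.card (N i)) * Nat.card ↥(V ⊓ ⨅ i ∈ S, U i) := by
  induction S using Finset.induction_on with
  | empty => simp
  | insert i₀ S hi₀ ih =>
    have hU : ∀ i, U i ≤ V := fun i => (hsup i) ▸ le_sup_right
    set W := V ⊓ ⨅ i ∈ S, U i with hW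
    have hW' : V ⊓ ⨅ i ∈ insert i₀ S, U i = W ⊓ U i₀ := by
      rw [Finset.iInf_insert, hW, inf_comm (U i₀), ← inf_assoc]
    rw [hW', Finset.iSup_insert, Finset.prod_insert hi₀]
    have hN₀W : N i₀ ≤ W := by
      apply le_inf (hN i₀)
      apply le_iInf₂
      intro i hi
      apply hNU i i₀
      rintro rfl
      exact hi₀ hi
    have hWV : W ≤ V := inf_le_left
    have hdecomp : N i₀ ⊔ (W ⊓ U i₀) = W := by
      apply le_antisymm (sup_le hN₀W inf_le_left)
      intro u hu
      have hu1 : u ∈ N i₀ ⊔ U i₀ := by rw [hsup i₀]; exact hWV hu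
      obtain ⟨n, hn, w, hw, rfl⟩ := mem_sup_comm
        (fun x hx y hy => hVc x (hN i₀ hx) y (hU i₀ hy)) hu1
      have hwW : w ∈ W := by
        have : w = n⁻¹ * (n * w) := by group
        rw [this]
        exact W.mul_mem (W.inv_mem (hN₀W hn)) hu
      exact Subgroup.mul_mem _ (mem_sup_left hn) (mem_sup_right (mem_inf.mpr ⟨hwW, hw⟩))
    have hnorm : N i₀ ≤ normalizer ((W ⊓ U i₀ : Subgroup G) : Set G) := by
      refine le_trans ?_ (centralizer_le_normalizer _)
      intro x hx
      rw [mem_centralizer_iff]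
      intro y hy
      exact hVc y (hWV (mem_inf.mp hy).1) x (hN i₀ hx)
    have hcard := S4Free.card_sup_mul_card_inf' (N i₀) (W ⊓ U i₀) hnorm
    have hbot : N i₀ ⊓ (W ⊓ U i₀) = ⊥ := by
      rw [eq_bot_iff, ← hinf i₀]
      exact inf_le_inf_left _ inf_le_right
    rw [hdecomp, hbot, Subgroup.card_bot, mul_one] at hcard
    constructor
    · rw [sup_comm (N i₀), sup_assoc, hdecomp]
      exact ih.1
    · rw [ih.2, hcard]
      ring

namespace FFS

variable {p : ℕ} [hp : Fact p.Prime] {V H K : Subgroup G} [Finite G]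

/-- interaction of two distinct `E`'s -/
theorem pair_props (F : FFS p V H K) {a c a' c' : G} (haH : a ∈ H) (hT : IsTv p V a c)
    (haH' : a' ∈ H) (hT' : IsTv p V a' c') (hne : Es K a' ≠ Es K a) :
    Es K a' ≤ centralizer ((⁅V, Es K a⁆ : Subgroup G) : Set G) ∧
      ⁅V, Es K a'⁆ ≤ V ⊓ centralizer (Es K a : Set G) := by
  have S := F.tvs haH hT
  have S' := F.tvs haH' hT'
  obtain ⟨x, hx, hy⟩ := F.exists_y_ne_one haH hT
  obtain ⟨x', hx', hy'⟩ := F.exists_y_ne_one haH' hT'
  rcases F.Es_eq_or_commute haH hT haH' hT' with h | ⟨-, -, h1, h2⟩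
  · exact absurd h hne
  · rw [S.commutator_V_Es hx hy, S'.commutator_V_Es hx' hy', S.fix_Es hx hy]
    exact ⟨(S'.Es_le_centralizer_fix hx' hy').trans (centralizer_le h2), h1⟩

/-- **The global structure theorem.** -/
theorem assembly (F : FFS p V H K)
    (hS3 : H = ⨆ A : {A : Subgroup G // A ≤ H ∧ Cfsg.IsBestOffenderOn p V A}, (A : Subgroup G))
    {ι : Type*} [Finite ι] (E : ι → Subgroup G) (hinj : Function.Injective E)
    (hE : ∀ i, ∃ a c, a ∈ H ∧ IsTv p V a c ∧ E i = Es K a)
    (hall : ∀ a c, a ∈ H → IsTv p V a c → ∃ i, E i = Es K a) :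
    (∀ i, H ≤ normalizer (E i : Set G) ∧
        Nonempty (↥(E i) ≃* Matrix.SpecialLinearGroup (Fin 2) (ZMod p)) ∧
        Nat.card ↥(⁅V, E i⁆) = p ^ 2) ∧
      iSupIndep E ∧ (⨆ i, E i) = H ∧
      iSupIndep (fun o : Option ι => o.elim (V ⊓ centralizer (H : Set G)) (fun i => ⁅V, E i⁆)) ∧
      (V ⊓ centralizer (H : Set G)) ⊔ (⨆ i, ⁅V, E i⁆) = V := by
  classical
  have := Fintype.ofFinite ι
  -- (a)
  have hA : ∀ i, H ≤ normalizer (E i : Set G) ∧
        Nonempty (↥(E i) ≃* Matrix.SpecialLinearGroup (Fin 2) (ZMod p)) ∧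
        Nat.card ↥(⁅V, E i⁆) = p ^ 2 := by
    intro i
    obtain ⟨a, c, haH, hT, hEi⟩ := hE i
    have S := F.tvs haH hT
    obtain ⟨x, hx, hy⟩ := F.exists_y_ne_one haH hT
    rw [hEi]
    refine ⟨F.H_le_normalizer_Es hS3 haH hT, ?_, ?_⟩
    · obtain ⟨φ, -⟩ := S.Es_iso hx hy
      exact ⟨φ⟩
    · rw [S.commutator_V_Es hx hy]
      exact S.card_ctr hx hy
  -- pairs
  have hpair : ∀ i j, i ≠ j → E j ≤ centralizer ((⁅V, E i⁆ : Subgroup G) : Set G) ∧
      ⁅V, E j⁆ ≤ V ⊓ centralizer (E i : Set G) := by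
    intro i j hij
    obtain ⟨a, c, haH, hT, hEi⟩ := hE i
    obtain ⟨a', c', haH', hT', hEj⟩ := hE j
    rw [hEi, hEj]
    apply F.pair_props haH hT haH' hT'
    rw [← hEi, ← hEj]
    exact fun h => hij (hinj h).symm
  -- faithful
  have hfaith : ∀ i, E i ⊓ centralizer ((⁅V, E i⁆ : Subgroup G) : Set G) = ⊥ := by
    intro i
    obtain ⟨a, c, haH, hT, hEi⟩ := hE i
    have S := F.tvs haH hT
    obtain ⟨x, hx, hy⟩ := F.exists_y_ne_one haH hT
    rw [hEi, S.commutator_V_Es hx hy, eq_bot_iff]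
    intro e he
    rw [mem_bot]
    apply S.Es_faithful hx hy (mem_inf.mp he).1
    intro u hu
    exact (mem_centralizer_iff.mp (mem_inf.mp he).2 u hu).symm
  -- (c)
  have hC : (⨆ i, E i) = H := by
    apply le_antisymm
    · apply iSup_le
      intro i
      obtain ⟨a, c, haH, hT, hEi⟩ := hE i
      rw [hEi]
      exact F.Es_le_H haH
    · apply F.H_le_of_tv hS3
      intro a c haH hT
      obtain ⟨i, hi⟩ := hall a c haH hT
      exact (le_iSup E i) (hi ▸ a_mem_Es)
  -- decompositions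
  have hdec : ∀ i, ⁅V, E i⁆ ≤ V ∧ ⁅V, E i⁆ ⊔ (V ⊓ centralizer (E i : Set G)) = V ∧
      ⁅V, E i⁆ ⊓ (V ⊓ centralizer (E i : Set G)) = ⊥ := by
    intro i
    obtain ⟨a, c, haH, hT, hEi⟩ := hE i
    have S := F.tvs haH hT
    obtain ⟨x, hx, hy⟩ := F.exists_y_ne_one haH hT
    rw [hEi, S.commutator_V_Es hx hy, S.fix_Es hx hy]
    exact ⟨S.ctr_le, S.V_eq_sup hx hy, S.ctr_inf_fix hx hy⟩
  obtain ⟨hD1, hD2⟩ := decomp_family V F.hV.comm (fun i => ⁅V, E i⁆)
    (fun i => V ⊓ centralizer (E i : Set G)) (fun i => (hdec i).1) (fun i => (hdec i).2.1)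
    (fun i => (hdec i).2.2) (fun i j hij => (hpair i j hij).2) Finset.univ
  have hfix : V ⊓ ⨅ i ∈ (Finset.univ : Finset ι), (V ⊓ centralizer (E i : Set G)) =
      V ⊓ centralizer (H : Set G) := by
    apply le_antisymm
    · intro v hv
      refine mem_inf.mpr ⟨(mem_inf.mp hv).1, ?_⟩
      have h1 : ∀ i, v ∈ centralizer (E i : Set G) := by
        intro i
        have := (mem_inf.mp hv).2
        rw [mem_iInf] at this
        have := this i
        rw [mem_iInf] at this
        exact (mem_inf.mp (this (Finset.mem_univ i))).2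
      have h2 : H ≤ centralizer ({v} : Set G) := by
        rw [← hC]
        apply iSup_le
        intro i e he
        rw [mem_centralizer_iff]
        intro z hz
        rw [Set.mem_singleton_iff] at hz
        rw [hz]
        exact (mem_centralizer_iff.mp (h1 i) e he).symm
      rw [mem_centralizer_iff]
      intro h hh
      exact (mem_centralizer_iff.mp (h2 hh) v rfl).symm
    · apply le_inf inf_le_left
      apply le_iInf₂
      intro i _
      apply le_inf inf_le_left
      refine inf_le_right.trans (centralizer_le ?_)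
      intro e he
      exact (hC ▸ le_iSup E i) he
  rw [hfix] at hD1 hD2
  have hsupeq : (⨆ i ∈ (Finset.univ : Finset ι), ⁅V, E i⁆) = ⨆ i, ⁅V, E i⁆ := by simp
  rw [hsupeq] at hD1
  have hE5 : (V ⊓ centralizer (H : Set G)) ⊔ (⨆ i, ⁅V, E i⁆) = V := by
    rw [sup_comm]; exact hD1
  refine ⟨hA, ?_, hC, ?_, hE5⟩
  · -- independence of the `E i`
    intro i
    rw [disjoint_iff, eq_bot_iff, ← hfaith i]
    apply inf_le_inf_left
    apply iSup₂_le
    intro j hj
    exact (hpair i j (Ne.symm hj)).1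
  · -- independence of the summands of `V`
    apply iSupIndep_of_card
    · intro o o' _
      have hle : ∀ o : Option ι, o.elim (V ⊓ centralizer (H : Set G)) (fun i => ⁅V, E i⁆) ≤ V := by
        intro o
        cases o with
        | none => exact inf_le_left
        | some i => exact (hdec i).1
      intro x hx
      rw [mem_centralizer_iff]
      intro y hy
      exact F.hV.comm y (hle o' hy) x (hle o hx)
    · rw [iSup_option, Fintype.prod_option]
      simp only [Option.elim]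
      rw [hE5, hD2, mul_comm]

end FFS

end Cfsg.Agent.Helper1.FF
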