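import Mathlib
import Cfsg.Agent.Lib.Helper1.FFL

/-!
# Transfer to the semidirect product `V ⋊ G/C_G(V)`
-/

set_option autoImplicit false
set_option linter.unusedSectionVars false

namespace Cfsg.Agent.Helper1.FF

open Subgroup
open scoped commutatorElement
open Cfsg.Agent.Helper1

theorem card_map_mul_card_inf_ker {G H : Type*} [Group G] [Group H] [Finite G] (f : G →* H)
    (B : Subgroup G) : Nat.card (B.map f) * Nat.card ↥(B ⊓ f.ker) = Nat.card B := by
  set fB : B →* H := f.comp B.subtype with hfB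
  have hrange : fB.range = B.map f := by
    rw [hfB, MonoidHom.range_eq_map, ← Subgroup.map_map, ← MonoidHom.range_eq_map,
      Subgroup.range_subtype]
  have hker : fB.ker = (B ⊓ f.ker).subgroupOf B := by
    ext x
    simp [hfB, MonoidHom.mem_ker, mem_subgroupOf]
  have h1 := Subgroup.card_mul_index fB.ker
  rw [Subgroup.index_ker, hrange, hker, card_subgroupOf_of_le inf_le_left] at h1
  rw [mul_comm]
  exact h1

section transfer

variable {G : Type*} [Group G] (V : Subgroup G) [hVn : V.Normal]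

/-- the action of `G ⧸ C_G(V)` on `V` -/
noncomputable def actQ : (G ⧸ centralizer (V : Set G)) →* MulAut V :=
  QuotientGroup.lift (centralizer (V : Set G)) (MulAut.conjNormal (H := V)) (by
    intro x hx
    rw [MonoidHom.mem_ker]
    ext v
    rw [MulAut.conjNormal_apply, MulAut.one_apply]
    have := mem_centralizer_iff.mp hx v v.2
    rw [← this]; group)

theorem actQ_mk (g : G) (v : V) : ((actQ V (QuotientGroup.mk g) v : V) : G) = g * v * g⁻¹ := by
  unfold actQ
  rw [QuotientGroup.lift_mk, MulAut.conjNormal_apply]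

/-- the ambient group -/
abbrev GamV := V ⋊[actQ V] (G ⧸ centralizer (V : Set G))

instance [Finite G] : Finite (GamV V) :=
  Finite.of_equiv _ (SemidirectProduct.equivProd (φ := actQ V)).symm

/-- the map `G → Γ` -/
noncomputable def Th : G →* GamV V :=
  (SemidirectProduct.inr).comp (QuotientGroup.mk' (centralizer (V : Set G)))

/-- the embedding `V → Γ` -/
noncomputable def iV : V →* GamV V := SemidirectProduct.inl

/-- the copy of `V` in `Γ` -/
noncomputable def VV : Subgroup (GamV V) := (iV V).range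

theorem iV_injective : Function.Injective (iV V) := SemidirectProduct.inl_injective

theorem ker_Th : (Th V).ker = centralizer (V : Set G) := by
  unfold Th
  rw [MonoidHom.ker_comp_of_injective _ _ SemidirectProduct.inr_injective, QuotientGroup.ker_mk']

theorem Th_conj (g : G) (v : V) :
    Th V g * iV V v * (Th V g)⁻¹ = iV V ⟨g * v * g⁻¹, hVn.conj_mem v v.2 g⟩ := by
  unfold Th iV
  rw [MonoidHom.comp_apply, ← map_inv, ← SemidirectProduct.inl_aut]
  exact congrArg _ (Subtype.ext (actQ_mk V g v))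

theorem mem_VV {x : GamV V} : x ∈ VV V ↔ ∃ v : V, iV V v = x := MonoidHom.mem_range

theorem card_VV : Nat.card (VV V) = Nat.card V :=
  (Nat.card_congr (MonoidHom.ofInjective (iV_injective V)).toEquiv).symm

theorem ea_VV {p : ℕ} (hV : EA p V) : EA p (VV V) := by
  constructor
  · rintro _ ⟨v, rfl⟩ _ ⟨w, rfl⟩
    rw [← map_mul, ← map_mul]
    congr 1
    exact Subtype.ext (hV.comm v v.2 w w.2)
  · rintro _ ⟨v, rfl⟩
    rw [← map_pow]
    have : v ^ p = 1 := Subtype.ext (by simpa using hV.exp v v.2)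
    rw [this, map_one]

theorem Th_mem_normalizer (g : G) : Th V g ∈ normalizer (VV V : Set (GamV V)) := by
  have key : ∀ g : G, ∀ x ∈ VV V, Th V g * x * (Th V g)⁻¹ ∈ VV V := by
    rintro g _ ⟨v, rfl⟩
    rw [Th_conj]
    exact ⟨_, rfl⟩
  rw [mem_normalizer_iff]
  intro x
  constructor
  · exact key g x
  · intro h
    have := key g⁻¹ _ h
    rw [map_inv] at this
    have e : (Th V g)⁻¹ * (Th V g * x * (Th V g)⁻¹) * (Th V g)⁻¹⁻¹ = x := by group
    rwa [e] at this

theorem map_Th_le_normalizer (B : Subgroup G) : B.map (Th V) ≤ normalizer (VV V : Set (GamV V)) := by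
  rintro _ ⟨g, -, rfl⟩
  exact Th_mem_normalizer V g

/-- `Θ(G)` acts faithfully -/
theorem Th_faithful (g : G) (h : ∀ x ∈ VV V, Th V g * x = x * Th V g) : Th V g = 1 := by
  rw [← MonoidHom.mem_ker, ker_Th, mem_centralizer_iff]
  intro v hv
  have h1 := h (iV V ⟨v, hv⟩) ⟨_, rfl⟩
  have h2 : Th V g * iV V ⟨v, hv⟩ * (Th V g)⁻¹ = iV V ⟨v, hv⟩ := by rw [h1]; group
  rw [Th_conj] at h2
  have h3 := congrArg Subtype.val (iV_injective V h2)
  simp only at h3
  calc v * g = (g * v * g⁻¹) * g := by rw [h3]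
    _ = g * v := by group

theorem map_Th_inf_centralizer (B : Subgroup G) :
    B.map (Th V) ⊓ centralizer (VV V : Set (GamV V)) = ⊥ := by
  rw [eq_bot_iff]
  rintro _ ⟨⟨g, -, rfl⟩, h2⟩
  rw [mem_bot]
  apply Th_faithful
  intro x hx
  exact (mem_centralizer_iff.mp h2 x hx).symm

/-- fixed points correspond -/
theorem fix_eq (B : Subgroup G) :
    VV V ⊓ centralizer (B.map (Th V) : Set (GamV V)) =
      ((V ⊓ centralizer (B : Set G)).subgroupOf V).map (iV V) := by
  ext x
  constructor
  · rintro ⟨⟨v, rfl⟩, h2⟩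
    refine ⟨v, ?_, rfl⟩
    show (v : G) ∈ V ⊓ centralizer (B : Set G)
    refine mem_inf.mpr ⟨v.2, ?_⟩
    rw [mem_centralizer_iff]
    intro b hb
    have h1 := mem_centralizer_iff.mp h2 (Th V b) ⟨b, hb, rfl⟩
    have h3 : Th V b * iV V v * (Th V b)⁻¹ = iV V v := by rw [h1]; group
    rw [Th_conj] at h3
    have h4 := congrArg Subtype.val (iV_injective V h3)
    simp only at h4
    calc b * (v : G) = (b * v * b⁻¹) * b := by group
      _ = v * b := by rw [h4]
  · rintro ⟨v, hv', rfl⟩
    have hv : (v : G) ∈ V ⊓ centralizer (B : Set G) := hv'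
    refine mem_inf.mpr ⟨⟨v, rfl⟩, ?_⟩
    rw [mem_centralizer_iff]
    rintro _ ⟨b, hb, rfl⟩
    have h1 := mem_centralizer_iff.mp (mem_inf.mp hv).2 b hb
    have h2 : Th V b * iV V v * (Th V b)⁻¹ = iV V v := by
      rw [Th_conj]
      congr 1
      apply Subtype.ext
      show b * (v : G) * b⁻¹ = v
      rw [h1]; group
    calc Th V b * iV V v = (Th V b * iV V v * (Th V b)⁻¹) * Th V b := by group
      _ = iV V v * Th V b := by rw [h2]

theorem card_fix (B : Subgroup G) :
    Nat.card ↥(VV V ⊓ centralizer (B.map (Th V) : Set (GamV V))) =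
      Nat.card ↥(V ⊓ centralizer (B : Set G)) := by
  rw [fix_eq, Subgroup.card_map_of_injective (iV_injective V), card_subgroupOf_of_le inf_le_left]

theorem card_map_Th [Finite G] (B : Subgroup G) :
    Nat.card (B.map (Th V)) * Nat.card ↥(B ⊓ centralizer (V : Set G)) = Nat.card B := by
  have := card_map_mul_card_inf_ker (Th V) B
  rwa [ker_Th] at this

/-- subgroups of an image are images -/
theorem exists_preimage {A : Subgroup G} {B' : Subgroup (GamV V)} (h : B' ≤ A.map (Th V)) :
    ∃ B₀ : Subgroup G, B₀ ≤ A ∧ A ⊓ centralizer (V : Set G) ≤ B₀ ∧ B₀.map (Th V) = B' := by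
  refine ⟨A ⊓ B'.comap (Th V), inf_le_left, ?_, ?_⟩
  · intro x hx
    refine mem_inf.mpr ⟨(mem_inf.mp hx).1, ?_⟩
    rw [mem_comap]
    have : x ∈ (Th V).ker := by rw [ker_Th]; exact (mem_inf.mp hx).2
    rw [MonoidHom.mem_ker.mp this]
    exact B'.one_mem
  · apply le_antisymm
    · rintro _ ⟨x, hx, rfl⟩
      exact (mem_inf.mp hx).2
    · intro y hy
      obtain ⟨x, hxA, rfl⟩ := h hy
      exact ⟨x, mem_inf.mpr ⟨hxA, hy⟩, rfl⟩

end transfer

end Cfsg.Agent.Helper1.FF
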