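import Mathlib
import Cfsg.Agent.Lib.Helper1.FFT
import Cfsg.Agent.Lib.Helper54.PSolv
import Cfsg.Agent.Lib.Helper54.PxQ
import Cfsg.Agent.Lib.Helper10.PSolvDual

/-!
# Images of maximal elementary abelian subgroups are best offenders; the order formula
-/

set_option autoImplicit false
set_option linter.unusedSectionVars false

namespace Cfsg.Agent.Helper1.FF

open Subgroup
open scoped commutatorElement
open Cfsg.Agent.Helper1

variable {G : Type*} [Group G]

theorem isElementaryAbelian_of_ea {p : ℕ} {V : Subgroup G} (hV : EA p V) :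
    Cfsg.IsElementaryAbelian p V :=
  ⟨⟨⟨fun a b => Subtype.ext (hV.comm a a.2 b b.2)⟩⟩, hV.exp⟩

/-- the join of two commuting elementary abelian subgroups is elementary abelian -/
theorem ea_sup {p : ℕ} {X Y : Subgroup G} (hX : EA p X) (hY : EA p Y)
    (hXY : ∀ x ∈ X, ∀ y ∈ Y, x * y = y * x) : EA p (X ⊔ Y) := by
  constructor
  · intro g hg h hh
    obtain ⟨x, hx, y, hy, rfl⟩ := mem_sup_comm hXY hg
    obtain ⟨x', hx', y', hy', rfl⟩ := mem_sup_comm hXY hh
    have c1 : Commute x x' := hX.comm x hx x' hx'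
    have c2 : Commute x y' := hXY x hx y' hy'
    have c3 : Commute y x' := (hXY x' hx' y hy).symm
    have c4 : Commute y y' := hY.comm y hy y' hy'
    exact ((c1.mul_right c2).mul_left (c3.mul_right c4))
  · intro g hg
    obtain ⟨x, hx, y, hy, rfl⟩ := mem_sup_comm hXY hg
    have c : Commute x y := hXY x hx y hy
    rw [c.mul_pow, hX.exp x hx, hY.exp y hy, mul_one]

theorem ea_zpowers {p : ℕ} {x : G} (hx : x ^ p = 1) : EA p (zpowers x) := by
  constructor
  · intro g hg h hh
    obtain ⟨m, rfl⟩ := mem_zpowers_iff.mp hg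
    obtain ⟨n, rfl⟩ := mem_zpowers_iff.mp hh
    rw [← zpow_add, ← zpow_add, add_comm]
  · intro g hg
    obtain ⟨m, rfl⟩ := mem_zpowers_iff.mp hg
    rw [← zpow_natCast, ← zpow_mul, mul_comm, zpow_mul, zpow_natCast, hx, one_zpow]

section

variable [Finite G] {p : ℕ} [hp : Fact p.Prime] (V : Subgroup G) [hVn : V.Normal]

/-- **Thompson's argument**: the order inequality for maximal elementary abelian subgroups. -/
theorem thompson_ineq (hV : EA p V) {A : Subgroup G} (hA : EA p A)
    (hmax : ∀ B : Subgroup G, EA p B → Nat.card B ≤ Nat.card A) {B₀ : Subgroup G} (hB₀ : B₀ ≤ A) :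
    Nat.card B₀ * Nat.card ↥(V ⊓ centralizer (B₀ : Set G)) ≤
      Nat.card A * Nat.card ↥(V ⊓ centralizer (A : Set G)) := by
  set W := V ⊓ centralizer (B₀ : Set G) with hW
  have hcomm : ∀ x ∈ B₀, ∀ y ∈ W, x * y = y * x := fun x hx y hy =>
    mem_centralizer_iff.mp (mem_inf.mp hy).2 x hx
  have hD : EA p (B₀ ⊔ W) := ea_sup (hA.mono hB₀) (hV.mono inf_le_left) hcomm
  have hnorm : B₀ ≤ normalizer (W : Set G) := by
    refine le_trans ?_ (centralizer_le_normalizer _)
    intro x hx
    rw [mem_centralizer_iff]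
    intro y hy
    exact (hcomm x hx y hy).symm
  have h1 := S4Free.card_sup_mul_card_inf' B₀ W hnorm
  have h2 : Nat.card ↥(B₀ ⊔ W) ≤ Nat.card A := hmax _ hD
  have h3 : B₀ ⊓ W ≤ V ⊓ centralizer (A : Set G) := by
    intro x hx
    refine mem_inf.mpr ⟨(mem_inf.mp (mem_inf.mp hx).2).1, ?_⟩
    rw [mem_centralizer_iff]
    intro a ha
    exact hA.comm a ha x (hB₀ (mem_inf.mp hx).1)
  rw [← h1]
  exact Nat.mul_le_mul h2 (Subgroup.card_le_of_le h3)

/-- images of maximal elementary abelian subgroups are best offenders -/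
theorem bo_image (hV : EA p V) {A : Subgroup G} (hA : EA p A)
    (hmax : ∀ B : Subgroup G, EA p B → Nat.card B ≤ Nat.card A) :
    Cfsg.IsBestOffenderOn p (VV V) (A.map (Th V)) := by
  refine ⟨?_, ?_, ?_⟩
  · intro B' hB'
    obtain ⟨B₀, hB₀A, hACB₀, rfl⟩ := exists_preimage V hB'
    rw [card_fix, card_fix]
    have e1 := card_map_Th V B₀
    have e2 := card_map_Th V A
    have e3 : B₀ ⊓ centralizer (V : Set G) = A ⊓ centralizer (V : Set G) :=
      le_antisymm (inf_le_inf_right _ hB₀A) (le_inf hACB₀ inf_le_right)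
    rw [e3] at e1
    have key := thompson_ineq V hV hA hmax hB₀A
    rw [← e1, ← e2] at key
    have hpos : 0 < Nat.card ↥(A ⊓ centralizer (V : Set G)) := Nat.card_pos
    have : Nat.card ↥(A ⊓ centralizer (V : Set G)) *
        (Nat.card (B₀.map (Th V)) * Nat.card ↥(V ⊓ centralizer (B₀ : Set G))) ≤
        Nat.card ↥(A ⊓ centralizer (V : Set G)) *
        (Nat.card (A.map (Th V)) * Nat.card ↥(V ⊓ centralizer (A : Set G))) := by
      calc _ = Nat.card (B₀.map (Th V)) * Nat.card ↥(A ⊓ centralizer (V : Set G)) *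
            Nat.card ↥(V ⊓ centralizer (B₀ : Set G)) := by ring
        _ ≤ Nat.card (A.map (Th V)) * Nat.card ↥(A ⊓ centralizer (V : Set G)) *
            Nat.card ↥(V ⊓ centralizer (A : Set G)) := key
        _ = _ := by ring
    exact Nat.le_of_mul_le_mul_left this hpos
  · have h1 : ⁅A, A⁆ = ⊥ := by
      rw [commutator_eq_bot_iff_le_centralizer]
      intro x hx
      rw [mem_centralizer_iff]
      intro y hy
      exact hA.comm y hy x hx
    rw [← Subgroup.map_commutator, h1, Subgroup.map_bot]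
    exact bot_le
  · rintro _ ⟨a, ha, rfl⟩
    rw [← map_pow, hA.exp a ha, map_one]
    exact Subgroup.one_mem _

/-- the hypothesis on `O_{p'}` for `Θ(G)` -/
theorem hS1_range (hsep : Cfsg.IsPSolvable p G)
    (hO : Cfsg.pCore p (G ⧸ centralizer (V : Set G)) = ⊥) :
    centralizer (Cfsg.pPrimeCore p ↥(Th V).range : Set ↥(Th V).range) ≤
      Cfsg.pPrimeCore p ↥(Th V).range := by
  apply Cfsg.Agent.Helper10.centralizer_pPrimeCore_le_of_isPSolvable
  · exact Cfsg.Agent.Helper54.IsPSolvable.of_surjective hsep (Th V).rangeRestrict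
      (Th V).rangeRestrict_surjective
  · let e : (G ⧸ centralizer (V : Set G)) ≃* ↥(Th V).range :=
      (QuotientGroup.quotientMulEquivOfEq (ker_Th V)).symm.trans
        (QuotientGroup.quotientKerEquivRange (Th V))
    rw [← Cfsg.Agent.Helper54.pCore_map_mulEquiv p e, hO, Subgroup.map_bot]

/-- **The order formula** for maximal elementary abelian subgroups. -/
theorem card_image_mul_fix (hV : EA p V) (hsep : Cfsg.IsPSolvable p G)
    (hO : Cfsg.pCore p (G ⧸ centralizer (V : Set G)) = ⊥) {A : Subgroup G} (hA : EA p A)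
    (hmax : ∀ B : Subgroup G, EA p B → Nat.card B ≤ Nat.card A) :
    Nat.card (A.map (Th V)) * Nat.card ↥(V ⊓ centralizer (A : Set G)) = Nat.card V := by
  have hrange : (Th V).range = (⊤ : Subgroup G).map (Th V) := MonoidHom.range_eq_map _
  have F := ffs_of_hyps (VV V) (Th V).range (isElementaryAbelian_of_ea (ea_VV V hV))
    (by rw [hrange]; exact map_Th_le_normalizer V ⊤)
    (by rw [hrange]; exact map_Th_inf_centralizer V ⊤) (hS1_range V hsep hO)
  have h1 := F.bo_card (A := A.map (Th V)) (by rw [hrange]; exact Subgroup.map_mono le_top)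
    (bo_image V hV hA hmax)
  rwa [card_fix, card_VV] at h1

end

end Cfsg.Agent.Helper1.FF
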