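import Mathlib
import Cfsg.Agent.Lib.Helper1.FFU

/-!
# KS 9.3.9: `[Ω₁(Z(J(C_G(V)))), J(G)] ≤ V`
-/

set_option autoImplicit false
set_option linter.unusedSectionVars false

namespace Cfsg.Agent.Helper1.FF

open Subgroup
open scoped commutatorElement
open Cfsg.Agent.Helper1

variable {G : Type*} [Group G] [Finite G] {p : ℕ} [hp : Fact p.Prime] (V : Subgroup G)
  [hVn : V.Normal]

theorem V_le_centralizer_self {p : ℕ} {V : Subgroup G} (hV : EA p V) :
    V ≤ centralizer (V : Set G) := by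
  intro x hx
  rw [mem_centralizer_iff]
  intro y hy
  exact hV.comm y hy x hx

section

variable (hV : EA p V) (hsep : Cfsg.IsPSolvable p G)
  (hO : Cfsg.pCore p (G ⧸ centralizer (V : Set G)) = ⊥) {A : Subgroup G} (hA : EA p A)
  (hmax : ∀ B : Subgroup G, EA p B → Nat.card B ≤ Nat.card A)

include hV hsep hO hA hmax

/-- Step 1: `(A ∩ C) V` is again of maximal order -/
theorem replace_props :
    EA p ((A ⊓ centralizer (V : Set G)) ⊔ V) ∧
      Nat.card ↥((A ⊓ centralizer (V : Set G)) ⊔ V) = Nat.card A ∧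
      (A ⊓ centralizer (V : Set G)) ⊔ V ≤ centralizer (V : Set G) := by
  set C := centralizer (V : Set G) with hC
  have hcomm : ∀ x ∈ A ⊓ C, ∀ y ∈ V, x * y = y * x := fun x hx y hy =>
    (mem_centralizer_iff.mp (mem_inf.mp hx).2 y hy).symm
  have hEA : EA p ((A ⊓ C) ⊔ V) := ea_sup (hA.mono inf_le_left) hV hcomm
  refine ⟨hEA, ?_, sup_le inf_le_right (V_le_centralizer_self hV)⟩
  apply le_antisymm (hmax _ hEA)
  have hnorm : A ⊓ C ≤ normalizer (V : Set G) := fun x _ => hVn.conj_mem' |> fun _ => by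
    rw [Subgroup.normalizer_eq_top]; exact mem_top x
  have h1 := S4Free.card_sup_mul_card_inf' (A ⊓ C) V hnorm
  have h2 : (A ⊓ C) ⊓ V ≤ V ⊓ centralizer (A : Set G) := by
    intro x hx
    refine mem_inf.mpr ⟨(mem_inf.mp hx).2, ?_⟩
    rw [mem_centralizer_iff]
    intro a ha
    exact hA.comm a ha x (mem_inf.mp (mem_inf.mp hx).1).1
  have h3 := card_image_mul_fix V hV hsep hO hA hmax
  have h4 := card_map_Th V A
  set fA := Nat.card ↥(V ⊓ centralizer (A : Set G)) with hfA
  have hfpos : 0 < fA := Nat.card_pos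
  have h5 : Nat.card A * fA ≤ Nat.card ↥((A ⊓ C) ⊔ V) * fA := by
    calc Nat.card A * fA = (Nat.card (A.map (Th V)) * Nat.card ↥(A ⊓ C)) * fA := by rw [h4]
      _ = Nat.card ↥(A ⊓ C) * (Nat.card (A.map (Th V)) * fA) := by ring
      _ = Nat.card ↥(A ⊓ C) * Nat.card V := by rw [h3]
      _ = Nat.card ↥((A ⊓ C) ⊔ V) * Nat.card ↥((A ⊓ C) ⊓ V) := h1.symm
      _ ≤ Nat.card ↥((A ⊓ C) ⊔ V) * fA := Nat.mul_le_mul_left _ (Subgroup.card_le_of_le h2)
  exact Nat.le_of_mul_le_mul_right h5 hfpos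

/-- Step 2: it lies in `J(C)` -/
theorem replace_le_thompson :
    (A ⊓ centralizer (V : Set G)) ⊔ V ≤ Cfsg.thompsonSubgroupOf p (centralizer (V : Set G)) := by
  obtain ⟨h1, h2, h3⟩ := replace_props V hV hsep hO hA hmax
  set C := centralizer (V : Set G) with hC
  set B := (A ⊓ C) ⊔ V with hB
  have hmem : B.subgroupOf C ∈ Cfsg.maxElementaryAbelianSubgroups p ↥C := by
    constructor
    · refine ⟨⟨⟨fun a b => ?_⟩⟩, ?_⟩
      · apply Subtype.ext
        apply Subtype.ext
        exact h1.comm _ a.2 _ b.2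
      · intro a ha
        apply Subtype.ext
        exact h1.exp _ ha
    · intro D hD
      have hD' : EA p (D.map C.subtype) := by
        constructor
        · rintro _ ⟨x, hx, rfl⟩ _ ⟨y, hy, rfl⟩
          have := hD.1.is_comm.comm (⟨x, hx⟩ : D) ⟨y, hy⟩
          exact congrArg (fun z : D => ((z : C) : G)) this
        · rintro _ ⟨x, hx, rfl⟩
          have := hD.2 x hx
          exact congrArg Subtype.val this
      have := hmax _ hD'
      rw [Subgroup.card_map_of_injective C.subtype_injective] at this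
      rw [card_subgroupOf_of_le h3, h2]
      exact this
  have hle : B.subgroupOf C ≤ Cfsg.thompsonSubgroup p ↥C := le_sSup hmem
  unfold Cfsg.thompsonSubgroupOf
  intro x hx
  exact ⟨⟨x, h3 hx⟩, hle hx, rfl⟩

/-- Step 3 -/
theorem mem_replace_of_mem_center {x : G}
    (hx : x ∈ Cfsg.centerThompsonOf p (centralizer (V : Set G))) (hxp : x ^ p = 1) :
    x ∈ (A ⊓ centralizer (V : Set G)) ⊔ V := by
  obtain ⟨h1, h2, h3⟩ := replace_props V hV hsep hO hA hmax
  have hJ := replace_le_thompson V hV hsep hO hA hmax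
  set C := centralizer (V : Set G) with hC
  set B := (A ⊓ C) ⊔ V with hB
  have hxc : ∀ b ∈ B, x * b = b * x := by
    intro b hb
    have := (mem_inf.mp hx).2
    exact (mem_centralizer_iff.mp this b (hJ hb)).symm
  have hD : EA p (zpowers x ⊔ B) := by
    apply ea_sup (ea_zpowers hxp) h1
    intro z hz b hb
    obtain ⟨n, rfl⟩ := mem_zpowers_iff.mp hz
    have : Commute x b := hxc b hb
    exact (this.zpow_left n)
  have hcard := hmax _ hD
  have hBD : B ≤ zpowers x ⊔ B := le_sup_right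
  have : B = zpowers x ⊔ B := Subgroup.eq_of_le_of_card_ge hBD (by rw [h2]; exact hcard)
  rw [this]
  exact mem_sup_left (mem_zpowers x)

/-- Step 4 -/
theorem comm_mem_of_mem_center {x : G}
    (hx : x ∈ Cfsg.centerThompsonOf p (centralizer (V : Set G))) (hxp : x ^ p = 1) {a : G}
    (ha : a ∈ A) : ⁅x, a⁆ ∈ V := by
  have hmem := mem_replace_of_mem_center V hV hsep hO hA hmax hx hxp
  have hcomm : ∀ x ∈ A ⊓ centralizer (V : Set G), ∀ y ∈ V, x * y = y * x := fun x hx y hy =>
    (mem_centralizer_iff.mp (mem_inf.mp hx).2 y hy).symm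
  obtain ⟨y, hy, v, hv, rfl⟩ := mem_sup_comm hcomm hmem
  have hya : y * a = a * y := hA.comm y (mem_inf.mp hy).1 a ha
  have e : ⁅y * v, a⁆ = y * (v * (a * v⁻¹ * a⁻¹)) * y⁻¹ := by
    rw [commutatorElement_def]
    have h1 : a * (y * v)⁻¹ * a⁻¹ = (a * v⁻¹ * a⁻¹) * y⁻¹ := by
      have : a * y⁻¹ = y⁻¹ * a := by
        have c : Commute y a := hya
        exact c.symm.inv_right
      calc a * (y * v)⁻¹ * a⁻¹ = a * v⁻¹ * (y⁻¹ * a⁻¹) := by group
        _ = a * v⁻¹ * (a⁻¹ * y⁻¹) := by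
            have c : Commute y a := hya
            rw [show y⁻¹ * a⁻¹ = a⁻¹ * y⁻¹ from (c.inv_inv).eq]
        _ = _ := by group
    calc y * v * a * (y * v)⁻¹ * a⁻¹ = y * v * (a * (y * v)⁻¹ * a⁻¹) := by group
      _ = y * v * ((a * v⁻¹ * a⁻¹) * y⁻¹) := by rw [h1]
      _ = _ := by group
  rw [e]
  exact hVn.conj_mem _ (V.mul_mem hv (hVn.conj_mem _ (V.inv_mem hv) a)) y

end

/-- **KS 9.3.9.** -/
theorem commutator_omega_center_thompson_le (hV : EA p V) (hsep : Cfsg.IsPSolvable p G)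
    (hO : Cfsg.pCore p (G ⧸ centralizer (V : Set G)) = ⊥) :
    ⁅Cfsg.omegaOne p (Cfsg.centerThompsonOf p (centralizer (V : Set G))),
      Cfsg.thompsonSubgroup p G⁆ ≤ V := by
  set π := QuotientGroup.mk' V with hπ
  have hker : π.ker = V := QuotientGroup.ker_mk' V
  suffices h : (⁅Cfsg.omegaOne p (Cfsg.centerThompsonOf p (centralizer (V : Set G))),
      Cfsg.thompsonSubgroup p G⁆).map π = ⊥ by
    have h' := (Subgroup.map_eq_bot_iff _).mp h
    rwa [hker] at h'
  rw [Subgroup.map_commutator, commutator_eq_bot_iff_le_centralizer]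
  unfold Cfsg.omegaOne
  rw [MonoidHom.map_closure, closure_le]
  rintro _ ⟨x, ⟨hx, hxp⟩, rfl⟩
  rw [SetLike.mem_coe, mem_centralizer_iff]
  rintro _ ⟨j, hj, rfl⟩
  -- `j ∈ J(G)`
  have hJ : Cfsg.thompsonSubgroup p G ≤ (centralizer ({π x} : Set (G ⧸ V))).comap π := by
    unfold Cfsg.thompsonSubgroup
    apply sSup_le
    rintro A ⟨hA1, hA2⟩
    have hA : EA p A := ea_of_isElementaryAbelian hA1
    have hmax : ∀ B : Subgroup G, EA p B → Nat.card B ≤ Nat.card A := fun B hB =>
      hA2 B (isElementaryAbelian_of_ea hB)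
    intro a ha
    rw [mem_comap, mem_centralizer_iff]
    intro z hz
    rw [Set.mem_singleton_iff] at hz
    rw [hz]
    have h1 := comm_mem_of_mem_center V hV hsep hO hA hmax hx hxp ha
    have h2 : π ⁅x, a⁆ = 1 := by
      rw [← MonoidHom.mem_ker, hker]; exact h1
    rw [map_commutatorElement] at h2
    exact comm_eq_one_iff.mp h2
  have := hJ hj
  rw [mem_comap, mem_centralizer_iff] at this
  exact (this (π x) rfl).symm

end Cfsg.Agent.Helper1.FF
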