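import Mathlib
import Cfsg.Agent.Lib.Helper1.FFV
import Cfsg.Agent.Lib.Helper10.Thompson
import Cfsg.Agent.S4341

/-!
# KS 9.3.8: groups which are not Thompson factorizable (preparations)
-/

set_option autoImplicit false
set_option linter.unusedSectionVars false

namespace Cfsg.Agent.Helper1.FF

open Subgroup
open scoped commutatorElement
open Cfsg.Agent.Helper1

variable {G : Type*} [Group G]

/-- `Ω₁(Z(Q))` as an explicit subgroup -/
def omegaZp (p : ℕ) (Q : Subgroup G) : Subgroup G where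
  carrier := {z | z ∈ Q ∧ (∀ y ∈ Q, z * y = y * z) ∧ z ^ p = 1}
  mul_mem' := by
    rintro z w ⟨hz1, hz2, hz3⟩ ⟨hw1, hw2, hw3⟩
    refine ⟨Q.mul_mem hz1 hw1, ?_, ?_⟩
    · intro y hy
      rw [mul_assoc, hw2 y hy, ← mul_assoc, hz2 y hy, mul_assoc]
    · have c : Commute z w := hz2 w hw1
      rw [c.mul_pow, hz3, hw3, mul_one]
  one_mem' := ⟨Q.one_mem, by simp, by simp⟩
  inv_mem' := by
    rintro z ⟨hz1, hz2, hz3⟩
    refine ⟨Q.inv_mem hz1, ?_, by rw [inv_pow, hz3, inv_one]⟩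
    intro y hy
    have c : Commute z y := hz2 y hy
    exact c.inv_left

theorem ea_omegaZp (p : ℕ) (Q : Subgroup G) : EA p (omegaZp p Q) :=
  ⟨fun _ hx y hy => hx.2.1 y hy.1, fun _ hx => hx.2.2⟩

/-- `V = ⟨Ω₁(Z(S)) : S ∈ Syl_p(G)⟩` -/
def VZ (p : ℕ) (G : Type*) [Group G] : Subgroup G :=
  ⨆ S : Sylow p G, Cfsg.omegaOne p ((S : Subgroup G) ⊓ centralizer ((S : Subgroup G) : Set G))

theorem omegaOne_le_VZ (p : ℕ) (S : Sylow p G) :
    Cfsg.omegaOne p ((S : Subgroup G) ⊓ centralizer ((S : Subgroup G) : Set G)) ≤ VZ p G :=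
  le_iSup (fun S : Sylow p G =>
    Cfsg.omegaOne p ((S : Subgroup G) ⊓ centralizer ((S : Subgroup G) : Set G))) S

/-- induction principle for `VZ` -/
theorem VZ_le {p : ℕ} {M : Subgroup G}
    (h : ∀ (S : Sylow p G) (x : G), x ∈ (S : Subgroup G) → (∀ s ∈ (S : Subgroup G), s * x = x * s) →
      x ^ p = 1 → x ∈ M) : VZ p G ≤ M := by
  unfold VZ
  apply iSup_le
  intro S
  unfold Cfsg.omegaOne
  rw [closure_le]
  rintro x ⟨hx, hxp⟩
  exact h S x (mem_inf.mp hx).1 (fun s hs => mem_centralizer_iff.mp (mem_inf.mp hx).2 s hs) hxp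

theorem mem_VZ_of {p : ℕ} (S : Sylow p G) {x : G} (hxS : x ∈ (S : Subgroup G))
    (hxc : ∀ s ∈ (S : Subgroup G), s * x = x * s) (hxp : x ^ p = 1) : x ∈ VZ p G := by
  apply omegaOne_le_VZ p S
  apply Subgroup.subset_closure
  refine ⟨mem_inf.mpr ⟨hxS, ?_⟩, hxp⟩
  rw [mem_centralizer_iff]
  exact hxc

theorem VZ_normal (p : ℕ) [Fact p.Prime] [Finite G] : (VZ p G).Normal := by
  constructor
  intro v hv g
  have : VZ p G ≤ (VZ p G).comap (MulAut.conj g).toMonoidHom := by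
    apply VZ_le
    intro S x hxS hxc hxp
    rw [mem_comap, MulEquiv.coe_toMonoidHom, MulAut.conj_apply]
    apply mem_VZ_of (g • S)
    · rw [Sylow.coe_subgroup_smul]
      exact ⟨x, hxS, rfl⟩
    · intro s hs
      rw [Sylow.coe_subgroup_smul] at hs
      obtain ⟨s', hs', rfl⟩ := hs
      have := hxc s' hs'
      show g * s' * g⁻¹ * (g * x * g⁻¹) = g * x * g⁻¹ * (g * s' * g⁻¹)
      calc g * s' * g⁻¹ * (g * x * g⁻¹) = g * (s' * x) * g⁻¹ := by group
        _ = g * (x * s') * g⁻¹ := by rw [this]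
        _ = _ := by group
    · rw [← MulAut.conj_apply, ← map_pow, hxp, map_one]
  have := this hv
  rwa [mem_comap, MulEquiv.coe_toMonoidHom, MulAut.conj_apply] at this

variable [Finite G] {p : ℕ} [hp : Fact p.Prime]

theorem VZ_le_omegaZp (hsep : Cfsg.IsPSolvable p G) (hO : Cfsg.pPrimeCore p G = ⊥) :
    VZ p G ≤ omegaZp p (Cfsg.pCore p G) := by
  have hHH := Cfsg.Agent.Helper54.centralizer_pCore_le_of_isPSolvable hsep hO
  apply VZ_le
  intro S x hxS hxc hxp
  have hPS : Cfsg.pCore p G ≤ (S : Subgroup G) := Cfsg.Agent.Helper54.pCore_le_sylow S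
  have hxcP : x ∈ centralizer (Cfsg.pCore p G : Set G) := by
    rw [mem_centralizer_iff]
    intro y hy
    exact hxc y (hPS hy)
  refine ⟨hHH hxcP, ?_, hxp⟩
  intro y hy
  exact (hxc y (hPS hy)).symm

theorem ea_VZ (hsep : Cfsg.IsPSolvable p G) (hO : Cfsg.pPrimeCore p G = ⊥) : EA p (VZ p G) :=
  (ea_omegaZp p _).mono (VZ_le_omegaZp hsep hO)

/-- `O_p(G / C_G(V)) = 1` -/
theorem pCore_quot_VZ [hn : (VZ p G).Normal] :
    Cfsg.pCore p (G ⧸ centralizer (VZ p G : Set G)) = ⊥ := by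
  rw [eq_bot_iff]
  intro q hq
  rw [mem_bot]
  obtain ⟨g, rfl⟩ := QuotientGroup.mk_surjective q
  rw [QuotientGroup.eq_one_iff]
  -- `g` centralizes `V`
  have hle : VZ p G ≤ centralizer ({g} : Set G) := by
    apply VZ_le
    intro S x hxS hxc hxp
    have hxV : x ∈ VZ p G := mem_VZ_of S hxS hxc hxp
    have h1 := Cfsg.Agent.Helper54.pCore_le_sylow
      (S.mapSurjective (QuotientGroup.mk'_surjective (centralizer (VZ p G : Set G)))) hq
    rw [Sylow.coe_mapSurjective] at h1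
    obtain ⟨s, hs, hsg⟩ := h1
    have h2 : s⁻¹ * g ∈ centralizer (VZ p G : Set G) := QuotientGroup.eq.mp hsg
    have h3 := mem_centralizer_iff.mp h2 x hxV
    have h4 := hxc s hs
    rw [mem_centralizer_iff]
    intro z hz
    rw [Set.mem_singleton_iff] at hz
    rw [hz]
    calc g * x = s * ((s⁻¹ * g) * x) := by group
      _ = s * (x * (s⁻¹ * g)) := by rw [h3]
      _ = (s * x) * (s⁻¹ * g) := by group
      _ = (x * s) * (s⁻¹ * g) := by rw [h4]
      _ = x * g := by group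
  rw [mem_centralizer_iff]
  intro v hv
  exact (mem_centralizer_iff.mp (hle hv) g rfl).symm

/-- if every maximal elementary abelian subgroup centralizes `V`, then `G` is Thompson factorizable -/
theorem thompsonFactorizable_of_le [hn : (VZ p G).Normal]
    (h : ∀ A ∈ Cfsg.maxElementaryAbelianSubgroups p G, A ≤ centralizer (VZ p G : Set G)) :
    Cfsg.IsThompsonFactorizable p G := by
  intro S g
  set C := centralizer (VZ p G : Set G) with hC
  obtain ⟨A₀, hA₀, hA₀S⟩ := Cfsg.Agent.Helper10.exists_mem_maxElementaryAbelianSubgroups_le_sylow S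
  have hJ := Cfsg.Agent.Helper10.thompsonSubgroupOf_eq_sSup hA₀ hA₀S
  have hJle : Cfsg.thompsonSubgroupOf p (S : Subgroup G) ≤ (S : Subgroup G) ⊓ C := by
    rw [hJ]
    apply sSup_le
    rintro A ⟨hA, hAS⟩
    exact le_inf hAS (h A hA)
  have hN := Cfsg.Agent.Helper10.normalizer_le_normalizer_thompsonSubgroupOf hA₀ hA₀S
    (inf_le_left : (S : Subgroup G) ⊓ C ≤ S) hJle
  -- Frattini
  have hfr := Sylow.normalizer_sup_eq_top (Cfsg.Agent.S4341.sylowInf S C)
  rw [Cfsg.Agent.S4341.coe_sylowInf, Subgroup.subgroupOf_map_subtype] at hfr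
  have hg : g ∈ C ⊔ normalizer (((S : Subgroup G) ⊓ C : Subgroup G) : Set G) := by
    rw [sup_comm, hfr]; exact mem_top g
  have hcoe := Subgroup.normal_mul C (normalizer (((S : Subgroup G) ⊓ C : Subgroup G) : Set G))
  have hg' : g ∈ ((C ⊔ normalizer (((S : Subgroup G) ⊓ C : Subgroup G) : Set G) : Subgroup G) : Set G) := hg
  rw [hcoe] at hg'
  obtain ⟨c, hc, n, hn', hcn⟩ := Set.mem_mul.mp hg'
  refine ⟨1, Subgroup.one_mem _, c, ?_, n, hN hn', by rw [one_mul, hcn]⟩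
  exact centralizer_le (omegaOne_le_VZ p S) hc

end Cfsg.Agent.Helper1.FF
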