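import Mathlib
import Cfsg.Agent.Lib.Helper1.FFW
import Cfsg.Agent.Lib.Helper69.PSolvSub

/-!
# KS 9.3.8: groups which are not Thompson factorizable
-/

set_option autoImplicit false
set_option linter.unusedSectionVars false

namespace Cfsg.Agent.Helper1.FF

open Subgroup
open scoped commutatorElement
open Cfsg.Agent.Helper1
open TvS

/-- best offenders are invariant under conjugation by elements normalizing `V` -/
theorem bo_conj {Γ : Type*} [Group Γ] {p : ℕ} {V A : Subgroup Γ}
    (hA : Cfsg.IsBestOffenderOn p V A) {g : Γ} (hg : g ∈ normalizer (V : Set Γ)) :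
    Cfsg.IsBestOffenderOn p V (A.map (MulAut.conj g).toMonoidHom) := by
  set c := (MulAut.conj g).toMonoidHom with hc
  have hcinj : Function.Injective c := (MulAut.conj g).injective
  have hcsurj : Function.Surjective c := (MulAut.conj g).surjective
  have hcapp : ∀ y, c y = g * y * g⁻¹ := fun y => by simp [hc]
  have hfix : ∀ B : Subgroup Γ, Nat.card ↥(V ⊓ centralizer ((B.map c : Subgroup Γ) : Set Γ)) =
      Nat.card ↥(V ⊓ centralizer (B : Set Γ)) := by
    intro B
    have : V ⊓ centralizer ((B.map c : Subgroup Γ) : Set Γ) = (V ⊓ centralizer (B : Set Γ)).map c := by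
      ext x
      constructor
      · intro hx
        refine ⟨g⁻¹ * x * g, mem_inf.mpr ⟨conj_mem' hg (mem_inf.mp hx).1, ?_⟩, by rw [hcapp]; group⟩
        rw [mem_centralizer_iff]
        intro b hb
        have := mem_centralizer_iff.mp (mem_inf.mp hx).2 (c b) ⟨b, hb, rfl⟩
        rw [hcapp] at this
        calc b * (g⁻¹ * x * g) = g⁻¹ * ((g * b * g⁻¹) * x) * g := by group
          _ = g⁻¹ * (x * (g * b * g⁻¹)) * g := by rw [this]
          _ = g⁻¹ * x * g * b := by group
      · rintro ⟨y, hy, rfl⟩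
        rw [hcapp]
        refine mem_inf.mpr ⟨conj_mem hg (mem_inf.mp hy).1, ?_⟩
        rw [mem_centralizer_iff]
        rintro _ ⟨b, hb, rfl⟩
        rw [hcapp]
        have := mem_centralizer_iff.mp (mem_inf.mp hy).2 b hb
        calc g * b * g⁻¹ * (g * y * g⁻¹) = g * (b * y) * g⁻¹ := by group
          _ = g * (y * b) * g⁻¹ := by rw [this]
          _ = _ := by group
    rw [this, Subgroup.card_map_of_injective hcinj]
  refine ⟨?_, ?_, ?_⟩
  · intro B' hB'
    have hB : B'.comap c ≤ A := by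
      have := Subgroup.comap_mono (f := c) hB'
      rwa [Subgroup.comap_map_eq_self_of_injective hcinj] at this
    have hBB : (B'.comap c).map c = B' := Subgroup.map_comap_eq_self_of_surjective hcsurj B'
    have h1 := hA.1 _ hB
    rw [← hBB, hfix, hfix, Subgroup.card_map_of_injective hcinj,
      Subgroup.card_map_of_injective hcinj]
    exact h1
  · rw [← Subgroup.map_commutator]
    rintro _ ⟨y, hy, rfl⟩
    rw [hcapp]
    exact conj_mem_centralizer hg (hA.2.1 hy)
  · rintro _ ⟨a, ha, rfl⟩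
    rw [← map_pow, hcapp]
    exact conj_mem_centralizer hg (hA.2.2 a ha)

section

variable {G : Type*} [Group G] [Finite G] {p : ℕ} [hp : Fact p.Prime] (V : Subgroup G)
  [hVn : V.Normal]

/-- the subgroup generated by the best offenders in `Θ(G)` -/
noncomputable def HB (p : ℕ) (V : Subgroup G) [V.Normal] : Subgroup (GamV V) :=
  ⨆ A' : {A' : Subgroup (GamV V) // A' ≤ (Th V).range ∧ Cfsg.IsBestOffenderOn p (VV V) A'},
    (A' : Subgroup (GamV V))

theorem HB_le_range : HB p V ≤ (Th V).range := by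
  unfold HB
  apply iSup_le
  rintro ⟨A', h1, -⟩
  exact h1

theorem le_HB {A' : Subgroup (GamV V)} (h1 : A' ≤ (Th V).range)
    (h2 : Cfsg.IsBestOffenderOn p (VV V) A') : A' ≤ HB p V :=
  le_iSup (fun A' : {A' : Subgroup (GamV V) // A' ≤ (Th V).range ∧
    Cfsg.IsBestOffenderOn p (VV V) A'} => (A' : Subgroup (GamV V))) ⟨A', h1, h2⟩

theorem HB_hS3 : HB p V = ⨆ A : {A : Subgroup (GamV V) // A ≤ HB p V ∧
    Cfsg.IsBestOffenderOn p (VV V) A}, (A : Subgroup (GamV V)) := by
  apply le_antisymm
  · unfold HB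
    apply iSup_le
    rintro ⟨A', h1, h2⟩
    exact le_iSup (fun A : {A : Subgroup (GamV V) // A ≤ HB p V ∧
      Cfsg.IsBestOffenderOn p (VV V) A} => (A : Subgroup (GamV V))) ⟨A', le_HB V h1 h2, h2⟩
  · apply iSup_le
    rintro ⟨A, h1, -⟩
    exact h1

theorem range_le_normalizer_VV : (Th V).range ≤ normalizer (VV V : Set (GamV V)) := by
  rw [MonoidHom.range_eq_map]
  exact map_Th_le_normalizer V ⊤

theorem range_le_normalizer_HB : (Th V).range ≤ normalizer (HB p V : Set (GamV V)) := by
  apply le_normalizer_of_conj_smul_le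
  intro r hr
  rw [Subgroup.pointwise_smul_def]
  change (HB p V).map (MulAut.conj r).toMonoidHom ≤ HB p V
  unfold HB
  rw [Subgroup.map_iSup]
  apply iSup_le
  rintro ⟨A', h1, h2⟩
  apply le_HB
  · rintro _ ⟨y, hy, rfl⟩
    simp only [MulEquiv.coe_toMonoidHom, MulAut.conj_apply]
    exact Subgroup.mul_mem _ (Subgroup.mul_mem _ hr (h1 hy)) (Subgroup.inv_mem _ hr)
  · exact bo_conj h2 (range_le_normalizer_VV V hr)

theorem pCore_range_eq_bot (hO : Cfsg.pCore p (G ⧸ centralizer (V : Set G)) = ⊥) :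
    Cfsg.pCore p ↥(Th V).range = ⊥ := by
  let e : (G ⧸ centralizer (V : Set G)) ≃* ↥(Th V).range :=
    (QuotientGroup.quotientMulEquivOfEq (ker_Th V)).symm.trans
      (QuotientGroup.quotientKerEquivRange (Th V))
  rw [← Cfsg.Agent.Helper54.pCore_map_mulEquiv p e, hO, Subgroup.map_bot]

theorem HB_hS1 (hsep : Cfsg.IsPSolvable p G)
    (hO : Cfsg.pCore p (G ⧸ centralizer (V : Set G)) = ⊥) :
    centralizer (Cfsg.pPrimeCore p ↥(HB p V) : Set ↥(HB p V)) ≤ Cfsg.pPrimeCore p ↥(HB p V) := by
  have hle := HB_le_range (p := p) V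
  have hsolvR : Cfsg.IsPSolvable p ↥(Th V).range :=
    Cfsg.Agent.Helper54.IsPSolvable.of_surjective hsep (Th V).rangeRestrict
      (Th V).rangeRestrict_surjective
  have hsolv : Cfsg.IsPSolvable p ↥(HB p V) := by
    have h1 := Cfsg.Agent.Helper69.IsPSolvable.subgroup' hsolvR ((HB p V).subgroupOf (Th V).range)
    exact Cfsg.Agent.Helper54.IsPSolvable.of_surjective h1
      (Subgroup.subgroupOfEquivOfLe hle).toMonoidHom (Subgroup.subgroupOfEquivOfLe hle).surjective
  have hcore : Cfsg.pCore p ↥(HB p V) = ⊥ := by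
    haveI : ((HB p V).subgroupOf (Th V).range).Normal :=
      (Subgroup.normal_subgroupOf_iff_le_normalizer hle).mpr (range_le_normalizer_HB V)
    have h1 := Cfsg.Agent.Helper54.pCore_map_le p ((HB p V).subgroupOf (Th V).range)
    rw [pCore_range_eq_bot V hO, le_bot_iff,
      Subgroup.map_eq_bot_iff_of_injective _ (Subgroup.subtype_injective _)] at h1
    rw [← Cfsg.Agent.Helper54.pCore_map_mulEquiv p (Subgroup.subgroupOfEquivOfLe hle), h1,
      Subgroup.map_bot]
  exact Cfsg.Agent.Helper10.centralizer_pPrimeCore_le_of_isPSolvable hsolv hcore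

theorem HB_ffs (hV : EA p V) (hsep : Cfsg.IsPSolvable p G)
    (hO : Cfsg.pCore p (G ⧸ centralizer (V : Set G)) = ⊥) :
    FFS p (VV V) (HB p V) (KK p (HB p V)) := by
  have hle := HB_le_range (p := p) V
  refine ffs_of_hyps (VV V) (HB p V) (isElementaryAbelian_of_ea (ea_VV V hV))
    (hle.trans (range_le_normalizer_VV V)) ?_ (HB_hS1 V hsep hO)
  rw [eq_bot_iff]
  have h1 := map_Th_inf_centralizer V ⊤
  rw [← MonoidHom.range_eq_map] at h1
  rw [← h1]
  exact inf_le_inf_right _ hle

end

end Cfsg.Agent.Helper1.FF
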