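import Mathlib
import Cfsg.Agent.Lib.Helper1.FFX

/-!
# KS 9.3.8: groups which are not Thompson factorizable (final assembly)
-/

set_option autoImplicit false
set_option linter.unusedSectionVars false

namespace Cfsg.Agent.Helper1.FF

open Subgroup
open scoped commutatorElement
open Cfsg.Agent.Helper1
open TvS

variable {G : Type*} [Group G] [Finite G] {p : ℕ} [hp : Fact p.Prime]

/-- the image of a maximal elementary abelian subgroup is a best offender -/
theorem bo_image_of_mem (V : Subgroup G) [V.Normal] (hV : EA p V) {A : Subgroup G}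
    (hA : A ∈ Cfsg.maxElementaryAbelianSubgroups p G) :
    Cfsg.IsBestOffenderOn p (VV V) (A.map (Th V)) :=
  bo_image V hV (ea_of_isElementaryAbelian hA.1)
    (fun B hB => hA.2 B (isElementaryAbelian_of_ea hB))

omit [Finite G] hp in
theorem thompson_conj_le (g : G) :
    (Cfsg.thompsonSubgroup p G).map (MulAut.conj g).toMonoidHom ≤ Cfsg.thompsonSubgroup p G := by
  rw [Subgroup.map_le_iff_le_comap]
  show sSup (Cfsg.maxElementaryAbelianSubgroups p G) ≤ _
  apply sSup_le
  intro A hA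
  rw [← Subgroup.map_le_iff_le_comap]
  exact Cfsg.Agent.Helper10.le_thompsonSubgroup
    (Cfsg.Agent.Helper10.map_conj_mem_maxElementaryAbelianSubgroups hA g)

omit [Finite G] hp in
theorem thompson_conj_mem {j : G} (hj : j ∈ Cfsg.thompsonSubgroup p G) (g : G) :
    g * j * g⁻¹ ∈ Cfsg.thompsonSubgroup p G := by
  apply thompson_conj_le g
  exact ⟨j, hj, by simp⟩

theorem map_thompson_le_HB (V : Subgroup G) [V.Normal] (hV : EA p V) :
    (Cfsg.thompsonSubgroup p G).map (Th V) ≤ HB p V := by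
  rw [Subgroup.map_le_iff_le_comap]
  show sSup (Cfsg.maxElementaryAbelianSubgroups p G) ≤ _
  apply sSup_le
  intro A hA
  rw [← Subgroup.map_le_iff_le_comap]
  apply le_HB V _ (bo_image_of_mem V hV hA)
  rw [MonoidHom.range_eq_map]
  exact Subgroup.map_mono le_top

omit [Finite G] in
/-- the centralizer of a union of subgroups is the centralizer of their join -/
theorem centralizer_iSup_coe {ι : Sort*} (K : ι → Subgroup G) :
    centralizer (⨆ i, (K i : Set G)) = centralizer ((⨆ i, K i : Subgroup G) : Set G) := by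
  apply le_antisymm
  · intro g hg
    have hle : (⨆ i, K i) ≤ centralizer ({g} : Set G) := by
      apply iSup_le
      intro i v hv
      rw [mem_centralizer_iff]
      intro z hz
      rw [Set.mem_singleton_iff] at hz
      rw [hz]
      have hvU : v ∈ ⨆ i, (K i : Set G) := by
        rw [Set.iSup_eq_iUnion, Set.mem_iUnion]
        exact ⟨i, hv⟩
      exact (mem_centralizer_iff.mp hg v hvU).symm
    rw [mem_centralizer_iff]
    intro v hv
    exact (mem_centralizer_iff.mp (hle hv) g rfl).symm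
  · apply Subgroup.centralizer_le
    rw [Set.iSup_eq_iUnion]
    apply Set.iUnion_subset
    intro i
    exact (le_iSup K i : K i ≤ ⨆ i, K i)

/-- KS 9.3.8 -/
theorem not_TF_structure (hsep : Cfsg.IsPSolvable p G) (hO : Cfsg.pPrimeCore p G = ⊥)
    (hnf : ¬ Cfsg.IsThompsonFactorizable p G) :
    (p = 2 ∨ p = 3) ∧ ∃ E : Subgroup G, centralizer (VZ p G : Set G) ≤ E ∧
      E ≤ Cfsg.thompsonSubgroup p G ⊔ centralizer (VZ p G : Set G) ∧
      Cfsg.thompsonSubgroup p G ⊔ centralizer (VZ p G : Set G) ≤ normalizer (E : Set G) ∧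
      ∃ _ : ((centralizer (VZ p G : Set G)).subgroupOf E).Normal,
        Nonempty ((↥E ⧸ (centralizer (VZ p G : Set G)).subgroupOf E) ≃*
          Matrix.SpecialLinearGroup (Fin 2) (ZMod p)) := by
  have hVn : (VZ p G).Normal := VZ_normal p
  have hVea : EA p (VZ p G) := ea_VZ hsep hO
  have hOq : Cfsg.pCore p (G ⧸ centralizer (VZ p G : Set G)) = ⊥ := pCore_quot_VZ
  -- a maximal elementary abelian subgroup not centralizing V
  obtain ⟨A, hA, hAC⟩ : ∃ A ∈ Cfsg.maxElementaryAbelianSubgroups p G,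
      ¬ A ≤ centralizer (VZ p G : Set G) := by
    by_contra hcon
    push Not at hcon
    exact hnf (thompsonFactorizable_of_le hcon)
  have hA'bo : Cfsg.IsBestOffenderOn p (VV (VZ p G)) (A.map (Th (VZ p G))) :=
    bo_image_of_mem _ hVea hA
  have hA'r : A.map (Th (VZ p G)) ≤ (Th (VZ p G)).range := by
    rw [MonoidHom.range_eq_map]; exact Subgroup.map_mono le_top
  have hA'H : A.map (Th (VZ p G)) ≤ HB p (VZ p G) := le_HB _ hA'r hA'bo
  have hA'1 : A.map (Th (VZ p G)) ≠ ⊥ := by
    intro h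
    apply hAC
    rw [Subgroup.map_eq_bot_iff, ker_Th] at h
    exact h
  have F := HB_ffs (VZ p G) hVea hsep hOq
  have hS3 := HB_hS3 (p := p) (VZ p G)
  obtain ⟨k, B, hB, -, hsup⟩ := F.bo_family hA'H hA'bo
  have hk : 0 < k := by
    rcases Nat.eq_zero_or_pos k with rfl | h
    · exfalso; apply hA'1; rw [← hsup]; exact iSup_of_empty B
    · exact h
  obtain ⟨hB1, hB2, hB3, hB4⟩ := hB ⟨0, hk⟩
  obtain ⟨a', c', hBz, ha'H, hT⟩ := F.min_bo_tv (hB1.trans hA'H) hB2 hB3 hB4
  have S := F.tvs ha'H hT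
  obtain ⟨x', hx'K, hy'⟩ := F.exists_y_ne_one ha'H hT
  refine ⟨S.p_eq_two_or_three hx'K hy', ?_⟩
  have hE'eq := S.zpowers_sup_eq_Es hx'K hy'
  -- `E' ≤ Θ(J)`
  have ha'A : a' ∈ A.map (Th (VZ p G)) := hB1 (hBz ▸ mem_zpowers a')
  have ha'J : a' ∈ (Cfsg.thompsonSubgroup p G).map (Th (VZ p G)) :=
    Subgroup.map_mono (Cfsg.Agent.Helper10.le_thompsonSubgroup hA) ha'A
  have hx'r : x' ∈ (Th (VZ p G)).range := HB_le_range (p := p) (VZ p G) (F.hKH hx'K)
  have hconj : x' * a' * x'⁻¹ ∈ (Cfsg.thompsonSubgroup p G).map (Th (VZ p G)) := by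
    obtain ⟨g, rfl⟩ := hx'r
    obtain ⟨j, hj, rfl⟩ := ha'J
    exact ⟨g * j * g⁻¹, thompson_conj_mem hj g, by simp⟩
  have hE'J : Es (KK p (HB p (VZ p G))) a' ≤ (Cfsg.thompsonSubgroup p G).map (Th (VZ p G)) := by
    rw [← hE'eq]
    exact sup_le (Subgroup.zpowers_le.mpr ha'J) (Subgroup.zpowers_le.mpr hconj)
  have hJN : (Cfsg.thompsonSubgroup p G).map (Th (VZ p G)) ≤
      normalizer (Es (KK p (HB p (VZ p G))) a' : Set (GamV (VZ p G))) :=
    (map_thompson_le_HB _ hVea).trans (F.H_le_normalizer_Es hS3 ha'H hT)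
  have hcm : ((Cfsg.thompsonSubgroup p G).map (Th (VZ p G))).comap (Th (VZ p G)) =
      Cfsg.thompsonSubgroup p G ⊔ centralizer (VZ p G : Set G) := by
    rw [Subgroup.comap_map_eq, ker_Th]
  have hCE : centralizer (VZ p G : Set G) ≤ (Es (KK p (HB p (VZ p G))) a').comap (Th (VZ p G)) := by
    have := (Th (VZ p G)).ker_le_comap (Es (KK p (HB p (VZ p G))) a')
    rwa [ker_Th] at this
  refine ⟨(Es (KK p (HB p (VZ p G))) a').comap (Th (VZ p G)), hCE, ?_, ?_, ?_⟩
  · rw [← hcm]
    exact Subgroup.comap_mono hE'J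
  · rw [← hcm]
    exact (Subgroup.comap_mono hJN).trans (Subgroup.le_normalizer_comap _)
  · -- the quotient
    have hsurj : Function.Surjective ((Th (VZ p G)).subgroupComap (Es (KK p (HB p (VZ p G))) a')) := by
      rintro ⟨e, he⟩
      obtain ⟨g, rfl⟩ := HB_le_range (p := p) (VZ p G) (F.Es_le_H ha'H he)
      exact ⟨⟨g, he⟩, rfl⟩
    have hker : ((Th (VZ p G)).subgroupComap (Es (KK p (HB p (VZ p G))) a')).ker =
        (centralizer (VZ p G : Set G)).subgroupOf
          ((Es (KK p (HB p (VZ p G))) a').comap (Th (VZ p G))) := by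
      ext ⟨g, hg⟩
      rw [MonoidHom.mem_ker, Subgroup.mem_subgroupOf]
      have hk : g ∈ centralizer (VZ p G : Set G) ↔ (Th (VZ p G)) g = 1 := by
        rw [← MonoidHom.mem_ker, ker_Th]
      show _ ↔ g ∈ centralizer (VZ p G : Set G)
      rw [hk]
      constructor
      · intro h
        exact congrArg Subtype.val h
      · intro h
        exact Subtype.ext h
    have hn : ((centralizer (VZ p G : Set G)).subgroupOf
        ((Es (KK p (HB p (VZ p G))) a').comap (Th (VZ p G)))).Normal := by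
      rw [← hker]
      infer_instance
    refine ⟨hn, ?_⟩
    obtain ⟨φ, -⟩ := S.Es_iso hx'K hy'
    exact ⟨((QuotientGroup.quotientMulEquivOfEq hker).symm.trans
      (QuotientGroup.quotientKerEquivOfSurjective _ hsurj)).trans φ⟩

end Cfsg.Agent.Helper1.FF
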