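import Mathlib

/-!
# Norms of commuting conjugates, and a fixed point count

Generic lemmas for the coprime-operator versions of Glauberman's failure-of-factorization
theorems (KS 9.3.10).
-/

set_option autoImplicit false
set_option linter.unusedSectionVars false

namespace Cfsg.Agent.Helper1.FG

open Subgroup

section noncomm

variable {α β : Type*} [Monoid β]

theorem noncommProd_univ_equiv [Fintype α] (σ : α ≃ α) (f : α → β)
    (comm : ((Finset.univ : Finset α) : Set α).Pairwise (Function.onFun Commute f))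
    (comm' : ((Finset.univ : Finset α) : Set α).Pairwise
      (Function.onFun Commute (fun i => f (σ i)))) :
    (Finset.univ : Finset α).noncommProd (fun i => f (σ i)) comm' =
      (Finset.univ : Finset α).noncommProd f comm := by
  unfold Finset.noncommProd
  congr 1
  have : (fun i => f (σ i)) = f ∘ σ := rfl
  rw [this, ← Multiset.map_map, Multiset.map_univ_val_equiv]

theorem noncommProd_pow (s : Finset α) (f : α → β)
    (comm : (s : Set α).Pairwise (Function.onFun Commute f)) (n : ℕ)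
    (comm' : (s : Set α).Pairwise (Function.onFun Commute (fun i => f i ^ n))) :
    (s.noncommProd f comm) ^ n = s.noncommProd (fun i => f i ^ n) comm' := by
  induction n with
  | zero =>
    rw [pow_zero, Finset.noncommProd_eq_pow_card s _ _ 1 (fun _ _ => pow_zero _), one_pow]
  | succ n ih =>
    have c1 : (s : Set α).Pairwise (Function.onFun Commute (fun i => f i ^ n)) :=
      fun x hx y hy hxy => (comm hx hy hxy).pow_pow n n
    have c2 : (s : Set α).Pairwise (fun x y => Commute (f x) (f y ^ n)) :=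
      fun x hx y hy hxy => (comm hx hy hxy).pow_right n
    have key := Finset.noncommProd_mul_distrib (s := s) (fun i => f i ^ n) f c1 comm c2
    rw [pow_succ, ih c1, ← key]
    apply Finset.noncommProd_congr rfl
    intro x _
    simp [pow_succ]

end noncomm

section nrm

variable {G : Type*} [Group G]

/-- the `Y`-conjugates of `t` commute pairwise -/
def CommConj (Y : Subgroup G) (t : G) : Prop :=
  ∀ y ∈ Y, ∀ y' ∈ Y, Commute (y * t * y⁻¹) (y' * t * y'⁻¹)

variable {Y : Subgroup G} [Fintype Y] {t : G}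

theorem CommConj.pairwise {Y : Subgroup G} {t : G} (h : CommConj Y t) (s : Finset ↥Y) :
    (s : Set ↥Y).Pairwise (Function.onFun Commute (fun y : ↥Y => (y : G) * t * (y : G)⁻¹)) :=
  fun y _ y' _ _ => h y y.2 y' y'.2

/-- the product of all `Y`-conjugates of `t` (with multiplicities) -/
noncomputable def nrm (Y : Subgroup G) [Fintype Y] (t : G) (h : CommConj Y t) : G :=
  (Finset.univ : Finset ↥Y).noncommProd (fun y => (y : G) * t * (y : G)⁻¹)
    (h.pairwise Finset.univ)

theorem nrm_mem (h : CommConj Y t) (T : Subgroup G) (hT : ∀ y ∈ Y, y * t * y⁻¹ ∈ T) :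
    nrm Y t h ∈ T :=
  Subgroup.noncommProd_mem T _ (fun y _ => hT y y.2)

/-- conjugation by an element commuting with `Y` -/
theorem conj_nrm (h : CommConj Y t) (g : G) (hg : ∀ y ∈ Y, g * y = y * g)
    (h' : CommConj Y (g * t * g⁻¹)) :
    g * nrm Y t h * g⁻¹ = nrm Y (g * t * g⁻¹) h' := by
  unfold nrm
  have e := Finset.map_noncommProd (Finset.univ : Finset ↥Y)
    (fun y : ↥Y => (y : G) * t * (y : G)⁻¹) (h.pairwise Finset.univ)
    (MulAut.conj g)
  simp only [MulAut.conj_apply] at e
  rw [e]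
  apply Finset.noncommProd_congr rfl
  intro y _
  have h1 := hg y y.2
  have h2 : g⁻¹ * (y : G)⁻¹ = (y : G)⁻¹ * g⁻¹ := by
    rw [← mul_inv_rev, ← mul_inv_rev, h1]
  calc g * ((y : G) * t * (y : G)⁻¹) * g⁻¹ = (g * y) * t * ((y : G)⁻¹ * g⁻¹) := by group
    _ = (y * g) * t * (g⁻¹ * (y : G)⁻¹) := by rw [h1, h2]
    _ = _ := by group

/-- the norm is fixed by `Y` -/
theorem conj_nrm_of_mem (h : CommConj Y t) {z : G} (hz : z ∈ Y) :
    z * nrm Y t h * z⁻¹ = nrm Y t h := by
  unfold nrm
  have e := Finset.map_noncommProd (Finset.univ : Finset ↥Y)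
    (fun y : ↥Y => (y : G) * t * (y : G)⁻¹) (h.pairwise Finset.univ)
    (MulAut.conj z)
  simp only [MulAut.conj_apply] at e
  rw [e]
  have c' : ((Finset.univ : Finset ↥Y) : Set ↥Y).Pairwise (Function.onFun Commute
      (fun i : ↥Y => (fun y : ↥Y => (y : G) * t * (y : G)⁻¹) (Equiv.mulLeft (⟨z, hz⟩ : ↥Y) i))) :=
    fun y _ y' _ _ => h _ (Equiv.mulLeft (⟨z, hz⟩ : ↥Y) y).2 _ (Equiv.mulLeft (⟨z, hz⟩ : ↥Y) y').2
  rw [← noncommProd_univ_equiv (Equiv.mulLeft (⟨z, hz⟩ : ↥Y))
    (fun y : ↥Y => (y : G) * t * (y : G)⁻¹) (h.pairwise Finset.univ) c']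
  apply Finset.noncommProd_congr rfl
  intro y _
  simp only [Equiv.coe_mulLeft, Subgroup.coe_mul]
  group

theorem nrm_mem_centralizer (h : CommConj Y t) : nrm Y t h ∈ centralizer (Y : Set G) := by
  rw [mem_centralizer_iff]
  intro z hz
  have := conj_nrm_of_mem h hz
  calc z * nrm Y t h = (z * nrm Y t h * z⁻¹) * z := by group
    _ = nrm Y t h * z := by rw [this]

theorem nrm_pow (h : CommConj Y t) (n : ℕ) (h' : CommConj Y (t ^ n)) :
    nrm Y t h ^ n = nrm Y (t ^ n) h' := by
  unfold nrm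
  have c' : ((Finset.univ : Finset ↥Y) : Set ↥Y).Pairwise (Function.onFun Commute
      (fun i : ↥Y => ((i : G) * t * (i : G)⁻¹) ^ n)) :=
    fun y _ y' _ _ => (h y y.2 y' y'.2).pow_pow n n
  rw [noncommProd_pow _ _ _ n c']
  apply Finset.noncommProd_congr rfl
  intro y _
  rw [conj_pow]

theorem nrm_one (h : CommConj Y (1 : G)) : nrm Y 1 h = 1 := by
  unfold nrm
  rw [Finset.noncommProd_eq_pow_card _ _ _ 1 (fun y _ => by group), one_pow]

theorem commConj_one : CommConj Y (1 : G) := by
  intro y _ y' _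
  simp

theorem nrm_pow_eq_one (h : CommConj Y t) {n : ℕ} (ht : t ^ n = 1) : nrm Y t h ^ n = 1 := by
  have h' : CommConj Y (t ^ n) := by rw [ht]; exact commConj_one
  rw [nrm_pow h n h']
  have : ∀ (s : G) (hs : CommConj Y s), s = 1 → nrm Y s hs = 1 := by
    intro s hs e
    subst e
    exact nrm_one hs
  exact this _ h' ht

/-- multiplicativity -/
theorem nrm_mul {s : G} (ht : CommConj Y t) (hs : CommConj Y s) (hts : CommConj Y (t * s))
    (hcomm : ∀ y ∈ Y, ∀ y' ∈ Y, Commute (y * s * y⁻¹) (y' * t * y'⁻¹)) :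
    nrm Y (t * s) hts = nrm Y t ht * nrm Y s hs := by
  unfold nrm
  have key := Finset.noncommProd_mul_distrib (s := (Finset.univ : Finset ↥Y))
    (fun y : ↥Y => (y : G) * t * (y : G)⁻¹) (fun y : ↥Y => (y : G) * s * (y : G)⁻¹)
    (ht.pairwise Finset.univ) (hs.pairwise Finset.univ)
    (fun y _ y' _ _ => hcomm y y.2 y' y'.2)
  rw [← key]
  apply Finset.noncommProd_congr rfl
  intro y _
  simp only [Pi.mul_apply]
  group

/-- splitting off the stabilizer part -/
theorem nrm_split (h : CommConj Y t) (St B : Subgroup G)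
    (hSt : ∀ y ∈ Y, y ∈ St → y * t * y⁻¹ = t) (hB : ∀ y ∈ Y, y ∉ St → y * t * y⁻¹ ∈ B) :
    ∃ b ∈ B, nrm Y t h = t ^ Nat.card ↥(St.subgroupOf Y) * b := by
  classical
  unfold nrm
  have hu : (Finset.univ : Finset ↥Y) =
      Finset.univ.filter (fun y : ↥Y => (y : G) ∈ St) ∪
        Finset.univ.filter (fun y : ↥Y => ¬ (y : G) ∈ St) :=
    (Finset.filter_union_filter_not_eq _ _).symm
  have hd : Disjoint (Finset.univ.filter (fun y : ↥Y => (y : G) ∈ St))
      (Finset.univ.filter (fun y : ↥Y => ¬ (y : G) ∈ St)) :=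
    Finset.disjoint_filter_filter_not _ _ _
  have e1 : (Finset.univ : Finset ↥Y).noncommProd (fun y : ↥Y => (y : G) * t * (y : G)⁻¹)
      (h.pairwise Finset.univ) =
      (Finset.univ.filter (fun y : ↥Y => (y : G) ∈ St) ∪
        Finset.univ.filter (fun y : ↥Y => ¬ (y : G) ∈ St)).noncommProd
        (fun y : ↥Y => (y : G) * t * (y : G)⁻¹) (h.pairwise _) :=
    Finset.noncommProd_congr hu (fun _ _ => rfl) _
  rw [e1, Finset.noncommProd_union_of_disjoint hd]
  refine ⟨(Finset.univ.filter (fun y : ↥Y => ¬ (y : G) ∈ St)).noncommProd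
    (fun y : ↥Y => (y : G) * t * (y : G)⁻¹) (h.pairwise _), ?_, ?_⟩
  · apply Subgroup.noncommProd_mem
    intro y hy
    exact hB y y.2 (Finset.mem_filter.mp hy).2
  · congr 1
    rw [Finset.noncommProd_eq_pow_card _ _ _ t]
    · congr 1
      rw [Nat.card_eq_fintype_card, Fintype.card_subtype]
      rfl
    · intro y hy
      exact hSt y y.2 (Finset.mem_filter.mp hy).2

end nrm

section fixed

variable {G : Type*} [Group G]

/-- a `q`-element normalizing a group of order `p²` centralizes it, if `q ∤ p (p² - 1)` -/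
theorem centralizes_of_card_sq [Finite G] {p q : ℕ} [hp : Fact p.Prime] [hq : Fact q.Prime]
    {N : Subgroup G} (hN : Nat.card N = p ^ 2) {y : G} (hy : y ∈ normalizer (N : Set G))
    {k : ℕ} (hyq : y ^ q ^ k = 1) (hqp : ¬ q ∣ p * (p ^ 2 - 1)) :
    ∀ w ∈ N, y * w * y⁻¹ = w := by
  classical
  have hcm : ∀ {w : G}, w ∈ N → y * w * y⁻¹ ∈ N := fun {w} hw => (mem_normalizer_iff.mp hy w).mp hw
  haveI := Fintype.ofFinite ↥N
  let f : Function.End ↥N := fun w => ⟨y * w * y⁻¹, hcm w.2⟩
  have hpow : ∀ (m : ℕ) (w : ↥N), (((f ^ m) w : ↥N) : G) = y ^ m * w * (y ^ m)⁻¹ := by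
    intro m
    induction m with
    | zero => intro w; rw [pow_zero, pow_zero]; show ((w : ↥N) : G) = _; group
    | succ m ih =>
      intro w
      rw [pow_succ]
      show (((f ^ m) (f w) : ↥N) : G) = _
      rw [ih (f w)]
      show y ^ m * (y * w * y⁻¹) * (y ^ m)⁻¹ = _
      rw [pow_succ]; group
  have hf : f ^ q ^ k = 1 := by
    funext w
    apply Subtype.ext
    rw [hpow, hyq]
    show _ = ((w : ↥N) : G)
    group
  have hmod := Equiv.Perm.card_fixedPoints_modEq (p := q) (n := k) hf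
  -- the fixed points form a subgroup
  let Fx : Subgroup ↥N :=
    { carrier := {w | y * (w : G) * y⁻¹ = w}
      mul_mem' := by
        intro a b ha hb
        change y * (a : G) * y⁻¹ = a at ha
        change y * (b : G) * y⁻¹ = b at hb
        show y * ((a * b : ↥N) : G) * y⁻¹ = ((a * b : ↥N) : G)
        rw [Subgroup.coe_mul]
        calc y * ((a : G) * b) * y⁻¹ = (y * a * y⁻¹) * (y * b * y⁻¹) := by group
          _ = a * b := by rw [ha, hb]
      one_mem' := by simp
      inv_mem' := by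
        intro a ha
        change y * (a : G) * y⁻¹ = a at ha
        show y * ((a⁻¹ : ↥N) : G) * y⁻¹ = ((a⁻¹ : ↥N) : G)
        rw [Subgroup.coe_inv]
        calc y * (a : G)⁻¹ * y⁻¹ = (y * a * y⁻¹)⁻¹ := by group
          _ = (a : G)⁻¹ := by rw [ha] }
  have hFxcard : Fintype.card (Function.fixedPoints f) = Nat.card Fx := by
    rw [← Nat.card_eq_fintype_card]
    apply Nat.card_congr
    refine Equiv.subtypeEquivRight ?_
    intro w
    show f w = w ↔ y * (w : G) * y⁻¹ = w
    constructor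
    · intro h; exact congrArg Subtype.val h
    · intro h; exact Subtype.ext h
  rw [hFxcard, ← Nat.card_eq_fintype_card, hN] at hmod
  have hdvd : Nat.card Fx ∣ p ^ 2 := hN ▸ Subgroup.card_subgroup_dvd_card Fx
  obtain ⟨m, hm, hcard⟩ := (Nat.dvd_prime_pow hp.out).mp hdvd
  have hp1 : 1 ≤ p := hp.out.one_lt.le
  have hp2 : p ≤ p ^ 2 := by nlinarith
  have h1p2 : 1 ≤ p ^ 2 := Nat.one_le_pow _ _ hp.out.pos
  have hm2 : m = 2 := by
    interval_cases m
    · exfalso
      rw [hcard, pow_zero] at hmod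
      have := (Nat.modEq_iff_dvd' h1p2).mp hmod.symm
      exact hqp (Dvd.dvd.mul_left this p)
    · exfalso
      rw [hcard, pow_one] at hmod
      have h3 := (Nat.modEq_iff_dvd' hp2).mp hmod.symm
      apply hqp
      have e : p * (p ^ 2 - 1) = (p ^ 2 - p) * (p + 1) := by
        obtain ⟨r, rfl⟩ : ∃ r, p = r + 1 := ⟨p - 1, by omega⟩
        have e1 : (r + 1) ^ 2 - 1 = r * (r + 2) := by
          have : (r + 1) ^ 2 = r * (r + 2) + 1 := by ring
          omega
        have e2 : (r + 1) ^ 2 - (r + 1) = r * (r + 1) := by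
          have : (r + 1) ^ 2 = r * (r + 1) + (r + 1) := by ring
          omega
        rw [e1, e2]; ring
      rw [e]
      exact Dvd.dvd.mul_right h3 _
    · rfl
  rw [hm2] at hcard
  have htop : Fx = ⊤ := by
    apply Subgroup.eq_top_of_card_eq
    rw [hcard, hN]
  intro w hw
  have : (⟨w, hw⟩ : ↥N) ∈ Fx := by rw [htop]; exact mem_top _
  exact this

end fixed

end Cfsg.Agent.Helper1.FG
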