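import Mathlib
import Cfsg.Agent.Lib.Helper1.FFL
import Cfsg.Agent.Lib.Helper1.FGA

/-!
# KS 9.3.10: a coprime operator group acting on the failure-of-factorization structure
(the "diagonal" `SL₂(p)`), inside one finite group.
-/

set_option autoImplicit false
set_option linter.unusedSectionVars false

namespace Cfsg.Agent.Helper1.FG

open Subgroup
open scoped commutatorElement
open Cfsg.Agent.Helper1 Cfsg.Agent.Helper1.FF
open TvS

variable {G : Type*} [Group G]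

theorem map_conj_eq_of_mem_normalizer {K : Subgroup G} {y : G} (hy : y ∈ normalizer (K : Set G)) :
    K.map (MulAut.conj y).toMonoidHom = K := by
  ext g
  constructor
  · rintro ⟨k, hk, rfl⟩
    exact conj_mem hy hk
  · intro hg
    refine ⟨y⁻¹ * g * y, conj_mem' hy hg, ?_⟩
    simp only [MulEquiv.coe_toMonoidHom, MulAut.conj_apply]
    group

theorem mem_normalizer_of_map_conj_eq {E : Subgroup G} {y : G}
    (h : E.map (MulAut.conj y).toMonoidHom = E) : y ∈ normalizer (E : Set G) := by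
  rw [mem_normalizer_iff]
  intro g
  constructor
  · intro hg
    rw [← h]
    exact ⟨g, hg, by simp⟩
  · intro hg
    rw [← h] at hg
    obtain ⟨g', hg', e⟩ := hg
    simp only [MulEquiv.coe_toMonoidHom, MulAut.conj_apply] at e
    have : g' = g := by
      calc g' = y⁻¹ * (y * g' * y⁻¹) * y := by group
        _ = y⁻¹ * (y * g * y⁻¹) * y := by rw [e]
        _ = g := by group
    rwa [← this]

theorem mem_map_conj_iff {E : Subgroup G} {y g : G} :
    g ∈ E.map (MulAut.conj y).toMonoidHom ↔ y⁻¹ * g * y ∈ E := by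
  constructor
  · rintro ⟨e, he, rfl⟩
    simp only [MulEquiv.coe_toMonoidHom, MulAut.conj_apply]
    have : y⁻¹ * (y * e * y⁻¹) * y = e := by group
    rwa [this]
  · intro h
    refine ⟨_, h, ?_⟩
    simp only [MulEquiv.coe_toMonoidHom, MulAut.conj_apply]
    group

theorem card_mul_le_of_disjoint [Finite G] {A B H : Subgroup G} (hA : A ≤ H) (hB : B ≤ H)
    (h : A ⊓ B = ⊥) : Nat.card A * Nat.card B ≤ Nat.card H := by
  rw [← Nat.card_prod]
  apply Nat.card_le_card_of_injective (fun x : ↥A × ↥B => (⟨(x.1 : G) * x.2, H.mul_mem (hA x.1.2) (hB x.2.2)⟩ : ↥H))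
  rintro ⟨a, b⟩ ⟨a', b'⟩ e
  have e' : (a : G) * b = a' * b' := congrArg Subtype.val e
  have h1 : (a' : G)⁻¹ * a = b' * (b : G)⁻¹ := by
    calc (a' : G)⁻¹ * a = (a' : G)⁻¹ * (a * b) * (b : G)⁻¹ := by group
      _ = (a' : G)⁻¹ * (a' * b') * (b : G)⁻¹ := by rw [e']
      _ = b' * (b : G)⁻¹ := by group
  have h2 : (a' : G)⁻¹ * a ∈ A ⊓ B := by
    refine mem_inf.mpr ⟨A.mul_mem (A.inv_mem a'.2) a.2, ?_⟩
    rw [h1]
    exact B.mul_mem b'.2 (B.inv_mem b.2)
  rw [h, mem_bot] at h2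
  have h3 : (a : G) = a' := by
    calc (a : G) = a' * ((a' : G)⁻¹ * a) := by group
      _ = a' := by rw [h2, mul_one]
  have h4 : (b : G) = b' := by
    rw [h3] at e'
    exact mul_left_cancel e'
  exact Prod.ext (Subtype.ext h3) (Subtype.ext h4)

theorem card_sup_le_mul [Finite G] {A B : Subgroup G}
    (hcomm : ∀ a ∈ A, ∀ b ∈ B, a * b = b * a) :
    Nat.card ↥(A ⊔ B) ≤ Nat.card A * Nat.card B := by
  rw [← Nat.card_prod]
  apply Nat.card_le_card_of_surjective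
    (fun x : ↥A × ↥B => (⟨(x.1 : G) * x.2,
      (A ⊔ B).mul_mem (mem_sup_left x.1.2) (mem_sup_right x.2.2)⟩ : ↥(A ⊔ B)))
  rintro ⟨g, hg⟩
  obtain ⟨a, ha, b, hb, rfl⟩ := mem_sup_comm hcomm hg
  exact ⟨⟨⟨a, ha⟩, ⟨b, hb⟩⟩, rfl⟩

theorem mem_of_pow_coprime {T : Subgroup G} {g : G} {p m : ℕ} (hp : 1 < p) (hg : g ^ p = 1)
    (hm : m.Coprime p) (h : g ^ m ∈ T) : g ∈ T := by
  obtain ⟨u, -, hu⟩ := Nat.exists_mul_mod_eq_one_of_coprime hm hp
  have h1 : g ^ (m * u) = g := by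
    rw [← Nat.mod_add_div (m * u) p, hu, pow_add, pow_mul, hg, one_pow, mul_one, pow_one]
  rw [← h1, pow_mul]
  exact T.pow_mem h u

variable {p : ℕ} {V H K : Subgroup G}

theorem isTv_conj {a c : G} (hT : IsTv p V a c) {y : G} (hy : y ∈ normalizer (V : Set G)) :
    IsTv p V (y * a * y⁻¹) (y * c * y⁻¹) := by
  have hyi : y⁻¹ ∈ normalizer (V : Set G) := Subgroup.inv_mem _ hy
  refine ⟨?_, ?_, conj_mem hy hT.hc, ?_, ?_, ?_⟩
  · exact Subgroup.mul_mem _ (Subgroup.mul_mem _ hy hT.hN) hyi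
  · rw [conj_pow, hT.hp]; group
  · intro v hv
    have hv' : y⁻¹ * v * y ∈ V := conj_mem' hy hv
    obtain ⟨n, hn⟩ := mem_zpowers_iff.mp (hT.him _ hv')
    rw [mem_zpowers_iff]
    refine ⟨n, ?_⟩
    rw [conj_zpow, hn]
    simp only [commutatorElement_def]
    group
  · have := hT.hac
    calc y * a * y⁻¹ * (y * c * y⁻¹) = y * (a * c) * y⁻¹ := by group
      _ = y * (c * a) * y⁻¹ := by rw [this]
      _ = _ := by group
  · obtain ⟨v, hv, hne⟩ := hT.hne
    refine ⟨y * v * y⁻¹, conj_mem hy hv, ?_⟩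
    intro h
    apply hne
    have e : ⁅y * a * y⁻¹, y * v * y⁻¹⁆ = y * ⁅a, v⁆ * y⁻¹ := by
      simp only [commutatorElement_def]; group
    rw [e] at h
    calc ⁅a, v⁆ = y⁻¹ * (y * ⁅a, v⁆ * y⁻¹) * y := by group
      _ = 1 := by rw [h]; group

theorem Es_conj {a y : G} (hy : y ∈ normalizer (K : Set G)) :
    Es K (y * a * y⁻¹) = (Es K a).map (MulAut.conj y).toMonoidHom := by
  unfold Es Qs
  rw [Subgroup.map_sup, Subgroup.map_commutator, map_conj_eq_of_mem_normalizer hy,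
    MonoidHom.map_zpowers]
  simp only [MulEquiv.coe_toMonoidHom, MulAut.conj_apply]

section main

variable [Finite G] [hp : Fact p.Prime] (F : FFS p V H K)

include F

theorem ctr_conj {a c y : G} (haH : a ∈ H) (hT : IsTv p V a c)
    (hyV : y ∈ normalizer (V : Set G)) (hyH : y ∈ normalizer (H : Set G))
    (hyK : y ∈ normalizer (K : Set G)) :
    ctr K (y * c * y⁻¹) = (ctr K c).map (MulAut.conj y).toMonoidHom := by
  have haH' : y * a * y⁻¹ ∈ H := conj_mem hyH haH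
  have hT' := isTv_conj hT hyV
  have S := F.tvs haH hT
  have S' := F.tvs haH' hT'
  obtain ⟨x, hx, hy⟩ := F.exists_y_ne_one haH hT
  obtain ⟨x', hx', hy'⟩ := F.exists_y_ne_one haH' hT'
  rw [← S'.commutator_V_Es hx' hy', ← S.commutator_V_Es hx hy, Es_conj hyK,
    Subgroup.map_commutator, map_conj_eq_of_mem_normalizer hyV]

/-- an element of `q`-power order stabilizing `E` centralizes the plane `[V, E]` -/
theorem stab_centralizes_ctr {q : ℕ} [Fact q.Prime] {a c y : G} (haH : a ∈ H) (hT : IsTv p V a c)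
    (hyV : y ∈ normalizer (V : Set G)) (hyH : y ∈ normalizer (H : Set G))
    (hyK : y ∈ normalizer (K : Set G)) {k : ℕ} (hyq : y ^ q ^ k = 1)
    (hq : ¬ q ∣ p * (p ^ 2 - 1)) (hE : Es K (y * a * y⁻¹) = Es K a) :
    ∀ w ∈ ctr K c, y * w * y⁻¹ = w := by
  have haH' : y * a * y⁻¹ ∈ H := conj_mem hyH haH
  have hT' := isTv_conj hT hyV
  have S := F.tvs haH hT
  have S' := F.tvs haH' hT'
  obtain ⟨x, hx, hy⟩ := F.exists_y_ne_one haH hT
  obtain ⟨x', hx', hy'⟩ := F.exists_y_ne_one haH' hT'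
  have h1 : (ctr K c).map (MulAut.conj y).toMonoidHom = ctr K c := by
    rw [← ctr_conj F haH hT hyV hyH hyK, ← S'.commutator_V_Es hx' hy', hE,
      S.commutator_V_Es hx hy]
  exact centralizes_of_card_sq (S.card_ctr hx hy) (mem_normalizer_of_map_conj_eq h1) hyq hq

/-- an element of `q`-power order stabilizing `E` centralizes `E` -/
theorem stab_centralizes {q : ℕ} [Fact q.Prime] {a c y : G} (haH : a ∈ H) (hT : IsTv p V a c)
    (hyV : y ∈ normalizer (V : Set G)) (hyH : y ∈ normalizer (H : Set G))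
    (hyK : y ∈ normalizer (K : Set G)) {k : ℕ} (hyq : y ^ q ^ k = 1)
    (hq : ¬ q ∣ p * (p ^ 2 - 1)) (hE : Es K (y * a * y⁻¹) = Es K a) :
    ∀ e ∈ Es K a, y * e * y⁻¹ = e := by
  have S := F.tvs haH hT
  obtain ⟨x, hx, hy⟩ := F.exists_y_ne_one haH hT
  have hc := stab_centralizes_ctr F haH hT hyV hyH hyK hyq hq hE
  intro e he
  have he1 : y * e * y⁻¹ ∈ Es K a := by
    rw [← hE, Es_conj hyK]
    exact ⟨e, he, by simp⟩
  have he' : y * e * y⁻¹ * e⁻¹ ∈ Es K a := Subgroup.mul_mem _ he1 (Subgroup.inv_mem _ he)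
  have key : y * e * y⁻¹ * e⁻¹ = 1 := by
    apply S.Es_faithful hx hy he'
    intro u hu
    have hu' : e⁻¹ * u * e ∈ ctr K c := conj_mem' (S.Es_le_normalizer_ctr he) hu
    have h1 := hc _ hu'
    have h2 := hc _ hu
    have h3 : y⁻¹ * (e⁻¹ * u * e) * y = e⁻¹ * u * e := by
      calc y⁻¹ * (e⁻¹ * u * e) * y = y⁻¹ * (y * (e⁻¹ * u * e) * y⁻¹) * y := by rw [h1]
        _ = e⁻¹ * u * e := by group
    calc y * e * y⁻¹ * e⁻¹ * u = y * e * (y⁻¹ * (e⁻¹ * u * e) * y) * e⁻¹ * y⁻¹ * (y * e * y⁻¹ * e⁻¹) := by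
          group
      _ = y * e * (e⁻¹ * u * e) * e⁻¹ * y⁻¹ * (y * e * y⁻¹ * e⁻¹) := by rw [h3]
      _ = (y * u * y⁻¹) * (y * e * y⁻¹ * e⁻¹) := by group
      _ = u * (y * e * y⁻¹ * e⁻¹) := by rw [h2]
  calc y * e * y⁻¹ = (y * e * y⁻¹ * e⁻¹) * e := by group
    _ = e := by rw [key, one_mul]

end main

section withY

variable [Finite G] [hp : Fact p.Prime] (F : FFS p V H K)
  {q : ℕ} [hq : Fact q.Prime] (Y : Subgroup G) [Fintype Y]
  (hYV : Y ≤ normalizer (V : Set G)) (hYH : Y ≤ normalizer (H : Set G))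
  (hYK : Y ≤ normalizer (K : Set G)) (hYq : IsPGroup q Y) (hqp : ¬ q ∣ p * (p ^ 2 - 1))

include F hYV hYH hYK hYq hqp

theorem commConj_tv {a c : G} (haH : a ∈ H) (hT : IsTv p V a c) : CommConj Y a := by
  intro y hy y' hy'
  have haH₁ : y * a * y⁻¹ ∈ H := conj_mem (hYH hy) haH
  have hT₁ := isTv_conj hT (hYV hy)
  have haH₂ : y' * a * y'⁻¹ ∈ H := conj_mem (hYH hy') haH
  have hT₂ := isTv_conj hT (hYV hy')
  rcases F.Es_eq_or_commute haH₁ hT₁ haH₂ hT₂ with h | ⟨h, -⟩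
  · have hz : y⁻¹ * y' ∈ Y := Y.mul_mem (Y.inv_mem hy) hy'
    have hE : Es K ((y⁻¹ * y') * a * (y⁻¹ * y')⁻¹) = Es K a := by
      rw [Es_conj (hYK hz)]
      rw [Es_conj (hYK hy), Es_conj (hYK hy')] at h
      ext g
      rw [mem_map_conj_iff]
      have e1 : (y⁻¹ * y')⁻¹ * g * (y⁻¹ * y') = y'⁻¹ * (y * g * y⁻¹) * y' := by group
      rw [e1, ← mem_map_conj_iff, h, mem_map_conj_iff]
      have e2 : y⁻¹ * (y * g * y⁻¹) * y = g := by group
      rw [e2]
    obtain ⟨k, hk⟩ := hYq ⟨y⁻¹ * y', hz⟩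
    have hk' : (y⁻¹ * y') ^ q ^ k = 1 := by
      have := congrArg Subtype.val hk
      simpa using this
    have h1 := stab_centralizes F haH hT (hYV hz) (hYH hz) (hYK hz) hk' hqp hE a a_mem_Es
    have h2 : y' * a * y'⁻¹ = y * a * y⁻¹ := by
      calc y' * a * y'⁻¹ = y * ((y⁻¹ * y') * a * (y⁻¹ * y')⁻¹) * y⁻¹ := by group
        _ = y * a * y⁻¹ := by rw [h1]
    rw [h2]
  · exact h _ a_mem_Es _ a_mem_Es

omit hYH hYK hYq hqp in
theorem commConj_of_mem_V {w : G} (hw : w ∈ V) : CommConj Y w := by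
  intro y hy y' hy'
  exact F.hV.comm _ (conj_mem (hYV hy) hw) _ (conj_mem (hYV hy') hw)

omit F hYV hYH hYK in
theorem card_stab_coprime (St : Subgroup G) : (Nat.card ↥(St.subgroupOf Y)).Coprime p := by
  have hne : q ≠ p := by
    rintro rfl
    exact hqp (Dvd.intro _ rfl)
  obtain ⟨k, hk⟩ := IsPGroup.exists_card_eq hYq
  have hd : Nat.card ↥(St.subgroupOf Y) ∣ q ^ k := hk ▸ Subgroup.card_subgroup_dvd_card _
  obtain ⟨m, -, hm⟩ := (Nat.dvd_prime_pow hq.out).mp hd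
  rw [hm]
  exact Nat.Coprime.pow_left _ ((Nat.coprime_primes hq.out hp.out).mpr hne)

theorem Es_conj_eq_of_mem_normalizer {a y : G} (hy : y ∈ Y)
    (hyE : y ∈ normalizer (Es K a : Set G)) : Es K (y * a * y⁻¹) = Es K a := by
  rw [Es_conj (hYK hy), map_conj_eq_of_mem_normalizer hyE]

theorem Es_conj_ne_of_not_mem_normalizer {a y : G} (hy : y ∈ Y)
    (hyE : y ∉ normalizer (Es K a : Set G)) : Es K (y * a * y⁻¹) ≠ Es K a := by
  intro h
  apply hyE
  rw [Es_conj (hYK hy)] at h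
  exact mem_normalizer_of_map_conj_eq h

theorem nrm_tv_split {a c : G} (haH : a ∈ H) (hT : IsTv p V a c) :
    ∃ m : ℕ, m.Coprime p ∧ ∃ b ∈ H ⊓ centralizer (ctr K c : Set G),
      nrm Y a (commConj_tv F Y hYV hYH hYK hYq hqp haH hT) = a ^ m * b := by
  have S := F.tvs haH hT
  obtain ⟨x, hx, hxy⟩ := F.exists_y_ne_one haH hT
  have h1 : ∀ y ∈ Y, y ∈ normalizer (Es K a : Set G) → y * a * y⁻¹ = a := by
    intro y hy hyE
    obtain ⟨k, hk⟩ := hYq ⟨y, hy⟩
    have hk' : y ^ q ^ k = 1 := by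
      have := congrArg Subtype.val hk
      simpa using this
    exact stab_centralizes F haH hT (hYV hy) (hYH hy) (hYK hy) hk' hqp
      (Es_conj_eq_of_mem_normalizer F Y hYV hYH hYK hYq hqp hy hyE) a a_mem_Es
  have h2 : ∀ y ∈ Y, y ∉ normalizer (Es K a : Set G) →
      y * a * y⁻¹ ∈ H ⊓ centralizer (ctr K c : Set G) := by
    intro y hy hyE
    have haH' : y * a * y⁻¹ ∈ H := conj_mem (hYH hy) haH
    have hT' := isTv_conj hT (hYV hy)
    have hne := Es_conj_ne_of_not_mem_normalizer F Y hYV hYH hYK hYq hqp hy hyE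
    obtain ⟨h1, -⟩ := F.pair_props haH hT haH' hT' hne
    rw [S.commutator_V_Es hx hxy] at h1
    exact mem_inf.mpr ⟨haH', h1 a_mem_Es⟩
  obtain ⟨b, hb, e⟩ := nrm_split (commConj_tv F Y hYV hYH hYK hYq hqp haH hT)
    (normalizer (Es K a : Set G)) (H ⊓ centralizer (ctr K c : Set G)) h1 h2
  exact ⟨_, card_stab_coprime Y hYq hqp _, b, hb, e⟩

theorem nrm_ctr_split {a c : G} (haH : a ∈ H) (hT : IsTv p V a c) {w : G} (hw : w ∈ ctr K c) :
    ∃ m : ℕ, m.Coprime p ∧ ∃ b ∈ V ⊓ centralizer (Es K a : Set G),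
      nrm Y w (commConj_of_mem_V F Y hYV ((F.tvs haH hT).ctr_le hw)) = w ^ m * b := by
  have S := F.tvs haH hT
  obtain ⟨x, hx, hy⟩ := F.exists_y_ne_one haH hT
  have h1 : ∀ y ∈ Y, y ∈ normalizer (Es K a : Set G) → y * w * y⁻¹ = w := by
    intro y hy hyE
    obtain ⟨k, hk⟩ := hYq ⟨y, hy⟩
    have hk' : y ^ q ^ k = 1 := by
      have := congrArg Subtype.val hk
      simpa using this
    exact stab_centralizes_ctr F haH hT (hYV hy) (hYH hy) (hYK hy) hk' hqp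
      (Es_conj_eq_of_mem_normalizer F Y hYV hYH hYK hYq hqp hy hyE) w hw
  have h2 : ∀ y ∈ Y, y ∉ normalizer (Es K a : Set G) →
      y * w * y⁻¹ ∈ V ⊓ centralizer (Es K a : Set G) := by
    intro y hy hyE
    have haH' : y * a * y⁻¹ ∈ H := conj_mem (hYH hy) haH
    have hT' := isTv_conj hT (hYV hy)
    have S' := F.tvs haH' hT'
    obtain ⟨x', hx', hy'⟩ := F.exists_y_ne_one haH' hT'
    have hne := Es_conj_ne_of_not_mem_normalizer F Y hYV hYH hYK hYq hqp hy hyE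
    obtain ⟨-, h2⟩ := F.pair_props haH hT haH' hT' hne
    apply h2
    rw [S'.commutator_V_Es hx' hy', ctr_conj F haH hT (hYV hy) (hYH hy) (hYK hy)]
    exact ⟨w, hw, by simp⟩
  obtain ⟨b, hb, e⟩ := nrm_split (commConj_of_mem_V F Y hYV (S.ctr_le hw))
    (normalizer (Es K a : Set G)) (V ⊓ centralizer (Es K a : Set G)) h1 h2
  exact ⟨_, card_stab_coprime Y hYq hqp _, b, hb, e⟩

/-- **The diagonal `SL₂(p)`** (KS 9.3.10, inside one group). -/
theorem diag_sl2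
    (hS3 : H = ⨆ A : {A : Subgroup G // A ≤ H ∧ Cfsg.IsBestOffenderOn p V A}, (A : Subgroup G))
    {a c : G} (haH : a ∈ H) (hT : IsTv p V a c) :
    ∃ W D : Subgroup G, W ≤ V ⊓ centralizer (Y : Set G) ∧ D ≤ H ⊓ centralizer (Y : Set G) ∧
      EA p W ∧ Nat.card W = p ^ 2 ∧ D ≤ normalizer (W : Set G) ∧
      (∀ g ∈ D, (∀ w ∈ W, g * w = w * g) → g = 1) ∧
      Nonempty (↥D ≃* Matrix.SpecialLinearGroup (Fin 2) (ZMod p)) ∧
      Es K a ≤ D ⊔ (H ⊓ centralizer (ctr K c : Set G)) := by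
  have S := F.tvs haH hT
  obtain ⟨x, hx, hxy⟩ := F.exists_y_ne_one haH hT
  have hN₁V : ctr K c ≤ V := S.ctr_le
  have hp1 : 1 < p := hp.out.one_lt
  -- the norm map on the plane
  have hcc : ∀ w : ↥(ctr K c), CommConj Y (w : G) :=
    fun w => commConj_of_mem_V F Y hYV (hN₁V w.2)
  let nW : ↥(ctr K c) →* G := MonoidHom.mk' (fun w => nrm Y (w : G) (hcc w)) (by
    intro w w'
    exact nrm_mul (hcc w) (hcc w') (hcc (w * w'))
      (fun y hy y' hy' => F.hV.comm _ (conj_mem (hYV hy) (hN₁V w'.2)) _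
        (conj_mem (hYV hy') (hN₁V w.2))))
  have hnW : ∀ w : ↥(ctr K c), nW w = nrm Y (w : G) (hcc w) := fun _ => rfl
  have hWV : nW.range ≤ V := by
    rintro _ ⟨w, rfl⟩
    rw [hnW]
    exact nrm_mem _ V (fun y hy => conj_mem (hYV hy) (hN₁V w.2))
  have hWY : nW.range ≤ centralizer (Y : Set G) := by
    rintro _ ⟨w, rfl⟩
    rw [hnW]
    exact nrm_mem_centralizer _
  have hinj : Function.Injective nW := by
    rw [injective_iff_map_eq_one]
    intro w hw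
    obtain ⟨m, hm, b, hb, e⟩ := nrm_ctr_split F Y hYV hYH hYK hYq hqp haH hT w.2
    rw [hnW] at hw
    rw [hw] at e
    have h1 : (w : G) ^ m ∈ ctr K c ⊓ (V ⊓ centralizer (Qs K a : Set G)) := by
      refine mem_inf.mpr ⟨Subgroup.pow_mem _ w.2 m, ?_⟩
      rw [← S.fix_Es hx hxy]
      have : (w : G) ^ m = b⁻¹ := eq_inv_of_mul_eq_one_left e.symm
      rw [this]
      exact Subgroup.inv_mem _ hb
    rw [S.ctr_inf_fix hx hxy] at h1
    have h2 : (w : G) ∈ (⊥ : Subgroup G) :=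
      mem_of_pow_coprime hp1 (S.ea_ctr.exp _ w.2) hm h1
    exact Subtype.ext (mem_bot.mp h2)
  have hWcard : Nat.card nW.range = p ^ 2 := by
    rw [← S.card_ctr hx hxy]
    exact (Nat.card_congr (MonoidHom.ofInjective hinj).toEquiv).symm
  -- the group `D`
  have hPH : (⨆ y : ↥Y, Es K ((y : G) * a * (y : G)⁻¹)) ≤ H :=
    iSup_le fun y => F.Es_le_H (conj_mem (hYH y.2) haH)
  have hkey : ∀ g ∈ (⨆ y : ↥Y, Es K ((y : G) * a * (y : G)⁻¹)) ⊓ centralizer (Y : Set G),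
      ∀ w : ↥(ctr K c), ∃ w' : ↥(ctr K c), (w' : G) = g * w * g⁻¹ ∧ g * nW w * g⁻¹ = nW w' := by
    intro g hg w
    have hgH : g ∈ H := hPH (mem_inf.mp hg).1
    have hgN := F.H_le_normalizer_ctr hS3 haH hT hgH
    refine ⟨⟨g * w * g⁻¹, conj_mem hgN w.2⟩, rfl, ?_⟩
    rw [hnW, hnW]
    exact conj_nrm (hcc w) g
      (fun y hy => (mem_centralizer_iff.mp (mem_inf.mp hg).2 y hy).symm) _
  have hDW : (⨆ y : ↥Y, Es K ((y : G) * a * (y : G)⁻¹)) ⊓ centralizer (Y : Set G) ≤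
      normalizer (nW.range : Set G) := by
    intro g hg
    rw [mem_normalizer_iff]
    intro u
    constructor
    · rintro ⟨w, rfl⟩
      obtain ⟨w', -, e⟩ := hkey g hg w
      rw [e]
      exact ⟨w', rfl⟩
    · rintro ⟨w, hw⟩
      obtain ⟨w', -, e⟩ := hkey g⁻¹ (Subgroup.inv_mem _ hg) w
      rw [hw] at e
      refine ⟨w', ?_⟩
      rw [← e]
      group
  -- faithfulness
  have hcore : ∀ g ∈ (⨆ y : ↥Y, Es K ((y : G) * a * (y : G)⁻¹)) ⊓ centralizer (Y : Set G),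
      (∀ w ∈ ctr K c, g * w = w * g) → g = 1 := by
    intro g hg hcen
    have hgP := (mem_inf.mp hg).1
    have hgY := (mem_inf.mp hg).2
    have hgH : g ∈ H := hPH hgP
    apply F.hf g hgH
    obtain ⟨-, -, -, -, hVdec⟩ := F.assembly hS3
      (ι := {E : Subgroup G // ∃ a c, a ∈ H ∧ IsTv p V a c ∧ E = Es K a})
      Subtype.val Subtype.val_injective (fun i => i.2)
      (fun a c haH hT => ⟨⟨Es K a, a, c, haH, hT, rfl⟩, rfl⟩)
    have hle : V ≤ centralizer ({g} : Set G) := by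
      rw [← hVdec]
      apply sup_le
      · intro v hv
        rw [mem_centralizer_iff]
        intro z hz
        rw [Set.mem_singleton_iff] at hz
        rw [hz]
        exact mem_centralizer_iff.mp (mem_inf.mp hv).2 g hgH
      · apply iSup_le
        rintro ⟨E', a', c', haH', hT', rfl⟩
        show ⁅V, Es K a'⁆ ≤ centralizer ({g} : Set G)
        by_cases hex : ∃ y ∈ Y, Es K (y * a * y⁻¹) = Es K a'
        · obtain ⟨y, hy, hE⟩ := hex
          have haH₁ : y * a * y⁻¹ ∈ H := conj_mem (hYH hy) haH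
          have hT₁ := isTv_conj hT (hYV hy)
          have S₁ := F.tvs haH₁ hT₁
          obtain ⟨x₁, hx₁, hxy₁⟩ := F.exists_y_ne_one haH₁ hT₁
          rw [← hE, S₁.commutator_V_Es hx₁ hxy₁, ctr_conj F haH hT (hYV hy) (hYH hy) (hYK hy)]
          rintro _ ⟨w, hw, rfl⟩
          rw [mem_centralizer_iff]
          intro z hz
          rw [Set.mem_singleton_iff] at hz
          rw [hz]
          simp only [MulEquiv.coe_toMonoidHom, MulAut.conj_apply]
          have h1 := hcen w hw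
          have h2 : y * g = g * y := mem_centralizer_iff.mp hgY y hy
          have h3 : y⁻¹ * g = g * y⁻¹ := by
            calc y⁻¹ * g = y⁻¹ * (g * y) * y⁻¹ := by group
              _ = y⁻¹ * (y * g) * y⁻¹ := by rw [h2]
              _ = g * y⁻¹ := by group
          calc g * (y * w * y⁻¹) = (g * y) * w * y⁻¹ := by group
            _ = y * (g * w) * y⁻¹ := by rw [← h2]; group
            _ = y * w * (g * y⁻¹) := by rw [h1]; group
            _ = y * w * y⁻¹ * g := by rw [← h3]; group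
        · push Not at hex
          have hPc : (⨆ y : ↥Y, Es K ((y : G) * a * (y : G)⁻¹)) ≤
              centralizer ((⁅V, Es K a'⁆ : Subgroup G) : Set G) := by
            apply iSup_le
            intro y
            exact (F.pair_props haH' hT' (conj_mem (hYH y.2) haH) (isTv_conj hT (hYV y.2))
              (hex y y.2)).1
          intro u hu
          rw [mem_centralizer_iff]
          intro z hz
          rw [Set.mem_singleton_iff] at hz
          rw [hz]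
          exact (mem_centralizer_iff.mp (hPc hgP) u hu).symm
    intro v hv
    exact mem_centralizer_iff.mp (hle hv) g rfl
  have hfaith : ∀ g ∈ (⨆ y : ↥Y, Es K ((y : G) * a * (y : G)⁻¹)) ⊓ centralizer (Y : Set G),
      (∀ u ∈ nW.range, g * u = u * g) → g = 1 := by
    intro g hg h
    apply hcore g hg
    intro w hw
    obtain ⟨w', hw', e⟩ := hkey g hg ⟨w, hw⟩
    have h1 : g * nW ⟨w, hw⟩ * g⁻¹ = nW ⟨w, hw⟩ := by
      rw [h _ ⟨_, rfl⟩]; group
    rw [h1] at e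
    have h2 := hinj e
    have h3 : w = g * w * g⁻¹ := by
      rw [← hw', ← h2]
    calc g * w = (g * w * g⁻¹) * g := by group
      _ = w * g := by rw [← h3]
  -- cardinality
  have hcommEH : ∀ e ∈ Es K a, ∀ h ∈ H ⊓ centralizer (ctr K c : Set G), e * h = h * e := by
    have h1 := F.Es_comm_eq hS3 haH hT
    rw [commutator_eq_bot_iff_le_centralizer, le_centralizer_iff] at h1
    intro e he h hh
    exact mem_centralizer_iff.mp (h1 hh) e he
  have hEH₁ := F.Es_inf_eq hS3 haH hT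
  have hcardD : Nat.card ↥((⨆ y : ↥Y, Es K ((y : G) * a * (y : G)⁻¹)) ⊓ centralizer (Y : Set G)) ≤
      p * (p ^ 2 - 1) := by
    have hdisj : ((⨆ y : ↥Y, Es K ((y : G) * a * (y : G)⁻¹)) ⊓ centralizer (Y : Set G)) ⊓
        (H ⊓ centralizer (ctr K c : Set G)) = ⊥ := by
      rw [eq_bot_iff]
      intro g hg
      rw [mem_bot]
      apply hcore g (mem_inf.mp hg).1
      intro w hw
      exact (mem_centralizer_iff.mp (mem_inf.mp (mem_inf.mp hg).2).2 w hw).symm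
    have h1 := card_mul_le_of_disjoint (inf_le_left.trans hPH)
      (inf_le_left : H ⊓ centralizer (ctr K c : Set G) ≤ H) hdisj
    have h2 := card_sup_le_mul hcommEH
    rw [F.Es_sup_eq hS3 haH hT, S.card_Es_eq hx hxy] at h2
    have h3 : 0 < Nat.card ↥(H ⊓ centralizer (ctr K c : Set G)) := Nat.card_pos
    exact Nat.le_of_mul_le_mul_right (h1.trans h2) h3
  -- the two generators
  have hxH : x ∈ H := F.hKH hx
  have hb₀H : x * a * x⁻¹ ∈ H := H.mul_mem (H.mul_mem hxH haH) (H.inv_mem hxH)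
  have hT₀ : IsTv p V (x * a * x⁻¹) (x * c * x⁻¹) := isTv_conj hT (F.hHV hxH)
  have hEb : Es K (x * a * x⁻¹) = Es K a := by
    rw [Es_conj (F.hHK hxH), map_conj_eq_of_mem_normalizer (F.H_le_normalizer_Es hS3 haH hT hxH)]
  have hcb : ctr K (x * c * x⁻¹) = ctr K c := by
    have S₀ := F.tvs hb₀H hT₀
    obtain ⟨x₀, hx₀, hxy₀⟩ := F.exists_y_ne_one hb₀H hT₀
    rw [← S₀.commutator_V_Es hx₀ hxy₀, hEb, S.commutator_V_Es hx hxy]
  obtain ⟨m, hm, b, hb, ea⟩ := nrm_tv_split F Y hYV hYH hYK hYq hqp haH hT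
  obtain ⟨m', hm', b', hb', eb⟩ := nrm_tv_split F Y hYV hYH hYK hYq hqp hb₀H hT₀
  rw [hcb] at hb'
  have hnaD : nrm Y a (commConj_tv F Y hYV hYH hYK hYq hqp haH hT) ∈
      (⨆ y : ↥Y, Es K ((y : G) * a * (y : G)⁻¹)) ⊓ centralizer (Y : Set G) := by
    refine mem_inf.mpr ⟨?_, nrm_mem_centralizer _⟩
    apply nrm_mem
    intro y hy
    exact (le_iSup (fun y : ↥Y => Es K ((y : G) * a * (y : G)⁻¹)) ⟨y, hy⟩) a_mem_Es
  have hnbD : nrm Y (x * a * x⁻¹) (commConj_tv F Y hYV hYH hYK hYq hqp hb₀H hT₀) ∈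
      (⨆ y : ↥Y, Es K ((y : G) * a * (y : G)⁻¹)) ⊓ centralizer (Y : Set G) := by
    refine mem_inf.mpr ⟨?_, nrm_mem_centralizer _⟩
    apply nrm_mem
    intro y hy
    apply (le_iSup (fun y : ↥Y => Es K ((y : G) * a * (y : G)⁻¹)) ⟨y, hy⟩)
    show y * (x * a * x⁻¹) * y⁻¹ ∈ Es K (y * a * y⁻¹)
    rw [Es_conj (hYK hy), ← hEb, ← Es_conj (hYK hy)]
    exact a_mem_Es
  have hnap := nrm_pow_eq_one (commConj_tv F Y hYV hYH hYK hYq hqp haH hT) hT.hp
  have hnbp := nrm_pow_eq_one (commConj_tv F Y hYV hYH hYK hYq hqp hb₀H hT₀) hT₀.hp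
  have hamE : a ^ m ∈ Es K a := Subgroup.pow_mem _ a_mem_Es m
  have hbmE : (x * a * x⁻¹) ^ m' ∈ Es K a := Subgroup.pow_mem _ (hEb ▸ a_mem_Es) m'
  have ha1 : nrm Y a (commConj_tv F Y hYV hYH hYK hYq hqp haH hT) ≠ 1 := by
    intro h
    rw [h] at ea
    have h1 : a ^ m ∈ Es K a ⊓ (H ⊓ centralizer (ctr K c : Set G)) := by
      refine mem_inf.mpr ⟨hamE, ?_⟩
      have : a ^ m = b⁻¹ := eq_inv_of_mul_eq_one_left ea.symm
      rw [this]
      exact Subgroup.inv_mem _ hb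
    rw [hEH₁] at h1
    have h2 : a ∈ (⊥ : Subgroup G) := mem_of_pow_coprime hp1 hT.hp hm h1
    exact FFS.tv_ne_one hT (mem_bot.mp h2)
  have hba : nrm Y (x * a * x⁻¹) (commConj_tv F Y hYV hYH hYK hYq hqp hb₀H hT₀) ∉
      zpowers (nrm Y a (commConj_tv F Y hYV hYH hYK hYq hqp haH hT)) := by
    intro h
    obtain ⟨k, hk⟩ := mem_zpowers_iff.mp h
    rw [ea, eb] at hk
    have hc : Commute (a ^ m) b := hcommEH _ hamE _ hb
    rw [hc.mul_zpow] at hk
    have h1 : ((a ^ m) ^ k)⁻¹ * (x * a * x⁻¹) ^ m' ∈ Es K a ⊓ (H ⊓ centralizer (ctr K c : Set G)) := by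
      refine mem_inf.mpr ⟨Subgroup.mul_mem _ (Subgroup.inv_mem _ (Subgroup.zpow_mem _ hamE k)) hbmE, ?_⟩
      have : ((a ^ m) ^ k)⁻¹ * (x * a * x⁻¹) ^ m' = b ^ k * b'⁻¹ := by
        calc ((a ^ m) ^ k)⁻¹ * (x * a * x⁻¹) ^ m'
            = ((a ^ m) ^ k)⁻¹ * ((x * a * x⁻¹) ^ m' * b') * b'⁻¹ := by group
          _ = ((a ^ m) ^ k)⁻¹ * ((a ^ m) ^ k * b ^ k) * b'⁻¹ := by rw [hk]
          _ = b ^ k * b'⁻¹ := by group
      rw [this]
      exact Subgroup.mul_mem _ (Subgroup.zpow_mem _ hb k) (Subgroup.inv_mem _ hb')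
    rw [hEH₁, mem_bot] at h1
    have h2 : (x * a * x⁻¹) ^ m' = (a ^ m) ^ k := by
      calc (x * a * x⁻¹) ^ m' = (a ^ m) ^ k * (((a ^ m) ^ k)⁻¹ * (x * a * x⁻¹) ^ m') := by group
        _ = (a ^ m) ^ k := by rw [h1, mul_one]
    have h3 : (x * a * x⁻¹) ^ m' ∈ zpowers a := by
      rw [h2]
      exact Subgroup.zpow_mem _ (Subgroup.pow_mem _ (mem_zpowers a) m) k
    exact S.conj_a_not_mem hx hxy (mem_of_pow_coprime hp1 hT₀.hp hm' h3)
  have hWea : EA p nW.range := F.hV.mono hWV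
  obtain ⟨φ, -⟩ := sl2_recognition hWea hWcard hDW hfaith hnaD hnbD hnap ha1 hnbp hba hcardD
  refine ⟨nW.range, (⨆ y : ↥Y, Es K ((y : G) * a * (y : G)⁻¹)) ⊓ centralizer (Y : Set G),
    le_inf hWV hWY, le_inf (inf_le_left.trans hPH) inf_le_right, hWea, hWcard, hDW, hfaith, ⟨φ⟩, ?_⟩
  -- `E ≤ D · C_H(N)`
  rw [← S.zpowers_sup_eq_Es hx hxy]
  apply sup_le
  · rw [Subgroup.zpowers_le]
    apply mem_of_pow_coprime hp1 hT.hp hm
    have : a ^ m = nrm Y a (commConj_tv F Y hYV hYH hYK hYq hqp haH hT) * b⁻¹ := by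
      rw [ea]; group
    rw [this]
    exact Subgroup.mul_mem _ (mem_sup_left hnaD) (mem_sup_right (Subgroup.inv_mem _ hb))
  · rw [Subgroup.zpowers_le]
    apply mem_of_pow_coprime hp1 hT₀.hp hm'
    have : (x * a * x⁻¹) ^ m' =
        nrm Y (x * a * x⁻¹) (commConj_tv F Y hYV hYH hYK hYq hqp hb₀H hT₀) * b'⁻¹ := by
      rw [eb]; group
    rw [this]
    exact Subgroup.mul_mem _ (mem_sup_left hnbD) (mem_sup_right (Subgroup.inv_mem _ hb'))

end withY

end Cfsg.Agent.Helper1.FG
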