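import Mathlib
import Cfsg.Agent.Lib.Helper1.FFX
import Cfsg.Agent.Lib.Helper1.FGB

/-!
# Best offenders inside the image of a normal subgroup; `O_{p'}` is characteristic
-/

set_option autoImplicit false
set_option linter.unusedSectionVars false

namespace Cfsg.Agent.Helper1.FG

open Subgroup
open scoped commutatorElement
open Cfsg.Agent.Helper1 Cfsg.Agent.Helper1.FF
open TvS

section KKchar

variable {G : Type*} [Group G]

theorem KK_map_conj_le (p : ℕ) {H : Subgroup G} {y : G} (hy : y ∈ normalizer (H : Set G)) :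
    (KK p H).map (MulAut.conj y).toMonoidHom ≤ KK p H := by
  have hmap := map_conj_eq_of_mem_normalizer hy
  let e : ↥H ≃* ↥H := ((MulAut.conj y).subgroupMap H).trans (MulEquiv.subgroupCongr hmap)
  have he : ∀ h : ↥H, ((e h : ↥H) : G) = y * h * y⁻¹ := fun h => rfl
  have hchar := Cfsg.Agent.Helper54.pPrimeCore_map_mulEquiv p e
  rintro _ ⟨_, ⟨k, hk, rfl⟩, rfl⟩
  refine ⟨e k, ?_, ?_⟩
  · rw [← hchar]
    exact ⟨k, hk, rfl⟩
  · simp only [Subgroup.coe_subtype, MulEquiv.coe_toMonoidHom, MulAut.conj_apply]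
    exact he k

theorem normalizer_le_normalizer_KK (p : ℕ) (H : Subgroup G) :
    normalizer (H : Set G) ≤ normalizer (KK p H : Set G) := by
  intro y hy
  rw [mem_normalizer_iff]
  intro g
  constructor
  · intro hg
    exact KK_map_conj_le p hy ⟨g, hg, by simp⟩
  · intro hg
    have := KK_map_conj_le p (Subgroup.inv_mem _ hy) ⟨_, hg, rfl⟩
    simp only [MulEquiv.coe_toMonoidHom, MulAut.conj_apply] at this
    have e : y⁻¹ * (y * g * y⁻¹) * y⁻¹⁻¹ = g := by group
    rwa [e] at this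

end KKchar

section

variable {G : Type*} [Group G] [Finite G] {p : ℕ} [hp : Fact p.Prime] (V : Subgroup G)
  [hVn : V.Normal] (K₀ : Subgroup G) [hKn : K₀.Normal]

/-- the subgroup generated by the best offenders in `Θ(K₀)` -/
noncomputable def HBK (p : ℕ) (V K₀ : Subgroup G) [V.Normal] : Subgroup (GamV V) :=
  ⨆ A' : {A' : Subgroup (GamV V) // A' ≤ K₀.map (Th V) ∧ Cfsg.IsBestOffenderOn p (VV V) A'},
    (A' : Subgroup (GamV V))

omit [Finite G] hp hKn in
theorem HBK_le : HBK p V K₀ ≤ K₀.map (Th V) := by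
  unfold HBK
  apply iSup_le
  rintro ⟨A', h1, -⟩
  exact h1

omit [Finite G] hp hKn in
theorem HBK_le_range : HBK p V K₀ ≤ (Th V).range := by
  refine (HBK_le V K₀).trans ?_
  rw [MonoidHom.range_eq_map]
  exact Subgroup.map_mono le_top

omit [Finite G] hp hKn in
theorem le_HBK {A' : Subgroup (GamV V)} (h1 : A' ≤ K₀.map (Th V))
    (h2 : Cfsg.IsBestOffenderOn p (VV V) A') : A' ≤ HBK p V K₀ :=
  le_iSup (fun A' : {A' : Subgroup (GamV V) // A' ≤ K₀.map (Th V) ∧
    Cfsg.IsBestOffenderOn p (VV V) A'} => (A' : Subgroup (GamV V))) ⟨A', h1, h2⟩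

omit [Finite G] hp hKn in
theorem HBK_hS3 : HBK p V K₀ = ⨆ A : {A : Subgroup (GamV V) // A ≤ HBK p V K₀ ∧
    Cfsg.IsBestOffenderOn p (VV V) A}, (A : Subgroup (GamV V)) := by
  apply le_antisymm
  · unfold HBK
    apply iSup_le
    rintro ⟨A', h1, h2⟩
    exact le_iSup (fun A : {A : Subgroup (GamV V) // A ≤ HBK p V K₀ ∧
      Cfsg.IsBestOffenderOn p (VV V) A} => (A : Subgroup (GamV V))) ⟨A', le_HBK V K₀ h1 h2, h2⟩
  · apply iSup_le
    rintro ⟨A, h1, -⟩
    exact h1

omit hp in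
theorem range_le_normalizer_HBK : (Th V).range ≤ normalizer (HBK p V K₀ : Set (GamV V)) := by
  apply le_normalizer_of_conj_smul_le
  intro r hr
  rw [Subgroup.pointwise_smul_def]
  change (HBK p V K₀).map (MulAut.conj r).toMonoidHom ≤ HBK p V K₀
  unfold HBK
  rw [Subgroup.map_iSup]
  apply iSup_le
  rintro ⟨A', h1, h2⟩
  apply le_HBK
  · rintro _ ⟨y, hy, rfl⟩
    obtain ⟨g, rfl⟩ := hr
    obtain ⟨k, hk, rfl⟩ := h1 hy
    simp only [MulEquiv.coe_toMonoidHom, MulAut.conj_apply]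
    exact ⟨g * k * g⁻¹, hKn.conj_mem k hk g, by simp⟩
  · exact bo_conj h2 (range_le_normalizer_VV V hr)

theorem HBK_hS1 (hsol : Cfsg.IsPSolvable p ↥K₀)
    (hO : Cfsg.pCore p (G ⧸ centralizer (V : Set G)) = ⊥) :
    centralizer (Cfsg.pPrimeCore p ↥(HBK p V K₀) : Set ↥(HBK p V K₀)) ≤
      Cfsg.pPrimeCore p ↥(HBK p V K₀) := by
  have hleK := HBK_le (p := p) V K₀
  have hle := HBK_le_range (p := p) V K₀
  have hsolvK : Cfsg.IsPSolvable p ↥(K₀.map (Th V)) :=
    Cfsg.Agent.Helper54.IsPSolvable.of_surjective hsol ((Th V).subgroupMap K₀)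
      ((Th V).subgroupMap_surjective K₀)
  have hsolv : Cfsg.IsPSolvable p ↥(HBK p V K₀) := by
    have h1 := Cfsg.Agent.Helper69.IsPSolvable.subgroup' hsolvK
      ((HBK p V K₀).subgroupOf (K₀.map (Th V)))
    exact Cfsg.Agent.Helper54.IsPSolvable.of_surjective h1
      (Subgroup.subgroupOfEquivOfLe hleK).toMonoidHom (Subgroup.subgroupOfEquivOfLe hleK).surjective
  have hcore : Cfsg.pCore p ↥(HBK p V K₀) = ⊥ := by
    haveI : ((HBK p V K₀).subgroupOf (Th V).range).Normal :=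
      (Subgroup.normal_subgroupOf_iff_le_normalizer hle).mpr (range_le_normalizer_HBK V K₀)
    have h1 := Cfsg.Agent.Helper54.pCore_map_le p ((HBK p V K₀).subgroupOf (Th V).range)
    rw [pCore_range_eq_bot V hO, le_bot_iff,
      Subgroup.map_eq_bot_iff_of_injective _ (Subgroup.subtype_injective _)] at h1
    rw [← Cfsg.Agent.Helper54.pCore_map_mulEquiv p (Subgroup.subgroupOfEquivOfLe hle), h1,
      Subgroup.map_bot]
  exact Cfsg.Agent.Helper10.centralizer_pPrimeCore_le_of_isPSolvable hsolv hcore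

theorem HBK_ffs (hV : EA p V) (hsol : Cfsg.IsPSolvable p ↥K₀)
    (hO : Cfsg.pCore p (G ⧸ centralizer (V : Set G)) = ⊥) :
    FFS p (VV V) (HBK p V K₀) (KK p (HBK p V K₀)) := by
  have hle := HBK_le_range (p := p) V K₀
  refine ffs_of_hyps (VV V) (HBK p V K₀) (isElementaryAbelian_of_ea (ea_VV V hV))
    (hle.trans (range_le_normalizer_VV V)) ?_ (HBK_hS1 V K₀ hsol hO)
  rw [eq_bot_iff]
  have h1 := map_Th_inf_centralizer V ⊤
  rw [← MonoidHom.range_eq_map] at h1
  rw [← h1]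
  exact inf_le_inf_right _ hle

end

end Cfsg.Agent.Helper1.FG
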