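import Mathlib
import Cfsg.Agent.Lib.Helper1.FGC

/-!
# KS 9.3.10: lifting the diagonal `SL₂(p)` to the fixed points of a coprime operator group
-/

set_option autoImplicit false
set_option linter.unusedSectionVars false

namespace Cfsg.Agent.Helper1.FG

open Subgroup
open scoped commutatorElement
open Cfsg.Agent.Helper1 Cfsg.Agent.Helper1.FF
open TvS

section lift

variable {G Γ : Type*} [Group G] [Group Γ] [Finite G]

/-- a fixed element of the image lifts to a fixed element (coprime action of a `q`-group) -/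
theorem exists_fixed_lift {q : ℕ} [hq : Fact q.Prime] (f : G →* Γ) (K₀ X : Subgroup G)
    (hXK : X ≤ normalizer (K₀ : Set G)) (hXq : IsPGroup q X) (hqK : ¬ q ∣ Nat.card K₀)
    {d : Γ} (hd : d ∈ K₀.map f) (hdX : ∀ x ∈ X, f x * d = d * f x) :
    ∃ k ∈ K₀ ⊓ centralizer (X : Set G), f k = d := by
  obtain ⟨k₀, hk₀, rfl⟩ := hd
  let Ω := {k : G // k ∈ K₀ ∧ f k = f k₀}
  have hconj : ∀ (x : ↥X) (k : Ω), (x : G) * k.1 * (x : G)⁻¹ ∈ K₀ ∧
      f ((x : G) * k.1 * (x : G)⁻¹) = f k₀ := by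
    intro x k
    refine ⟨conj_mem (hXK x.2) k.2.1, ?_⟩
    rw [map_mul, map_mul, map_inv, k.2.2, hdX x x.2]
    group
  letI : MulAction ↥X Ω :=
    { smul := fun x k => ⟨(x : G) * k.1 * (x : G)⁻¹, hconj x k⟩
      one_smul := by
        intro k
        apply Subtype.ext
        show ((1 : ↥X) : G) * k.1 * ((1 : ↥X) : G)⁻¹ = k.1
        simp
      mul_smul := by
        intro x y k
        apply Subtype.ext
        show ((x * y : ↥X) : G) * k.1 * ((x * y : ↥X) : G)⁻¹ =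
          (x : G) * ((y : G) * k.1 * (y : G)⁻¹) * (x : G)⁻¹
        rw [Subgroup.coe_mul]
        group }
  have hcard : Nat.card Ω = Nat.card ↥(K₀ ⊓ f.ker) := by
    apply Nat.card_congr
    refine ⟨fun k => ⟨k₀⁻¹ * k.1, mem_inf.mpr ⟨K₀.mul_mem (K₀.inv_mem hk₀) k.2.1, ?_⟩⟩,
      fun c => ⟨k₀ * c.1, K₀.mul_mem hk₀ (mem_inf.mp c.2).1, ?_⟩, ?_, ?_⟩
    · rw [MonoidHom.mem_ker, map_mul, map_inv, k.2.2, inv_mul_cancel]
    · rw [map_mul, MonoidHom.mem_ker.mp (mem_inf.mp c.2).2, mul_one]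
    · intro k
      apply Subtype.ext
      show k₀ * (k₀⁻¹ * k.1) = k.1
      group
    · intro c
      apply Subtype.ext
      show k₀⁻¹ * (k₀ * c.1) = c.1
      group
  have hqΩ : ¬ q ∣ Nat.card Ω := by
    rw [hcard]
    intro h
    exact hqK (h.trans (Subgroup.card_dvd_of_le inf_le_left))
  obtain ⟨k, hk⟩ := hXq.nonempty_fixed_point_of_prime_not_dvd_card Ω hqΩ
  refine ⟨k.1, mem_inf.mpr ⟨k.2.1, ?_⟩, k.2.2⟩
  rw [mem_centralizer_iff]
  intro x hx
  have h1 := hk ⟨x, hx⟩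
  have h2 : x * k.1 * x⁻¹ = k.1 := congrArg Subtype.val h1
  calc x * k.1 = (x * k.1 * x⁻¹) * x := by group
    _ = k.1 * x := by rw [h2]

end lift

section main

variable {G : Type*} [Group G] [Finite G] {p : ℕ} [hp : Fact p.Prime]

/-- KS 9.3.10 in a group `G` with normal subgroup `K₀ ≥ V` and a `q`-subgroup `X`. -/
theorem coprime_fixed_sl2 (V K₀ : Subgroup G) [hVn : V.Normal] [hKn : K₀.Normal] (hV : EA p V)
    (hsol : Cfsg.IsPSolvable p ↥K₀)
    (hO : Cfsg.pCore p (G ⧸ centralizer (V : Set G)) = ⊥)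
    (hne : HBK p V K₀ ≠ ⊥) {q : ℕ} [hq : Fact q.Prime] (X : Subgroup G) (hXq : IsPGroup q X)
    (hqK : ¬ q ∣ Nat.card K₀) :
    (p = 2 ∨ p = 3) ∧ ∃ W D : Subgroup G, W ≤ V ⊓ centralizer (X : Set G) ∧
      D ≤ K₀ ⊓ centralizer (X : Set G) ∧ Nat.card W = p ^ 2 ∧ D ≤ normalizer (W : Set G) ∧
      ∃ φ : ↥D →* Matrix.SpecialLinearGroup (Fin 2) (ZMod p), Function.Surjective φ ∧
        ∀ d : ↥D, φ d = 1 ↔ (d : G) ∈ centralizer (W : Set G) := by
  classical
  have F := HBK_ffs V K₀ hV hsol hO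
  have hS3 := HBK_hS3 (p := p) V K₀
  obtain ⟨a, c, haH, hT⟩ := F.exists_tv hS3 hne
  have S := F.tvs haH hT
  obtain ⟨x, hx, hxy⟩ := F.exists_y_ne_one haH hT
  refine ⟨S.p_eq_two_or_three hx hxy, ?_⟩
  haveI : Fintype ↥(X.map (Th V)) := Fintype.ofFinite _
  have hYV : X.map (Th V) ≤ normalizer (VV V : Set (GamV V)) := map_Th_le_normalizer V X
  have hYr : X.map (Th V) ≤ (Th V).range := by
    rw [MonoidHom.range_eq_map]; exact Subgroup.map_mono le_top
  have hYH : X.map (Th V) ≤ normalizer (HBK p V K₀ : Set (GamV V)) :=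
    hYr.trans (range_le_normalizer_HBK V K₀)
  have hYK := hYH.trans (normalizer_le_normalizer_KK p (HBK p V K₀))
  have hYq : IsPGroup q ↥(X.map (Th V)) := hXq.map _
  have hqp : ¬ q ∣ p * (p ^ 2 - 1) := by
    intro h
    apply hqK
    rw [← S.card_Es_eq hx hxy] at h
    exact h.trans ((Subgroup.card_dvd_of_le ((F.Es_le_H haH).trans (HBK_le V K₀))).trans
      (Subgroup.card_map_dvd _ _))
  obtain ⟨Wb, Db, hWb, hDb, hWbea, hWbcard, hDbWb, hfaith, ⟨ψ⟩, -⟩ :=
    diag_sl2 F (X.map (Th V)) hYV hYH hYK hYq hqp hS3 haH hT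
  have hWbVV : Wb ≤ VV V := hWb.trans inf_le_left
  have hWbY : Wb ≤ centralizer ((X.map (Th V) : Subgroup (GamV V)) : Set (GamV V)) :=
    hWb.trans inf_le_right
  have hDbH : Db ≤ HBK p V K₀ := hDb.trans inf_le_left
  have hDbY : Db ≤ centralizer ((X.map (Th V) : Subgroup (GamV V)) : Set (GamV V)) :=
    hDb.trans inf_le_right
  -- membership in `W`
  have hmemW : ∀ {w : G}, w ∈ (Wb.comap (iV V)).map V.subtype ↔
      ∃ hw : w ∈ V, iV V ⟨w, hw⟩ ∈ Wb := by
    intro w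
    constructor
    · rintro ⟨v, hv, rfl⟩
      exact ⟨v.2, hv⟩
    · rintro ⟨hw, h⟩
      exact ⟨⟨w, hw⟩, h, rfl⟩
  have hconjW : ∀ g : G, Th V g ∈ normalizer (Wb : Set (GamV V)) →
      ∀ w ∈ (Wb.comap (iV V)).map V.subtype, g * w * g⁻¹ ∈ (Wb.comap (iV V)).map V.subtype := by
    intro g hg w hw
    obtain ⟨hwV, hwb⟩ := hmemW.mp hw
    refine hmemW.mpr ⟨hVn.conj_mem w hwV g, ?_⟩
    have := Th_conj V g ⟨w, hwV⟩
    rw [← this]
    exact conj_mem hg hwb
  refine ⟨(Wb.comap (iV V)).map V.subtype,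
    (K₀ ⊓ centralizer (X : Set G)) ⊓ Db.comap (Th V), ?_, inf_le_left, ?_, ?_, ?_⟩
  · apply le_inf (Subgroup.map_subtype_le _)
    intro w hw
    obtain ⟨hwV, hwb⟩ := hmemW.mp hw
    rw [mem_centralizer_iff]
    intro x' hx'
    have h1 := Th_conj V x' ⟨w, hwV⟩
    have h2 : Th V x' * iV V ⟨w, hwV⟩ * (Th V x')⁻¹ = iV V ⟨w, hwV⟩ := by
      have := mem_centralizer_iff.mp (hWbY hwb) (Th V x') ⟨x', hx', rfl⟩
      rw [this]; group
    rw [h2] at h1
    have h3 := congrArg Subtype.val (iV_injective V h1)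
    simp only at h3
    calc x' * w = (x' * w * x'⁻¹) * x' := by group
      _ = w * x' := by rw [← h3]
  · rw [Subgroup.card_map_of_injective (Subgroup.subtype_injective _), ← hWbcard]
    apply Nat.card_congr
    refine Equiv.ofBijective (fun v => ⟨iV V v.1, v.2⟩) ⟨?_, ?_⟩
    · intro v v' h
      exact Subtype.ext (iV_injective V (congrArg Subtype.val h))
    · rintro ⟨u, hu⟩
      obtain ⟨v, rfl⟩ := hWbVV hu
      exact ⟨⟨v, hu⟩, rfl⟩
  · intro d hd
    have hdb : Th V d ∈ Db := (mem_inf.mp hd).2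
    rw [mem_normalizer_iff]
    intro w
    constructor
    · intro hw
      exact hconjW d (hDbWb hdb) w hw
    · intro hw
      have := hconjW d⁻¹ (by rw [map_inv]; exact Subgroup.inv_mem _ (hDbWb hdb)) _ hw
      have e : d⁻¹ * (d * w * d⁻¹) * d⁻¹⁻¹ = w := by group
      rwa [e] at this
  · -- the homomorphism
    let f : ↥((K₀ ⊓ centralizer (X : Set G)) ⊓ Db.comap (Th V)) →* ↥Db :=
      ((Th V).comp (Subgroup.subtype _)).codRestrict Db (fun d => (mem_inf.mp d.2).2)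
    have hf : ∀ d, ((f d : ↥Db) : GamV V) = Th V d := fun _ => rfl
    refine ⟨ψ.toMonoidHom.comp f, ?_, ?_⟩
    · apply ψ.surjective.comp
      rintro ⟨d, hd⟩
      obtain ⟨k, hk, e⟩ := exists_fixed_lift (Th V) K₀ X
        (le_trans le_top (by rw [normalizer_eq_top]) : X ≤ normalizer (K₀ : Set G)) hXq hqK
        (HBK_le V K₀ (hDbH hd))
        (fun x' hx' => mem_centralizer_iff.mp (hDbY hd) _ ⟨x', hx', rfl⟩)
      refine ⟨⟨k, mem_inf.mpr ⟨hk, ?_⟩⟩, ?_⟩
      · rw [mem_comap, e]; exact hd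
      · exact Subtype.ext e
    · intro d
      have h1 : (ψ.toMonoidHom.comp f) d = 1 ↔ Th V d = 1 := by
        rw [MonoidHom.comp_apply, MulEquiv.coe_toMonoidHom, MulEquiv.map_eq_one_iff]
        constructor
        · intro h
          rw [← hf, h]; rfl
        · intro h
          exact Subtype.ext (by rw [hf, h]; rfl)
      rw [h1]
      constructor
      · intro h
        have h2 : (d : G) ∈ centralizer (V : Set G) := by
          have : (d : G) ∈ (Th V).ker := MonoidHom.mem_ker.mpr h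
          rwa [ker_Th] at this
        exact centralizer_le (Subgroup.map_subtype_le _) h2
      · intro h
        apply hfaith _ (mem_inf.mp d.2).2
        intro u hu
        obtain ⟨v, rfl⟩ := hWbVV hu
        have hvW : (v : G) ∈ (Wb.comap (iV V)).map V.subtype := ⟨v, hu, rfl⟩
        have h2 := mem_centralizer_iff.mp h _ hvW
        have h3 := Th_conj V (d : G) v
        have h4 : (⟨(d : G) * v * (d : G)⁻¹, hVn.conj_mem v v.2 d⟩ : ↥V) = v := by
          apply Subtype.ext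
          show (d : G) * v * (d : G)⁻¹ = v
          rw [← h2]; group
        rw [h4] at h3
        calc Th V d * iV V v = (Th V d * iV V v * (Th V d)⁻¹) * Th V d := by group
          _ = iV V v * Th V d := by rw [h3]

end main

end Cfsg.Agent.Helper1.FG
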