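import Mathlib
import Cfsg.Agent.Lib.Helper1.FFY
import Cfsg.Agent.Lib.Helper1.FGD

/-!
# KS 9.3.10 for a normal subgroup `K₀` of `q`-power index
-/

set_option autoImplicit false
set_option linter.unusedSectionVars false

namespace Cfsg.Agent.Helper1.FG

open Subgroup
open scoped commutatorElement
open Cfsg.Agent.Helper1 Cfsg.Agent.Helper1.FF
open TvS

section char

variable {G₁ G₂ : Type*} [Group G₁] [Group G₂] [Finite G₁] [Finite G₂] {p : ℕ} [hp : Fact p.Prime]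

/-- `VZ` is characteristic -/
theorem VZ_map_le (e : G₁ ≃* G₂) : (VZ p G₁).map e.toMonoidHom ≤ VZ p G₂ := by
  rw [Subgroup.map_le_iff_le_comap]
  apply VZ_le
  intro S x hxS hxc hxp
  rw [mem_comap]
  have hsurj : Function.Surjective e.toMonoidHom := e.surjective
  have hTc : ((S.mapSurjective hsurj : Sylow p G₂) : Subgroup G₂) =
      (S : Subgroup G₁).map e.toMonoidHom := Sylow.coe_mapSurjective hsurj S
  apply mem_VZ_of (S.mapSurjective hsurj)
  · rw [hTc]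
    exact ⟨x, hxS, rfl⟩
  · intro s hs
    rw [hTc] at hs
    obtain ⟨s', hs', rfl⟩ := hs
    show e s' * e x = e x * e s'
    rw [← map_mul, ← map_mul, hxc s' hs']
  · show (e x) ^ p = 1
    rw [← map_pow, hxp, map_one]

end char

section main

variable {G : Type*} [Group G] [Finite G] {p : ℕ} [hp : Fact p.Prime]
  (K₀ : Subgroup G) [hKn : K₀.Normal]

/-- the image of `VZ p K₀` in `G` -/
def VK (p : ℕ) (K₀ : Subgroup G) : Subgroup G := (VZ p ↥K₀).map K₀.subtype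

omit [Finite G] hp hKn in
theorem VK_le : VK p K₀ ≤ K₀ := Subgroup.map_subtype_le _

omit [Finite G] hp hKn in
theorem mem_VK {v : G} : v ∈ VK p K₀ ↔ ∃ hv : v ∈ K₀, (⟨v, hv⟩ : ↥K₀) ∈ VZ p ↥K₀ := by
  constructor
  · rintro ⟨v', hv', rfl⟩
    exact ⟨v'.2, hv'⟩
  · rintro ⟨hv, h⟩
    exact ⟨⟨v, hv⟩, h, rfl⟩

theorem VK_normal : (VK p K₀).Normal := by
  constructor
  intro v hv g
  obtain ⟨hvK, hvZ⟩ := (mem_VK K₀).mp hv
  have h1 := VZ_map_le (p := p) (MulAut.conjNormal (H := K₀) g) ⟨_, hvZ, rfl⟩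
  refine (mem_VK K₀).mpr ⟨hKn.conj_mem v hvK g, ?_⟩
  convert h1 using 1
  apply Subtype.ext
  simp [MulAut.conjNormal_apply]

omit [Finite G] hp hKn in
theorem ea_VK (hEA : EA p (VZ p ↥K₀)) : EA p (VK p K₀) := by
  constructor
  · intro v hv w hw
    obtain ⟨hvK, hvZ⟩ := (mem_VK K₀).mp hv
    obtain ⟨hwK, hwZ⟩ := (mem_VK K₀).mp hw
    exact congrArg Subtype.val (hEA.comm _ hvZ _ hwZ)
  · intro v hv
    obtain ⟨hvK, hvZ⟩ := (mem_VK K₀).mp hv
    exact congrArg Subtype.val (hEA.exp _ hvZ)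

variable {q : ℕ} [hq : Fact q.Prime]

omit [Finite G] in
/-- `p`-elements lie in `K₀` -/
theorem mem_of_pow_eq_one (hGq : IsPGroup q (G ⧸ K₀)) (hpq : p ≠ q) {b : G} (hb : b ^ p = 1) :
    b ∈ K₀ := by
  rw [← QuotientGroup.eq_one_iff]
  obtain ⟨k, hk⟩ := hGq (b : G ⧸ K₀)
  have h1 : orderOf (b : G ⧸ K₀) ∣ p := by
    apply orderOf_dvd_of_pow_eq_one
    rw [← QuotientGroup.mk_pow, hb, QuotientGroup.mk_one]
  have h2 : orderOf (b : G ⧸ K₀) ∣ q ^ k := orderOf_dvd_of_pow_eq_one hk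
  rcases (Nat.dvd_prime hp.out).mp h1 with h | h
  · exact orderOf_eq_one_iff.mp h
  · exfalso
    rw [h] at h2
    exact hpq ((Nat.prime_dvd_prime_iff_eq hp.out hq.out).mp (hp.out.dvd_of_dvd_pow h2))

/-- a Sylow subgroup of `K₀` is a Sylow subgroup of `G` -/
theorem exists_sylow_map (hGq : IsPGroup q (G ⧸ K₀)) (hpq : p ≠ q) (S : Sylow p ↥K₀) :
    ∃ T : Sylow p G, (T : Subgroup G) = (S : Subgroup ↥K₀).map K₀.subtype := by
  have h1 : IsPGroup p ↥((S : Subgroup ↥K₀).map K₀.subtype) := S.isPGroup'.map _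
  have h2 : ¬ p ∣ ((S : Subgroup ↥K₀).map K₀.subtype).index := by
    rw [Subgroup.index_map_subtype]
    intro h
    rcases (Nat.Prime.dvd_mul hp.out).mp h with h | h
    · exact S.not_dvd_index h
    · obtain ⟨k, hk⟩ := IsPGroup.exists_card_eq hGq
      rw [Subgroup.index_eq_card, hk] at h
      exact hpq ((Nat.prime_dvd_prime_iff_eq hp.out hq.out).mp (hp.out.dvd_of_dvd_pow h))
  exact ⟨h1.toSylow h2, IsPGroup.toSylow_coe h1 h2⟩

theorem pCore_quot_VK [hn : (VK p K₀).Normal] (hGq : IsPGroup q (G ⧸ K₀)) (hpq : p ≠ q) :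
    Cfsg.pCore p (G ⧸ centralizer (VK p K₀ : Set G)) = ⊥ := by
  rw [eq_bot_iff]
  intro z hz
  rw [mem_bot]
  obtain ⟨g, rfl⟩ := QuotientGroup.mk_surjective z
  rw [QuotientGroup.eq_one_iff]
  have hle : VK p K₀ ≤ centralizer ({g} : Set G) := by
    unfold VK
    rw [Subgroup.map_le_iff_le_comap]
    apply VZ_le
    intro S x hxS hxc hxp
    rw [mem_comap]
    have hxV : (x : G) ∈ VK p K₀ := ⟨x, mem_VZ_of S hxS hxc hxp, rfl⟩
    obtain ⟨T, hT⟩ := exists_sylow_map K₀ hGq hpq S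
    have h1 := Cfsg.Agent.Helper54.pCore_le_sylow
      (T.mapSurjective (QuotientGroup.mk'_surjective (centralizer (VK p K₀ : Set G)))) hz
    rw [Sylow.coe_mapSurjective, hT] at h1
    obtain ⟨_, ⟨s, hs, rfl⟩, hsg⟩ := h1
    have h2 : (s : G)⁻¹ * g ∈ centralizer (VK p K₀ : Set G) := QuotientGroup.eq.mp hsg
    have h3 := mem_centralizer_iff.mp h2 x hxV
    have h4 : (s : G) * x = x * s := congrArg Subtype.val (hxc s hs)
    rw [mem_centralizer_iff]
    intro z hz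
    rw [Set.mem_singleton_iff] at hz
    rw [hz]
    show g * (x : G) = x * g
    calc g * (x : G) = s * (((s : G)⁻¹ * g) * x) := by group
      _ = s * (x * ((s : G)⁻¹ * g)) := by rw [h3]
      _ = ((s : G) * x) * ((s : G)⁻¹ * g) := by group
      _ = (x * s) * ((s : G)⁻¹ * g) := by rw [h4]
      _ = x * g := by group
  rw [mem_centralizer_iff]
  intro v hv
  exact (mem_centralizer_iff.mp (hle hv) g rfl).symm

theorem HBK_ne_bot [hn : (VK p K₀).Normal] (hGq : IsPGroup q (G ⧸ K₀)) (hpq : p ≠ q)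
    (hEA : EA p (VZ p ↥K₀)) {A : Subgroup ↥K₀}
    (hA : A ∈ Cfsg.maxElementaryAbelianSubgroups p ↥K₀)
    (hAC : ¬ A ≤ centralizer (VZ p ↥K₀ : Set ↥K₀)) : HBK p (VK p K₀) K₀ ≠ ⊥ := by
  intro hbot
  apply hAC
  have hAea : EA p (A.map K₀.subtype) := by
    have h0 := ea_of_isElementaryAbelian hA.1
    constructor
    · rintro _ ⟨a, ha, rfl⟩ _ ⟨b, hb, rfl⟩
      exact congrArg Subtype.val (h0.comm a ha b hb)
    · rintro _ ⟨a, ha, rfl⟩
      exact congrArg Subtype.val (h0.exp a ha)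
  have hmax : ∀ B : Subgroup G, EA p B → Nat.card B ≤ Nat.card ↥(A.map K₀.subtype) := by
    intro B hB
    have hBK : B ≤ K₀ := fun b hb => mem_of_pow_eq_one K₀ hGq hpq (hB.exp b hb)
    rw [Subgroup.card_map_of_injective (Subgroup.subtype_injective _),
      ← Nat.card_congr (Subgroup.subgroupOfEquivOfLe hBK).toEquiv]
    apply hA.2
    apply isElementaryAbelian_of_ea
    constructor
    · intro b hb b' hb'
      exact Subtype.ext (hB.comm _ hb _ hb')
    · intro b hb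
      exact Subtype.ext (hB.exp _ hb)
  have hbo := bo_image (VK p K₀) (ea_VK K₀ hEA) hAea hmax
  have hle : (A.map K₀.subtype).map (Th (VK p K₀)) ≤ HBK p (VK p K₀) K₀ :=
    le_HBK _ K₀ (Subgroup.map_mono (Subgroup.map_subtype_le _)) hbo
  rw [hbot, le_bot_iff, Subgroup.map_eq_bot_iff, ker_Th] at hle
  intro a ha
  rw [mem_centralizer_iff]
  intro v hv
  have h1 := hle ⟨a, ha, rfl⟩
  have h2 := mem_centralizer_iff.mp h1 (v : G) ⟨v, hv, rfl⟩
  exact Subtype.ext h2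

/-- **KS 9.3.10**, for a normal subgroup `K₀` of `q`-power index. -/
theorem coprime_fixed_main (X : Subgroup G) (hXq : IsPGroup q X) (hqK : ¬ q ∣ Nat.card K₀)
    (hGq : IsPGroup q (G ⧸ K₀)) (hEA : EA p (VZ p ↥K₀)) (hsol : Cfsg.IsPSolvable p ↥K₀)
    {A : Subgroup ↥K₀} (hA : A ∈ Cfsg.maxElementaryAbelianSubgroups p ↥K₀)
    (hAC : ¬ A ≤ centralizer (VZ p ↥K₀ : Set ↥K₀)) :
    (p = 2 ∨ p = 3) ∧ ∃ W D : Subgroup G, W ≤ K₀ ⊓ centralizer (X : Set G) ∧
      D ≤ K₀ ⊓ centralizer (X : Set G) ∧ EA p W ∧ Nat.card W = p ^ 2 ∧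
      D ≤ normalizer (W : Set G) ∧
      ∃ φ : ↥D →* Matrix.SpecialLinearGroup (Fin 2) (ZMod p), Function.Surjective φ ∧
        ∀ d : ↥D, φ d = 1 ↔ (d : G) ∈ centralizer (W : Set G) := by
  have hpq : p ≠ q := by
    rintro rfl
    apply hqK
    have hne : A ≠ ⊥ := by
      rintro rfl
      exact hAC bot_le
    obtain ⟨a, ha1⟩ := (Subgroup.ne_bot_iff_exists_ne_one.mp hne)
    have hap : (a : ↥K₀) ^ p = 1 := by
      have := (ea_of_isElementaryAbelian hA.1).exp a a.2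
      exact this
    have hord : orderOf (a : ↥K₀) = p := by
      rcases (Nat.dvd_prime hp.out).mp (orderOf_dvd_of_pow_eq_one hap) with h | h
      · exfalso
        apply ha1
        exact Subtype.ext (orderOf_eq_one_iff.mp h)
      · exact h
    rw [← hord]
    exact orderOf_dvd_natCard _
  haveI hn : (VK p K₀).Normal := VK_normal K₀
  have hV := ea_VK K₀ hEA
  have hO := pCore_quot_VK K₀ hGq hpq
  have hne := HBK_ne_bot K₀ hGq hpq hEA hA hAC
  obtain ⟨h23, W, D, hW, hD, hWc, hDW, φ, hφ⟩ :=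
    coprime_fixed_sl2 (VK p K₀) K₀ hV hsol hO hne X hXq hqK
  exact ⟨h23, W, D, le_inf ((hW.trans inf_le_left).trans (VK_le K₀)) (hW.trans inf_le_right), hD,
    hV.mono (hW.trans inf_le_left), hWc, hDW, φ, hφ⟩

end main

end Cfsg.Agent.Helper1.FG
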