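import Mathlib
import Cfsg.Agent.Lib.Helper1.FGE
import Cfsg.Agent.Lib.Helper10.ThompsonMap

/-!
# KS 9.3.10: the final form for subgroups `K`, `X` of an ambient group
-/

set_option autoImplicit false
set_option linter.unusedSectionVars false

namespace Cfsg.Agent.Helper1.FG

open Subgroup
open scoped commutatorElement
open Cfsg.Agent.Helper1 Cfsg.Agent.Helper1.FF
open TvS

theorem quotient_iso_of_hom {G T : Type*} [Group G] [Group T] (D W : Subgroup G) (g : ↥D →* T)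
    (hs : Function.Surjective g) (hk : ∀ d : ↥D, g d = 1 ↔ (d : G) ∈ centralizer (W : Set G)) :
    ∃ _ : ((centralizer (W : Set G)).subgroupOf D).Normal,
      Nonempty (↥D ⧸ (centralizer (W : Set G)).subgroupOf D ≃* T) := by
  have hker : g.ker = (centralizer (W : Set G)).subgroupOf D := by
    ext d
    rw [MonoidHom.mem_ker, mem_subgroupOf, hk]
  have hn : ((centralizer (W : Set G)).subgroupOf D).Normal := by
    rw [← hker]; infer_instance
  exact ⟨hn, ⟨(QuotientGroup.quotientMulEquivOfEq hker).symm.trans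
    (QuotientGroup.quotientKerEquivOfSurjective g hs)⟩⟩

section setup

variable {G : Type*} [Group G] [Finite G] {p : ℕ} [hp : Fact p.Prime] {q : ℕ} [hq : Fact q.Prime]
  (K X : Subgroup G)

/-- the hypotheses on `K`, transported to `K.subgroupOf (K ⊔ X)` -/
theorem transported_hyps (hsep : Cfsg.IsPSolvable p ↥K) (hO : Cfsg.pPrimeCore p ↥K = ⊥)
    (hnf : ¬ Cfsg.IsThompsonFactorizable p ↥K) :
    EA p (VZ p ↥(K.subgroupOf (K ⊔ X))) ∧ Cfsg.IsPSolvable p ↥(K.subgroupOf (K ⊔ X)) ∧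
      ∃ A ∈ Cfsg.maxElementaryAbelianSubgroups p ↥(K.subgroupOf (K ⊔ X)),
        ¬ A ≤ centralizer (VZ p ↥(K.subgroupOf (K ⊔ X)) : Set ↥(K.subgroupOf (K ⊔ X))) := by
  let e : ↥(K.subgroupOf (K ⊔ X)) ≃* ↥K := Subgroup.subgroupOfEquivOfLe le_sup_left
  have hEAK : EA p (VZ p ↥K) := ea_VZ hsep hO
  have hVn : (VZ p ↥K).Normal := VZ_normal p
  obtain ⟨A, hA, hAC⟩ : ∃ A ∈ Cfsg.maxElementaryAbelianSubgroups p ↥K,
      ¬ A ≤ centralizer (VZ p ↥K : Set ↥K) := by
    by_contra hcon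
    push Not at hcon
    exact hnf (thompsonFactorizable_of_le hcon)
  refine ⟨?_, Cfsg.Agent.Helper54.IsPSolvable.of_surjective hsep e.symm.toMonoidHom
    e.symm.surjective, A.map e.symm.toMonoidHom,
    Cfsg.Agent.Helper10.map_mulEquiv_mem_maxElementaryAbelianSubgroups e.symm hA, ?_⟩
  · have hle := VZ_map_le (p := p) e
    constructor
    · intro v hv w hw
      have h1 := hEAK.comm _ (hle ⟨v, hv, rfl⟩) _ (hle ⟨w, hw, rfl⟩)
      apply e.injective
      rw [map_mul, map_mul]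
      exact h1
    · intro v hv
      have h1 := hEAK.exp _ (hle ⟨v, hv, rfl⟩)
      apply e.injective
      rw [map_pow, map_one]
      exact h1
  · intro hcon
    apply hAC
    intro a ha
    rw [mem_centralizer_iff]
    intro v hv
    have h1 : e.symm a ∈ A.map e.symm.toMonoidHom := ⟨a, ha, rfl⟩
    have h2 : e.symm v ∈ VZ p ↥(K.subgroupOf (K ⊔ X)) :=
      VZ_map_le (p := p) e.symm ⟨v, hv, rfl⟩
    have h3 := mem_centralizer_iff.mp (hcon h1) _ h2
    apply e.symm.injective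
    rw [map_mul, map_mul]
    exact h3

omit [Finite G] hp in
theorem isPGroup_quot (hXK : X ≤ normalizer (K : Set G)) (hXq : IsPGroup q X)
    [hn : (K.subgroupOf (K ⊔ X)).Normal] :
    IsPGroup q (↥(K ⊔ X) ⧸ K.subgroupOf (K ⊔ X)) := by
  intro z
  obtain ⟨n, rfl⟩ := QuotientGroup.mk_surjective z
  have hn' : (n : G) ∈ ((K ⊔ X : Subgroup G) : Set G) := n.2
  rw [Subgroup.coe_mul_of_right_le_normalizer_left K X hXK] at hn'
  obtain ⟨k, hk, x, hx, e⟩ := Set.mem_mul.mp hn'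
  obtain ⟨j, hj⟩ := hXq ⟨x, hx⟩
  have hj' : x ^ q ^ j = 1 := by
    have := congrArg Subtype.val hj
    simpa using this
  refine ⟨j, ?_⟩
  have hkN : k ∈ K ⊔ X := le_sup_left (a := K) hk
  have hxN : x ∈ K ⊔ X := le_sup_right (a := K) hx
  have e1 : n = (⟨k, hkN⟩ : ↥(K ⊔ X)) * ⟨x, hxN⟩ := Subtype.ext e.symm
  have e2 : ((n : ↥(K ⊔ X)) : ↥(K ⊔ X) ⧸ K.subgroupOf (K ⊔ X)) =
      ((⟨x, hxN⟩ : ↥(K ⊔ X)) : ↥(K ⊔ X) ⧸ K.subgroupOf (K ⊔ X)) := by
    rw [QuotientGroup.eq, e1, mem_subgroupOf]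
    show (k * x)⁻¹ * x ∈ K
    have : (k * x)⁻¹ * x = x⁻¹ * k⁻¹ * x := by group
    rw [this]
    exact conj_mem' (hXK hx) (K.inv_mem hk)
  rw [e2, ← QuotientGroup.mk_pow]
  have : (⟨x, hxN⟩ : ↥(K ⊔ X)) ^ q ^ j = 1 := Subtype.ext (by simpa using hj')
  rw [this, QuotientGroup.mk_one]

/-- **KS 9.3.10** -/
theorem coprime_fixed_final (hXK : X ≤ normalizer (K : Set G)) (hXq : IsPGroup q X)
    (hqK : ¬ q ∣ Nat.card K) (hsep : Cfsg.IsPSolvable p ↥K) (hO : Cfsg.pPrimeCore p ↥K = ⊥)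
    (hnf : ¬ Cfsg.IsThompsonFactorizable p ↥K) :
    (p = 2 ∨ p = 3) ∧ ∃ W D : Subgroup G, W ≤ K ⊓ centralizer (X : Set G) ∧
      D ≤ K ⊓ centralizer (X : Set G) ∧ Cfsg.IsElementaryAbelian p W ∧ Nat.card W = p ^ 2 ∧
      D ≤ normalizer (W : Set G) ∧
      ∃ _ : ((centralizer (W : Set G)).subgroupOf D).Normal,
        Nonempty (↥D ⧸ (centralizer (W : Set G)).subgroupOf D ≃*
          Matrix.SpecialLinearGroup (Fin 2) (ZMod p)) := by
  haveI hKn : (K.subgroupOf (K ⊔ X)).Normal :=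
    (Subgroup.normal_subgroupOf_iff_le_normalizer le_sup_left).mpr
      (sup_le le_normalizer hXK)
  obtain ⟨hEA, hsol, A, hA, hAC⟩ := transported_hyps K X hsep hO hnf
  have hGq := isPGroup_quot K X hXK hXq
  have hXq₀ : IsPGroup q ↥(X.subgroupOf (K ⊔ X)) := hXq.comap_subtype
  have hqK₀ : ¬ q ∣ Nat.card ↥(K.subgroupOf (K ⊔ X)) := by
    rw [Nat.card_congr (Subgroup.subgroupOfEquivOfLe (le_sup_left : K ≤ K ⊔ X)).toEquiv]
    exact hqK
  obtain ⟨h23, W₀, D₀, hW₀, hD₀, hW₀ea, hW₀c, hD₀W₀, φ, hφs, hφk⟩ :=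
    coprime_fixed_main (K.subgroupOf (K ⊔ X)) (X.subgroupOf (K ⊔ X)) hXq₀ hqK₀ hGq hEA hsol hA hAC
  have hinj : Function.Injective (K ⊔ X).subtype := Subgroup.subtype_injective _
  have hmemKX : ∀ {n : ↥(K ⊔ X)}, n ∈ K.subgroupOf (K ⊔ X) ⊓
      centralizer ((X.subgroupOf (K ⊔ X) : Subgroup ↥(K ⊔ X)) : Set ↥(K ⊔ X)) →
      (n : G) ∈ K ⊓ centralizer (X : Set G) := by
    intro n hn
    refine mem_inf.mpr ⟨mem_subgroupOf.mp (mem_inf.mp hn).1, ?_⟩
    rw [mem_centralizer_iff]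
    intro x hx
    have hxN : x ∈ K ⊔ X := le_sup_right (a := K) hx
    have := mem_centralizer_iff.mp (mem_inf.mp hn).2 (⟨x, hxN⟩ : ↥(K ⊔ X)) (mem_subgroupOf.mpr hx)
    exact congrArg Subtype.val this
  refine ⟨h23, W₀.map (K ⊔ X).subtype, D₀.map (K ⊔ X).subtype, ?_, ?_, ?_, ?_, ?_, ?_⟩
  · rintro _ ⟨w, hw, rfl⟩
    exact hmemKX (hW₀ hw)
  · rintro _ ⟨d, hd, rfl⟩
    exact hmemKX (hD₀ hd)
  · apply isElementaryAbelian_of_ea
    constructor
    · rintro _ ⟨w, hw, rfl⟩ _ ⟨w', hw', rfl⟩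
      exact congrArg Subtype.val (hW₀ea.comm w hw w' hw')
    · rintro _ ⟨w, hw, rfl⟩
      exact congrArg Subtype.val (hW₀ea.exp w hw)
  · rw [Subgroup.card_map_of_injective hinj, hW₀c]
  · exact (Subgroup.map_mono hD₀W₀).trans (Subgroup.le_normalizer_map _)
  · let ε := D₀.equivMapOfInjective (K ⊔ X).subtype hinj
    have hε : ∀ d : ↥(D₀.map (K ⊔ X).subtype), (((ε.symm d : ↥D₀) : ↥(K ⊔ X)) : G) = d := by
      intro d
      have := Subgroup.coe_equivMapOfInjective_apply D₀ (K ⊔ X).subtype hinj (ε.symm d)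
      rw [show D₀.equivMapOfInjective (K ⊔ X).subtype hinj = ε from rfl,
        MulEquiv.apply_symm_apply] at this
      exact this.symm
    apply quotient_iso_of_hom _ _ (φ.comp ε.symm.toMonoidHom) (hφs.comp ε.symm.surjective)
    intro d
    rw [MonoidHom.comp_apply, MulEquiv.coe_toMonoidHom, hφk]
    constructor
    · intro h
      rw [mem_centralizer_iff]
      rintro _ ⟨w, hw, rfl⟩
      have := mem_centralizer_iff.mp h w hw
      have h2 := congrArg Subtype.val this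
      rw [Subgroup.coe_mul, Subgroup.coe_mul, hε] at h2
      exact h2
    · intro h
      rw [mem_centralizer_iff]
      intro w hw
      have := mem_centralizer_iff.mp h (w : G) ⟨w, hw, rfl⟩
      apply Subtype.ext
      rw [Subgroup.coe_mul, Subgroup.coe_mul, hε]
      exact this

end setup

end Cfsg.Agent.Helper1.FG
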