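import Mathlib
import Cfsg.Agent.Lib.Helper1.FGB

/-!
# KS 9.3.10: generation by a Sylow subgroup and the fixed points (inside one group)
-/

set_option autoImplicit false
set_option linter.unusedSectionVars false

namespace Cfsg.Agent.Helper1.FG

open Subgroup
open scoped commutatorElement
open Cfsg.Agent.Helper1 Cfsg.Agent.Helper1.FF
open TvS

variable {G : Type*} [Group G]

/-- the intersection of a "Sylow" subgroup with a normal subgroup is "Sylow" -/
theorem relIndex_inf_not_dvd [Finite G] {p : ℕ} {P A₀ M : Subgroup G} (hPA : P ≤ A₀)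
    (hidx : ¬ p ∣ P.relIndex A₀) (hMA : M ≤ A₀) (hn : A₀ ≤ normalizer (M : Set G)) :
    ¬ p ∣ (P ⊓ M).relIndex M := by
  have h1 := S4Free.card_sup_mul_card_inf' P M (hPA.trans hn)
  have h2 := card_mul_relIndex' hPA
  have h3 := card_mul_relIndex' (inf_le_right : P ⊓ M ≤ M)
  have h4 := card_mul_relIndex' (sup_le hPA hMA : P ⊔ M ≤ A₀)
  intro hdvd
  apply hidx
  -- |P| r = |A₀| = |P ⊔ M| s,  |P ⊔ M| |P ⊓ M| = |P| |M| = |P| |P ⊓ M| r'
  have hpos : 0 < Nat.card ↥(P ⊓ M) := Nat.card_pos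
  have hposP : 0 < Nat.card ↥P := Nat.card_pos
  have h5 : Nat.card ↥(P ⊔ M) = Nat.card ↥P * (P ⊓ M).relIndex M := by
    apply Nat.eq_of_mul_eq_mul_right hpos
    rw [h1, ← h3]; ring
  have h6 : P.relIndex A₀ = (P ⊓ M).relIndex M * (P ⊔ M).relIndex A₀ := by
    apply Nat.eq_of_mul_eq_mul_left hposP
    rw [h2, ← h4, h5]; ring
  rw [h6]
  exact Dvd.dvd.mul_right hdvd _

theorem normalizer_le_normalizer_centralizer' (N : Subgroup G) :
    normalizer (N : Set G) ≤ normalizer ((centralizer (N : Set G) : Subgroup G) : Set G) := by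
  have key : ∀ g ∈ normalizer (N : Set G), ∀ z ∈ centralizer (N : Set G),
      g * z * g⁻¹ ∈ centralizer (N : Set G) := by
    intro g hg z hz
    rw [mem_centralizer_iff]
    intro u hu
    have hu' : g⁻¹ * u * g ∈ N := conj_mem' hg hu
    have h1 := mem_centralizer_iff.mp hz _ hu'
    calc u * (g * z * g⁻¹) = g * ((g⁻¹ * u * g) * z) * g⁻¹ := by group
      _ = g * (z * (g⁻¹ * u * g)) * g⁻¹ := by rw [h1]
      _ = g * z * g⁻¹ * u := by group
  intro g hg
  rw [mem_normalizer_iff]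
  intro z
  constructor
  · exact key g hg z
  · intro h
    have := key g⁻¹ (Subgroup.inv_mem _ hg) _ h
    have e : g⁻¹ * (g * z * g⁻¹) * g⁻¹⁻¹ = z := by group
    rwa [e] at this

variable {p : ℕ} {V H K : Subgroup G}

section core

variable [Finite G] [hp : Fact p.Prime] (F : FFS p V H K)
  {q : ℕ} [hq : Fact q.Prime] (Y : Subgroup G) [Fintype Y]
  (hYV : Y ≤ normalizer (V : Set G)) (hYH : Y ≤ normalizer (H : Set G))
  (hYK : Y ≤ normalizer (K : Set G)) (hYq : IsPGroup q Y) (hqp : ¬ q ∣ p * (p ^ 2 - 1))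

include F hYV hYH hYK hYq hqp

/-- if `L` contains `C_H(Y)` and a Sylow `p`-subgroup of a group `Kk ⊵ H`, then `H ≤ L` -/
theorem H_le_of_fixed_of_sylow
    (hS3 : H = ⨆ A : {A : Subgroup G // A ≤ H ∧ Cfsg.IsBestOffenderOn p V A}, (A : Subgroup G))
    (Kk P L : Subgroup G) (hHK : H ≤ Kk) (hKkH : Kk ≤ normalizer (H : Set G))
    (hP : IsPGroup p P) (hPK : P ≤ Kk) (hPidx : ¬ p ∣ P.relIndex Kk) (hPL : P ≤ L)
    (hfix : H ⊓ centralizer (Y : Set G) ≤ L) : H ≤ L := by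
  apply F.H_le_of_tv hS3
  intro a c haH hT
  have S := F.tvs haH hT
  obtain ⟨x, hx, hxy⟩ := F.exists_y_ne_one haH hT
  have hp1 : 1 < p := hp.out.one_lt
  obtain ⟨W, D, -, hD, -, -, -, -, -, hED⟩ := diag_sl2 F Y hYV hYH hYK hYq hqp hS3 haH hT
  have hDL : D ≤ L := hD.trans hfix
  have hDH : D ≤ H := hD.trans inf_le_left
  have hnE := F.H_le_normalizer_Es hS3 haH hT
  have hnN := F.H_le_normalizer_ctr hS3 haH hT
  have hcommEH : ∀ e ∈ Es K a, ∀ h ∈ H ⊓ centralizer (ctr K c : Set G), e * h = h * e := by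
    have h1 := F.Es_comm_eq hS3 haH hT
    rw [commutator_eq_bot_iff_le_centralizer, le_centralizer_iff] at h1
    intro e he h hh
    exact mem_centralizer_iff.mp (h1 hh) e he
  -- a nontrivial element of `P ∩ E`
  have hpn : ¬ p ∣ p ^ 2 - 1 := by
    intro h
    have h1 : p ∣ p ^ 2 := Dvd.intro_left (p ^ 1) (by ring)
    have h2 : 1 ≤ p ^ 2 := Nat.one_le_pow _ _ hp.out.pos
    have h3 : p ∣ p ^ 2 - (p ^ 2 - 1) := Nat.dvd_sub h1 h
    have h4 : p ^ 2 - (p ^ 2 - 1) = 1 := by omega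
    rw [h4] at h3
    exact hp.out.one_lt.ne' (Nat.dvd_one.mp h3)
  have h1 := relIndex_inf_not_dvd hPK hPidx hHK hKkH
  have h2 := relIndex_inf_not_dvd (inf_le_right : P ⊓ H ≤ H) h1 (F.Es_le_H haH) hnE
  have hne : P ⊓ H ⊓ Es K a ≠ ⊥ := by
    intro h
    apply h2
    rw [h, Subgroup.relIndex_bot_left, S.card_Es_eq hx hxy]
    exact Dvd.intro _ rfl
  obtain ⟨t, ht1⟩ := (Subgroup.ne_bot_iff_exists_ne_one.mp hne)
  have htP : (t : G) ∈ P := (mem_inf.mp (mem_inf.mp t.2).1).1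
  have htH : (t : G) ∈ H := (mem_inf.mp (mem_inf.mp t.2).1).2
  have htE : (t : G) ∈ Es K a := (mem_inf.mp t.2).2
  have ht1' : (t : G) ≠ 1 := fun h => ht1 (Subtype.ext h)
  -- `t` has order `p`
  have htp : (t : G) ^ p = 1 := by
    obtain ⟨k, hk⟩ := hP ⟨t, htP⟩
    have hk' : (t : G) ^ p ^ k = 1 := by
      have := congrArg Subtype.val hk
      simpa using this
    have h3 : orderOf (t : G) ∣ p ^ k := orderOf_dvd_of_pow_eq_one hk'
    obtain ⟨j, -, hj⟩ := (Nat.dvd_prime_pow hp.out).mp h3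
    have h4 : orderOf (t : G) ∣ Nat.card (Es K a) := by
      have := orderOf_dvd_natCard (⟨t, htE⟩ : ↥(Es K a))
      rwa [Subgroup.orderOf_mk] at this
    rw [S.card_Es_eq hx hxy, hj] at h4
    have hj1 : j ≤ 1 := by
      by_contra hcon
      push Not at hcon
      have h5 : p ^ 2 ∣ p ^ j := pow_dvd_pow p hcon
      have h6 : p * p ∣ p * (p ^ 2 - 1) := by
        have h7 : p * p = p ^ 2 := (pow_two p).symm
        rw [h7]
        exact h5.trans h4
      exact hpn (Nat.dvd_of_mul_dvd_mul_left hp.out.pos h6)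
    apply orderOf_dvd_iff_pow_eq_one.mp
    rw [hj]
    exact pow_dvd_pow p hj1 |>.trans (by rw [pow_one])
  -- `x'` with `x' t x'⁻¹ ∉ ⟨t⟩`
  have hex : ∃ x' ∈ K, x' * (t : G) * x'⁻¹ ∉ zpowers (t : G) := by
    by_contra hcon
    push Not at hcon
    apply ht1'
    apply F.eq_one_of_centralizes_K htH htp
    intro k hk
    have h3 := hcon k hk
    have h4 : k * t * k⁻¹ * (t : G)⁻¹ ∈ K := by
      have : k * t * k⁻¹ * (t : G)⁻¹ = k * (t * k⁻¹ * (t : G)⁻¹) := by group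
      rw [this]
      exact K.mul_mem hk (conj_mem (F.hHK htH) (K.inv_mem hk))
    have h5 : k * t * k⁻¹ * (t : G)⁻¹ ∈ zpowers (t : G) :=
      Subgroup.mul_mem _ h3 (Subgroup.inv_mem _ (mem_zpowers _))
    have h6 : (k * t * k⁻¹ * (t : G)⁻¹) ^ p = 1 := by
      obtain ⟨n, hn⟩ := mem_zpowers_iff.mp h5
      rw [← hn, ← zpow_natCast, ← zpow_mul, mul_comm, zpow_mul, zpow_natCast, htp, one_zpow]
    have h7 := F.eq_one_of_mem_K h4 h6
    calc (t : G) * k = (k * t * k⁻¹ * (t : G)⁻¹)⁻¹ * (k * t) := by group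
      _ = k * t := by rw [h7, inv_one, one_mul]
  obtain ⟨x', hx', hx't⟩ := hex
  have hx'H : x' ∈ Es K a ⊔ (H ⊓ centralizer (ctr K c : Set G)) := by
    rw [F.Es_sup_eq hS3 haH hT]; exact F.hKH hx'
  obtain ⟨e, he, b', hb', rfl⟩ := mem_sup_comm hcommEH hx'H
  have hconj1 : (e * b') * t * (e * b')⁻¹ = e * t * e⁻¹ := by
    have := hcommEH t htE b' hb'
    calc (e * b') * t * (e * b')⁻¹ = e * (b' * t) * b'⁻¹ * e⁻¹ := by group
      _ = e * (t * b') * b'⁻¹ * e⁻¹ := by rw [this]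
      _ = e * t * e⁻¹ := by group
  have hHn : H ≤ normalizer ((H ⊓ centralizer (ctr K c : Set G) : Subgroup G) : Set G) := by
    intro h hh
    exact mem_normalizer_inf (le_normalizer hh)
      (normalizer_le_normalizer_centralizer' _ (hnN hh))
  have heD : e ∈ ((D ⊔ (H ⊓ centralizer (ctr K c : Set G)) : Subgroup G) : Set G) := hED he
  rw [Subgroup.coe_mul_of_left_le_normalizer_right D _ (hDH.trans hHn)] at heD
  obtain ⟨d, hd, b, hb, rfl⟩ := Set.mem_mul.mp heD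
  have hconj2 : (d * b) * t * (d * b)⁻¹ = d * t * d⁻¹ := by
    have := hcommEH t htE b hb
    calc (d * b) * t * (d * b)⁻¹ = d * (b * t) * b⁻¹ * d⁻¹ := by group
      _ = d * (t * b) * b⁻¹ * d⁻¹ := by rw [this]
      _ = d * t * d⁻¹ := by group
  have hbL : (d * b * b') * t * (d * b * b')⁻¹ ∈ L := by
    rw [hconj1, hconj2]
    exact L.mul_mem (L.mul_mem (hDL hd) (hPL htP)) (L.inv_mem (hDL hd))
  have hbE : (d * b * b') * t * (d * b * b')⁻¹ ∈ Es K a := by
    rw [hconj1]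
    exact Subgroup.mul_mem _ (Subgroup.mul_mem _ he htE) (Subgroup.inv_mem _ he)
  have hbp : ((d * b * b') * t * (d * b * b')⁻¹) ^ p = 1 := by
    rw [conj_pow, htp]; group
  have hle : zpowers (t : G) ⊔ zpowers ((d * b * b') * t * (d * b * b')⁻¹) ≤ Es K a :=
    sup_le (Subgroup.zpowers_le.mpr htE) (Subgroup.zpowers_le.mpr hbE)
  have hE' : zpowers (t : G) ⊔ zpowers ((d * b * b') * t * (d * b * b')⁻¹) = Es K a := by
    apply Subgroup.eq_of_le_of_card_ge hle
    obtain ⟨φ, -⟩ := sl2_recognition S.ea_ctr (S.card_ctr hx hxy)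
      (hle.trans S.Es_le_normalizer_ctr)
      (fun _ he h => S.Es_faithful hx hxy (hle he) h) (mem_sup_left (mem_zpowers _))
      (mem_sup_right (mem_zpowers _)) htp ht1' hbp hx't
      ((Subgroup.card_le_of_le hle).trans (S.card_Es_le hx hxy))
    rw [Nat.card_congr φ.toEquiv, card_SL2_zmod, S.card_Es_eq hx hxy]
  have hEL : Es K a ≤ L := by
    rw [← hE']
    exact sup_le (Subgroup.zpowers_le.mpr (hPL htP)) (Subgroup.zpowers_le.mpr hbL)
  exact hEL a_mem_Es

end core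

end Cfsg.Agent.Helper1.FG
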