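import Mathlib
import Cfsg.Agent.Lib.Helper1.FGE
import Cfsg.Agent.Lib.Helper1.FGG

/-!
# KS 9.3.10: generation (normal subgroup of `q`-power index)
-/

set_option autoImplicit false
set_option linter.unusedSectionVars false

namespace Cfsg.Agent.Helper1.FG

open Subgroup
open scoped commutatorElement
open Cfsg.Agent.Helper1 Cfsg.Agent.Helper1.FF
open TvS

variable {G : Type*} [Group G] [Finite G] {p : ℕ} [hp : Fact p.Prime]
  (K₀ : Subgroup G) [hKn : K₀.Normal] {q : ℕ} [hq : Fact q.Prime]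

omit hKn in
theorem p_ne_q (hqK : ¬ q ∣ Nat.card K₀) {A : Subgroup ↥K₀}
    (hA : A ∈ Cfsg.maxElementaryAbelianSubgroups p ↥K₀)
    (hAC : ¬ A ≤ centralizer (VZ p ↥K₀ : Set ↥K₀)) : p ≠ q := by
  rintro rfl
  apply hqK
  have hne : A ≠ ⊥ := by
    rintro rfl
    exact hAC bot_le
  obtain ⟨a, ha1⟩ := (Subgroup.ne_bot_iff_exists_ne_one.mp hne)
  have hap : (a : ↥K₀) ^ p = 1 := (ea_of_isElementaryAbelian hA.1).exp a a.2
  have hord : orderOf (a : ↥K₀) = p := by
    rcases (Nat.dvd_prime hp.out).mp (orderOf_dvd_of_pow_eq_one hap) with h | h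
    · exfalso
      apply ha1
      exact Subtype.ext (orderOf_eq_one_iff.mp h)
    · exact h
  rw [← hord]
  exact orderOf_dvd_natCard _

theorem map_map_le_HBK [hn : (VK p K₀).Normal] (hGq : IsPGroup q (G ⧸ K₀)) (hpq : p ≠ q)
    (hEA : EA p (VZ p ↥K₀)) {A : Subgroup ↥K₀}
    (hA : A ∈ Cfsg.maxElementaryAbelianSubgroups p ↥K₀) :
    (A.map K₀.subtype).map (Th (VK p K₀)) ≤ HBK p (VK p K₀) K₀ := by
  have hAea : EA p (A.map K₀.subtype) := by
    have h0 := ea_of_isElementaryAbelian hA.1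
    constructor
    · rintro _ ⟨a, ha, rfl⟩ _ ⟨b, hb, rfl⟩
      exact congrArg Subtype.val (h0.comm a ha b hb)
    · rintro _ ⟨a, ha, rfl⟩
      exact congrArg Subtype.val (h0.exp a ha)
  have hmax : ∀ B : Subgroup G, EA p B → Nat.card B ≤ Nat.card ↥(A.map K₀.subtype) := by
    intro B hB
    have hBK : B ≤ K₀ := fun b hb => mem_of_pow_eq_one K₀ hGq hpq (hB.exp b hb)
    rw [Subgroup.card_map_of_injective (Subgroup.subtype_injective _),
      ← Nat.card_congr (Subgroup.subgroupOfEquivOfLe hBK).toEquiv]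
    apply hA.2
    apply isElementaryAbelian_of_ea
    constructor
    · intro b hb b' hb'
      exact Subtype.ext (hB.comm _ hb _ hb')
    · intro b hb
      exact Subtype.ext (hB.exp _ hb)
  have hbo := bo_image (VK p K₀) (ea_VK K₀ hEA) hAea hmax
  exact le_HBK _ K₀ (Subgroup.map_mono (Subgroup.map_subtype_le _)) hbo

/-- **KS 9.3.10, generation**: the normal subgroup `Hh` (the preimage of the group generated
by the best offenders) contains all maximal elementary abelian subgroups and lies in every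
subgroup containing a Sylow subgroup, `C_{K₀}(V)` and `C_{K₀}(X)`. -/
theorem gen_main (X : Subgroup G) (hXq : IsPGroup q X) (hqK : ¬ q ∣ Nat.card K₀)
    (hGq : IsPGroup q (G ⧸ K₀)) (hEA : EA p (VZ p ↥K₀)) (hsol : Cfsg.IsPSolvable p ↥K₀)
    {A₁ : Subgroup ↥K₀} (hA₁ : A₁ ∈ Cfsg.maxElementaryAbelianSubgroups p ↥K₀)
    (hAC : ¬ A₁ ≤ centralizer (VZ p ↥K₀ : Set ↥K₀)) :
    ∃ Hh : Subgroup G, Hh.Normal ∧ Hh ≤ K₀ ∧
      (∀ A ∈ Cfsg.maxElementaryAbelianSubgroups p ↥K₀, A.map K₀.subtype ≤ Hh) ∧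
      ∀ L₀ P : Subgroup G, L₀ ≤ K₀ → IsPGroup p P → P ≤ K₀ → ¬ p ∣ P.relIndex K₀ → P ≤ L₀ →
        K₀ ⊓ centralizer (VK p K₀ : Set G) ≤ L₀ → K₀ ⊓ centralizer (X : Set G) ≤ L₀ →
        Hh ≤ L₀ := by
  classical
  have hpq : p ≠ q := p_ne_q K₀ hqK hA₁ hAC
  haveI hn : (VK p K₀).Normal := VK_normal K₀
  have hV := ea_VK K₀ hEA
  have hO := pCore_quot_VK K₀ hGq hpq
  have hne := HBK_ne_bot K₀ hGq hpq hEA hA₁ hAC
  have hrn := range_le_normalizer_HBK (p := p) (VK p K₀) K₀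
  refine ⟨K₀ ⊓ (HBK p (VK p K₀) K₀).comap (Th (VK p K₀)), ?_, inf_le_left, ?_, ?_⟩
  · constructor
    intro n hn' g
    refine mem_inf.mpr ⟨hKn.conj_mem n (mem_inf.mp hn').1 g, ?_⟩
    rw [mem_comap, map_mul, map_mul, map_inv]
    exact conj_mem (hrn ⟨g, rfl⟩) (mem_inf.mp hn').2
  · intro A hA
    apply le_inf (Subgroup.map_subtype_le _)
    rw [← Subgroup.map_le_iff_le_comap]
    exact map_map_le_HBK K₀ hGq hpq hEA hA
  · intro L₀ P hLK hP hPK hPidx hPL hL1 hL2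
    have F := HBK_ffs (VK p K₀) K₀ hV hsol hO
    have hS3 := HBK_hS3 (p := p) (VK p K₀) K₀
    obtain ⟨a, c, haH, hT⟩ := F.exists_tv hS3 hne
    have S := F.tvs haH hT
    obtain ⟨x, hx, hxy⟩ := F.exists_y_ne_one haH hT
    haveI : Fintype ↥(X.map (Th (VK p K₀))) := Fintype.ofFinite _
    have hYV : X.map (Th (VK p K₀)) ≤ normalizer (VV (VK p K₀) : Set (GamV (VK p K₀))) :=
      map_Th_le_normalizer (VK p K₀) X
    have hmr : ∀ B : Subgroup G, B.map (Th (VK p K₀)) ≤ (Th (VK p K₀)).range := by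
      intro B
      rw [MonoidHom.range_eq_map]; exact Subgroup.map_mono le_top
    have hYH : X.map (Th (VK p K₀)) ≤
        normalizer (HBK p (VK p K₀) K₀ : Set (GamV (VK p K₀))) := (hmr X).trans hrn
    have hYK := hYH.trans (normalizer_le_normalizer_KK p (HBK p (VK p K₀) K₀))
    have hYq : IsPGroup q ↥(X.map (Th (VK p K₀))) := hXq.map _
    have hqp : ¬ q ∣ p * (p ^ 2 - 1) := by
      intro h
      apply hqK
      rw [← S.card_Es_eq hx hxy] at h
      exact h.trans ((Subgroup.card_dvd_of_le ((F.Es_le_H haH).trans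
        (HBK_le (VK p K₀) K₀))).trans (Subgroup.card_map_dvd _ _))
    have hPidx' : ¬ p ∣ (P.map (Th (VK p K₀))).relIndex (K₀.map (Th (VK p K₀))) := by
      rw [← Subgroup.relIndex_comap, Subgroup.comap_map_eq]
      intro h
      exact hPidx (h.trans (Subgroup.relIndex_dvd_of_le_left K₀ le_sup_left))
    have hfix : HBK p (VK p K₀) K₀ ⊓
        centralizer ((X.map (Th (VK p K₀)) : Subgroup (GamV (VK p K₀))) : Set (GamV (VK p K₀))) ≤
        L₀.map (Th (VK p K₀)) := by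
      intro d hd
      obtain ⟨k, hk, e⟩ := exists_fixed_lift (Th (VK p K₀)) K₀ X
        (le_trans le_top (by rw [normalizer_eq_top]) : X ≤ normalizer (K₀ : Set G)) hXq hqK
        (HBK_le (VK p K₀) K₀ (mem_inf.mp hd).1)
        (fun x' hx' => mem_centralizer_iff.mp (mem_inf.mp hd).2 _ ⟨x', hx', rfl⟩)
      exact ⟨k, hL2 hk, e⟩
    have hHL := H_le_of_fixed_of_sylow F (X.map (Th (VK p K₀))) hYV hYH hYK hYq hqp hS3
      (K₀.map (Th (VK p K₀))) (P.map (Th (VK p K₀))) (L₀.map (Th (VK p K₀)))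
      (HBK_le (VK p K₀) K₀) ((hmr K₀).trans hrn) (hP.map _) (Subgroup.map_mono hPK) hPidx'
      (Subgroup.map_mono hPL) hfix
    intro n hn'
    obtain ⟨l, hl, e⟩ := hHL (mem_inf.mp hn').2
    have h1 : l⁻¹ * n ∈ K₀ ⊓ centralizer (VK p K₀ : Set G) := by
      refine mem_inf.mpr ⟨K₀.mul_mem (K₀.inv_mem (hLK hl)) (mem_inf.mp hn').1, ?_⟩
      rw [← ker_Th, MonoidHom.mem_ker, map_mul, map_inv, e, inv_mul_cancel]
    have h2 : n = l * (l⁻¹ * n) := by group
    rw [h2]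
    exact L₀.mul_mem hl (hL1 h1)

end Cfsg.Agent.Helper1.FG
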