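import Mathlib
import Cfsg.Agent.Lib.Helper1.FGF
import Cfsg.Agent.Lib.Helper1.FGH

/-!
# KS 9.3.10: generation by `N(J(S))`, `C(Ω₁(Z(S)))` and `C(X)`, final form
-/

set_option autoImplicit false
set_option linter.unusedSectionVars false

namespace Cfsg.Agent.Helper1.FG

open Subgroup
open scoped commutatorElement
open Cfsg.Agent.Helper1 Cfsg.Agent.Helper1.FF
open TvS

variable {G : Type*} [Group G] [Finite G] {p : ℕ} [hp : Fact p.Prime] {q : ℕ} [hq : Fact q.Prime]
  (K X : Subgroup G)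

theorem coprime_generation (hXK : X ≤ normalizer (K : Set G)) (hXq : IsPGroup q X)
    (hqK : ¬ q ∣ Nat.card K) (hsep : Cfsg.IsPSolvable p ↥K) (hO : Cfsg.pPrimeCore p ↥K = ⊥)
    (S : Sylow p ↥K) :
    (normalizer (Cfsg.thompsonSubgroupOf p (S : Subgroup ↥K) : Set ↥K) ⊔
      centralizer (Cfsg.omegaOne p ((S : Subgroup ↥K) ⊓
        centralizer ((S : Subgroup ↥K) : Set ↥K)) : Set ↥K) ⊔
      (centralizer (X : Set G)).subgroupOf K) = ⊤ := by
  by_cases hnf : Cfsg.IsThompsonFactorizable p ↥K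
  · rw [eq_top_iff]
    intro g _
    obtain ⟨x, hx, c, hc, n, hn, e⟩ := hnf S g
    rw [hO, mem_bot] at hx
    rw [e, hx, one_mul]
    exact Subgroup.mul_mem _ (mem_sup_left (mem_sup_right hc)) (mem_sup_left (mem_sup_left hn))
  · set L := (normalizer (Cfsg.thompsonSubgroupOf p (S : Subgroup ↥K) : Set ↥K) ⊔
      centralizer (Cfsg.omegaOne p ((S : Subgroup ↥K) ⊓
        centralizer ((S : Subgroup ↥K) : Set ↥K)) : Set ↥K) ⊔
      (centralizer (X : Set G)).subgroupOf K) with hL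
    haveI hKn : (K.subgroupOf (K ⊔ X)).Normal :=
      (Subgroup.normal_subgroupOf_iff_le_normalizer le_sup_left).mpr
        (sup_le le_normalizer hXK)
    obtain ⟨hEA, hsol, A₁, hA₁, hAC⟩ := transported_hyps K X hsep hO hnf
    have hGq := isPGroup_quot K X hXK hXq
    have hXq₀ : IsPGroup q ↥(X.subgroupOf (K ⊔ X)) := hXq.comap_subtype
    have hqK₀ : ¬ q ∣ Nat.card ↥(K.subgroupOf (K ⊔ X)) := by
      rw [Nat.card_congr (Subgroup.subgroupOfEquivOfLe (le_sup_left : K ≤ K ⊔ X)).toEquiv]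
      exact hqK
    obtain ⟨Hh, hHn, hHK, hHA, hHL⟩ :=
      gen_main (K.subgroupOf (K ⊔ X)) (X.subgroupOf (K ⊔ X)) hXq₀ hqK₀ hGq hEA hsol hA₁ hAC
    let ι : ↥K →* ↥(K ⊔ X) := Subgroup.inclusion le_sup_left
    have hιinj : Function.Injective ι := Subgroup.inclusion_injective le_sup_left
    have hιc : ∀ k : ↥K, ((ι k : ↥(K ⊔ X)) : G) = k := fun _ => rfl
    let e : ↥(K.subgroupOf (K ⊔ X)) ≃* ↥K := Subgroup.subgroupOfEquivOfLe le_sup_left
    have hιe : ∀ k : ↥K, ((e.symm k : ↥(K.subgroupOf (K ⊔ X))) : ↥(K ⊔ X)) = ι k := by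
      intro k
      apply Subtype.ext
      rfl
    have hιK : ∀ k : ↥K, ι k ∈ K.subgroupOf (K ⊔ X) := fun k => mem_subgroupOf.mpr k.2
    haveI : (Hh.comap ι).Normal := hHn.comap ι
    -- (1) maximal elementary abelian subgroups lie in `H_K`
    have h1 : ∀ A ∈ Cfsg.maxElementaryAbelianSubgroups p ↥K, A ≤ Hh.comap ι := by
      intro A hA a ha
      rw [mem_comap]
      apply hHA (A.map e.symm.toMonoidHom)
        (Cfsg.Agent.Helper10.map_mulEquiv_mem_maxElementaryAbelianSubgroups e.symm hA)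
      exact ⟨e.symm a, ⟨a, ha, rfl⟩, hιe a⟩
    -- (2) `H_K ≤ L`
    have hSL : (S : Subgroup ↥K) ≤ L := by
      obtain ⟨A₀, hA₀, hA₀S⟩ := Cfsg.Agent.Helper10.exists_mem_maxElementaryAbelianSubgroups_le_sylow S
      have := Cfsg.Agent.Helper10.normalizer_le_normalizer_thompsonSubgroupOf hA₀ hA₀S
        (le_refl (S : Subgroup ↥K)) (Cfsg.Agent.Helper10.thompsonSubgroupOf_le _)
      exact (le_normalizer.trans this).trans (le_sup_left.trans le_sup_left)
    have h2 : Hh.comap ι ≤ L := by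
      have h3 := hHL (L.map ι) ((S : Subgroup ↥K).map ι) ?_ (S.isPGroup'.map ι) ?_ ?_
        (Subgroup.map_mono hSL) ?_ ?_
      · intro k hk
        obtain ⟨l, hl, e'⟩ := h3 hk
        rwa [← hιinj e']
      · rintro _ ⟨l, -, rfl⟩
        exact hιK l
      · rintro _ ⟨l, -, rfl⟩
        exact hιK l
      · have hK₀ : K.subgroupOf (K ⊔ X) = (⊤ : Subgroup ↥K).map ι := by
          ext n
          constructor
          · intro hn
            exact ⟨⟨(n : G), mem_subgroupOf.mp hn⟩, mem_top _, Subtype.ext rfl⟩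
          · rintro ⟨k, -, rfl⟩
            exact hιK k
        rw [hK₀, Subgroup.relIndex_map_map_of_injective _ _ hιinj, Subgroup.relIndex_top_right]
        exact S.not_dvd_index
      · intro n hn
        have hnK := (mem_inf.mp hn).1
        refine ⟨⟨(n : G), mem_subgroupOf.mp hnK⟩, ?_, Subtype.ext rfl⟩
        apply mem_sup_left
        apply mem_sup_right
        rw [mem_centralizer_iff]
        intro z hz
        have hzV : z ∈ VZ p ↥K := omegaOne_le_VZ p S hz
        have hzV₀ : e.symm z ∈ VZ p ↥(K.subgroupOf (K ⊔ X)) :=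
          VZ_map_le (p := p) e.symm ⟨z, hzV, rfl⟩
        have hzVK : ι z ∈ VK p (K.subgroupOf (K ⊔ X)) := ⟨e.symm z, hzV₀, hιe z⟩
        have := mem_centralizer_iff.mp (mem_inf.mp hn).2 _ hzVK
        apply Subtype.ext
        have h4 := congrArg (fun m : ↥(K ⊔ X) => (m : G)) this
        simp only [Subgroup.coe_mul] at h4
        rw [Subgroup.coe_mul, Subgroup.coe_mul]
        exact h4
      · intro n hn
        have hnK := (mem_inf.mp hn).1
        refine ⟨⟨(n : G), mem_subgroupOf.mp hnK⟩, ?_, Subtype.ext rfl⟩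
        apply mem_sup_right
        rw [mem_subgroupOf, mem_centralizer_iff]
        intro x hx
        have hxN : x ∈ K ⊔ X := le_sup_right (a := K) hx
        have := mem_centralizer_iff.mp (mem_inf.mp hn).2 (⟨x, hxN⟩ : ↥(K ⊔ X))
          (mem_subgroupOf.mpr hx)
        exact congrArg Subtype.val this
    -- (3) Frattini
    obtain ⟨A₀, hA₀, hA₀S⟩ := Cfsg.Agent.Helper10.exists_mem_maxElementaryAbelianSubgroups_le_sylow S
    have hJ := Cfsg.Agent.Helper10.thompsonSubgroupOf_eq_sSup hA₀ hA₀S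
    have hJle : Cfsg.thompsonSubgroupOf p (S : Subgroup ↥K) ≤ (S : Subgroup ↥K) ⊓ Hh.comap ι := by
      rw [hJ]
      apply sSup_le
      rintro A ⟨hA, hAS⟩
      exact le_inf hAS (h1 A hA)
    have hN := Cfsg.Agent.Helper10.normalizer_le_normalizer_thompsonSubgroupOf hA₀ hA₀S
      (inf_le_left : (S : Subgroup ↥K) ⊓ Hh.comap ι ≤ S) hJle
    have hfr := Sylow.normalizer_sup_eq_top (Cfsg.Agent.S4341.sylowInf S (Hh.comap ι))
    rw [Cfsg.Agent.S4341.coe_sylowInf, Subgroup.subgroupOf_map_subtype] at hfr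
    rw [eq_top_iff, ← hfr]
    exact sup_le (hN.trans (le_sup_left.trans le_sup_left)) h2

end Cfsg.Agent.Helper1.FG
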