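import Mathlib
import Cfsg.Agent.S0598
import Cfsg.Agent.Lib.Helper1.FFL
import Cfsg.Agent.Lib.Helper1.FFU
import Cfsg.Agent.Lib.Helper30.AxB

/-!
# Abelian `2`-subgroups with maximal product `|B| * |C_V(B)|` are generated by transvections
(failure of factorization for the abelian version of the Thompson subgroup, `p = 2`)
-/

set_option autoImplicit false

namespace Cfsg.Agent.Helper1.FH

open Subgroup Cfsg.Agent.Helper1.FF
open scoped commutatorElement

variable {G : Type*} [Group G]

/-- the product `|B| * |C_V(B)|` -/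
noncomputable def tmm (V B : Subgroup G) : ℕ :=
  Nat.card B * Nat.card ↥(V ⊓ centralizer (B : Set G))

theorem mem_zpowers_two {c u : G} (hc : c ^ 2 = 1) (hu : u ∈ zpowers c) : u = 1 ∨ u = c := by
  obtain ⟨k, rfl⟩ := mem_zpowers_iff.mp hu
  rcases Int.even_or_odd' k with ⟨m, hm | hm⟩
  · left
    rw [hm, zpow_mul, zpow_ofNat, hc, one_zpow]
  · right
    rw [hm, zpow_add, zpow_mul, zpow_ofNat, hc, one_zpow, one_mul, zpow_one]

/-- an element centralizing all its commutators with the elementary abelian `2`-group `V`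
squares into the centralizer of `V` -/
theorem sq_mem_centralizer {V : Subgroup G} (hV : EA 2 V) {a : G}
    (ha : a ∈ normalizer (V : Set G)) (hq : ∀ v ∈ V, a * ⁅v, a⁆ = ⁅v, a⁆ * a) :
    a ^ 2 ∈ centralizer (V : Set G) := by
  rw [mem_centralizer_iff]
  intro v hv
  have hw : ⁅v, a⁆ ∈ V := by
    have h1 : a * v⁻¹ * a⁻¹ ∈ V := conj_mem ha (V.inv_mem hv)
    have : ⁅v, a⁆ = v * (a * v⁻¹ * a⁻¹) := by rw [commutatorElement_def]; group
    rw [this]; exact V.mul_mem hv h1
  have hw2 : ⁅v, a⁆ * ⁅v, a⁆ = 1 := by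
    have := hV.exp _ hw
    rwa [pow_two] at this
  have hwv : ⁅v, a⁆ * v = v * ⁅v, a⁆ := hV.comm _ hw _ hv
  -- a v a⁻¹ = w⁻¹ v
  have h1 : a * v = ⁅v, a⁆⁻¹ * v * a := by rw [commutatorElement_def]; group
  have hwinv : ⁅v, a⁆⁻¹ = ⁅v, a⁆ := inv_eq_of_mul_eq_one_right hw2
  rw [hwinv] at h1
  have hq' := hq v hv
  calc v * a ^ 2 = v * a * a := by rw [pow_two]; group
    _ = (⁅v, a⁆ * ⁅v, a⁆) * v * a * a := by rw [hw2, one_mul]
    _ = ⁅v, a⁆ * (⁅v, a⁆ * v * a) * a := by group
    _ = ⁅v, a⁆ * (a * v) * a := by rw [h1]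
    _ = (⁅v, a⁆ * a) * v * a := by group
    _ = (a * ⁅v, a⁆) * v * a := by rw [hq']
    _ = a * (⁅v, a⁆ * v * a) := by group
    _ = a * (a * v) := by rw [h1]
    _ = a ^ 2 * v := by rw [pow_two]; group

/-- the four elements of a group of order `4` -/
theorem mem_of_card_four [Finite G] {W : Subgroup G} (hW : Nat.card W = 2 ^ 2) {c d : G}
    (hc : c ∈ W) (hd : d ∈ W) (hc1 : c ≠ 1) (hd1 : d ≠ 1) (hdc : d ≠ c) (hcd0 : c * d ≠ 1)
    {u : G} (hu : u ∈ W) :
    u = 1 ∨ u = c ∨ u = d ∨ u = c * d := by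
  classical
  by_contra hcon
  push Not at hcon
  obtain ⟨h1, h2, h3, h4⟩ := hcon
  have hcd : c * d ∈ W := W.mul_mem hc hd
  have hcd1 : c * d ≠ c := fun h => hd1 (by simpa using h)
  have hcd2 : c * d ≠ d := fun h => hc1 (by simpa using h)
  let s : Finset G := {u, c * d, d, c, 1}
  have hsW : ∀ x ∈ s, x ∈ W := by
    intro x hx
    simp only [s, Finset.mem_insert, Finset.mem_singleton] at hx
    rcases hx with rfl | rfl | rfl | rfl | rfl
    · exact hu
    · exact hcd
    · exact hd
    · exact hc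
    · exact W.one_mem
  have hle : s.card ≤ Nat.card W := by
    have := Fintype.ofFinite W
    rw [Nat.card_eq_fintype_card]
    have hinj : Function.Injective (fun x : s => (⟨x.1, hsW x.1 x.2⟩ : W)) := by
      intro x y hxy
      exact Subtype.ext (congrArg (fun w : W => (w : G)) hxy)
    have := Fintype.card_le_of_injective _ hinj
    simpa using this
  have hs : s.card = 5 := by
    simp only [s]
    rw [Finset.card_insert_of_notMem, Finset.card_insert_of_notMem,
      Finset.card_insert_of_notMem, Finset.card_insert_of_notMem, Finset.card_singleton]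
    · simp only [Finset.mem_singleton]; exact hc1
    · simp only [Finset.mem_insert, Finset.mem_singleton]
      rintro (h | h)
      · exact hdc h
      · exact hd1 h
    · simp only [Finset.mem_insert, Finset.mem_singleton]
      rintro (h | h | h)
      · exact hcd2 h
      · exact hcd1 h
      · exact hcd0 h
    · simp only [Finset.mem_insert, Finset.mem_singleton]
      rintro (h | h | h | h)
      · exact h4 h
      · exact h3 h
      · exact h2 h
      · exact h1 h
  rw [hs, hW] at hle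
  norm_num at hle

variable [Finite G] {V H K : Subgroup G}

/-- **Abelian `2`-subgroups with the maximal product property are generated by best offenders
(transvection groups).** -/
theorem gen_by_bo (F : FFS 2 V H K) : ∀ (n : ℕ) (A : Subgroup G), Nat.card A = n → A ≤ H →
    (∀ x ∈ A, ∀ y ∈ A, x * y = y * x) → IsPGroup 2 A →
    (∀ B : Subgroup G, B ≤ A → tmm V B ≤ tmm V A) →
    A ≤ ⨆ B : {B : Subgroup G // B ≤ A ∧ Cfsg.IsBestOffenderOn 2 V B}, (B : Subgroup G) := by
  intro n
  induction n using Nat.strong_induction_on with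
  | _ n ih =>
  intro A hn hAH hcomm hA2 hmax
  by_cases hA1 : A = ⊥
  · subst hA1; exact bot_le
  have hV := F.hV
  have hVel : Cfsg.IsElementaryAbelian 2 V := isElementaryAbelian_of_ea hV
  have hVp : IsPGroup 2 V := F.isPGroup_V
  have hAV : A ≤ normalizer (V : Set G) := hAH.trans F.hHV
  have hAA : ⁅A, A⁆ = ⊥ := by
    rw [commutator_eq_bot_iff_le_centralizer]
    intro x hx
    rw [mem_centralizer_iff]
    intro y hy
    exact hcomm y hy x hx
  have hab : ⁅A, A⁆ ≤ centralizer (V : Set G) := by rw [hAA]; exact bot_le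
  obtain ⟨B, hBA, hB⟩ := Cfsg.Agent.S0598.result V A hVel hAV hab V le_rfl
  rcases hB with hlt | ⟨hBeq, hfix, hprod⟩
  · exact absurd (hmax B hBA) (not_le.mpr hlt)
  -- `B = C_A([V,A])` is a best offender
  have hBbo : Cfsg.IsBestOffenderOn 2 V B := by
    refine ⟨?_, ?_, ?_⟩
    · intro B' hB'
      have := hmax B' (hB'.trans hBA)
      unfold tmm at this
      rwa [hprod] at this
    · exact (commutator_mono hBA hBA).trans hab
    · intro a ha
      apply sq_mem_centralizer hV (hAV (hBA ha))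
      intro v hv
      have h1 : ⁅v, a⁆ ∈ ⁅V, A⁆ := commutator_mem_commutator hv (hBA ha)
      have h2 : a ∈ centralizer ((⁅V, A⁆ : Subgroup G) : Set G) := by
        rw [hBeq] at ha
        exact (mem_inf.mp ha).2
      exact (mem_centralizer_iff.mp h2 _ h1).symm
  -- `B ≠ ⊥`
  have hWne : ⁅V, A⁆ ≠ ⊥ := F.commutator_V_ne_bot hAH hA1
  have hWV : ⁅V, A⁆ ≤ V := by
    rw [commutator_le]
    intro v hv a ha
    have h1 : a * v⁻¹ * a⁻¹ ∈ V := conj_mem (hAV ha) (V.inv_mem hv)
    have : ⁅v, a⁆ = v * (a * v⁻¹ * a⁻¹) := by rw [commutatorElement_def]; group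
    rw [this]; exact V.mul_mem hv h1
  have hBne : B ≠ ⊥ := by
    intro hB0
    rw [hB0, inf_centralizer_bot] at hfix
    have hAW : A ≤ normalizer ((⁅V, A⁆ : Subgroup G) : Set G) :=
      Cfsg.Agent.Helper30.le_normalizer_commutator A V A hAV le_normalizer
    have hlt := Cfsg.Agent.Helper30.commutator_lt_of_isPGroup (p := 2) ⁅V, A⁆ A
      (hVp.to_le hWV) hA2 hAW hWne
    apply lt_irrefl _ (lt_of_le_of_lt ?_ hlt)
    rw [commutator_le]
    intro v hv a ha
    have hv' : v ∈ ⁅V, A⁆ ⊔ (V ⊓ centralizer (A : Set G)) := by rw [← hfix]; exact hv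
    obtain ⟨w, hw, u, hu, rfl⟩ := mem_sup_comm (fun x hx y hy =>
      hV.comm x (hWV hx) y (mem_inf.mp hy).1) hv'
    have hua : u * a = a * u := (mem_centralizer_iff.mp (mem_inf.mp hu).2 a ha).symm
    have : ⁅w * u, a⁆ = ⁅w, a⁆ := by
      rw [commutatorElement_def, commutatorElement_def]
      calc w * u * a * (w * u)⁻¹ * a⁻¹ = w * (u * a) * u⁻¹ * w⁻¹ * a⁻¹ := by group
        _ = w * (a * u) * u⁻¹ * w⁻¹ * a⁻¹ := by rw [hua]
        _ = w * a * w⁻¹ * a⁻¹ := by group
    rw [this]
    exact commutator_mem_commutator hw ha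
  -- a transvection in `B`
  obtain ⟨-, ι, _, Bi, hBi, hsup, -⟩ := F.bo_main _ B rfl (hBA.trans hAH) hBbo
  have hne : Nonempty ι := by
    by_contra hemp
    rw [not_nonempty_iff] at hemp
    apply hBne
    rw [← hsup]
    exact iSup_of_empty Bi
  obtain ⟨i⟩ := hne
  obtain ⟨h1, h2, h3⟩ := hBi i
  obtain ⟨t, c, hz, htH, hT⟩ := F.tg_tv (h1.trans (hBA.trans hAH)) h2 h3
  have htA : t ∈ A := hBA (h1 (hz ▸ mem_zpowers t))
  have S := F.tvs htH hT
  obtain ⟨x, hxK, hy⟩ := F.exists_y_ne_one htH hT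
  set d := x * c * x⁻¹ with hd
  have htd : t * d ≠ d * t := S.pair hxK hy
  have hcardW : Nat.card (ctr K c) = 2 ^ 2 := S.card_ctr hxK hy
  have hcW : c ∈ ctr K c := S.zpowers_c_le_ctr (mem_zpowers c)
  have hdW : d ∈ ctr K c := S.conj_c_mem_ctr hxK
  have hc2 : c ^ 2 = 1 := S.cp
  have hc1 : c ≠ 1 := hT.c_ne_one
  have hdV : d ∈ V := S.ctr_le hdW
  have hd2 : d ^ 2 = 1 := hV.exp d hdV
  have hd1 : d ≠ 1 := by
    intro h
    apply htd
    rw [h, mul_one, one_mul]
  have hdc : d ≠ c := by
    intro h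
    apply htd
    rw [h]
    exact hT.hac
  have hcd0 : c * d ≠ 1 := by
    intro h
    apply hdc
    have h1 : d = c⁻¹ := eq_inv_of_mul_eq_one_right h
    have h2 : c⁻¹ = c := inv_eq_of_mul_eq_one_right (by rw [← pow_two]; exact hc2)
    rw [h1, h2]
  -- `[t, d] = c`
  have htdc : t * d * t⁻¹ = c * d := by
    have h1 : ⁅t, d⁆ ∈ zpowers c := hT.him d hdV
    rcases mem_zpowers_two hc2 h1 with h | h
    · exfalso
      apply htd
      rw [commutatorElement_def] at h
      calc t * d = (t * d * t⁻¹ * d⁻¹) * d * t := by group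
        _ = d * t := by rw [h, one_mul]
    · rw [commutatorElement_def] at h
      calc t * d * t⁻¹ = (t * d * t⁻¹ * d⁻¹) * d := by group
        _ = c * d := by rw [h]
  -- every element of `A` fixes `c`
  have hAc : ∀ a ∈ A, a * c = c * a := by
    intro a ha
    obtain ⟨v, hv, hne⟩ := hT.hne
    have hcv : ⁅t, v⁆ = c := by
      rcases mem_zpowers_two hc2 (hT.him v hv) with h | h
      · exact absurd h hne
      · exact h
    have hat : a * t = t * a := hcomm a ha t htA
    have hav : a * v * a⁻¹ ∈ V := conj_mem (hAV ha) hv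
    have h1 : a * c * a⁻¹ = ⁅t, a * v * a⁻¹⁆ := by
      rw [← hcv, commutatorElement_def, commutatorElement_def]
      have hat' : a * t * a⁻¹ = t := by rw [hat]; group
      calc a * (t * v * t⁻¹ * v⁻¹) * a⁻¹
          = (a * t * a⁻¹) * (a * v * a⁻¹) * (a * t * a⁻¹)⁻¹ * (a * v * a⁻¹)⁻¹ := by group
        _ = t * (a * v * a⁻¹) * t⁻¹ * (a * v * a⁻¹)⁻¹ := by rw [hat']
    have h2 : a * c * a⁻¹ ∈ zpowers c := by rw [h1]; exact hT.him _ hav
    rcases mem_zpowers_two hc2 h2 with h | h
    · exfalso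
      apply hc1
      calc c = a⁻¹ * (a * c * a⁻¹) * a := by group
        _ = 1 := by rw [h]; group
    · calc a * c = (a * c * a⁻¹) * a := by group
        _ = c * a := by rw [h]
  have hAW : ∀ a ∈ A, ∀ u ∈ ctr K c, a * u * a⁻¹ ∈ ctr K c := fun a ha u hu =>
    S.mem_ctr_iff.mpr (S.ctrSet_conj' (F.hHK (hAH ha)) (hAc a ha) (S.mem_ctr_iff.mp hu))
  have hAd : ∀ a ∈ A, a * d * a⁻¹ = d ∨ a * d * a⁻¹ = c * d := by
    intro a ha
    rcases mem_of_card_four hcardW hcW hdW hc1 hd1 hdc hcd0 (hAW a ha d hdW) with h | h | h | h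
    · exfalso
      apply hd1
      calc d = a⁻¹ * (a * d * a⁻¹) * a := by group
        _ = 1 := by rw [h]; group
    · exfalso
      apply hdc
      have hac := hAc a ha
      calc d = a⁻¹ * (a * d * a⁻¹) * a := by group
        _ = a⁻¹ * c * a := by rw [h]
        _ = a⁻¹ * (c * a) := by group
        _ = a⁻¹ * (a * c) := by rw [hac]
        _ = c := by group
    · exact Or.inl h
    · exact Or.inr h
  -- the complement `B' = C_A(d)`
  set B' := A ⊓ centralizer ({d} : Set G) with hB'
  have hB'A : B' ≤ A := inf_le_left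
  have hmemB' : ∀ a ∈ A, a * d * a⁻¹ = d → a ∈ B' := by
    intro a ha h
    refine mem_inf.mpr ⟨ha, ?_⟩
    rw [mem_centralizer_iff]
    intro y hy
    rw [Set.mem_singleton_iff] at hy
    subst hy
    calc d * a = (a * d * a⁻¹) * a := by rw [h]
      _ = a * d := by group
  have htB' : t ∉ B' := by
    intro h
    apply htd
    exact (mem_centralizer_iff.mp (mem_inf.mp h).2 d rfl).symm
  have hsupA : A ≤ zpowers t ⊔ B' := by
    intro a ha
    rcases hAd a ha with h | h
    · exact mem_sup_right (hmemB' a ha h)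
    · have h1 : t⁻¹ * a ∈ B' := by
        apply hmemB' _ (A.mul_mem (A.inv_mem htA) ha)
        calc t⁻¹ * a * d * (t⁻¹ * a)⁻¹ = t⁻¹ * (a * d * a⁻¹) * t := by group
          _ = t⁻¹ * (c * d) * t := by rw [h]
          _ = t⁻¹ * (t * d * t⁻¹) * t := by rw [htdc]
          _ = d := by group
      have : a = t * (t⁻¹ * a) := by group
      rw [this]
      exact Subgroup.mul_mem _ (mem_sup_left (mem_zpowers t)) (mem_sup_right h1)
  have hcardt : Nat.card (zpowers t) = 2 := hT.card_zpowers
  have hcardA : Nat.card A ≤ 2 * Nat.card B' := by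
    have h1 : Nat.card A ≤ Nat.card ↥(zpowers t ⊔ B') := Subgroup.card_le_of_le hsupA
    have h2 := card_sup_le_mul (zpowers t) B' (by
      rw [zpowers_le]
      have : A ≤ normalizer (B' : Set G) := by
        intro a ha
        rw [mem_normalizer_iff]
        intro b
        have hb : ∀ b, b ∈ B' → a * b * a⁻¹ ∈ B' := by
          intro b hb
          have hbA := hB'A hb
          have : a * b * a⁻¹ = b := by
            rw [hcomm a ha b hbA]; group
          rw [this]; exact hb
        constructor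
        · exact hb b
        · intro h
          have hainv : a⁻¹ ∈ A := A.inv_mem ha
          have hbA : a * b * a⁻¹ ∈ A := hB'A h
          have hbA' : b ∈ A := by
            have : b = a⁻¹ * (a * b * a⁻¹) * a := by group
            rw [this]
            exact A.mul_mem (A.mul_mem hainv hbA) ha
          have : a * b * a⁻¹ = b := by
            rw [hcomm a ha b hbA']; group
          rwa [this] at h
      exact this htA)
    rw [hcardt] at h2
    exact h1.trans h2
  have hfixlt : 2 * Nat.card ↥(V ⊓ centralizer (A : Set G)) ≤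
      Nat.card ↥(V ⊓ centralizer (B' : Set G)) := by
    apply FFS.mul_card_le_of_lt (p := 2) (hVp.to_le inf_le_left)
      (inf_le_inf_left V (centralizer_le hB'A))
    intro heq
    have hdm : d ∈ V ⊓ centralizer (B' : Set G) := by
      refine mem_inf.mpr ⟨hdV, ?_⟩
      rw [mem_centralizer_iff]
      intro b hb
      exact (mem_centralizer_iff.mp (mem_inf.mp hb).2 d rfl).symm
    rw [← heq] at hdm
    apply htd
    exact (mem_centralizer_iff.mp (mem_inf.mp hdm).2 t htA)
  have hprodB' : tmm V B' = tmm V A := by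
    apply le_antisymm (hmax B' hB'A)
    unfold tmm
    calc Nat.card A * Nat.card ↥(V ⊓ centralizer (A : Set G))
        ≤ (2 * Nat.card B') * Nat.card ↥(V ⊓ centralizer (A : Set G)) :=
          Nat.mul_le_mul_right _ hcardA
      _ = Nat.card B' * (2 * Nat.card ↥(V ⊓ centralizer (A : Set G))) := by ring
      _ ≤ Nat.card B' * Nat.card ↥(V ⊓ centralizer (B' : Set G)) :=
          Nat.mul_le_mul_left _ hfixlt
  have hcardlt : Nat.card B' < n := by
    rw [← hn]
    apply lt_of_le_of_ne (Subgroup.card_le_of_le hB'A)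
    intro h
    have := Subgroup.eq_of_le_of_card_ge hB'A h.ge
    apply htB'
    rw [this]
    exact htA
  have hIH := ih _ hcardlt B' rfl (hB'A.trans hAH)
    (fun x hx y hy => hcomm x (hB'A hx) y (hB'A hy)) (hA2.to_le hB'A)
    (fun B'' hB'' => by rw [hprodB']; exact hmax B'' (hB''.trans hB'A))
  refine hsupA.trans (sup_le ?_ ?_)
  · exact le_iSup (fun B : {B : Subgroup G // B ≤ A ∧ Cfsg.IsBestOffenderOn 2 V B} =>
      (B : Subgroup G)) ⟨zpowers t, zpowers_le.mpr htA, (F.tv_bo htH hT).1⟩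
  · refine hIH.trans (iSup_le ?_)
    rintro ⟨B'', hB''le, hB''bo⟩
    exact le_iSup (fun B : {B : Subgroup G // B ≤ A ∧ Cfsg.IsBestOffenderOn 2 V B} =>
      (B : Subgroup G)) ⟨B'', hB''le.trans hB'A, hB''bo⟩

end Cfsg.Agent.Helper1.FH
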