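import Mathlib
import Cfsg.Agent.Lib.Helper1.FHA

/-!
# Transfer of the maximal product property for abelian subgroups of largest order
-/

set_option autoImplicit false
set_option linter.unusedSectionVars false

namespace Cfsg.Agent.Helper1.FH

open Subgroup Cfsg.Agent.Helper1.FF
open scoped commutatorElement

variable {G : Type*} [Group G]

theorem comm_sup {X Y : Subgroup G} (hX : ∀ x ∈ X, ∀ y ∈ X, x * y = y * x)
    (hY : ∀ x ∈ Y, ∀ y ∈ Y, x * y = y * x) (hXY : ∀ x ∈ X, ∀ y ∈ Y, x * y = y * x) :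
    ∀ g ∈ X ⊔ Y, ∀ h ∈ X ⊔ Y, g * h = h * g := by
  intro g hg h hh
  obtain ⟨x, hx, y, hy, rfl⟩ := mem_sup_comm hXY hg
  obtain ⟨x', hx', y', hy', rfl⟩ := mem_sup_comm hXY hh
  have h1 := hX x hx x' hx'
  have h2 := hY y hy y' hy'
  have h3 := hXY x hx y' hy'
  have h4 := hXY x' hx' y hy
  calc x * y * (x' * y') = x * (y * x') * y' := by group
    _ = x * (x' * y) * y' := by rw [h4]
    _ = (x * x') * (y * y') := by group
    _ = (x' * x) * (y' * y) := by rw [h1, h2]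
    _ = x' * (x * y') * y := by group
    _ = x' * (y' * x) * y := by rw [h3]
    _ = x' * y' * (x * y) := by group

section

variable [Finite G] (V : Subgroup G) [hVn : V.Normal]

/-- **Thompson's argument** for abelian subgroups of largest order of `T`. -/
theorem thompson_ineq_ab (hVc : ∀ x ∈ V, ∀ y ∈ V, x * y = y * x) {T A : Subgroup G}
    (hVT : V ≤ T) (hAT : A ≤ T) (hAc : ∀ x ∈ A, ∀ y ∈ A, x * y = y * x)
    (hmax : ∀ B : Subgroup G, B ≤ T → (∀ x ∈ B, ∀ y ∈ B, x * y = y * x) →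
      Nat.card B ≤ Nat.card A) {B₀ : Subgroup G} (hB₀ : B₀ ≤ A) :
    Nat.card B₀ * Nat.card ↥(V ⊓ centralizer (B₀ : Set G)) ≤
      Nat.card A * Nat.card ↥(V ⊓ centralizer (A : Set G)) := by
  set W := V ⊓ centralizer (B₀ : Set G) with hW
  have hcomm : ∀ x ∈ B₀, ∀ y ∈ W, x * y = y * x := fun x hx y hy =>
    mem_centralizer_iff.mp (mem_inf.mp hy).2 x hx
  have hD : ∀ g ∈ B₀ ⊔ W, ∀ h ∈ B₀ ⊔ W, g * h = h * g :=
    comm_sup (fun x hx y hy => hAc x (hB₀ hx) y (hB₀ hy))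
      (fun x hx y hy => hVc x (mem_inf.mp hx).1 y (mem_inf.mp hy).1) hcomm
  have hDT : B₀ ⊔ W ≤ T := sup_le (hB₀.trans hAT) (inf_le_left.trans hVT)
  have hnorm : B₀ ≤ normalizer (W : Set G) := by
    refine le_trans ?_ (centralizer_le_normalizer _)
    intro x hx
    rw [mem_centralizer_iff]
    intro y hy
    exact (hcomm x hx y hy).symm
  have h1 := S4Free.card_sup_mul_card_inf' B₀ W hnorm
  have h2 : Nat.card ↥(B₀ ⊔ W) ≤ Nat.card A := hmax _ hDT hD
  have h3 : B₀ ⊓ W ≤ V ⊓ centralizer (A : Set G) := by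
    intro x hx
    refine mem_inf.mpr ⟨(mem_inf.mp (mem_inf.mp hx).2).1, ?_⟩
    rw [mem_centralizer_iff]
    intro a ha
    exact hAc a ha x (hB₀ (mem_inf.mp hx).1)
  rw [← h1]
  exact Nat.mul_le_mul h2 (Subgroup.card_le_of_le h3)

/-- images of abelian subgroups of largest order have the maximal product property -/
theorem tmm_image (hVc : ∀ x ∈ V, ∀ y ∈ V, x * y = y * x) {T A : Subgroup G}
    (hVT : V ≤ T) (hAT : A ≤ T) (hAc : ∀ x ∈ A, ∀ y ∈ A, x * y = y * x)
    (hmax : ∀ B : Subgroup G, B ≤ T → (∀ x ∈ B, ∀ y ∈ B, x * y = y * x) →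
      Nat.card B ≤ Nat.card A) :
    ∀ B' : Subgroup (GamV V), B' ≤ A.map (Th V) → tmm (VV V) B' ≤ tmm (VV V) (A.map (Th V)) := by
  intro B' hB'
  unfold tmm
  obtain ⟨B₀, hB₀A, hACB₀, rfl⟩ := exists_preimage V hB'
  rw [card_fix, card_fix]
  have e1 := card_map_Th V B₀
  have e2 := card_map_Th V A
  have e3 : B₀ ⊓ centralizer (V : Set G) = A ⊓ centralizer (V : Set G) :=
    le_antisymm (inf_le_inf_right _ hB₀A) (le_inf hACB₀ inf_le_right)
  rw [e3] at e1
  have key := thompson_ineq_ab V hVc hVT hAT hAc hmax hB₀A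
  rw [← e1, ← e2] at key
  have hpos : 0 < Nat.card ↥(A ⊓ centralizer (V : Set G)) := Nat.card_pos
  have : Nat.card ↥(A ⊓ centralizer (V : Set G)) *
      (Nat.card (B₀.map (Th V)) * Nat.card ↥(V ⊓ centralizer (B₀ : Set G))) ≤
      Nat.card ↥(A ⊓ centralizer (V : Set G)) *
      (Nat.card (A.map (Th V)) * Nat.card ↥(V ⊓ centralizer (A : Set G))) := by
    calc _ = Nat.card (B₀.map (Th V)) * Nat.card ↥(A ⊓ centralizer (V : Set G)) *
          Nat.card ↥(V ⊓ centralizer (B₀ : Set G)) := by ring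
      _ ≤ Nat.card (A.map (Th V)) * Nat.card ↥(A ⊓ centralizer (V : Set G)) *
          Nat.card ↥(V ⊓ centralizer (A : Set G)) := key
      _ = _ := by ring
  exact Nat.le_of_mul_le_mul_left this hpos

end

end Cfsg.Agent.Helper1.FH
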