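import Mathlib
import Cfsg.Agent.Lib.Helper1.FHB
import Cfsg.Agent.Lib.Helper9.CyclicDerived
import Cfsg.Agent.Lib.Helper24.FStar
import Cfsg.Agent.Lib.Helper22.Bender
import Cfsg.Agent.Lib.Helper54.Solv

/-!
# The setting of Glauberman's solvable failure of factorization theorem (`p = 2`)
-/

set_option autoImplicit false

namespace Cfsg.Agent.Helper1.FH

open Subgroup Cfsg.Agent.Helper1.FF
open scoped commutatorElement Pointwise

variable {X : Type*} [Group X]

/-- the centre of `T` inside `X` -/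
def ZT (T : Subgroup X) : Subgroup X := T ⊓ centralizer (T : Set X)

/-- the normal closure of `Z(T)` -/
def VT (T : Subgroup X) : Subgroup X := normalClosure (ZT T : Set X)

/-- `Ω₁` of the normal closure of `Z(T)` (as a normal closure) -/
def V1 (T : Subgroup X) : Subgroup X := normalClosure {v : X | v ∈ VT T ∧ v ^ 2 = 1}

instance (T : Subgroup X) : (VT T).Normal := by unfold VT; infer_instance

instance (T : Subgroup X) : (V1 T).Normal := by unfold V1; infer_instance

theorem V1_le (T : Subgroup X) : V1 T ≤ VT T := by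
  unfold V1
  apply normalClosure_le_normal
  intro v hv
  exact hv.1

theorem mem_V1 {T : Subgroup X} {v : X} (hv : v ∈ VT T) (hv2 : v ^ 2 = 1) : v ∈ V1 T :=
  subset_normalClosure ⟨hv, hv2⟩

/-- `core (C(Z)) = C(⟨Z^X⟩)` -/
theorem normalCore_centralizer (Z : Subgroup X) :
    (centralizer (Z : Set X)).normalCore = centralizer (normalClosure (Z : Set X) : Set X) := by
  apply le_antisymm
  · intro g hg
    rw [mem_centralizer_iff]
    -- the centralizer of `g` contains all conjugates of `Z`
    have h1 : normalClosure (Z : Set X) ≤ centralizer ({g} : Set X) := by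
      unfold normalClosure
      rw [closure_le]
      intro y hy
      obtain ⟨z, hz, hconj⟩ := Group.mem_conjugatesOfSet_iff.mp hy
      obtain ⟨a, rfl⟩ := isConj_iff.mp hconj
      show a * z * a⁻¹ ∈ centralizer ({g} : Set X)
      rw [mem_centralizer_iff]
      intro x hx
      rw [Set.mem_singleton_iff] at hx
      subst hx
      have h2 : a⁻¹ * x * a⁻¹⁻¹ ∈ centralizer (Z : Set X) :=
        (Subgroup.normalCore_le _) ((normalCore_normal _).conj_mem x hg a⁻¹)
      have h3 := mem_centralizer_iff.mp h2 z hz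
      calc x * (a * z * a⁻¹) = a * ((a⁻¹ * x * a⁻¹⁻¹) * z) * a⁻¹ := by group
        _ = a * (z * (a⁻¹ * x * a⁻¹⁻¹)) * a⁻¹ := by rw [h3]
        _ = a * z * a⁻¹ * x := by group
    intro v hv
    exact (mem_centralizer_iff.mp (h1 hv) g rfl).symm
  · have hn : (centralizer (normalClosure (Z : Set X) : Set X)).Normal := inferInstance
    apply (Subgroup.normal_le_normalCore).mpr
    exact centralizer_le subset_normalClosure

section solv

variable [Finite X]

/-- in a solvable group with `F(X) = O₂(X)`, `C(O₂(X)) ≤ O₂(X)` -/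
theorem centralizer_pCore_le [Group.IsSolvable X]
    (hF : Cfsg.fittingSubgroup X = Cfsg.pCore 2 X) :
    centralizer (Cfsg.pCore 2 X : Set X) ≤ Cfsg.pCore 2 X := by
  have h1 := Cfsg.Agent.Helper24.generalizedFitting_eq_fitting_of_layer_eq_bot
    (Cfsg.Agent.Helper9.layer_eq_bot_of_isSolvable (Y := X))
  have h2 := Cfsg.Agent.Helper22.centralizer_generalizedFittingSubgroup_le (G := X)
  rwa [h1, hF] at h2

variable [Group.IsSolvable X] (hF : Cfsg.fittingSubgroup X = Cfsg.pCore 2 X) (T : Sylow 2 X)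

include hF

theorem VT_le : VT (T : Subgroup X) ≤
    Cfsg.pCore 2 X ⊓ centralizer (Cfsg.pCore 2 X : Set X) := by
  have hQn : (Cfsg.pCore 2 X).Normal := by
    have := Cfsg.Agent.Helper54.pCore_characteristic (p := 2) (G := X)
    infer_instance
  have hn : (Cfsg.pCore 2 X ⊓ centralizer (Cfsg.pCore 2 X : Set X)).Normal := inferInstance
  unfold VT
  apply normalClosure_le_normal
  intro z hz
  have hzC : z ∈ centralizer (Cfsg.pCore 2 X : Set X) := by
    rw [mem_centralizer_iff]
    intro q hq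
    exact mem_centralizer_iff.mp (mem_inf.mp hz).2 q (Cfsg.Agent.Helper54.pCore_le_sylow T hq)
  exact mem_inf.mpr ⟨centralizer_pCore_le hF hzC, hzC⟩

theorem VT_comm : ∀ x ∈ VT (T : Subgroup X), ∀ y ∈ VT (T : Subgroup X), x * y = y * x := by
  intro x hx y hy
  have h1 := VT_le hF T hx
  have h2 := VT_le hF T hy
  exact (mem_centralizer_iff.mp (mem_inf.mp h2).2 x (mem_inf.mp h1).1)

theorem VT_le_T : VT (T : Subgroup X) ≤ (T : Subgroup X) :=
  fun _ hx => Cfsg.Agent.Helper54.pCore_le_sylow T (mem_inf.mp (VT_le hF T hx)).1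

theorem VT_isPGroup : IsPGroup 2 (VT (T : Subgroup X)) :=
  T.isPGroup'.to_le (VT_le_T hF T)

theorem V1_ea : EA 2 (V1 (T : Subgroup X)) := by
  constructor
  · intro x hx y hy
    exact VT_comm hF T x (V1_le _ hx) y (V1_le _ hy)
  · intro x hx
    unfold V1 normalClosure at hx
    induction hx using closure_induction with
    | mem y hy =>
      obtain ⟨z, hz, hconj⟩ := Group.mem_conjugatesOfSet_iff.mp hy
      obtain ⟨a, rfl⟩ := isConj_iff.mp hconj
      have : (a * z * a⁻¹) ^ 2 = a * z ^ 2 * a⁻¹ := by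
        rw [← MulAut.conj_apply, ← map_pow, MulAut.conj_apply]
      rw [this, hz.2]; group
    | one => exact one_pow 2
    | mul y z hy hz ihy ihz =>
      have hy' : y ∈ V1 (T : Subgroup X) := hy
      have hz' : z ∈ V1 (T : Subgroup X) := hz
      have hc := VT_comm hF T y (V1_le _ hy') z (V1_le _ hz')
      have : Commute y z := hc
      rw [this.mul_pow, ihy, ihz, one_mul]
    | inv y hy ihy => rw [inv_pow, ihy, inv_one]

omit hF [Group.IsSolvable X] in
/-- `O₂(X / C_X(V)) = 1` for the normal closure `V` of `Z(T)` -/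
theorem pCore_quot_VT : Cfsg.pCore 2 (X ⧸ centralizer (VT (T : Subgroup X) : Set X)) = ⊥ := by
  set C := centralizer (VT (T : Subgroup X) : Set X) with hC
  rw [eq_bot_iff]
  intro x hx
  obtain ⟨d, rfl⟩ := QuotientGroup.mk_surjective x
  rw [Subgroup.mem_bot, QuotientGroup.eq_one_iff]
  have h1 : VT (T : Subgroup X) ≤ centralizer ({d} : Set X) := by
    unfold VT normalClosure
    rw [closure_le]
    intro y hy
    obtain ⟨z, hz, hconj⟩ := Group.mem_conjugatesOfSet_iff.mp hy
    obtain ⟨a, rfl⟩ := isConj_iff.mp hconj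
    have hyV : a * z * a⁻¹ ∈ VT (T : Subgroup X) := by
      have : z ∈ VT (T : Subgroup X) := subset_normalClosure hz
      exact (inferInstance : (VT (T : Subgroup X)).Normal).conj_mem z this a
    -- the Sylow subgroup `a T a⁻¹`
    let S : Sylow 2 X := MulAut.conj a • T
    have hsurj : Function.Surjective (QuotientGroup.mk' C) := QuotientGroup.mk'_surjective C
    have h2 := Cfsg.Agent.Helper54.pCore_le_sylow (S.mapSurjective hsurj) hx
    rw [← SetLike.mem_coe, Sylow.coe_mapSurjective] at h2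
    obtain ⟨s, hs, hsd⟩ := h2
    have hc : s⁻¹ * d ∈ C := by
      have : ((s⁻¹ * d : X) : X ⧸ C) = 1 := by
        rw [QuotientGroup.mk_mul, QuotientGroup.mk_inv]
        rw [QuotientGroup.mk'_apply] at hsd
        rw [hsd, inv_mul_cancel]
      exact (QuotientGroup.eq_one_iff _).mp this
    -- `s = a t a⁻¹`
    have hs' : s ∈ (MulAut.conj a • (T : Subgroup X)) := hs
    rw [Subgroup.mem_pointwise_smul_iff_inv_smul_mem] at hs'
    have ht : a⁻¹ * s * a ∈ (T : Subgroup X) := by
      simpa [MulAut.smul_def] using hs'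
    have hcomm1 : (a⁻¹ * s * a) * z = z * (a⁻¹ * s * a) :=
      (mem_centralizer_iff.mp (mem_inf.mp hz).2 _ ht)
    have hcomm2 : (s⁻¹ * d) * (a * z * a⁻¹) = (a * z * a⁻¹) * (s⁻¹ * d) :=
      (mem_centralizer_iff.mp hc _ hyV).symm
    show a * z * a⁻¹ ∈ centralizer ({d} : Set X)
    rw [mem_centralizer_iff]
    intro w hw
    rw [Set.mem_singleton_iff] at hw
    subst hw
    have hs1 : s * (a * z * a⁻¹) = (a * z * a⁻¹) * s := by
      calc s * (a * z * a⁻¹) = a * ((a⁻¹ * s * a) * z) * a⁻¹ := by group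
        _ = a * (z * (a⁻¹ * s * a)) * a⁻¹ := by rw [hcomm1]
        _ = (a * z * a⁻¹) * s := by group
    calc w * (a * z * a⁻¹) = s * ((s⁻¹ * w) * (a * z * a⁻¹)) := by group
      _ = s * ((a * z * a⁻¹) * (s⁻¹ * w)) := by rw [hcomm2]
      _ = (s * (a * z * a⁻¹)) * (s⁻¹ * w) := by group
      _ = ((a * z * a⁻¹) * s) * (s⁻¹ * w) := by rw [hs1]
      _ = a * z * a⁻¹ * w := by group
  rw [mem_centralizer_iff]
  intro v hv
  exact (mem_centralizer_iff.mp (h1 hv) d rfl).symm

/-- an element centralizing `Ω₁(V)` has a `2`-power centralizing `V` -/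
theorem pow_mem_centralizer_VT {g : X} (hg : g ∈ centralizer (V1 (T : Subgroup X) : Set X)) :
    ∀ j : ℕ, ∀ v ∈ VT (T : Subgroup X), v ^ (2 ^ (j + 1)) = 1 → g ^ (2 ^ j) * v = v * g ^ (2 ^ j) := by
  intro j
  induction j with
  | zero =>
    intro v hv hv2
    rw [zero_add, pow_one] at hv2
    rw [pow_zero, pow_one]
    exact (mem_centralizer_iff.mp hg v (mem_V1 hv hv2)).symm
  | succ j ih =>
    intro v hv hv2
    set h := g ^ (2 ^ j) with hh
    have hVn : (VT (T : Subgroup X)).Normal := inferInstance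
    have hv2V : v ^ 2 ∈ VT (T : Subgroup X) := pow_mem hv 2
    have h1 : h * v ^ 2 = v ^ 2 * h := by
      apply ih _ hv2V
      rw [← pow_mul, ← pow_succ']
      exact hv2
    -- `w = v⁻¹ (h v h⁻¹)`
    set w := v⁻¹ * (h * v * h⁻¹) with hw
    have hhv : h * v * h⁻¹ ∈ VT (T : Subgroup X) := hVn.conj_mem v hv h
    have hwV : w ∈ VT (T : Subgroup X) := mul_mem (inv_mem hv) hhv
    have hcv : v * (h * v * h⁻¹) = (h * v * h⁻¹) * v := VT_comm hF T _ hv _ hhv
    have hw2 : w ^ 2 = 1 := by
      have e1 : (h * v * h⁻¹) * (h * v * h⁻¹) = v ^ 2 := by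
        calc (h * v * h⁻¹) * (h * v * h⁻¹) = (h * v ^ 2) * h⁻¹ := by rw [pow_two]; group
          _ = v ^ 2 := by rw [h1]; group
      have hcv' : (h * v * h⁻¹) * v⁻¹ = v⁻¹ * (h * v * h⁻¹) := by
        calc (h * v * h⁻¹) * v⁻¹ = v⁻¹ * (v * (h * v * h⁻¹)) * v⁻¹ := by group
          _ = v⁻¹ * ((h * v * h⁻¹) * v) * v⁻¹ := by rw [hcv]
          _ = v⁻¹ * (h * v * h⁻¹) := by group
      calc w ^ 2 = v⁻¹ * ((h * v * h⁻¹) * v⁻¹) * (h * v * h⁻¹) := by rw [pow_two, hw]; group
        _ = v⁻¹ * (v⁻¹ * (h * v * h⁻¹)) * (h * v * h⁻¹) := by rw [hcv']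
        _ = v⁻¹ * v⁻¹ * ((h * v * h⁻¹) * (h * v * h⁻¹)) := by group
        _ = v⁻¹ * v⁻¹ * v ^ 2 := by rw [e1]
        _ = 1 := by rw [pow_two]; group
    have hhw : h * w = w * h := by
      apply ih _ hwV
      rw [pow_succ', pow_mul, hw2]
      exact one_pow _
    have e2 : h * v = v * w * h := by rw [hw]; group
    have : g ^ (2 ^ (j + 1)) = h * h := by rw [pow_succ, pow_mul, ← hh, pow_two]
    rw [this]
    have hvw : v * w * w = v := by
      have : w * w = 1 := by rw [← pow_two]; exact hw2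
      rw [mul_assoc, this, mul_one]
    calc h * h * v = h * (h * v) := by group
      _ = h * (v * w * h) := by rw [e2]
      _ = (h * v) * w * h := by group
      _ = (v * w * h) * w * h := by rw [e2]
      _ = v * w * (h * w) * h := by group
      _ = v * w * (w * h) * h := by rw [hhw]
      _ = (v * w * w) * (h * h) := by group
      _ = v * (h * h) := by rw [hvw]

theorem centralizer_V1_eq :
    centralizer (V1 (T : Subgroup X) : Set X) = centralizer (VT (T : Subgroup X) : Set X) := by
  apply le_antisymm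
  · set M := centralizer (VT (T : Subgroup X) : Set X) with hM
    set K := centralizer (V1 (T : Subgroup X) : Set X) with hK
    have hKn : K.Normal := inferInstance
    obtain ⟨m, hm⟩ := (VT_isPGroup hF T).exists_card_eq
    have hpow : ∀ k ∈ K, k ^ (2 ^ m) ∈ M := by
      intro k hk
      rw [hM, mem_centralizer_iff]
      intro v hv
      have hv1 : v ^ (2 ^ m) = 1 := by
        have := pow_card_eq_one' (G := VT (T : Subgroup X)) (x := ⟨v, hv⟩)
        rw [hm] at this
        exact congrArg Subtype.val this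
      have hv2 : v ^ (2 ^ (m + 1)) = 1 := by rw [pow_succ, pow_mul, hv1, one_pow]
      exact (pow_mem_centralizer_VT hF T hk m v hv hv2).symm
    have hpg : IsPGroup 2 (K.map (QuotientGroup.mk' M)) := by
      rintro ⟨y, hy⟩
      obtain ⟨x, hx, rfl⟩ := hy
      refine ⟨m, ?_⟩
      apply Subtype.ext
      simp only [Subgroup.coe_pow, Subgroup.coe_one]
      rw [← map_pow]
      exact (QuotientGroup.eq_one_iff _).mpr (hpow x hx)
    have hn : (K.map (QuotientGroup.mk' M)).Normal :=
      Subgroup.Normal.map inferInstance _ (QuotientGroup.mk'_surjective _)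
    have hle := Cfsg.Agent.Helper54.le_pCore hn hpg
    rw [pCore_quot_VT T] at hle
    intro k hk
    have h1 := hle (mem_map_of_mem _ hk)
    rw [mem_bot] at h1
    exact (QuotientGroup.eq_one_iff k).mp h1
  · exact centralizer_le (V1_le _)

theorem pCore_quot_V1 : Cfsg.pCore 2 (X ⧸ centralizer (V1 (T : Subgroup X) : Set X)) = ⊥ := by
  have key : ∀ (C' : Subgroup X) [C'.Normal], C' = centralizer (VT (T : Subgroup X) : Set X) →
      Cfsg.pCore 2 (X ⧸ C') = ⊥ := by
    intro C' _ h
    subst h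
    exact pCore_quot_VT T
  exact key _ (centralizer_V1_eq hF T)

end solv

end Cfsg.Agent.Helper1.FH
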