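import Mathlib
import Cfsg.Agent.Lib.Helper1.FHC
import Cfsg.Agent.Lib.Helper1.FFX
import Cfsg.Agent.Lib.Helper34.TNC2
import Cfsg.Agent.Lib.Helper76.SolvPSolv
import Cfsg.Agent.Lib.Helper5.PSL2Small
import Cfsg.Agent.S0617
import Cfsg.Agent.Lib.Helper50.SylowLemmas

/-!
# Glauberman's solvable failure of factorization theorem for `p = 2` (abelian Thompson subgroup)
-/

set_option autoImplicit false
set_option linter.unusedSectionVars false

namespace Cfsg.Agent.Helper1.FH

open Subgroup Cfsg.Agent.Helper1.FF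
open scoped commutatorElement Pointwise

section general

variable {G : Type*} [Group G] [Finite G] {p : ℕ} [hp : Fact p.Prime] (V : Subgroup G)
  [hVn : V.Normal]

/-- the `O_{p'}` hypothesis for a normal subgroup of the image -/
theorem hS1_of_normal (hsep : Cfsg.IsPSolvable p G)
    (hO : Cfsg.pCore p (G ⧸ centralizer (V : Set G)) = ⊥) {N : Subgroup (GamV V)}
    (hle : N ≤ (Th V).range) (hn : (Th V).range ≤ normalizer (N : Set (GamV V))) :
    centralizer (Cfsg.pPrimeCore p ↥N : Set ↥N) ≤ Cfsg.pPrimeCore p ↥N := by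
  have hsolvR : Cfsg.IsPSolvable p ↥(Th V).range :=
    Cfsg.Agent.Helper54.IsPSolvable.of_surjective hsep (Th V).rangeRestrict
      (Th V).rangeRestrict_surjective
  have hsolv : Cfsg.IsPSolvable p ↥N := by
    have h1 := Cfsg.Agent.Helper69.IsPSolvable.subgroup' hsolvR (N.subgroupOf (Th V).range)
    exact Cfsg.Agent.Helper54.IsPSolvable.of_surjective h1
      (Subgroup.subgroupOfEquivOfLe hle).toMonoidHom (Subgroup.subgroupOfEquivOfLe hle).surjective
  have hcore : Cfsg.pCore p ↥N = ⊥ := by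
    have : (N.subgroupOf (Th V).range).Normal :=
      (Subgroup.normal_subgroupOf_iff_le_normalizer hle).mpr hn
    have h1 := Cfsg.Agent.Helper54.pCore_map_le p (N.subgroupOf (Th V).range)
    rw [pCore_range_eq_bot V hO, le_bot_iff,
      Subgroup.map_eq_bot_iff_of_injective _ (Subgroup.subtype_injective _)] at h1
    rw [← Cfsg.Agent.Helper54.pCore_map_mulEquiv p (Subgroup.subgroupOfEquivOfLe hle), h1,
      Subgroup.map_bot]
  exact Cfsg.Agent.Helper10.centralizer_pPrimeCore_le_of_isPSolvable hsolv hcore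

theorem inf_centralizer_of_le {N : Subgroup (GamV V)} (hle : N ≤ (Th V).range) :
    N ⊓ centralizer (VV V : Set (GamV V)) = ⊥ := by
  rw [eq_bot_iff]
  have h1 := map_Th_inf_centralizer V ⊤
  rw [← MonoidHom.range_eq_map] at h1
  rw [← h1]
  exact inf_le_inf_right _ hle

end general


section prod

variable {Γ : Type*} [Group Γ]

/-- independent subgroups normalizing each other commute elementwise -/
theorem commute_of_indep {ι : Type*} {E : ι → Subgroup Γ} (hind : iSupIndep E)
    (hn : ∀ i j, E j ≤ normalizer (E i : Set Γ)) :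
    Pairwise fun i j => ∀ x y : Γ, x ∈ E i → y ∈ E j → Commute x y := by
  intro i j hij x y hx hy
  have hdisj : Disjoint (E i) (E j) := hind.pairwiseDisjoint hij
  have h1 : x * y * x⁻¹ * y⁻¹ ∈ E i := by
    have h : y * x⁻¹ * y⁻¹ ∈ E i := (mem_normalizer_iff.mp (hn i j hy) x⁻¹).mp (inv_mem hx)
    have h' := mul_mem hx h
    simpa [mul_assoc] using h'
  have h2 : x * y * x⁻¹ * y⁻¹ ∈ E j := by
    have h : x * y * x⁻¹ ∈ E j := (mem_normalizer_iff.mp (hn j i hx) y).mp hy
    exact mul_mem h (inv_mem hy)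
  have h3 : x * y * x⁻¹ * y⁻¹ = 1 := disjoint_def.mp hdisj h1 h2
  change x * y = y * x
  calc x * y = (x * y * x⁻¹ * y⁻¹) * (y * x) := by group
    _ = y * x := by rw [h3, one_mul]

/-- the internal direct product of independent subgroups normalizing each other -/
theorem nonempty_pi_equiv_iSup {ι : Type*} [Finite ι] {E : ι → Subgroup Γ} (hind : iSupIndep E)
    (hn : ∀ i j, E j ≤ normalizer (E i : Set Γ)) :
    Nonempty ((∀ i, ↥(E i)) ≃* ↥(⨆ i, E i)) := by
  have hcomm := commute_of_indep hind hn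
  have := Fintype.ofFinite ι
  have hinj : Function.Injective (Subgroup.noncommPiCoprod hcomm) :=
    Subgroup.injective_noncommPiCoprod_of_iSupIndep hind
  have hrange : (Subgroup.noncommPiCoprod hcomm).range = ⨆ i, E i :=
    Subgroup.noncommPiCoprod_range
  exact ⟨(MonoidHom.ofInjective hinj).trans (MulEquiv.subgroupCongr hrange)⟩

/-- the image of a subgroup under a homomorphism as a quotient -/
theorem nonempty_quot_equiv_map {X : Type*} [Group X] (θ : X →* Γ) (Y C : Subgroup X)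
    [C.Normal] (hC : θ.ker = C) : Nonempty ((↥Y ⧸ C.subgroupOf Y) ≃* ↥(Y.map θ)) := by
  have hker : (θ.comp Y.subtype).ker = C.subgroupOf Y := by
    rw [← hC]
    ext y
    simp [MonoidHom.mem_ker, Subgroup.mem_subgroupOf]
  have hrange : (θ.comp Y.subtype).range = Y.map θ := by
    rw [MonoidHom.range_comp, Subgroup.range_subtype]
  exact ⟨(QuotientGroup.quotientMulEquivOfEq hker.symm).trans
    ((QuotientGroup.quotientKerEquivRange (θ.comp Y.subtype)).trans
      (MulEquiv.subgroupCongr hrange))⟩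

/-- a group which is the internal direct product of copies of `SL₂(2)` -/
theorem nonempty_equiv_fin_of_family {ι : Type*} [Finite ι] {E : ι → Subgroup Γ} {H : Subgroup Γ}
    (hE : ∀ i, H ≤ normalizer (E i : Set Γ) ∧
      Nonempty (↥(E i) ≃* Matrix.SpecialLinearGroup (Fin 2) (ZMod 2)))
    (hind : iSupIndep E) (hsup : ⨆ i, E i = H) (hH : H ≠ ⊥) :
    ∃ n : ℕ, 1 ≤ n ∧ Nonempty (↥H ≃* (Fin n → Equiv.Perm (Fin 3))) := by
  have hn : ∀ i j, E j ≤ normalizer (E i : Set Γ) := by
    intro i j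
    refine le_trans ?_ (hE i).1
    rw [← hsup]
    exact le_iSup E j
  obtain ⟨e1⟩ := nonempty_pi_equiv_iSup hind hn
  obtain ⟨e2⟩ := Cfsg.Agent.Helper5.sl2_card_two_equiv (F := ZMod 2) (ZMod.card 2)
  have e3 := MulEquiv.piCongrRight (fun i => ((hE i).2.some).trans e2)
  refine ⟨Nat.card ι, ?_, ⟨((MulEquiv.subgroupCongr hsup.symm).trans (e1.symm.trans
    e3)).trans (MulEquiv.arrowCongr (Finite.equivFin ι) (MulEquiv.refl _))⟩⟩
  rw [Nat.one_le_iff_ne_zero, Nat.card_ne_zero]
  refine ⟨?_, inferInstance⟩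
  by_contra hemp
  rw [not_nonempty_iff] at hemp
  apply hH
  rw [← hsup]
  exact iSup_of_empty _

end prod


section main

variable {X : Type*} [Group X]

/-- the normal closure of `J(T)` -/
def YT (T : Subgroup X) : Subgroup X := normalClosure (Cfsg.thompsonSubgroupAOf T : Set X)

instance (T : Subgroup X) : (YT T).Normal := by unfold YT; infer_instance

/-- the image of `YT` in `GamV (V1 T)` -/
noncomputable def YB (T : Subgroup X) : Subgroup (GamV (V1 T)) := (YT T).map (Th (V1 T))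

/-- the subgroup generated by the best offenders contained in `YB` -/
noncomputable def SB (T : Subgroup X) : Subgroup (GamV (V1 T)) :=
  ⨆ A : {A : Subgroup (GamV (V1 T)) // A ≤ YB T ∧ Cfsg.IsBestOffenderOn 2 (VV (V1 T)) A},
    (A : Subgroup (GamV (V1 T)))

theorem YB_le_range (T : Subgroup X) : YB T ≤ (Th (V1 T)).range := by
  unfold YB
  rw [MonoidHom.range_eq_map]
  exact Subgroup.map_mono le_top

theorem range_le_normalizer_YB (T : Subgroup X) :
    (Th (V1 T)).range ≤ normalizer (YB T : Set (GamV (V1 T))) := by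
  apply le_normalizer_of_conj_smul_le
  rintro _ ⟨g, rfl⟩
  rw [Subgroup.pointwise_smul_def]
  change (YB T).map (MulAut.conj (Th (V1 T) g)).toMonoidHom ≤ YB T
  rintro _ ⟨_, ⟨y, hy, rfl⟩, rfl⟩
  simp only [MulEquiv.coe_toMonoidHom, MulAut.conj_apply]
  refine ⟨g * y * g⁻¹, (inferInstance : (YT T).Normal).conj_mem y hy g, ?_⟩
  simp only [map_mul, map_inv]

theorem SB_le (T : Subgroup X) : SB T ≤ YB T := by
  unfold SB
  apply iSup_le
  rintro ⟨A, h1, -⟩
  exact h1

theorem le_SB {T : Subgroup X} {A : Subgroup (GamV (V1 T))} (h1 : A ≤ YB T)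
    (h2 : Cfsg.IsBestOffenderOn 2 (VV (V1 T)) A) : A ≤ SB T :=
  le_iSup (fun A : {A : Subgroup (GamV (V1 T)) // A ≤ YB T ∧
    Cfsg.IsBestOffenderOn 2 (VV (V1 T)) A} => (A : Subgroup (GamV (V1 T)))) ⟨A, h1, h2⟩

theorem range_le_normalizer_SB [Finite X] (T : Subgroup X) :
    (Th (V1 T)).range ≤ normalizer (SB T : Set (GamV (V1 T))) := by
  apply le_normalizer_of_conj_smul_le
  intro r hr
  rw [Subgroup.pointwise_smul_def]
  change (SB T).map (MulAut.conj r).toMonoidHom ≤ SB T
  unfold SB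
  rw [Subgroup.map_iSup]
  apply iSup_le
  rintro ⟨A', h1, h2⟩
  apply le_SB
  · rintro _ ⟨y, hy, rfl⟩
    simp only [MulEquiv.coe_toMonoidHom, MulAut.conj_apply]
    exact (mem_normalizer_iff.mp (range_le_normalizer_YB T hr) y).mp (h1 hy)
  · exact bo_conj h2 (range_le_normalizer_VV (V1 T) hr)

variable [Finite X] [Group.IsSolvable X]
  (hF : Cfsg.fittingSubgroup X = Cfsg.pCore 2 X) (T : Sylow 2 X)

include hF

theorem ffs_range :
    FFS 2 (VV (V1 (T : Subgroup X))) (Th (V1 (T : Subgroup X))).range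
      (KK 2 (Th (V1 (T : Subgroup X))).range) :=
  ffs_of_hyps (VV _) (Th _).range (isElementaryAbelian_of_ea (ea_VV _ (V1_ea hF T)))
    (range_le_normalizer_VV _) (inf_centralizer_of_le _ le_rfl)
    (hS1_range _ (Cfsg.Agent.Helper76.isPSolvable_of_isSolvable' 2) (pCore_quot_V1 hF T))

/-- images of abelian subgroups of `T` of largest order are generated by best offenders -/
theorem maxAb_map_le {A : Subgroup X}
    (hA : A ∈ Cfsg.Agent.Helper34.TNC.MaxAb (T : Subgroup X)) :
    A.map (Th (V1 (T : Subgroup X))) ≤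
      ⨆ B : {B : Subgroup (GamV (V1 (T : Subgroup X))) //
        B ≤ A.map (Th (V1 (T : Subgroup X))) ∧
        Cfsg.IsBestOffenderOn 2 (VV (V1 (T : Subgroup X))) B},
        (B : Subgroup (GamV (V1 (T : Subgroup X)))) := by
  obtain ⟨hAT, hAc, hAmax⟩ := hA
  have hAc' : ∀ x ∈ A, ∀ y ∈ A, x * y = y * x := fun x hx y hy =>
    congrArg Subtype.val (hAc.is_comm.comm ⟨x, hx⟩ ⟨y, hy⟩)
  refine gen_by_bo (ffs_range hF T) _ _ rfl ?_ ?_ ?_ ?_
  · rw [MonoidHom.range_eq_map]
    exact Subgroup.map_mono le_top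
  · rintro _ ⟨x, hx, rfl⟩ _ ⟨y, hy, rfl⟩
    rw [← map_mul, ← map_mul, hAc' x hx y hy]
  · exact (T.2.to_le hAT).map _
  · refine tmm_image _ (V1_ea hF T).comm ((V1_le _).trans (VT_le_T hF T)) hAT hAc' ?_
    intro B hBT hBc
    exact hAmax B hBT ⟨⟨fun a b => Subtype.ext (hBc a a.2 b b.2)⟩⟩

theorem YB_le_SB : YB (T : Subgroup X) ≤ SB (T : Subgroup X) := by
  have hJY : Cfsg.thompsonSubgroupAOf (T : Subgroup X) ≤ YT (T : Subgroup X) :=
    Subgroup.subset_normalClosure
  have hnorm : ((SB (T : Subgroup X)).comap (Th (V1 (T : Subgroup X)))).Normal := by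
    constructor
    intro x hx g
    rw [Subgroup.mem_comap] at hx ⊢
    rw [map_mul, map_mul, map_inv]
    exact (mem_normalizer_iff.mp (range_le_normalizer_SB (T : Subgroup X) ⟨g, rfl⟩) _).mp hx
  have hJ : Cfsg.thompsonSubgroupAOf (T : Subgroup X) ≤
      (SB (T : Subgroup X)).comap (Th (V1 (T : Subgroup X))) := by
    rw [Cfsg.Agent.Helper34.TNC.jA_eq]
    apply sSup_le
    intro A hA
    rw [← Subgroup.map_le_iff_le_comap]
    refine (maxAb_map_le hF T hA).trans ?_
    apply iSup_le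
    rintro ⟨B, hB1, hB2⟩
    apply le_SB _ hB2
    refine hB1.trans ?_
    unfold YB
    exact Subgroup.map_mono ((Cfsg.Agent.Helper34.TNC.le_jA hA).trans hJY)
  have h1 : YT (T : Subgroup X) ≤ (SB (T : Subgroup X)).comap (Th (V1 (T : Subgroup X))) := by
    unfold YT
    exact Subgroup.normalClosure_le_normal hJ
  unfold YB
  rw [Subgroup.map_le_iff_le_comap]
  exact h1

theorem YB_hS3 : YB (T : Subgroup X) = ⨆ A : {A : Subgroup (GamV (V1 (T : Subgroup X))) //
    A ≤ YB (T : Subgroup X) ∧ Cfsg.IsBestOffenderOn 2 (VV (V1 (T : Subgroup X))) A},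
    (A : Subgroup (GamV (V1 (T : Subgroup X)))) :=
  le_antisymm (YB_le_SB hF T) (SB_le _)

end main


section final

variable {X : Type*} [Group X] [Finite X]

/-- Frattini argument for the normal closure of `J(T)` -/
theorem YT_sup_normalizer (T : Sylow 2 X) :
    YT (T : Subgroup X) ⊔ normalizer (Cfsg.thompsonSubgroupAOf (T : Subgroup X) : Set X) = ⊤ := by
  set Y := YT (T : Subgroup X) with hY
  have hJY : Cfsg.thompsonSubgroupAOf (T : Subgroup X) ≤ Y := Subgroup.subset_normalClosure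
  have hJT : Cfsg.thompsonSubgroupAOf (T : Subgroup X) ≤ (T : Subgroup X) :=
    Cfsg.Agent.Helper34.TNC.jA_le _
  set R : Subgroup X := (T : Subgroup X) ⊓ Y with hR
  have hRp : IsPGroup 2 (R.subgroupOf Y) := (T.2.to_le inf_le_left).comap_subtype
  have hidx : ¬ 2 ∣ (R.subgroupOf Y).index := by
    change ¬ 2 ∣ R.relIndex Y
    rw [hR, Subgroup.inf_relIndex_right]
    intro h
    exact T.not_dvd_index (h.trans (Cfsg.Agent.Helper50.relIndex_normal_dvd_index _ Y))
  have h1 := Sylow.normalizer_sup_eq_top (hRp.toSylow hidx)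
  rw [IsPGroup.toSylow_coe, Subgroup.subgroupOf_map_subtype, hR, inf_assoc, inf_idem] at h1
  have h2 : normalizer (((T : Subgroup X) ⊓ Y : Subgroup X) : Set X) ≤
      normalizer (Cfsg.thompsonSubgroupAOf (T : Subgroup X) : Set X) := by
    have h3 := Cfsg.Agent.Helper34.TNC.normalizer_le_normalizer_jA ((T : Subgroup X) ⊓ Y)
    rwa [Cfsg.Agent.Helper34.TNC.jA_eq_of_le (inf_le_left : (T : Subgroup X) ⊓ Y ≤ T)
      (le_inf hJT hJY)] at h3
  rw [eq_top_iff, ← h1, sup_comm]
  exact sup_le_sup_left h2 _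

variable [Group.IsSolvable X]
  (hF : Cfsg.fittingSubgroup X = Cfsg.pCore 2 X) (T : Sylow 2 X)

include hF

/-- the structure of `Y C / C` -/
theorem YT_quot :
    YT (T : Subgroup X) ≤ centralizer (V1 (T : Subgroup X) : Set X) ∨
    ∃ n : ℕ, 1 ≤ n ∧ Nonempty (↥(YT (T : Subgroup X)) ⧸
      (centralizer (V1 (T : Subgroup X) : Set X)).subgroupOf (YT (T : Subgroup X)) ≃*
        (Fin n → Equiv.Perm (Fin 3))) := by
  by_cases hbot : YB (T : Subgroup X) = ⊥
  · left
    rw [← ker_Th (V1 (T : Subgroup X))]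
    intro y hy
    rw [MonoidHom.mem_ker]
    have : Th (V1 (T : Subgroup X)) y ∈ YB (T : Subgroup X) := ⟨y, hy, rfl⟩
    rw [hbot] at this
    exact Subgroup.mem_bot.mp this
  right
  have hV := V1_ea hF T
  have hsep : Cfsg.IsPSolvable 2 X := Cfsg.Agent.Helper76.isPSolvable_of_isSolvable' 2
  have hO := pCore_quot_V1 hF T
  have hle := YB_le_range (T : Subgroup X)
  obtain ⟨-, hE, hind, hsup, -, -⟩ := Cfsg.Agent.S0617.result (p := 2) (VV (V1 (T : Subgroup X)))
    (YB (T : Subgroup X)) (isElementaryAbelian_of_ea (ea_VV _ hV))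
    (hle.trans (range_le_normalizer_VV _)) (inf_centralizer_of_le _ hle)
    (hS1_of_normal _ hsep hO hle (range_le_normalizer_YB _)) (YB_hS3 hF T) hbot
  obtain ⟨e0⟩ := nonempty_quot_equiv_map (Th (V1 (T : Subgroup X))) (YT (T : Subgroup X))
    (centralizer (V1 (T : Subgroup X) : Set X)) (ker_Th _)
  obtain ⟨n, hn, ⟨e1⟩⟩ := nonempty_equiv_fin_of_family (fun i => ⟨(hE i).1, (hE i).2.1⟩) hind hsup hbot
  exact ⟨n, hn, ⟨e0.trans e1⟩⟩

end final

end Cfsg.Agent.Helper1.FH
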