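import Mathlib
import Cfsg.Agent.Lib.Helper1.Basic
import Cfsg.Agent.Lib.Helper1.Compl
import Cfsg.Agent.Lib.Helper1.SZ
import Cfsg.Agent.Lib.Helper1.Coprime
import Cfsg.Agent.Lib.Helper1.Carter
import Cfsg.Agent.Lib.Helper52.CoprimeSylow
import Cfsg.Agent.S0034
import Cfsg.Agent.S0039
import Cfsg.Agent.S0041

set_option autoImplicit false

namespace Cfsg.Agent.Helper1.FrobCompl

open Subgroup
open scoped Pointwise

/-- Number theory: if `m ^ q ≡ 1 (mod n)` with `q` a prime not dividing `n`, and `m ≡ 1` modulo every prime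
divisor of `n`, then `m ≡ 1 (mod n)`. -/
theorem modEq_one_of_pow (n m q : ℕ) (hq : q.Prime) (hqn : q.Coprime n)
    (h1 : m ^ q ≡ 1 [MOD n]) (h2 : ∀ p : ℕ, p.Prime → p ∣ n → m ≡ 1 [MOD p]) : m ≡ 1 [MOD n] := by
  set S : ℕ := ∑ i ∈ Finset.range q, m ^ i with hS
  have hcop : Nat.Coprime n S := by
    apply Nat.coprime_of_dvd
    intro p hp hpn hpS
    have hm : (m : ZMod p) = 1 := by
      have := (ZMod.natCast_eq_natCast_iff m 1 p).mpr (h2 p hp hpn)
      simpa using this
    have h3 : (S : ZMod p) = 0 := (ZMod.natCast_eq_zero_iff S p).mpr hpS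
    rw [hS] at h3
    push_cast at h3
    rw [hm] at h3
    simp only [one_pow, Finset.sum_const, Finset.card_range, nsmul_eq_mul, mul_one] at h3
    have h4 : p ∣ q := (ZMod.natCast_eq_zero_iff q p).mp h3
    have h5 : p = q := (Nat.prime_dvd_prime_iff_eq hp hq).mp h4
    subst h5
    exact hp.one_lt.ne' (Nat.Coprime.eq_one_of_dvd hqn hpn)
  have h3 : (n : ℤ) ∣ ((1 : ℕ) : ℤ) - ((m ^ q : ℕ) : ℤ) := (Nat.modEq_iff_dvd).mp h1
  rw [Nat.modEq_iff_dvd]
  have h4 : ((m : ℤ) - 1) * ∑ i ∈ Finset.range q, (m : ℤ) ^ i = (m : ℤ) ^ q - 1 := mul_geom_sum _ _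
  have h5 : IsCoprime (n : ℤ) (S : ℤ) := Nat.isCoprime_iff_coprime.mpr hcop
  have h6 : (n : ℤ) ∣ ((m : ℤ) - 1) * (S : ℤ) := by
    rw [hS]
    push_cast
    rw [h4]
    have : (m : ℤ) ^ q - 1 = -(((1 : ℕ) : ℤ) - ((m ^ q : ℕ) : ℤ)) := by push_cast; ring
    rw [this]
    exact (dvd_neg).mpr h3
  have h7 := h5.dvd_of_dvd_mul_right h6
  have : ((1 : ℕ) : ℤ) - (m : ℤ) = -((m : ℤ) - 1) := by push_cast; ring
  rw [this]
  exact (dvd_neg).mpr h7

/-- Solvable subgroups of a fixed-point-free complement that are abelian or of order `pq` are cyclic. -/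
theorem fpf_sub_cyclic {G : Type*} [Group G] [Finite G] (K H : Subgroup G) [K.Normal]
    (hc : Subgroup.IsComplement' K H) (hK : K ≠ ⊥)
    (hfpf : ∀ h ∈ H, h ≠ 1 → K ⊓ Subgroup.centralizer {h} = ⊥)
    (A : Subgroup G) (hAH : A ≤ H) (hsolv : Group.IsSolvable A)
    (hA : IsMulCommutative A ∨ ∃ p q : ℕ, p.Prime ∧ q.Prime ∧ Nat.card A = p * q) : IsCyclic A := by
  by_cases hH : H = ⊥
  · have hAb : A = ⊥ := by rw [hH] at hAH; exact le_bot_iff.mp hAH
    subst hAb
    exact isCyclic_of_subsingleton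
  have hfrob : Cfsg.IsFrobeniusComplement H := (Cfsg.Agent.S0039.result K H hc hK hH).mpr hfpf
  have hidx := (Cfsg.Agent.S0034.result H hfrob).2
  have h1 : Nat.Coprime (Nat.card K) (Nat.card H) := by
    unfold Nat.Coprime
    rw [← hc.index_eq_card]
    have hm : H.index ≡ 1 [MOD Nat.card H] := hidx
    rw [hm.gcd_eq]
    simp
  have hcop : (Nat.card A).Coprime (Nat.card K) :=
    Nat.Coprime.coprime_dvd_left (Subgroup.card_dvd_of_le hAH) h1.symm
  have hK1 : Nat.card K ≠ 1 := fun h => hK (Subgroup.card_eq_one.mp h)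
  set q := (Nat.card K).minFac with hq
  have hqp : q.Prime := Nat.minFac_prime hK1
  have : Fact q.Prime := ⟨hqp⟩
  have hqd : q ∣ Nat.card K := Nat.minFac_dvd _
  have hAK : A ≤ Subgroup.normalizer (K : Set G) := by
    rw [Subgroup.normalizer_eq_top]; exact le_top
  obtain ⟨Q, hQK, hQc, hAQ⟩ :=
    Cfsg.Agent.Helper52.exists_invariant_sylow A K hAK hcop (Or.inl hsolv) q
  unfold Cfsg.Agent.Helper52.sylCard at hQc
  have hQp : IsPGroup q Q := IsPGroup.of_card hQc
  have hQnt : Nontrivial Q := by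
    apply Finite.one_lt_card_iff_nontrivial.mp
    rw [hQc]
    apply Nat.one_lt_pow _ hqp.one_lt
    have hpos : 0 < (Nat.card K).factorization q :=
      hqp.factorization_pos_of_dvd Nat.card_pos.ne' hqd
    omega
  have hcn : Nontrivial (Subgroup.center Q) := hQp.center_nontrivial
  obtain ⟨c, hc1⟩ : ∃ c : Subgroup.center Q, c ≠ 1 := exists_ne 1
  set V : Subgroup G := Q ⊓ Subgroup.centralizer (Q : Set G) with hV
  have hVne : V ≠ ⊥ := by
    intro hbot
    have hcV : ((c : Q) : G) ∈ V := by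
      refine Subgroup.mem_inf.mpr ⟨(c : Q).2, ?_⟩
      rw [Subgroup.mem_centralizer_iff]
      intro y hy
      have := Subgroup.mem_center_iff.mp c.2 ⟨y, hy⟩
      exact congrArg Subtype.val this
    rw [hbot, Subgroup.mem_bot] at hcV
    apply hc1
    apply Subtype.ext
    apply Subtype.ext
    exact hcV
  have hVc : IsMulCommutative V := by
    refine ⟨⟨fun a b => Subtype.ext ?_⟩⟩
    have ha := (Subgroup.mem_inf.mp a.2).2
    have hb := (Subgroup.mem_inf.mp b.2).1
    rw [Subgroup.mem_centralizer_iff] at ha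
    exact (ha b hb).symm
  have hconj : ∀ a : G, a ∈ Subgroup.normalizer (Q : Set G) → ∀ v ∈ V, a * v * a⁻¹ ∈ V := by
    intro a ha v hv
    have hn := Subgroup.mem_normalizer_iff.mp ha
    have hvQ := (Subgroup.mem_inf.mp hv).1
    have hvC := (Subgroup.mem_inf.mp hv).2
    rw [Subgroup.mem_centralizer_iff] at hvC
    refine Subgroup.mem_inf.mpr ⟨(hn v).mp hvQ, ?_⟩
    rw [Subgroup.mem_centralizer_iff]
    intro y hy
    have hy' : a⁻¹ * y * a ∈ Q := by
      rw [hn]
      have : a * (a⁻¹ * y * a) * a⁻¹ = y := by group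
      rw [this]; exact hy
    have := hvC _ hy'
    calc y * (a * v * a⁻¹) = a * ((a⁻¹ * y * a) * v) * a⁻¹ := by group
      _ = a * (v * (a⁻¹ * y * a)) * a⁻¹ := by rw [this]
      _ = a * v * a⁻¹ * y := by group
  have hAV : A ≤ Subgroup.normalizer (V : Set G) := by
    intro a ha
    rw [Subgroup.mem_normalizer_iff]
    intro v
    constructor
    · exact hconj a (hAQ ha) v
    · intro h
      have := hconj a⁻¹ (Subgroup.inv_mem _ (hAQ ha)) _ h
      have e : a⁻¹ * (a * v * a⁻¹) * a⁻¹⁻¹ = v := by group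
      rwa [e] at this
  have hfpf' : ∀ a ∈ A, a ≠ 1 → V ⊓ Subgroup.centralizer {a} = ⊥ := by
    intro a ha hne
    rw [eq_bot_iff]
    intro x hx
    have hx' : x ∈ K ⊓ Subgroup.centralizer {a} :=
      Subgroup.mem_inf.mpr ⟨hQK (Subgroup.mem_inf.mp (Subgroup.mem_inf.mp hx).1).1,
        (Subgroup.mem_inf.mp hx).2⟩
    rw [hfpf a (hAH ha) hne] at hx'
    exact hx'
  exact Cfsg.Agent.S0041.result A V hVne hAV hfpf' hA

/-- A fixed-point-free involution inverts. -/
theorem involution_inverts {G : Type*} [Group G] [Finite G] (K : Subgroup G) [K.Normal] (t : G)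
    (ht2 : t * t = 1) (hfpf : K ⊓ Subgroup.centralizer {t} = ⊥) : ∀ x ∈ K, t * x * t⁻¹ = x⁻¹ := by
  have htinv : t⁻¹ = t := inv_eq_of_mul_eq_one_left ht2
  let φ : K → K := fun k => ⟨(k : G)⁻¹ * (t * k * t⁻¹), K.mul_mem (K.inv_mem k.2)
    (Subgroup.Normal.conj_mem inferInstance _ k.2 t)⟩
  have hinj : Function.Injective φ := by
    intro k l hkl
    have h1 : (k : G)⁻¹ * (t * k * t⁻¹) = (l : G)⁻¹ * (t * l * t⁻¹) := congrArg Subtype.val hkl
    have h2 : (l : G) * (k : G)⁻¹ ∈ K ⊓ Subgroup.centralizer {t} := by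
      refine Subgroup.mem_inf.mpr ⟨K.mul_mem l.2 (K.inv_mem k.2), ?_⟩
      rw [Subgroup.mem_centralizer_iff]
      intro y hy
      rw [Set.mem_singleton_iff] at hy
      rw [hy]
      have h3 : (l : G) * (k : G)⁻¹ = t * ((l : G) * (k : G)⁻¹) * t⁻¹ := by
        have : (l : G) * ((k : G)⁻¹ * (t * k * t⁻¹)) * (t * (k : G)⁻¹ * t⁻¹)
            = (l : G) * ((l : G)⁻¹ * (t * l * t⁻¹)) * (t * (k : G)⁻¹ * t⁻¹) := by rw [h1]
        calc (l : G) * (k : G)⁻¹ = (l : G) * ((k : G)⁻¹ * (t * k * t⁻¹)) * (t * (k : G)⁻¹ * t⁻¹) := by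
              group
          _ = (l : G) * ((l : G)⁻¹ * (t * l * t⁻¹)) * (t * (k : G)⁻¹ * t⁻¹) := this
          _ = t * ((l : G) * (k : G)⁻¹) * t⁻¹ := by group
      calc t * ((l : G) * (k : G)⁻¹) = (t * ((l : G) * (k : G)⁻¹) * t⁻¹) * t := by group
        _ = (l : G) * (k : G)⁻¹ * t := by rw [← h3]
    rw [hfpf, Subgroup.mem_bot] at h2
    apply Subtype.ext
    have : (l : G) = k := by
      calc (l : G) = (l : G) * (k : G)⁻¹ * k := by group
        _ = k := by rw [h2, one_mul]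
    exact this.symm
  have hsurj : Function.Surjective φ := Finite.injective_iff_surjective.mp hinj
  intro x hx
  obtain ⟨k, hk⟩ := hsurj ⟨x, hx⟩
  have hk' : (k : G)⁻¹ * (t * k * t⁻¹) = x := congrArg Subtype.val hk
  rw [← hk']
  have ht2' : t⁻¹ * t⁻¹ = 1 := by rw [← mul_inv_rev, ht2, inv_one]
  calc t * ((k : G)⁻¹ * (t * k * t⁻¹)) * t⁻¹
      = (t * (k : G)⁻¹ * t⁻¹) * (t * t) * k * (t⁻¹ * t⁻¹) := by group
    _ = t * (k : G)⁻¹ * t⁻¹ * k := by rw [ht2, ht2', mul_one, mul_one]
    _ = ((k : G)⁻¹ * (t * k * t⁻¹))⁻¹ := by group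

/-- A fixed-point-free complement of even order has a central involution. -/
theorem center_ne_bot_of_even {G : Type*} [Group G] [Finite G] (K H : Subgroup G) [K.Normal]
    (hK : K ≠ ⊥) (hfpf : ∀ h ∈ H, h ≠ 1 → K ⊓ Subgroup.centralizer {h} = ⊥)
    (h2 : 2 ∣ Nat.card H) : Subgroup.center H ≠ ⊥ := by
  have : Fact (Nat.Prime 2) := ⟨Nat.prime_two⟩
  obtain ⟨t, ht⟩ := exists_prime_orderOf_dvd_card' 2 h2
  have ht1 : t ≠ 1 := by
    intro h; rw [h, orderOf_one] at ht; omega
  have ht2 : t * t = 1 := by rw [← pow_two, ← ht, pow_orderOf_eq_one]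
  have hinv : ∀ s : H, s ≠ 1 → s * s = 1 → ∀ x ∈ K, (s : G) * x * (s : G)⁻¹ = x⁻¹ := by
    intro s hs1 hs2
    exact involution_inverts K (s : G) (by exact_mod_cast congrArg Subtype.val hs2)
      (hfpf s s.2 (fun h => hs1 (Subtype.ext h)))
  have huniq : ∀ s : H, s ≠ 1 → s * s = 1 → s = t := by
    intro s hs1 hs2
    by_contra hne
    have hst : s * t ≠ 1 := by
      intro h
      apply hne
      have : s = t⁻¹ := eq_inv_of_mul_eq_one_left h
      rw [this]; exact inv_eq_of_mul_eq_one_left ht2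
    have hs := hinv s hs1 hs2
    have htt := hinv t ht1 ht2
    have hcen : K ≤ Subgroup.centralizer {((s * t : H) : G)} := by
      intro x hx
      rw [Subgroup.mem_centralizer_iff]
      intro y hy
      rw [Set.mem_singleton_iff] at hy
      rw [hy, Subgroup.coe_mul]
      have h1 := htt x hx
      have h2 := hs x⁻¹ (K.inv_mem hx)
      rw [inv_inv] at h2
      have h3 : (s : G) * t * x * ((s : G) * t)⁻¹ = x := by
        calc (s : G) * t * x * ((s : G) * t)⁻¹ = s * (t * x * (t : G)⁻¹) * (s : G)⁻¹ := by group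
          _ = x := by rw [h1, h2]
      calc ((s : G) * t) * x = ((s : G) * t * x * ((s : G) * t)⁻¹) * ((s : G) * t) := by group
        _ = x * ((s : G) * t) := by rw [h3]
    have h4 := hfpf _ (s * t).2 (fun h => hst (Subtype.ext h))
    have hKbot : K = ⊥ := by
      rw [eq_bot_iff, ← h4]; exact le_inf le_rfl hcen
    exact hK hKbot
  intro hbot
  have htc : t ∈ Subgroup.center H := by
    rw [Subgroup.mem_center_iff]
    intro g
    have h1 : g * t * g⁻¹ = t := by
      apply huniq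
      · intro h
        apply ht1
        calc t = g⁻¹ * (g * t * g⁻¹) * g := by group
          _ = 1 := by rw [h]; group
      · calc g * t * g⁻¹ * (g * t * g⁻¹) = g * (t * t) * g⁻¹ := by group
          _ = 1 := by rw [ht2]; group
    calc g * t = (g * t * g⁻¹) * g := by group
      _ = t * g := by rw [h1]
  rw [hbot, Subgroup.mem_bot] at htc
  exact ht1 htc

open scoped commutatorElement in
/-- A nontrivial finite Z-group in which every subgroup `⟨a⟩ ⋊ ⟨c⟩` of order `pq` is abelian has a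
nontrivial centre. -/
theorem center_ne_bot_of_isZGroup {X : Type*} [Group X] [Finite X] [Nontrivial X] [IsZGroup X]
    (hpq : ∀ c a : X, (orderOf c).Prime → (orderOf a).Prime → orderOf c ≠ orderOf a →
      c * a * c⁻¹ ∈ Subgroup.zpowers a → c * a * c⁻¹ = a) : Subgroup.center X ≠ ⊥ := by
  by_cases hcomm : commutator X = ⊥
  · intro hbot
    have htop : Subgroup.center X = ⊤ := (_root_.commutator_eq_bot_iff_center_eq_top (G := X)).mp hcomm
    rw [htop] at hbot
    exact top_ne_bot hbot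
  have hcyc : IsCyclic (commutator X) := IsZGroup.isCyclic_commutator X
  have hcop : (Nat.card (commutator X)).Coprime (commutator X).index :=
    IsZGroup.coprime_commutator_index X
  obtain ⟨B, hB⟩ := Subgroup.exists_right_complement'_of_coprime hcop
  have hBcard : (commutator X).index = Nat.card B := hB.symm.index_eq_card
  have hlt : commutator X < ⊤ := IsZGroup.commutator_lt X
  have hB1 : Nat.card B ≠ 1 := by
    rw [← hBcard]
    intro h
    exact hlt.ne (Subgroup.index_eq_one.mp h)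
  set q := (Nat.card B).minFac with hqdef
  have hq : q.Prime := Nat.minFac_prime hB1
  have : Fact q.Prime := ⟨hq⟩
  obtain ⟨c', hc'⟩ := exists_prime_orderOf_dvd_card' (G := B) q (Nat.minFac_dvd _)
  have hcB : (c' : X) ∈ B := c'.2
  have hcord : orderOf (c' : X) = q := by rw [Subgroup.orderOf_coe]; exact hc'
  generalize (c' : X) = c at hcB hcord
  have hBcomm : ∀ b ∈ B, c * b = b * c := by
    intro b hb
    have h1 : ⁅c, b⁆ ∈ commutator X := by
      rw [_root_.commutator_def]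
      exact Subgroup.commutator_mem_commutator (Subgroup.mem_top c) (Subgroup.mem_top b)
    have h2 : ⁅c, b⁆ ∈ B := by
      rw [commutatorElement_def]
      exact B.mul_mem (B.mul_mem (B.mul_mem hcB hb) (B.inv_mem hcB)) (B.inv_mem hb)
    have h3 : ⁅c, b⁆ = 1 := (Subgroup.disjoint_def.mp hB.disjoint) h1 h2
    exact commutatorElement_eq_one_iff_mul_comm.mp h3
  obtain ⟨a', ha'⟩ := hcyc.exists_generator
  have haX : (a' : X) ∈ commutator X := a'.2
  have hzp : ∀ x ∈ commutator X, x ∈ Subgroup.zpowers (a' : X) := by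
    intro x hx
    obtain ⟨k, hk⟩ := Subgroup.mem_zpowers_iff.mp (ha' ⟨x, hx⟩)
    exact Subgroup.mem_zpowers_iff.mpr ⟨k, by simpa using congrArg Subtype.val hk⟩
  have hn : orderOf (a' : X) = Nat.card (commutator X) := by
    rw [Subgroup.orderOf_coe]; exact orderOf_eq_card_of_forall_mem_zpowers ha'
  generalize (a' : X) = a at haX hzp hn
  have hconj : c * a * c⁻¹ ∈ commutator X :=
    Subgroup.Normal.conj_mem inferInstance a haX c
  obtain ⟨m, hm⟩ : ∃ m : ℕ, c * a * c⁻¹ = a ^ m := by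
    have h1 := hzp _ hconj
    obtain ⟨m, hm⟩ := (isOfFinOrder_of_finite a).mem_powers_iff_mem_zpowers.mpr h1
    exact ⟨m, hm.symm⟩
  have hk : ∀ k : ℕ, c ^ k * a * (c ^ k)⁻¹ = a ^ (m ^ k) := by
    intro k
    induction k with
    | zero => simp
    | succ k ih =>
      calc c ^ (k + 1) * a * (c ^ (k + 1))⁻¹ = c ^ k * (c * a * c⁻¹) * (c ^ k)⁻¹ := by
            rw [pow_succ]; group
        _ = c ^ k * a ^ m * (c ^ k)⁻¹ := by rw [hm]
        _ = (c ^ k * a * (c ^ k)⁻¹) ^ m := by rw [conj_pow]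
        _ = (a ^ (m ^ k)) ^ m := by rw [ih]
        _ = a ^ (m ^ (k + 1)) := by rw [← pow_mul, pow_succ]
  have h1 : m ^ q ≡ 1 [MOD orderOf a] := by
    have h := hk q
    rw [← hcord, pow_orderOf_eq_one, one_mul, inv_one, mul_one] at h
    have h' : a ^ (m ^ orderOf c) = a ^ 1 := by rw [← h, pow_one]
    rw [hcord] at h'
    exact pow_eq_pow_iff_modEq.mp h'
  have hqn : q.Coprime (orderOf a) := by
    rw [hn]
    have hd : q ∣ (commutator X).index := by rw [hBcard]; exact Nat.minFac_dvd _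
    exact (Nat.Coprime.coprime_dvd_right hd hcop).symm
  have hn0 : orderOf a ≠ 0 := (orderOf_pos a).ne'
  have h2 : ∀ p : ℕ, p.Prime → p ∣ orderOf a → m ≡ 1 [MOD p] := by
    intro p hp hpn
    have hap : orderOf (a ^ (orderOf a / p)) = p := orderOf_pow_orderOf_div hn0 hpn
    have hcap : c * a ^ (orderOf a / p) * c⁻¹ = (a ^ (orderOf a / p)) ^ m := by
      calc c * a ^ (orderOf a / p) * c⁻¹ = (c * a * c⁻¹) ^ (orderOf a / p) := by rw [conj_pow]
        _ = (a ^ m) ^ (orderOf a / p) := by rw [hm]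
        _ = (a ^ (orderOf a / p)) ^ m := by rw [← pow_mul, ← pow_mul, mul_comm]
    have hne : orderOf c ≠ orderOf (a ^ (orderOf a / p)) := by
      rw [hcord, hap]
      intro h
      rw [← h] at hpn
      exact hq.one_lt.ne' (Nat.Coprime.eq_one_of_dvd hqn hpn)
    have h3 := hpq c (a ^ (orderOf a / p)) (hcord ▸ hq) (hap.symm ▸ hp) hne
      (by rw [hcap]; exact Subgroup.npow_mem_zpowers _ _)
    rw [hcap] at h3
    have h4 : (a ^ (orderOf a / p)) ^ m = (a ^ (orderOf a / p)) ^ 1 := by rw [h3, pow_one]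
    have h5 := pow_eq_pow_iff_modEq.mp h4
    rwa [hap] at h5
  have h3 := modEq_one_of_pow (orderOf a) m q hq hqn h1 h2
  have hca : c * a * c⁻¹ = a := by
    rw [hm]
    have h4 : a ^ m = a ^ 1 := pow_eq_pow_iff_modEq.mpr h3
    rw [h4, pow_one]
  have hcen : Subgroup.centralizer {c} = ⊤ := by
    rw [eq_top_iff, ← hB.sup_eq_top]
    apply sup_le
    · intro x hx
      obtain ⟨k, rfl⟩ := Subgroup.mem_zpowers_iff.mp (hzp x hx)
      rw [Subgroup.mem_centralizer_iff]
      intro y hy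
      rw [Set.mem_singleton_iff] at hy
      rw [hy]
      have h5 : c * a ^ k * c⁻¹ = a ^ k := by rw [← conj_zpow, hca]
      calc c * a ^ k = (c * a ^ k * c⁻¹) * c := by group
        _ = a ^ k * c := by rw [h5]
    · intro b hb
      rw [Subgroup.mem_centralizer_iff]
      intro y hy
      rw [Set.mem_singleton_iff] at hy
      rw [hy]
      exact hBcomm b hb
  intro hbot
  have hcc : c ∈ Subgroup.center X := by
    rw [Subgroup.mem_center_iff]
    intro g
    have h6 : g ∈ Subgroup.centralizer {c} := by rw [hcen]; exact Subgroup.mem_top g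
    rw [Subgroup.mem_centralizer_iff] at h6
    exact (h6 c rfl).symm
  rw [hbot, Subgroup.mem_bot] at hcc
  rw [hcc, orderOf_one] at hcord
  exact hq.one_lt.ne hcord

end Cfsg.Agent.Helper1.FrobCompl
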