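import Mathlib
import Cfsg.Agent.Lib.Helper1.Basic
import Cfsg.Agent.Lib.Helper1.Compl

set_option autoImplicit false

namespace Cfsg.Agent.Helper1.Gaschutz
open Pointwise
open scoped IsMulCommutative

variable {G : Type*} [Group G]

/-- Sections of `G → G ⧸ K` (as functions on `G` constant on cosets) that are equivariant for right
multiplication by `A`. -/
structure Sec (K A : Subgroup G) where
  toFun : G → G
  mem' : ∀ g, g⁻¹ * toFun g ∈ K
  mul_K' : ∀ g, ∀ k ∈ K, toFun (g * k) = toFun g
  mul_A' : ∀ g, ∀ a ∈ A, toFun (g * a) = toFun g * a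

variable {K A : Subgroup G}

theorem Sec.ext' {s t : Sec K A} (h : ∀ g, s.toFun g = t.toFun g) : s = t := by
  cases s; cases t
  simp only [Sec.mk.injEq]
  funext g; exact h g

/-- Left translation of sections. -/
def Sec.smul (g : G) (s : Sec K A) : Sec K A where
  toFun := fun x => g * s.toFun (g⁻¹ * x)
  mem' := fun x => by
    have := s.mem' (g⁻¹ * x)
    have e : x⁻¹ * (g * s.toFun (g⁻¹ * x)) = (g⁻¹ * x)⁻¹ * s.toFun (g⁻¹ * x) := by group
    rw [e]; exact this
  mul_K' := fun x k hk => by rw [← mul_assoc, s.mul_K' _ k hk]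
  mul_A' := fun x a ha => by rw [← mul_assoc, s.mul_A' _ a ha, mul_assoc]

instance : SMul G (Sec K A) := ⟨Sec.smul⟩

theorem smul_toFun (g : G) (s : Sec K A) (x : G) : (g • s).toFun x = g * s.toFun (g⁻¹ * x) := rfl

theorem one_smul' (s : Sec K A) : (1 : G) • s = s := by
  apply Sec.ext'; intro x; simp [smul_toFun]

theorem mul_smul' (g h : G) (s : Sec K A) : (g * h) • s = g • h • s := by
  apply Sec.ext'; intro x; simp [smul_toFun, mul_assoc]

variable [K.Normal]

/-- The difference of two sections at a point, an element of `K`. -/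
def d (s s' : Sec K A) (g : G) : K :=
  ⟨s'.toFun g * (s.toFun g)⁻¹, by
    have h1 := s.mem' g
    have h2 := s'.mem' g
    have e : s'.toFun g * (s.toFun g)⁻¹ = g * ((g⁻¹ * s'.toFun g) * (g⁻¹ * s.toFun g)⁻¹) * g⁻¹ := by group
    rw [e]
    exact Subgroup.Normal.conj_mem inferInstance _ (K.mul_mem h2 (K.inv_mem h1)) g⟩

theorem d_coe (s s' : Sec K A) (g : G) : (d s s' g : G) = s'.toFun g * (s.toFun g)⁻¹ := rfl

theorem d_self (s : Sec K A) (g : G) : d s s g = 1 := by
  apply Subtype.ext; simp [d_coe]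

theorem d_trans (s s' s'' : Sec K A) (g : G) : d s s'' g = d s' s'' g * d s s' g := by
  apply Subtype.ext; simp [d_coe, mul_assoc]

theorem d_mul_U {U : Subgroup G} (hU : U = K ⊔ A) (s s' : Sec K A) (g x : G) (hx : x ∈ U) :
    d s s' (g * x) = d s s' g := by
  rw [hU] at hx
  obtain ⟨k, hk, a, ha, rfl⟩ := Subgroup.mem_sup_of_normal_left.mp hx
  apply Subtype.ext
  rw [d_coe, d_coe, ← mul_assoc, s.mul_A' _ a ha, s'.mul_A' _ a ha, s.mul_K' _ k hk, s'.mul_K' _ k hk]
  group

theorem d_eq_of_mk_eq {U : Subgroup G} (hU : U = K ⊔ A) (s s' : Sec K A) {g g' : G}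
    (h : (g : G ⧸ U) = (g' : G ⧸ U)) : d s s' g = d s s' g' := by
  have h1 : g⁻¹ * g' ∈ U := QuotientGroup.eq.mp h
  have h2 : g' = g * (g⁻¹ * g') := by group
  rw [h2, d_mul_U hU s s' g _ h1]

theorem d_smul (g : G) (s s' : Sec K A) (x : G) :
    d (g • s) (g • s') x = MulAut.conjNormal g (d s s' (g⁻¹ * x)) := by
  apply Subtype.ext
  rw [MulAut.conjNormal_apply, d_coe, d_coe, smul_toFun, smul_toFun]
  group

theorem d_smul_K (k : K) (s s' : Sec K A) (x : G) :
    d s ((k : G) • s') x = k * d s s' x := by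
  apply Subtype.ext
  rw [Subgroup.coe_mul, d_coe, d_coe, smul_toFun]
  have h1 : x⁻¹ * (k : G)⁻¹ * x ∈ K := by
    have := Subgroup.Normal.conj_mem (inferInstance : K.Normal) _ (K.inv_mem k.2) x⁻¹
    simpa using this
  have h2 : (k : G)⁻¹ * x = x * (x⁻¹ * (k : G)⁻¹ * x) := by group
  rw [h2, s'.mul_K' _ _ h1, mul_assoc]

variable [Finite G] [IsMulCommutative K]

/-- A `Fintype` structure on the coset space, fixed once and for all. -/
@[instance_reducible]
noncomputable def fintypeQuot (U : Subgroup G) : Fintype (G ⧸ U) := Fintype.ofFinite _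

attribute [local instance] fintypeQuot

/-- The product over `G ⧸ U` of the differences of two sections. -/
noncomputable def delta (U : Subgroup G) (s s' : Sec K A) : K :=
  ∏ u : G ⧸ U, d s s' (Quotient.out u)

theorem delta_eq_prod_reps {U : Subgroup G} (hU : U = K ⊔ A) (s s' : Sec K A) (r : G ⧸ U → G)
    (hr : ∀ u, ((r u : G) : G ⧸ U) = u) : ∏ u : G ⧸ U, d s s' (r u) = delta U s s' := by
  unfold delta
  apply Finset.prod_congr rfl
  intro u _
  apply d_eq_of_mk_eq hU
  rw [hr, QuotientGroup.out_eq']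

theorem delta_self (U : Subgroup G) (s : Sec K A) : delta U s s = 1 := by
  unfold delta
  simp [d_self]

theorem delta_trans (U : Subgroup G) (s s' s'' : Sec K A) :
    delta U s s'' = delta U s' s'' * delta U s s' := by
  unfold delta
  rw [← Finset.prod_mul_distrib]
  apply Finset.prod_congr rfl
  intro u _
  exact d_trans s s' s'' _

theorem delta_symm (U : Subgroup G) (s s' : Sec K A) : delta U s' s = (delta U s s')⁻¹ := by
  have := delta_trans U s s' s
  rw [delta_self] at this
  exact eq_inv_of_mul_eq_one_left this.symm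

theorem delta_smul {U : Subgroup G} (hU : U = K ⊔ A) (g : G) (s s' : Sec K A) :
    delta U (g • s) (g • s') = MulAut.conjNormal g (delta U s s') := by
  have h1 : delta U (g • s) (g • s') = ∏ u : G ⧸ U, MulAut.conjNormal g (d s s' (g⁻¹ * Quotient.out u)) := by
    unfold delta
    apply Finset.prod_congr rfl
    intro u _
    exact d_smul g s s' _
  rw [h1, ← map_prod]
  congr 1
  -- reindex by `u = g • v`
  rw [← delta_eq_prod_reps hU s s' (fun v => g⁻¹ * Quotient.out (g • v))]
  · exact Fintype.prod_equiv (MulAction.toPerm g⁻¹) _ _ (fun u => by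
      simp [MulAction.toPerm_apply])
  · intro v
    have : ((g⁻¹ * Quotient.out (g • v) : G) : G ⧸ U) = g⁻¹ • ((Quotient.out (g • v) : G) : G ⧸ U) := rfl
    rw [this, QuotientGroup.out_eq', inv_smul_smul]

theorem delta_smul_K {U : Subgroup G} (k : K) (s s' : Sec K A) :
    delta U s ((k : G) • s') = k ^ U.index * delta U s s' := by
  unfold delta
  have : ∀ u : G ⧸ U, d s ((k : G) • s') (Quotient.out u) = k * d s s' (Quotient.out u) :=
    fun u => d_smul_K k s s' _
  simp_rw [this]
  rw [Finset.prod_mul_distrib, Finset.prod_const, Finset.card_univ, Subgroup.index_eq_card,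
    Nat.card_eq_fintype_card]

end Cfsg.Agent.Helper1.Gaschutz

namespace Cfsg.Agent.Helper1.Gaschutz
open Pointwise
open scoped IsMulCommutative

variable {G : Type*} [Group G] {K A : Subgroup G} [K.Normal] [Finite G] [IsMulCommutative K]

theorem conjNormal_of_mem (k : K) (x : K) : MulAut.conjNormal (k : G) x = x := by
  apply Subtype.ext
  rw [MulAut.conjNormal_apply]
  have : (k : G) * x = x * k := by
    have := mul_comm k x
    exact congrArg Subtype.val this
  rw [this]; group

/-- The cocycle attached to a base section. -/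
noncomputable def beta (U : Subgroup G) (s : Sec K A) (g : G) : K := delta U s (g • s)

theorem beta_one (U : Subgroup G) (s : Sec K A) : beta U s 1 = 1 := by
  unfold beta; rw [one_smul', delta_self]

theorem beta_mul {U : Subgroup G} (hU : U = K ⊔ A) (s : Sec K A) (g h : G) :
    beta U s (g * h) = MulAut.conjNormal g (beta U s h) * beta U s g := by
  unfold beta
  rw [mul_smul', delta_trans U s (g • s) (g • h • s), delta_smul hU]

theorem beta_of_mem {U : Subgroup G} (s : Sec K A) (k : K) : beta U s (k : G) = k ^ U.index := by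
  unfold beta
  rw [delta_smul_K, delta_self, mul_one]

/-- The stabiliser of the class of a section: a subgroup. -/
noncomputable def stab {U : Subgroup G} (hU : U = K ⊔ A) (s : Sec K A) : Subgroup G where
  carrier := {g | beta U s g = 1}
  one_mem' := beta_one U s
  mul_mem' := by
    intro g h hg hh
    simp only [Set.mem_ofPred_eq] at hg hh ⊢
    rw [beta_mul hU, hg, hh, map_one, one_mul]
  inv_mem' := by
    intro g hg
    simp only [Set.mem_ofPred_eq] at hg ⊢
    have h1 := beta_mul hU s g⁻¹ g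
    rw [inv_mul_cancel, beta_one, hg, map_one, one_mul] at h1
    exact h1.symm

theorem mem_stab {U : Subgroup G} (hU : U = K ⊔ A) (s : Sec K A) (g : G) :
    g ∈ stab hU s ↔ delta U s (g • s) = 1 := Iff.rfl

/-- **Gaschütz, existence**: the stabiliser of a section is a complement of `K`. -/
theorem isComplement'_stab {U : Subgroup G} (hU : U = K ⊔ A) (hcop : (Nat.card K).Coprime U.index)
    (s : Sec K A) : Subgroup.IsComplement' K (stab hU s) := by
  rw [isComplement'_iff_disjoint_and_forall]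
  constructor
  · rw [Subgroup.disjoint_def]
    intro x hxK hx
    have h1 : beta U s x = 1 := hx
    have h2 := beta_of_mem (U := U) s ⟨x, hxK⟩
    rw [Subtype.coe_mk] at h2
    rw [h2] at h1
    have h3 : powCoprime hcop ⟨x, hxK⟩ = powCoprime hcop 1 := by
      rw [powCoprime_apply, powCoprime_apply, h1, one_pow]
    have h4 := (powCoprime hcop).injective h3
    exact congrArg Subtype.val h4
  · intro g
    set k : K := (powCoprime hcop).symm (beta U s g) with hk
    have hkpow : k ^ U.index = beta U s g := by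
      have := (powCoprime hcop).apply_symm_apply (beta U s g)
      rwa [powCoprime_apply] at this
    refine ⟨k, k.2, (k : G)⁻¹ * g, ?_, by group⟩
    change beta U s ((k : G)⁻¹ * g) = 1
    have hinv : ((k : G)⁻¹ : G) = ((k⁻¹ : K) : G) := rfl
    rw [beta_mul hU, hinv, conjNormal_of_mem, beta_of_mem, inv_pow, hkpow, mul_inv_cancel]

end Cfsg.Agent.Helper1.Gaschutz

namespace Cfsg.Agent.Helper1.Gaschutz
open Pointwise
open scoped IsMulCommutative

variable {G : Type*} [Group G] {K A : Subgroup G} [K.Normal]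

section base

/-- The `A`-part of an element of `A K` (junk outside). -/
noncomputable def aPart (K A : Subgroup G) (y : G) : G := by
  classical
  exact if h : ∃ a ∈ A, a⁻¹ * y ∈ K then Classical.choose h else 1

theorem aPart_spec (y : G) (h : ∃ a ∈ A, a⁻¹ * y ∈ K) : aPart K A y ∈ A ∧ (aPart K A y)⁻¹ * y ∈ K := by
  classical
  unfold aPart
  rw [dif_pos h]
  exact Classical.choose_spec h

theorem aPart_unique (hAK : A ⊓ K = ⊥) (y a : G) (ha : a ∈ A) (hay : a⁻¹ * y ∈ K) : aPart K A y = a := by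
  obtain ⟨h1, h2⟩ := aPart_spec y ⟨a, ha, hay⟩
  have h3 : a⁻¹ * aPart K A y ∈ A ⊓ K := by
    refine ⟨A.mul_mem (A.inv_mem ha) h1, ?_⟩
    have e : a⁻¹ * aPart K A y = (a⁻¹ * y) * ((aPart K A y)⁻¹ * y)⁻¹ := by group
    rw [e]; exact K.mul_mem hay (K.inv_mem h2)
  rw [hAK, Subgroup.mem_bot] at h3
  have : aPart K A y = a * (a⁻¹ * aPart K A y) := by group
  rw [this, h3, mul_one]

theorem exists_aPart {U : Subgroup G} (hU : U = K ⊔ A) (y : G) (hy : y ∈ U) : ∃ a ∈ A, a⁻¹ * y ∈ K := by
  rw [hU, sup_comm] at hy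
  obtain ⟨a, ha, k, hk, rfl⟩ := Subgroup.mem_sup_of_normal_right.mp hy
  exact ⟨a, ha, by simpa using hk⟩

/-- The base section built from a complement `A` of `K` in `U`. -/
noncomputable def baseSec {U : Subgroup G} (hU : U = K ⊔ A) (hAK : A ⊓ K = ⊥) : Sec K A where
  toFun := fun x => Quotient.out (x : G ⧸ U) * aPart K A ((Quotient.out (x : G ⧸ U))⁻¹ * x)
  mem' := fun x => by
    have hmem : (Quotient.out (x : G ⧸ U))⁻¹ * x ∈ U := by
      rw [← QuotientGroup.eq, QuotientGroup.out_eq']
    obtain ⟨h1, h2⟩ := aPart_spec _ (exists_aPart hU _ hmem)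
    set r := Quotient.out (x : G ⧸ U)
    set a := aPart K A (r⁻¹ * x)
    have e : x⁻¹ * (r * a) = (a⁻¹ * (r⁻¹ * x))⁻¹ := by group
    rw [e]; exact K.inv_mem h2
  mul_K' := fun x k hk => by
    have hKU : K ≤ U := hU ▸ le_sup_left
    have hq : ((x * k : G) : G ⧸ U) = (x : G ⧸ U) := by
      rw [QuotientGroup.eq]
      have : (x * k)⁻¹ * x = k⁻¹ := by group
      rw [this]; exact U.inv_mem (hKU hk)
    rw [hq]
    congr 1
    have hmem : (Quotient.out (x : G ⧸ U))⁻¹ * x ∈ U := by
      rw [← QuotientGroup.eq, QuotientGroup.out_eq']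
    obtain ⟨h1, h2⟩ := aPart_spec _ (exists_aPart hU _ hmem)
    apply aPart_unique hAK _ _ h1
    set r := Quotient.out (x : G ⧸ U)
    set a := aPart K A (r⁻¹ * x)
    have e : a⁻¹ * (r⁻¹ * (x * k)) = (a⁻¹ * (r⁻¹ * x)) * k := by group
    rw [e]; exact K.mul_mem h2 hk
  mul_A' := fun x a' ha' => by
    have hAU : A ≤ U := hU ▸ le_sup_right
    have hq : ((x * a' : G) : G ⧸ U) = (x : G ⧸ U) := by
      rw [QuotientGroup.eq]
      have : (x * a')⁻¹ * x = a'⁻¹ := by group
      rw [this]; exact U.inv_mem (hAU ha')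
    rw [hq, mul_assoc]
    congr 1
    have hmem : (Quotient.out (x : G ⧸ U))⁻¹ * x ∈ U := by
      rw [← QuotientGroup.eq, QuotientGroup.out_eq']
    obtain ⟨h1, h2⟩ := aPart_spec _ (exists_aPart hU _ hmem)
    apply aPart_unique hAK _ _ (A.mul_mem h1 ha')
    set r := Quotient.out (x : G ⧸ U)
    set a := aPart K A (r⁻¹ * x)
    have e : (a * a')⁻¹ * (r⁻¹ * (x * a')) = a'⁻¹ * (a⁻¹ * (r⁻¹ * x)) * a'⁻¹⁻¹ := by group
    rw [e]
    exact Subgroup.Normal.conj_mem inferInstance _ h2 a'⁻¹

end base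

/-- **Gaschütz's theorem, existence.** -/
theorem gaschutz_exists [Finite G] [IsMulCommutative K] (U : Subgroup G)
    (hcop : (Nat.card K).Coprime U.index) (hAK : A ⊓ K = ⊥) (hKA : K ⊔ A = U) :
    ∃ H : Subgroup G, Subgroup.IsComplement' K H :=
  ⟨stab hKA.symm (baseSec hKA.symm hAK), isComplement'_stab hKA.symm hcop _⟩

end Cfsg.Agent.Helper1.Gaschutz

namespace Cfsg.Agent.Helper1.Gaschutz
open Pointwise
open scoped IsMulCommutative

variable {G : Type*} [Group G] {K : Subgroup G} [K.Normal]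

/-- The section whose image is a complement `H` of `K`, equivariant for any `A ≤ H`. -/
noncomputable def complSec (H A : Subgroup G) (hH : Subgroup.IsComplement' K H) (hAH : A ≤ H) : Sec K A where
  toFun := fun x => aPart K H x
  mem' := fun x => by
    have hex : ∃ a ∈ H, a⁻¹ * x ∈ K := by
      obtain ⟨h, hh, k, hk, hhk⟩ := (isComplement'_iff_disjoint_and_forall.mp hH.symm).2 x
      exact ⟨h, hh, by rw [← hhk]; simpa using hk⟩
    obtain ⟨h1, h2⟩ := aPart_spec x hex
    have e : x⁻¹ * aPart K H x = ((aPart K H x)⁻¹ * x)⁻¹ := by group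
    rw [e]; exact K.inv_mem h2
  mul_K' := fun x k hk => by
    have hex : ∃ a ∈ H, a⁻¹ * x ∈ K := by
      obtain ⟨h, hh, k, hk, hhk⟩ := (isComplement'_iff_disjoint_and_forall.mp hH.symm).2 x
      exact ⟨h, hh, by rw [← hhk]; simpa using hk⟩
    obtain ⟨h1, h2⟩ := aPart_spec x hex
    have hHK : H ⊓ K = ⊥ := by rw [inf_comm]; exact hH.disjoint.eq_bot
    apply aPart_unique hHK _ _ h1
    have e : (aPart K H x)⁻¹ * (x * k) = ((aPart K H x)⁻¹ * x) * k := by group
    rw [e]; exact K.mul_mem h2 hk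
  mul_A' := fun x a ha => by
    have hex : ∃ a ∈ H, a⁻¹ * x ∈ K := by
      obtain ⟨h, hh, k, hk, hhk⟩ := (isComplement'_iff_disjoint_and_forall.mp hH.symm).2 x
      exact ⟨h, hh, by rw [← hhk]; simpa using hk⟩
    obtain ⟨h1, h2⟩ := aPart_spec x hex
    have hHK : H ⊓ K = ⊥ := by rw [inf_comm]; exact hH.disjoint.eq_bot
    apply aPart_unique hHK _ _ (H.mul_mem h1 (hAH ha))
    have e : (aPart K H x * a)⁻¹ * (x * a) = a⁻¹ * ((aPart K H x)⁻¹ * x) * a⁻¹⁻¹ := by group
    rw [e]
    exact Subgroup.Normal.conj_mem inferInstance _ h2 a⁻¹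

theorem smul_complSec (H A : Subgroup G) (hH : Subgroup.IsComplement' K H) (hAH : A ≤ H) (h : G) (hh : h ∈ H) :
    h • complSec H A hH hAH = complSec H A hH hAH := by
  apply Sec.ext'
  intro x
  rw [smul_toFun]
  change h * aPart K H (h⁻¹ * x) = aPart K H x
  have hex : ∃ a ∈ H, a⁻¹ * (h⁻¹ * x) ∈ K := by
    obtain ⟨h', hh', k, hk, hhk⟩ := (isComplement'_iff_disjoint_and_forall.mp hH.symm).2 (h⁻¹ * x)
    exact ⟨h', hh', by rw [← hhk]; simpa using hk⟩
  obtain ⟨h1, h2⟩ := aPart_spec _ hex
  have hHK : H ⊓ K = ⊥ := by rw [inf_comm]; exact hH.disjoint.eq_bot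
  symm
  apply aPart_unique hHK _ _ (H.mul_mem hh h1)
  have e : (h * aPart K H (h⁻¹ * x))⁻¹ * x = (aPart K H (h⁻¹ * x))⁻¹ * (h⁻¹ * x) := by group
  rw [e]; exact h2

variable [Finite G] [IsMulCommutative K]

theorem stab_complSec {U A : Subgroup G} (hU : U = K ⊔ A) (hcop : (Nat.card K).Coprime U.index)
    (H : Subgroup G) (hH : Subgroup.IsComplement' K H) (hAH : A ≤ H) :
    stab hU (complSec H A hH hAH) = H := by
  symm
  apply Subgroup.eq_of_le_of_card_ge
  · intro h hh
    rw [mem_stab, smul_complSec H A hH hAH h hh, delta_self]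
  · exact (card_eq_of_isComplement' (isComplement'_stab hU hcop _) hH).le

/-- **Gaschütz's theorem, conjugacy**: complements containing a common complement `A` of `K` in `U`
are conjugate (by an element of `K`). -/
theorem gaschutz_conj {U A : Subgroup G} (hU : U = K ⊔ A) (hcop : (Nat.card K).Coprime U.index)
    (H₀ H₁ : Subgroup G) (h₀ : Subgroup.IsComplement' K H₀) (h₁ : Subgroup.IsComplement' K H₁)
    (hA₀ : A ≤ H₀) (hA₁ : A ≤ H₁) : ∃ k ∈ K, MulAut.conj k • H₁ = H₀ := by
  set s0 := complSec H₀ A h₀ hA₀ with hs0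
  set s1 := complSec H₁ A h₁ hA₁ with hs1
  set k : K := (powCoprime hcop).symm (delta U s0 s1)⁻¹ with hk
  have hkpow : k ^ U.index = (delta U s0 s1)⁻¹ := by
    have := (powCoprime hcop).apply_symm_apply (delta U s0 s1)⁻¹
    rwa [powCoprime_apply] at this
  set t : Sec K A := (k : G) • s1 with ht
  have hdt : delta U s0 t = 1 := by
    rw [ht, delta_smul_K, hkpow, inv_mul_cancel]
  refine ⟨k, k.2, ?_⟩
  apply Subgroup.eq_of_le_of_card_ge
  · intro x hx
    rw [mem_conj_smul] at hx
    -- `x • t = t`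
    have hxt : x • t = t := by
      rw [ht, ← mul_smul']
      have e : x * (k : G) = (k : G) * ((k : G)⁻¹ * x * (k : G)) := by group
      rw [e, mul_smul', smul_complSec H₁ A h₁ hA₁ _ hx]
    rw [← stab_complSec hU hcop H₀ h₀ hA₀, mem_stab, ← hs0]
    rw [delta_trans U s0 (x • t) (x • s0), delta_smul hU, delta_symm U s0 t, hdt, hxt, hdt]
    simp
  · rw [card_conj_smul]
    exact (card_eq_of_isComplement' h₀ h₁).le

end Cfsg.Agent.Helper1.Gaschutz
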