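import Mathlib
import Cfsg.Prelude.Def_JComponents
import Cfsg.Agent.Lib.Helper10.ThompsonMap
import Cfsg.Agent.Lib.Helper46.Amalgam2
import Cfsg.Agent.Lib.Helper50.JComp6
import Cfsg.Agent.Lib.Helper34.TNC2

/-!
# `J(T)`-components: equivariance under automorphisms of the ambient group
-/

set_option autoImplicit false
set_option linter.unusedSectionVars false

namespace Cfsg.Agent.Helper1.JC

open Subgroup
open scoped commutatorElement

variable {G : Type*} [Group G]

theorem centralizer_map_equiv (e : G ≃* G) (H : Subgroup G) :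
    centralizer ((H.map e.toMonoidHom : Subgroup G) : Set G) =
      (centralizer (H : Set G)).map e.toMonoidHom := by
  ext x
  constructor
  · intro hx
    refine ⟨e.symm x, ?_, by simp⟩
    change e.symm x ∈ centralizer (H : Set G)
    rw [mem_centralizer_iff]
    intro h hh
    have := mem_centralizer_iff.mp hx (e h) ⟨h, hh, rfl⟩
    apply e.injective
    simpa using this
  · rintro ⟨y, hy, rfl⟩
    rw [mem_centralizer_iff]
    rintro _ ⟨h, hh, rfl⟩
    have := mem_centralizer_iff.mp hy h hh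
    simp only [MulEquiv.coe_toMonoidHom, ← map_mul, this]

theorem map_inf_equiv (e : G ≃* G) (H K : Subgroup G) :
    (H ⊓ K).map e.toMonoidHom = H.map e.toMonoidHom ⊓ K.map e.toMonoidHom :=
  Subgroup.map_inf H K e.toMonoidHom e.injective

theorem omegaCenterOf_map (e : G ≃* G) (X : Subgroup G) :
    Cfsg.omegaCenterOf (X.map e.toMonoidHom) = (Cfsg.omegaCenterOf X).map e.toMonoidHom := by
  unfold Cfsg.omegaCenterOf
  rw [centralizer_map_equiv, ← map_inf_equiv]
  exact Cfsg.Agent.Helper10.omegaOne_map 2 e.toMonoidHom _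
    (fun x _ hx => e.injective (by simpa using hx))

theorem pCoreOf_map (e : G ≃* G) (K : Subgroup G) :
    Cfsg.pCoreOf 2 (K.map e.toMonoidHom) = (Cfsg.pCoreOf 2 K).map e.toMonoidHom :=
  Cfsg.Agent.Helper46.pCoreOf_map_of_injective K e.toMonoidHom e.injective

theorem wOf_map (e : G ≃* G) (K : Subgroup G) :
    Cfsg.wOf (K.map e.toMonoidHom) = (Cfsg.wOf K).map e.toMonoidHom := by
  unfold Cfsg.wOf
  rw [pCoreOf_map, omegaCenterOf_map, Subgroup.map_commutator]

theorem thompson_map (e : G ≃* G) (T : Subgroup G) :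
    Cfsg.thompsonSubgroupOf 2 (T.map e.toMonoidHom) =
      (Cfsg.thompsonSubgroupOf 2 T).map e.toMonoidHom :=
  Cfsg.Agent.Helper10.thompsonSubgroupOf_map 2 e.toMonoidHom T
    (fun x _ hx => e.injective (by simpa using hx))

theorem isSylowTwoIn_map (e : G ≃* G) {S L : Subgroup G} (h : Cfsg.IsSylowTwoIn S L) :
    Cfsg.IsSylowTwoIn (S.map e.toMonoidHom) (L.map e.toMonoidHom) := by
  obtain ⟨h1, h2, h3⟩ := h
  refine ⟨Subgroup.map_mono h1, h2.map _, ?_⟩
  rwa [Subgroup.relIndex_map_map_of_injective _ _ e.injective]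

theorem map_symm_map (e : G ≃* G) (H : Subgroup G) :
    (H.map e.toMonoidHom).map e.symm.toMonoidHom = H := by
  rw [Subgroup.map_map]
  have : e.symm.toMonoidHom.comp e.toMonoidHom = MonoidHom.id G := by ext x; simp
  rw [this, Subgroup.map_id]

theorem map_map_symm (e : G ≃* G) (H : Subgroup G) :
    (H.map e.symm.toMonoidHom).map e.toMonoidHom = H := by
  rw [Subgroup.map_map]
  have : e.toMonoidHom.comp e.symm.toMonoidHom = MonoidHom.id G := by ext x; simp
  rw [this, Subgroup.map_id]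

/-- the notion of a `J(T)`-component depends on `T` only through `J(T)` -/
theorem isJComponent_congr {T T' K : Subgroup G}
    (h : Cfsg.thompsonSubgroupOf 2 T = Cfsg.thompsonSubgroupOf 2 T')
    (hK : Cfsg.IsJComponent T K) : Cfsg.IsJComponent T' K := by
  unfold Cfsg.IsJComponent at hK ⊢
  rw [← h]
  exact hK

/-- `J(T)`-components are transported by automorphisms of the ambient group -/
theorem isJComponent_map (e : G ≃* G) {T K : Subgroup G} (hK : Cfsg.IsJComponent T K) :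
    Cfsg.IsJComponent (T.map e.toMonoidHom) (K.map e.toMonoidHom) := by
  obtain ⟨h1, h2, h3, h4, h5, h6⟩ := hK
  refine ⟨?_, ?_, ?_, ?_, ?_, ?_⟩
  · conv_rhs => rw [← h1]
    rw [MonoidHom.map_closure]
    congr 1
    ext x
    constructor
    · rintro ⟨⟨y, hy, rfl⟩, hodd⟩
      refine ⟨y, ⟨hy, ?_⟩, rfl⟩
      rwa [MulEquiv.coe_toMonoidHom, MulEquiv.orderOf_eq] at hodd
    · rintro ⟨y, ⟨hy, hodd⟩, rfl⟩
      refine ⟨⟨y, hy, rfl⟩, ?_⟩
      rwa [MulEquiv.coe_toMonoidHom, MulEquiv.orderOf_eq]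
  · rw [thompson_map, ← Subgroup.map_commutator, h2]
  · rw [pCoreOf_map, Subgroup.relIndex_map_map_of_injective _ _ e.injective, h3]
  · intro S hS hJS
    rw [thompson_map] at hS hJS ⊢
    have hS' : Cfsg.IsSylowTwoIn (S.map e.symm.toMonoidHom) (K ⊔ Cfsg.thompsonSubgroupOf 2 T) := by
      have := isSylowTwoIn_map e.symm hS
      rwa [Subgroup.map_sup, map_symm_map, map_symm_map] at this
    have hJS' : Cfsg.thompsonSubgroupOf 2 T ≤ S.map e.symm.toMonoidHom := by
      have := Subgroup.map_mono (f := e.symm.toMonoidHom) hJS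
      rwa [map_symm_map] at this
    have := h4 _ hS' hJS'
    rw [← this, ← thompson_map, map_map_symm]
  · rw [wOf_map, Subgroup.card_map_of_injective e.injective, h5]
  · rw [wOf_map]
    rintro _ ⟨w, hw, rfl⟩
    rw [MulEquiv.coe_toMonoidHom, ← map_mul, h6 w hw, map_one]


/-- the normalizer of `K` normalizes `W_K` -/
theorem normalizer_le_normalizer_wOf (K : Subgroup G) :
    normalizer (K : Set G) ≤ normalizer (Cfsg.wOf K : Set G) := by
  intro g hg
  apply Cfsg.Agent.Helper34.TNC.mem_normalizer_of_map_conj_eq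
  have h1 := wOf_map (MulAut.conj g) K
  rw [Cfsg.Agent.Helper34.TNC.map_conj_eq_of_mem_normalizer hg] at h1
  exact h1.symm

/-- Sylow's theorem inside a subgroup `N`, for `IsSylowTwoIn` -/
theorem exists_conj_le [Finite G] {N S P : Subgroup G} (hS : Cfsg.IsSylowTwoIn S N)
    (hP : IsPGroup 2 P) (hPN : P ≤ N) : ∃ n ∈ N, P ≤ S.map (MulAut.conj n).toMonoidHom := by
  obtain ⟨hSN, hS2, hodd⟩ := hS
  have hS2' : IsPGroup 2 (S.subgroupOf N) := hS2.comap_subtype
  have hidx : ¬ 2 ∣ (S.subgroupOf N).index := by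
    change ¬ 2 ∣ S.relIndex N
    exact fun h => (Nat.not_even_iff_odd.mpr hodd) (even_iff_two_dvd.mpr h)
  have hP' : IsPGroup 2 (P.subgroupOf N) := hP.comap_subtype
  obtain ⟨Q, hQ⟩ := hP'.exists_le_sylow
  obtain ⟨n, hn⟩ := MulAction.exists_smul_eq ↥N (hS2'.toSylow hidx) Q
  refine ⟨n, n.2, ?_⟩
  intro x hx
  have hxQ : (⟨x, hPN hx⟩ : ↥N) ∈ (Q : Subgroup ↥N) :=
    hQ (by rw [Subgroup.mem_subgroupOf]; exact hx)
  rw [← hn, Sylow.smul_def, Sylow.pointwise_smul_def,
    Subgroup.mem_smul_pointwise_iff_exists] at hxQ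
  obtain ⟨s, hs, hsx⟩ := hxQ
  have hs' : (s : G) ∈ S := by
    have : s ∈ S.subgroupOf N := by
      rwa [IsPGroup.toSylow_coe] at hs
    exact Subgroup.mem_subgroupOf.mp this
  refine ⟨(s : G), hs', ?_⟩
  have := congrArg Subtype.val hsx
  simpa [MulAut.smul_def] using this


open Cfsg.Agent.Helper50.JComp

theorem thompson_le (T : Subgroup G) : Cfsg.thompsonSubgroupOf 2 T ≤ T := by
  unfold Cfsg.thompsonSubgroupOf
  exact Subgroup.map_subtype_le _

theorem exists_maxEA [Finite G] (S : Subgroup G) : ∃ A : Subgroup G, MaxEA S A := by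
  have hfin : {A : Subgroup G | A ≤ S ∧ (∀ x ∈ A, x * x = 1) ∧
      ∀ x ∈ A, ∀ y ∈ A, x * y = y * x}.Finite := Set.toFinite _
  have hne : {A : Subgroup G | A ≤ S ∧ (∀ x ∈ A, x * x = 1) ∧
      ∀ x ∈ A, ∀ y ∈ A, x * y = y * x}.Nonempty :=
    ⟨⊥, bot_le, fun x hx => by rw [Subgroup.mem_bot.mp hx, one_mul],
      fun x hx y hy => by rw [Subgroup.mem_bot.mp hx, Subgroup.mem_bot.mp hy]⟩
  obtain ⟨A, hA, hmax⟩ := Set.exists_max_image _ (fun A : Subgroup G => Nat.card A) hfin hne
  exact ⟨A, hA.1, hA.2.1, hA.2.2, fun B hB hB2 hBc => hmax B ⟨hB, hB2, hBc⟩⟩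

/-- if `J(S) = J(T)` then the elementary abelian subgroups of largest order of `T` are also such
for `S` -/
theorem maxEA_of_thompson_eq [Finite G] {S T : Subgroup G}
    (h : Cfsg.thompsonSubgroupOf 2 S = Cfsg.thompsonSubgroupOf 2 T) {A : Subgroup G}
    (hA : MaxEA T A) : MaxEA S A := by
  refine ⟨?_, hA.2.1, hA.2.2.1, ?_⟩
  · exact (hA.le_thompson.trans h.symm.le).trans (thompson_le S)
  · intro B hBS hB2 hBc
    obtain ⟨A₀, hA₀⟩ := exists_maxEA S
    have h1 := hA₀.2.2.2 B hBS hB2 hBc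
    have h2 : A₀ ≤ T := (hA₀.le_thompson.trans h.le).trans (thompson_le T)
    exact h1.trans (hA.2.2.2 A₀ h2 hA₀.2.1 hA₀.2.2.1)

theorem maxEA_map (e : G ≃* G) {S A : Subgroup G} (hA : MaxEA S A) :
    MaxEA (S.map e.toMonoidHom) (A.map e.toMonoidHom) := by
  obtain ⟨hAS, hA2, hAc, hAm⟩ := hA
  refine ⟨Subgroup.map_mono hAS, ?_, ?_, ?_⟩
  · rintro _ ⟨x, hx, rfl⟩
    rw [MulEquiv.coe_toMonoidHom, ← map_mul, hA2 x hx, map_one]
  · rintro _ ⟨x, hx, rfl⟩ _ ⟨y, hy, rfl⟩
    rw [MulEquiv.coe_toMonoidHom, ← map_mul, ← map_mul, hAc x hx y hy]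
  · intro B hB hB2 hBc
    have hB' : B.map e.symm.toMonoidHom ≤ S := by
      have := Subgroup.map_mono (f := e.symm.toMonoidHom) hB
      rwa [map_symm_map] at this
    have h1 := hAm (B.map e.symm.toMonoidHom) hB' ?_ ?_
    · have c1 : Nat.card (A.map e.toMonoidHom) = Nat.card A :=
        Subgroup.card_map_of_injective e.injective
      have c2 : Nat.card (B.map e.symm.toMonoidHom) = Nat.card B :=
        Subgroup.card_map_of_injective e.symm.injective
      rw [c1, ← c2]
      exact h1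
    · rintro _ ⟨x, hx, rfl⟩
      rw [MulEquiv.coe_toMonoidHom, ← map_mul, hB2 x hx, map_one]
    · rintro _ ⟨x, hx, rfl⟩ _ ⟨y, hy, rfl⟩
      rw [MulEquiv.coe_toMonoidHom, ← map_mul, ← map_mul, hBc x hx y hy]

/-- if `J(S) = J(T)` for a Sylow 2-subgroup `S` of `N`, then every conjugate of `J(T)` inside `N`
is an `N`-conjugate of `J(T)` -/
theorem thompson_conj_of_le [Finite G] {N S T : Subgroup G} (hT : IsPGroup 2 T)
    (hS : Cfsg.IsSylowTwoIn S N)
    (hJ : Cfsg.thompsonSubgroupOf 2 S = Cfsg.thompsonSubgroupOf 2 T) (g : G)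
    (hg : Cfsg.thompsonSubgroupOf 2 (T.map (MulAut.conj g).toMonoidHom) ≤ N) :
    ∃ n ∈ N, Cfsg.thompsonSubgroupOf 2 (T.map (MulAut.conj g).toMonoidHom) =
      (Cfsg.thompsonSubgroupOf 2 T).map (MulAut.conj n).toMonoidHom := by
  have h2 : IsPGroup 2 (Cfsg.thompsonSubgroupOf 2 (T.map (MulAut.conj g).toMonoidHom)) :=
    (hT.map _).to_le (thompson_le _)
  obtain ⟨n, hn, hle⟩ := exists_conj_le hS h2 hg
  refine ⟨n, hn, ?_⟩
  have hJn : Cfsg.thompsonSubgroupOf 2 (S.map (MulAut.conj n).toMonoidHom) =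
      (Cfsg.thompsonSubgroupOf 2 T).map (MulAut.conj n).toMonoidHom := by
    rw [thompson_map, hJ]
  have h3 : Cfsg.thompsonSubgroupOf 2 (T.map (MulAut.conj g).toMonoidHom) ≤
      Cfsg.thompsonSubgroupOf 2 (S.map (MulAut.conj n).toMonoidHom) := by
    rw [thompson_map, thompsonTwo_eq T, Subgroup.map_le_iff_le_comap]
    apply sSup_le
    intro A hA
    rw [← Subgroup.map_le_iff_le_comap]
    have hAg : A.map (MulAut.conj g).toMonoidHom ≤ S.map (MulAut.conj n).toMonoidHom := by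
      refine le_trans ?_ hle
      rw [thompson_map]
      exact Subgroup.map_mono hA.le_thompson
    have hAS : MaxEA S A := maxEA_of_thompson_eq hJ hA
    have hmax : MaxEA (S.map (MulAut.conj n).toMonoidHom) (A.map (MulAut.conj g).toMonoidHom) := by
      have h4 := maxEA_map (MulAut.conj n) hAS
      refine ⟨hAg, ?_, ?_, ?_⟩
      · rintro _ ⟨x, hx, rfl⟩
        rw [MulEquiv.coe_toMonoidHom, ← map_mul, hA.2.1 x hx, map_one]
      · rintro _ ⟨x, hx, rfl⟩ _ ⟨y, hy, rfl⟩
        rw [MulEquiv.coe_toMonoidHom, ← map_mul, ← map_mul, hA.2.2.1 x hx y hy]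
      · intro B hB hB2 hBc
        have h5 := h4.2.2.2 B hB hB2 hBc
        have c1 : Nat.card (A.map (MulAut.conj n).toMonoidHom) = Nat.card A :=
          Subgroup.card_map_of_injective (MulAut.conj n).injective
        have c2 : Nat.card (A.map (MulAut.conj g).toMonoidHom) = Nat.card A :=
          Subgroup.card_map_of_injective (MulAut.conj g).injective
        rw [c2, ← c1]
        exact h5
    exact hmax.le_thompson
  rw [hJn] at h3
  apply Subgroup.eq_of_le_of_card_ge h3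
  have c1 : Nat.card ((Cfsg.thompsonSubgroupOf 2 T).map (MulAut.conj n).toMonoidHom) =
      Nat.card (Cfsg.thompsonSubgroupOf 2 T) :=
    Subgroup.card_map_of_injective (MulAut.conj n).injective
  have c2 : Nat.card ((Cfsg.thompsonSubgroupOf 2 T).map (MulAut.conj g).toMonoidHom) =
      Nat.card (Cfsg.thompsonSubgroupOf 2 T) :=
    Subgroup.card_map_of_injective (MulAut.conj g).injective
  rw [thompson_map, c1, c2]

/-- a `2`-subgroup of `N` lies in a Sylow `2`-subgroup of `N` -/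
theorem exists_isSylowTwoIn_ge [Finite G] {N P : Subgroup G} (hP : IsPGroup 2 P) (hPN : P ≤ N) :
    ∃ S : Subgroup G, P ≤ S ∧ Cfsg.IsSylowTwoIn S N := by
  have hP' : IsPGroup 2 (P.subgroupOf N) := hP.comap_subtype
  obtain ⟨Q, hQ⟩ := hP'.exists_le_sylow
  refine ⟨(Q : Subgroup ↥N).map N.subtype, ?_, Subgroup.map_subtype_le _, Q.2.map _, ?_⟩
  · intro x hx
    exact ⟨⟨x, hPN hx⟩, hQ (by rw [Subgroup.mem_subgroupOf]; exact hx), rfl⟩
  · have h1 : ((Q : Subgroup ↥N).map N.subtype).relIndex N = (Q : Subgroup ↥N).index := by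
      unfold Subgroup.relIndex
      congr 1
      rw [Subgroup.subgroupOf, Subgroup.comap_map_eq_self_of_injective N.subtype_injective]
    rw [h1, ← Nat.not_even_iff_odd, even_iff_two_dvd]
    exact Q.not_dvd_index

theorem jOvergroups_map (e : G ≃* G) {T L : Subgroup G} (h : L ∈ Cfsg.jOvergroups T) :
    L.map e.toMonoidHom ∈ Cfsg.jOvergroups (T.map e.toMonoidHom) := by
  obtain ⟨h1, h2, h3⟩ := h
  refine ⟨isSylowTwoIn_map e h1, ?_, ?_⟩
  · rw [thompson_map, pCoreOf_map]
    intro hle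
    apply h2
    have := Subgroup.map_mono (f := e.symm.toMonoidHom) hle
    rwa [map_symm_map, map_symm_map] at this
  · rw [pCoreOf_map, centralizer_map_equiv]
    exact Subgroup.map_mono h3

end Cfsg.Agent.Helper1.JC


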