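import Mathlib
import Cfsg.Agent.Lib.Helper1.JCA

/-!
# `N_G(K) = N_G(W_K)` for `J(T)`-components, from the uniqueness property
-/

set_option autoImplicit false
set_option linter.unusedSectionVars false

namespace Cfsg.Agent.Helper1.JC

open Subgroup
open scoped commutatorElement
open Cfsg.Agent.Helper50.JComp

variable {G : Type*} [Group G]

/-- the uniqueness property of `J`-components inside a member of `ℒ`: two components whose
four-groups meet nontrivially coincide -/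
def UniqProp (G : Type*) [Group G] : Prop :=
  ∀ N S₁ S₂ K₁ K₂ : Subgroup G, N ∈ Cfsg.jOvergroups S₁ → N ∈ Cfsg.jOvergroups S₂ →
    Cfsg.IsJComponent S₁ K₁ → Cfsg.IsJComponent S₂ K₂ → K₁ ≤ N → K₂ ≤ N →
    Cfsg.wOf K₁ ⊓ Cfsg.wOf K₂ ≠ ⊥ → K₁ = K₂

/-- for `K ∈ 𝒦₀(T)`, `N_G(W_K)` is a member of `ℒ(S)` for a Sylow `2`-subgroup `S` of it with
`J(S) = J(T)` -/
theorem exists_sylow_normalizer_wOf [Finite G] (hL : Cfsg.IsCharacteristicTwoType G)
    (T : Subgroup G) (hT : IsPGroup 2 ↥T) (K : Subgroup G) (hK : K ∈ Cfsg.jComponentsZero T) :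
    ∃ S : Subgroup G, Cfsg.thompsonSubgroupOf 2 S = Cfsg.thompsonSubgroupOf 2 T ∧
      Cfsg.IsSylowTwoIn S (normalizer (Cfsg.wOf K : Set G)) ∧
      normalizer (Cfsg.wOf K : Set G) ∈ Cfsg.jOvergroups S ∧ K ≤ normalizer (Cfsg.wOf K : Set G) := by
  obtain ⟨hK1, hK2⟩ := hK
  have hD := JD.of_isJComponent hK1 hT
  have hKN : K ≤ normalizer (Cfsg.wOf K : Set G) :=
    le_normalizer.trans (normalizer_le_normalizer_wOf K)
  have hJN : Cfsg.thompsonSubgroupOf 2 T ≤ normalizer (Cfsg.wOf K : Set G) :=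
    hD.JnK.trans (normalizer_le_normalizer_wOf K)
  obtain ⟨S, hJS, hS⟩ := exists_isSylowTwoIn_ge hD.J2 hJN
  have hJS' : Cfsg.thompsonSubgroupOf 2 S = Cfsg.thompsonSubgroupOf 2 T := hK2 S hJS hS
  have hW2 : IsPGroup 2 (Cfsg.wOf K) := by
    apply IsPGroup.of_card (n := 2)
    rw [hD.W4]; norm_num
  have hW1 : Cfsg.wOf K ≠ ⊥ := by
    intro h
    have := hD.W4
    rw [h, Subgroup.card_bot] at this
    norm_num at this
  have hWQ : Cfsg.wOf K ≤ Cfsg.pCoreOf 2 (normalizer (Cfsg.wOf K : Set G)) :=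
    Cfsg.Agent.Helper23.le_pCoreOf_of_normal_pgroup le_normalizer hW2 le_rfl
  refine ⟨S, hJS', hS, ⟨hS, ?_, ?_⟩, hKN⟩
  · rw [hJS']
    intro hle
    have h1 : K ≤ Cfsg.pCoreOf 2 (normalizer (Cfsg.wOf K : Set G)) := by
      have h2 : ⁅K, Cfsg.thompsonSubgroupOf 2 T⁆ ≤
          ⁅normalizer (Cfsg.wOf K : Set G), Cfsg.pCoreOf 2 (normalizer (Cfsg.wOf K : Set G))⁆ :=
        Subgroup.commutator_mono hKN hle
      refine hD.comm.symm.le.trans (h2.trans ?_)
      rw [Subgroup.commutator_le]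
      intro x hx y hy
      have hn := Cfsg.Agent.Helper23.le_normalizer_pCoreOf (p := 2)
        (normalizer (Cfsg.wOf K : Set G)) hx
      have h3 : x * y * x⁻¹ ∈ Cfsg.pCoreOf 2 (normalizer (Cfsg.wOf K : Set G)) :=
        (mem_normalizer_iff.mp hn y).mp hy
      exact Subgroup.mul_mem _ h3 (Subgroup.inv_mem _ hy)
    have h4 : IsPGroup 2 K := (Cfsg.Agent.Helper23.pCoreOf_isPGroup _).to_le h1
    have h5 : K ≤ Cfsg.pCoreOf 2 K := hD.sub2 K le_rfl h4
    have h6 := hD.idx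
    rw [Subgroup.relIndex_eq_one.mpr h5] at h6
    norm_num at h6
  · have hchar := hL.2 (Cfsg.wOf K) hW2 hW1
    intro x hx
    have hxN : x ∈ normalizer (Cfsg.wOf K : Set G) := by
      apply centralizer_le_normalizer
      rw [mem_centralizer_iff]
      intro w hw
      exact mem_centralizer_iff.mp hx w (hWQ hw)
    have hx' : (⟨x, hxN⟩ : ↥(normalizer (Cfsg.wOf K : Set G))) ∈
        centralizer (Cfsg.pCore 2 ↥(normalizer (Cfsg.wOf K : Set G)) :
          Set ↥(normalizer (Cfsg.wOf K : Set G))) := by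
      rw [mem_centralizer_iff]
      intro q hq
      apply Subtype.ext
      exact mem_centralizer_iff.mp hx q ⟨q, hq, rfl⟩
    exact ⟨⟨x, hxN⟩, hchar hx', rfl⟩

/-- **KS 12.2.4**, from the uniqueness property -/
theorem normalizer_eq_of_uniq [Finite G] (hU : UniqProp G) (hL : Cfsg.IsCharacteristicTwoType G)
    (T : Subgroup G) (hT : IsPGroup 2 ↥T) (K : Subgroup G) (hK : K ∈ Cfsg.jComponentsZero T) :
    normalizer (K : Set G) = normalizer (Cfsg.wOf K : Set G) ∧
      ∀ g : G, Cfsg.thompsonSubgroupOf 2 (T.map (MulAut.conj g).toMonoidHom) ≤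
          normalizer (Cfsg.wOf K : Set G) →
        Cfsg.IsJComponent (T.map (MulAut.conj g).toMonoidHom) K := by
  obtain ⟨S, hJS, hS, hNS, hKN⟩ := exists_sylow_normalizer_wOf hL T hT K hK
  obtain ⟨hK1, hK2⟩ := hK
  have hD := JD.of_isJComponent hK1 hT
  have hKS : Cfsg.IsJComponent S K := isJComponent_congr hJS.symm hK1
  have hW1 : Cfsg.wOf K ≠ ⊥ := by
    intro h
    have := hD.W4
    rw [h, Subgroup.card_bot] at this
    norm_num at this
  have hle : normalizer (Cfsg.wOf K : Set G) ≤ normalizer (K : Set G) := by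
    intro n hn
    apply Cfsg.Agent.Helper34.TNC.mem_normalizer_of_map_conj_eq
    have hNn : (normalizer (Cfsg.wOf K : Set G)).map (MulAut.conj n).toMonoidHom =
        normalizer (Cfsg.wOf K : Set G) :=
      Cfsg.Agent.Helper34.TNC.map_conj_eq_of_mem_normalizer (le_normalizer hn)
    have h1 := jOvergroups_map (MulAut.conj n) hNS
    rw [hNn] at h1
    have h2 := isJComponent_map (MulAut.conj n) hKS
    have h3 : K.map (MulAut.conj n).toMonoidHom ≤ normalizer (Cfsg.wOf K : Set G) := by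
      rw [← hNn]; exact Subgroup.map_mono hKN
    have h4 : Cfsg.wOf (K.map (MulAut.conj n).toMonoidHom) = Cfsg.wOf K := by
      rw [wOf_map]
      exact Cfsg.Agent.Helper34.TNC.map_conj_eq_of_mem_normalizer hn
    have h5 : Cfsg.wOf K ⊓ Cfsg.wOf (K.map (MulAut.conj n).toMonoidHom) ≠ ⊥ := by
      rw [h4, inf_idem]; exact hW1
    exact (hU _ _ _ _ _ hNS h1 hKS h2 hKN h3 h5).symm
  have heq : normalizer (K : Set G) = normalizer (Cfsg.wOf K : Set G) :=
    le_antisymm (normalizer_le_normalizer_wOf K) hle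
  refine ⟨heq, ?_⟩
  intro g hg
  obtain ⟨n, hn, hJn⟩ := thompson_conj_of_le hT hS hJS g hg
  have hnK : n ∈ normalizer (K : Set G) := by rw [heq]; exact hn
  have h1 := isJComponent_map (MulAut.conj n) hK1
  rw [Cfsg.Agent.Helper34.TNC.map_conj_eq_of_mem_normalizer (X := K) hnK] at h1
  refine isJComponent_congr ?_ h1
  rw [thompson_map, hJn]

end Cfsg.Agent.Helper1.JC
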