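import Mathlib
import Cfsg.Agent.S0612
import Cfsg.Agent.S0617
import Cfsg.Agent.Lib.Helper10.JCompFF
import Cfsg.Agent.Lib.Helper10.JCompSub

/-!
# Failure of factorization for `p = 2`: pure involutions

A refinement of `Cfsg.Agent.Helper10.JCompFF.ff_consequence`: every elementary abelian
`2`-subgroup of maximal order is generated, modulo `C_L(V)`, by elements `t` such that
`[N, t]` lies in a subgroup `D` with `|D : C_L(V)| = 3`.
-/

set_option autoImplicit false

namespace Cfsg.Agent.Helper1.JC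

open Subgroup Matrix
open scoped commutatorElement
open Cfsg.Agent.Helper10.JCompFF
open Cfsg.Agent.Helper1 Cfsg.Agent.Helper1.FF

theorem sl22_cube_three : ∀ x y : SpecialLinearGroup (Fin 2) (ZMod 2), x ^ 3 = 1 → y ^ 3 = 1 →
    x ≠ 1 → y = 1 ∨ y = x ∨ y = x * x := by
  decide +kernel

theorem cubeSub_three {Γ : Type*} [Group Γ] {E : Subgroup Γ}
    (h : Nonempty (↥E ≃* SpecialLinearGroup (Fin 2) (ZMod 2))) {x y : Γ}
    (hx : x ∈ cubeSub E h) (hy : y ∈ cubeSub E h) (hx1 : x ≠ 1) :
    y = 1 ∨ y = x ∨ y = x * x := by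
  obtain ⟨φ⟩ := h
  have hx' : (⟨x, hx.1⟩ : ↥E) ^ 3 = 1 := Subtype.ext (by simpa using hx.2)
  have hy' : (⟨y, hy.1⟩ : ↥E) ^ 3 = 1 := Subtype.ext (by simpa using hy.2)
  have hx1' : φ ⟨x, hx.1⟩ ≠ 1 := by
    intro h1
    apply hx1
    have : (⟨x, hx.1⟩ : ↥E) = 1 := by
      apply φ.injective
      rw [h1, map_one]
    exact congrArg Subtype.val this
  rcases sl22_cube_three (φ ⟨x, hx.1⟩) (φ ⟨y, hy.1⟩) (by rw [← map_pow, hx', map_one])
    (by rw [← map_pow, hy', map_one]) hx1' with h1 | h1 | h1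
  · left
    have : (⟨y, hy.1⟩ : ↥E) = 1 := by
      apply φ.injective
      rw [h1, map_one]
    exact congrArg Subtype.val this
  · right; left
    have : (⟨y, hy.1⟩ : ↥E) = ⟨x, hx.1⟩ := φ.injective h1
    exact congrArg Subtype.val this
  · right; right
    have : (⟨y, hy.1⟩ : ↥E) = ⟨x, hx.1⟩ * ⟨x, hx.1⟩ := by
      apply φ.injective
      rw [h1, map_mul]
    exact congrArg Subtype.val this

variable {L : Type*} [Group L] [Finite L]

/-- an element `t` is *pure* (relative to `N`) if `[N, t]` lies in a subgroup `D ≥ C_L(V)` of `N`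
with `|D : C_L(V)| ≤ 3` -/
def Pure (N : Subgroup L) (t : L) : Prop :=
  ∃ D : Subgroup L, centralizer (VZ 2 L : Set L) ≤ D ∧ D ≤ N ∧
    (∀ x ∈ D, x ∉ centralizer (VZ 2 L : Set L) → ∀ y ∈ D,
      y ∈ centralizer (VZ 2 L : Set L) ∨ y * x⁻¹ ∈ centralizer (VZ 2 L : Set L) ∨
        y * (x * x)⁻¹ ∈ centralizer (VZ 2 L : Set L)) ∧
    ∀ x ∈ N, x * t * x⁻¹ * t⁻¹ ∈ D

/-- **Consequence of the failure-of-factorization structure theorem** (`p = 2`), with pure
elements. -/
theorem ff_consequence2 (hsep : Cfsg.IsPSolvable 2 L) (hO : Cfsg.pPrimeCore 2 L = ⊥) :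
    ∃ Hh N : Subgroup L, (Hh.Normal ∧ Cfsg.thompsonSubgroup 2 L ≤ Hh ∧
      centralizer (VZ 2 L : Set L) ≤ N ∧ N ≤ Hh ∧ Hh ≤ normalizer (N : Set L) ∧
      ⁅N, N⁆ ≤ centralizer (VZ 2 L : Set L) ∧ (∀ x ∈ Hh, Odd (orderOf x) → x ∈ N) ∧
      (∀ x ∈ N, ∀ k : ℕ, x ^ (2 ^ k) = 1 → x ∈ centralizer (VZ 2 L : Set L)) ∧
      (∀ x ∈ N, x ^ 3 ∈ centralizer (VZ 2 L : Set L))) ∧
      ∀ A ∈ Cfsg.maxElementaryAbelianSubgroups 2 L,
        A ≤ closure {t : L | t ∈ A ∧ Pure N t} ⊔ centralizer (VZ 2 L : Set L) := by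
  have : Fact (Nat.Prime 2) := ⟨Nat.prime_two⟩
  have hVn : (VZ 2 L).Normal := VZ_normal 2
  have hVea : EA 2 (VZ 2 L) := ea_VZ hsep hO
  have hOq : Cfsg.pCore 2 (L ⧸ centralizer (VZ 2 L : Set L)) = ⊥ := pCore_quot_VZ
  set V := VZ 2 L with hV
  have hCn : (centralizer (V : Set L)).Normal := by
    rw [← ker_Th V]; infer_instance
  have hJ : (Cfsg.thompsonSubgroup 2 L).map (Th V) ≤ HB 2 V := map_thompson_le_HB V hVea
  have hAB : ∀ A ∈ Cfsg.maxElementaryAbelianSubgroups 2 L, A.map (Th V) ≤ HB 2 V := by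
    intro A hA
    apply le_HB V _ (bo_image_of_mem V hVea hA)
    rw [MonoidHom.range_eq_map]
    exact Subgroup.map_mono le_top
  by_cases hH1 : HB 2 V = ⊥
  · refine ⟨centralizer (V : Set L), centralizer (V : Set L), ⟨hCn, ?_, le_rfl, le_rfl,
      le_normalizer, ?_, fun x hx _ => hx, fun x hx _ _ => hx,
      fun x hx => Subgroup.pow_mem _ hx 3⟩, ?_⟩
    · rw [hH1, le_bot_iff, Subgroup.map_eq_bot_iff, ker_Th] at hJ
      exact hJ
    · exact Subgroup.commutator_le_right _ _
    · intro A hA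
      have := hAB A hA
      rw [hH1, le_bot_iff, Subgroup.map_eq_bot_iff, ker_Th] at this
      exact this.trans le_sup_right
  · have hle := HB_le_range (p := 2) V
    have hf : HB 2 V ⊓ centralizer (VV V : Set (GamV V)) = ⊥ := by
      rw [eq_bot_iff]
      have h1 := map_Th_inf_centralizer V ⊤
      rw [← MonoidHom.range_eq_map] at h1
      rw [← h1]
      exact inf_le_inf_right _ hle
    have hVV := isElementaryAbelian_of_ea (ea_VV V hVea)
    have hHV := hle.trans (range_le_normalizer_VV V)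
    have hS1 := HB_hS1 V hsep hOq
    have hS3 := HB_hS3 (p := 2) V
    obtain ⟨-, hE, hind, hsup, -, -⟩ := Cfsg.Agent.S0617.result (p := 2) (VV V) (HB 2 V)
      hVV hHV hf hS1 hS3 hH1
    obtain ⟨O, hOH, hHnO, hOcomm, hOcube, hOodd⟩ := S3prod _ (HB 2 V)
      (fun E => (hE E).1) (fun E => (hE E).2.1) hind hsup
    have hrn := range_le_normalizer_HB (p := 2) V
    refine ⟨(HB 2 V).comap (Th V), O.comap (Th V), ⟨?_, ?_, ?_, Subgroup.comap_mono hOH, ?_, ?_,
      ?_, ?_, ?_⟩, ?_⟩
    · constructor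
      intro x hx g
      rw [mem_comap] at hx ⊢
      rw [map_mul, map_mul, map_inv]
      exact Cfsg.Agent.Helper50.JComp.conj_mem_of_le_normalizer hrn ⟨g, rfl⟩ hx
    · rw [← Subgroup.map_le_iff_le_comap]
      exact hJ
    · have := (Th V).ker_le_comap O
      rwa [ker_Th] at this
    · apply Cfsg.Agent.Helper50.JComp.le_normalizer_of_conj_mem
      intro x hx y hy
      rw [mem_comap] at hx hy ⊢
      rw [map_mul, map_mul, map_inv]
      exact Cfsg.Agent.Helper50.JComp.conj_mem_of_le_normalizer hHnO hx hy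
    · rw [Subgroup.commutator_le]
      intro x hx y hy
      rw [mem_comap] at hx hy
      rw [← ker_Th V, MonoidHom.mem_ker, map_commutatorElement, commutatorElement_def,
        hOcomm _ hx _ hy]
      group
    · intro x hx hodd
      rw [mem_comap] at hx ⊢
      apply hOodd _ hx
      have hdvd : orderOf (Th V x) ∣ orderOf x := orderOf_map_dvd (Th V) x
      exact hodd.of_dvd_nat hdvd
    · intro x hx k hk
      rw [mem_comap] at hx
      rw [← ker_Th V, MonoidHom.mem_ker]
      have h3 := hOcube _ hx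
      have h2 : (Th V x) ^ (2 ^ k) = 1 := by rw [← map_pow, hk, map_one]
      have hcop : Nat.Coprime (2 ^ k) 3 := by
        apply Nat.Coprime.pow_left
        decide
      have h1 := orderOf_dvd_of_pow_eq_one h3
      have h1' := orderOf_dvd_of_pow_eq_one h2
      have := Nat.dvd_gcd h1' h1
      rw [hcop] at this
      exact orderOf_eq_one_iff.mp (Nat.dvd_one.mp this)
    · intro x hx
      rw [mem_comap] at hx
      rw [← ker_Th V, MonoidHom.mem_ker, map_pow]
      exact hOcube _ hx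
    · -- pure elements
      intro A hA
      have hAH : A.map (Th V) ≤ HB 2 V := hAB A hA
      have hAbo : Cfsg.IsBestOffenderOn 2 (VV V) (A.map (Th V)) := bo_image_of_mem V hVea hA
      by_cases hA1 : A.map (Th V) = ⊥
      · rw [Subgroup.map_eq_bot_iff, ker_Th] at hA1
        exact hA1.trans le_sup_right
      obtain ⟨k, B, hB, -, hBsup⟩ := Cfsg.Agent.S0612.result (p := 2) (VV V) (HB 2 V)
        hVV hHV hf hS1 hS3 hH1 (A.map (Th V)) hAH hAbo hA1
      -- elements of `A` mapping into some `B i` are pure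
      have hpure : ∀ i, ∀ t ∈ A, Th V t ∈ B i → Pure (O.comap (Th V)) t := by
        intro i t htA htB
        obtain ⟨hBA, hBbo, hBne, hBmin⟩ := hB i
        set E : {E : Subgroup (GamV V) // ∃ A : Subgroup (GamV V), A ≤ HB 2 V ∧
            Cfsg.IsBestOffenderOn 2 (VV V) A ∧ ⁅VV V, A⁆ ≠ ⊥ ∧
            (∀ B : Subgroup (GamV V), B ≤ A → Cfsg.IsBestOffenderOn 2 (VV V) B →
              ⁅VV V, B⁆ ≠ ⊥ → B = A) ∧
            E = ⁅((Cfsg.pPrimeCore 2 ↥(HB 2 V)).map (HB 2 V).subtype), A⁆ ⊔ A} :=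
          ⟨⁅((Cfsg.pPrimeCore 2 ↥(HB 2 V)).map (HB 2 V).subtype), B i⁆ ⊔ B i,
            ⟨B i, hBA.trans hAH, hBbo, hBne, hBmin, rfl⟩⟩ with hEdef
        have htE : Th V t ∈ (E : Subgroup (GamV V)) := by
          rw [hEdef]
          exact mem_sup_right htB
        have hEH : (E : Subgroup (GamV V)) ≤ HB 2 V :=
          le_trans (le_iSup (fun E : {E : Subgroup (GamV V) // ∃ A : Subgroup (GamV V),
            A ≤ HB 2 V ∧ Cfsg.IsBestOffenderOn 2 (VV V) A ∧ ⁅VV V, A⁆ ≠ ⊥ ∧
            (∀ B : Subgroup (GamV V), B ≤ A → Cfsg.IsBestOffenderOn 2 (VV V) B →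
              ⁅VV V, B⁆ ≠ ⊥ → B = A) ∧
            E = ⁅((Cfsg.pPrimeCore 2 ↥(HB 2 V)).map (HB 2 V).subtype), A⁆ ⊔ A} =>
              (E : Subgroup (GamV V))) E) hsup.le
        have hcube_le : cubeSub (E : Subgroup (GamV V)) (hE E).2.1 ≤ O := by
          intro x hx
          apply hOodd x (hEH hx.1)
          have hdvd : orderOf x ∣ 3 := orderOf_dvd_of_pow_eq_one hx.2
          rcases (Nat.dvd_prime Nat.prime_three).mp hdvd with h1 | h1
          · rw [h1]; exact odd_one
          · rw [h1]; decide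
        refine ⟨(cubeSub (E : Subgroup (GamV V)) (hE E).2.1).comap (Th V), ?_, ?_, ?_, ?_⟩
        · have := (Th V).ker_le_comap (cubeSub (E : Subgroup (GamV V)) (hE E).2.1)
          rwa [ker_Th] at this
        · exact Subgroup.comap_mono hcube_le
        · intro x hx hxC y hy
          rw [mem_comap] at hx hy
          have hx1 : Th V x ≠ 1 := by
            intro h1
            apply hxC
            rw [← ker_Th V, MonoidHom.mem_ker]
            exact h1
          rcases cubeSub_three (hE E).2.1 hx hy hx1 with h1 | h1 | h1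
          · left
            rw [← ker_Th V, MonoidHom.mem_ker]
            exact h1
          · right; left
            rw [← ker_Th V, MonoidHom.mem_ker, map_mul, map_inv, h1, mul_inv_cancel]
          · right; right
            rw [← ker_Th V, MonoidHom.mem_ker, map_mul, map_inv, map_mul, h1, mul_inv_cancel]
        · intro x hx
          rw [mem_comap] at hx ⊢
          rw [map_mul, map_mul, map_mul, map_inv, map_inv]
          refine ⟨?_, ?_⟩
          · -- in `E`
            have h1 : Th V x * Th V t * (Th V x)⁻¹ ∈ (E : Subgroup (GamV V)) :=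
              Cfsg.Agent.Helper50.JComp.conj_mem_of_le_normalizer (hE E).1 (hOH hx) htE
            exact Subgroup.mul_mem _ h1 (Subgroup.inv_mem _ htE)
          · -- cube is one, being in `O`
            apply hOcube
            have h1 : Th V t * (Th V x)⁻¹ * (Th V t)⁻¹ ∈ O :=
              Cfsg.Agent.Helper50.JComp.conj_mem_of_le_normalizer hHnO (hEH htE)
                (O.inv_mem hx)
            have := O.mul_mem hx h1
            convert this using 1
            group
      -- `A.map θ ≤ (closure pure).map θ`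
      have hmap : A.map (Th V) ≤
          (closure {t : L | t ∈ A ∧ Pure (O.comap (Th V)) t}).map (Th V) := by
        rw [← hBsup]
        apply iSup_le
        intro i b hb
        obtain ⟨t, htA, rfl⟩ := (hB i).1 hb
        exact ⟨t, Subgroup.subset_closure ⟨htA, hpure i t htA hb⟩, rfl⟩
      intro a ha
      obtain ⟨y, hy, hya⟩ := hmap ⟨a, ha, rfl⟩
      have hker : y⁻¹ * a ∈ centralizer (V : Set L) := by
        rw [← ker_Th V, MonoidHom.mem_ker, map_mul, map_inv, hya, inv_mul_cancel]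
      have : a = y * (y⁻¹ * a) := by group
      rw [this]
      exact Subgroup.mul_mem _ (mem_sup_left hy) (mem_sup_right hker)

end Cfsg.Agent.Helper1.JC
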