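import Mathlib
import Cfsg.Agent.Lib.Helper1.JCC
import Cfsg.Agent.Lib.Helper10.JCompUniq

/-!
# `N_L(W_K) ≤ N_L(K)` for a `J`-component `K` (KS 12.2.4, abstract form)
-/

set_option autoImplicit false
set_option linter.unusedSectionVars false
set_option linter.style.haveILetI false

namespace Cfsg.Agent.Helper1.JC

open Subgroup
open scoped commutatorElement
open Cfsg.Agent.Helper10.JCompSub Cfsg.Agent.Helper10.JCompUniq
open Cfsg.Agent.Helper1.FF (VZ)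
open Cfsg.Agent.Helper50.JComp (conj_mem_of_le_normalizer le_normalizer_of_conj_mem four_cases
  zpowers_cases exists_mul_of_mem_sup)

variable {L : Type*} [Group L] [Finite L]

theorem exists_ffdata2 {T : Sylow 2 L} (h : Setup T) :
    ∃ Hh N : Subgroup L, FFData Hh N ∧ ∀ A ∈ Cfsg.maxElementaryAbelianSubgroups 2 L,
      A ≤ closure {t : L | t ∈ A ∧ Pure N t} ⊔ centralizer (VZ 2 L : Set L) := by
  obtain ⟨Hh, N, ⟨h1, h2, h3, h4, h5, h6, h7, h8, h9⟩, hP⟩ := ff_consequence2 h.psolv h.pprime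
  exact ⟨Hh, N, ⟨h1, h2, h3, h4, h5, h6, h7, h8, h9⟩, hP⟩

/-- the elements centralizing `K` modulo a normal subgroup `C` -/
def centMod (K C : Subgroup L) [hC : C.Normal] : Subgroup L where
  carrier := {a | ∀ k ∈ K, k * a * k⁻¹ * a⁻¹ ∈ C}
  mul_mem' := by
    intro a b ha hb k hk
    have h1 := ha k hk
    have h2 : a * (k * b * k⁻¹ * b⁻¹) * a⁻¹ ∈ C := hC.conj_mem _ (hb k hk) a
    have := C.mul_mem h1 h2
    convert this using 1
    group
  one_mem' := by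
    intro k _
    simp
  inv_mem' := by
    intro a ha k hk
    have h1 := ha k hk
    have h2 : a⁻¹ * (k * a * k⁻¹ * a⁻¹)⁻¹ * a⁻¹⁻¹ ∈ C := hC.conj_mem _ (C.inv_mem h1) a⁻¹
    convert h2 using 1
    group

theorem conj_mem_of_sup {A B M : Subgroup L} {x : L} (hA : ∀ y ∈ A, x * y * x⁻¹ ∈ M)
    (hB : ∀ y ∈ B, x * y * x⁻¹ ∈ M) : ∀ y ∈ A ⊔ B, x * y * x⁻¹ ∈ M := by
  have : A ⊔ B ≤ M.comap (MulAut.conj x).toMonoidHom := by
    apply sup_le
    · intro y hy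
      rw [mem_comap]
      simpa using hA y hy
    · intro y hy
      rw [mem_comap]
      simpa using hB y hy
  intro y hy
  have := this hy
  rw [mem_comap] at this
  simpa using this

theorem conj_mem_of_zpowers {M : Subgroup L} {x k : L} (hk : x * k * x⁻¹ ∈ M) :
    ∀ y ∈ zpowers k, x * y * x⁻¹ ∈ M := by
  have : zpowers k ≤ M.comap (MulAut.conj x).toMonoidHom := by
    rw [zpowers_le, mem_comap]
    simpa using hk
  intro y hy
  have := this hy
  rw [mem_comap] at this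
  simpa using this

theorem inv_comm_of_sq {t x : L} (ht2 : t * t = 1) :
    t * (x * t * x⁻¹ * t⁻¹) * t⁻¹ = (x * t * x⁻¹ * t⁻¹)⁻¹ := by
  have e : t⁻¹ = t := inv_eq_of_mul_eq_one_left ht2
  calc t * (x * t * x⁻¹ * t⁻¹) * t⁻¹ = t * x * t * x⁻¹ * (t * t)⁻¹ := by group
    _ = t * x * t * x⁻¹ := by rw [ht2, inv_one, mul_one]
    _ = t * x * t⁻¹ * x⁻¹ := by rw [e]
    _ = (x * t * x⁻¹ * t⁻¹)⁻¹ := by group

theorem exists_odd_pow (g : L) : ∃ m : ℕ, Odd (orderOf (g ^ 2 ^ m)) := by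
  have h0 : orderOf g ≠ 0 := (orderOf_pos g).ne'
  obtain ⟨k, m, hm, hkm⟩ := Nat.exists_eq_two_pow_mul_odd h0
  refine ⟨k, ?_⟩
  have h1 : (g ^ 2 ^ k) ^ m = 1 := by
    rw [← pow_mul, ← hkm, pow_orderOf_eq_one]
  exact hm.of_dvd_nat (orderOf_dvd_of_pow_eq_one h1)

section single

variable {T : Sylow 2 L} (h : Setup T) {Hh N J : Subgroup L} (F : FFData Hh N)
  (hJT : J ≤ (T : Subgroup L)) (hTJ : (T : Subgroup L) ≤ normalizer (J : Set L))
  (hJth : J ≤ Cfsg.thompsonSubgroup 2 L) {K P W : Subgroup L} (c : Comp J K P W)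
include h F hJT hTJ hJth c

theorem Q_le_C : Cfsg.pCore 2 L ≤ centralizer (VZ 2 L : Set L) := by
  intro q hq
  rw [mem_centralizer_iff]
  intro v hv
  exact (V_props h).2.1 v hv q hq

/-- `KQ ∩ C ≤ Q` -/
theorem mem_Q_of_mem_sup_of_mem_C {z : L} (hz : z ∈ K ⊔ Cfsg.pCore 2 L)
    (hzC : z ∈ centralizer (VZ 2 L : Set L)) : z ∈ Cfsg.pCore 2 L := by
  have hQK := h.Q_le_normalizer_K F hJT hTJ hJth c.gen c.comm
  obtain ⟨k, hk, q, hq, rfl⟩ := exists_mul_of_mem_sup hQK hz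
  have hkC : k ∈ centralizer (VZ 2 L : Set L) := by
    have := Subgroup.mul_mem _ hzC (Subgroup.inv_mem _ (Q_le_C h F hJT hTJ hJth c hq))
    convert this using 1
    group
  have hkP : k ∈ P := mem_C_of_mem_P_sup h F hJT hTJ hJth c hk hkC
  exact Subgroup.mul_mem _ (P_le_Q h F hJT hTJ hJth c hkP) hq

/-- an element of `C` with a `2`-power power in `Q` lies in `Q` -/
theorem mem_Q_of_pow_mem {x : L} (hx : x ∈ centralizer (VZ 2 L : Set L)) {j : ℕ}
    (hxj : x ^ 2 ^ j ∈ Cfsg.pCore 2 L) : x ∈ Cfsg.pCore 2 L := by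
  obtain ⟨m, hm⟩ := (IsPGroup.iff_orderOf.mp h.Q2) ⟨x ^ 2 ^ j, hxj⟩
  have h1 : (x ^ 2 ^ j) ^ 2 ^ m = 1 := by
    have := pow_orderOf_eq_one (⟨x ^ 2 ^ j, hxj⟩ : ↥(Cfsg.pCore 2 L))
    rw [hm] at this
    simpa using congrArg Subtype.val this
  have h2 : x ^ 2 ^ (j + m) = 1 := by
    rw [pow_add, pow_mul]
    exact h1
  exact h.C_inf_T_le_Q (mem_inf.mpr ⟨hx, h.mem_T_of_two hx h2⟩)

/-- elements of odd order of `KQ` lie in `K` -/
theorem mem_K_of_odd {x : L} (hx : x ∈ K ⊔ Cfsg.pCore 2 L) (hodd : Odd (orderOf x)) :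
    x ∈ K := by
  have hQK := h.Q_le_normalizer_K F hJT hTJ hJth c.gen c.comm
  obtain ⟨k, hk, q, hq, rfl⟩ := exists_mul_of_mem_sup hQK hx
  have hpow : ∀ n : ℕ, ∃ k' ∈ K, (k * q) ^ n = k' * q ^ n := by
    intro n
    induction n with
    | zero => exact ⟨1, K.one_mem, by simp⟩
    | succ n ih =>
      obtain ⟨k', hk', he⟩ := ih
      refine ⟨k' * (q ^ n * k * (q ^ n)⁻¹), K.mul_mem hk'
        (conj_mem_of_le_normalizer hQK (Subgroup.pow_mem _ hq n) hk), ?_⟩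
      rw [pow_succ, he, pow_succ]; group
  obtain ⟨m, hm⟩ := IsPGroup.iff_card.mp h.Q2
  have hqm : q ^ (2 ^ m) = 1 := by
    have := pow_card_eq_one' (G := ↥(Cfsg.pCore 2 L)) (x := ⟨q, hq⟩)
    rw [hm] at this
    simpa using congrArg Subtype.val this
  obtain ⟨k', hk', he⟩ := hpow (2 ^ m)
  rw [hqm, mul_one] at he
  have hcop : Nat.Coprime (2 ^ m) (orderOf (k * q)) :=
    (Nat.Coprime.pow_right m hodd.coprime_two_right).symm
  obtain ⟨j, hj⟩ := exists_pow_eq_self_of_coprime hcop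
  rw [← hj, he]
  exact K.pow_mem hk' j

/-- conjugates of `K` lie in `N` -/
theorem conj_mem_N (n : L) : ∀ k ∈ K, n * k * n⁻¹ ∈ N := by
  haveI := F.hn
  have hKH := h.K_le_Hh F hJT hTJ hJth c.gen c.comm
  have hle : closure {g : L | g ∈ K ∧ Odd (orderOf g)} ≤
      N.comap (MulAut.conj n).toMonoidHom := by
    rw [closure_le]
    rintro g ⟨hgK, hodd⟩
    rw [SetLike.mem_coe, mem_comap]
    have h1 : n * g * n⁻¹ ∈ Hh := F.hn.conj_mem g (hKH hgK) n
    have h2 : orderOf ((MulAut.conj n).toMonoidHom g) = orderOf g :=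
      orderOf_injective (MulAut.conj n).toMonoidHom (MulAut.conj n).injective g
    have h3 : (MulAut.conj n).toMonoidHom g = n * g * n⁻¹ := by simp
    rw [h3]
    apply F.odd _ h1
    rw [← h3, h2]
    exact hodd
  intro k hk
  have hk' : k ∈ closure {g : L | g ∈ K ∧ Odd (orderOf g)} := by rw [c.gen]; exact hk
  have := hle hk'
  rw [mem_comap] at this
  simpa using this

/-- an element of `N` with `[V, y] ≤ W` fixing a nontrivial element of `W` centralizes `V` -/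
theorem mem_C_of_fix {d : L} (hdK : d ∈ K) (hdP : d ∉ P) {y : L} (hyN : y ∈ N)
    (hyV : ∀ v ∈ VZ 2 L, ⁅v, y⁆ ∈ W) {a : L} (haW : a ∈ W) (ha1 : a ≠ 1)
    (hya : y * a * y⁻¹ = a) : y ∈ centralizer (VZ 2 L : Set L) := by
  have hKN := h.K_le_N F hJT hTJ hJth c.gen c.comm
  have hWV := W_le_V h F hJT hTJ hJth c
  have ha2 : a * a = 1 := c.W2 a haW
  have conj_ne_one : ∀ g x : L, x ≠ 1 → g * x * g⁻¹ ≠ 1 := by
    intro g x hx hh
    apply hx
    calc x = g⁻¹ * (g * x * g⁻¹) * g := by group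
      _ = 1 := by rw [hh]; group
  obtain ⟨b, hb⟩ : ∃ b, b = d * a * d⁻¹ := ⟨_, rfl⟩
  have hbW : b ∈ W := by rw [hb]; exact conj_mem_of_le_normalizer c.KnW hdK haW
  have hba : b ≠ a := by
    intro hfix
    rw [hb] at hfix
    exact ha1 (c.fpf d hdK hdP a haW hfix)
  have hb1 : b ≠ 1 := by rw [hb]; exact conj_ne_one _ _ ha1
  have hbz : b ∉ zpowers a := by
    intro hz
    rcases zpowers_cases ha2 hz with hh | hh
    · exact hb1 hh
    · exact hba hh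
  have haV : a ∈ VZ 2 L := hWV haW
  have hyb : y * b * y⁻¹ = b := by
    obtain ⟨c₀, hc₀⟩ : ∃ c₀, c₀ = ⁅y⁻¹, d⁻¹⁆ := ⟨_, rfl⟩
    have hcC : c₀ ∈ centralizer (VZ 2 L : Set L) := by
      rw [hc₀]
      exact F.comm (Subgroup.commutator_mem_commutator (N.inv_mem hyN)
        (N.inv_mem (hKN hdK)))
    have hca : c₀ * a * c₀⁻¹ = a := by
      have := mem_centralizer_iff.mp hcC a haV
      rw [← this]; group
    calc y * b * y⁻¹ = d * (y * (c₀ * a * c₀⁻¹) * y⁻¹) * d⁻¹ := by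
          rw [hb, hc₀, commutatorElement_def]; group
      _ = d * (y * a * y⁻¹) * d⁻¹ := by rw [hca]
      _ = b := by rw [hya, hb]
  have hyW : ∀ w ∈ W, y * w * y⁻¹ = w := by
    intro w hw
    rcases four_cases c.W4 c.W2 haW hbW ha1 hbz w hw with hh | hh | hh | hh
    · rw [hh]; group
    · rw [hh]; exact hya
    · rw [hh]; exact hyb
    · rw [hh]
      calc y * (a * b) * y⁻¹ = (y * a * y⁻¹) * (y * b * y⁻¹) := by group
        _ = a * b := by rw [hya, hyb]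
  rw [mem_centralizer_iff]
  intro v hv
  obtain ⟨w, hw⟩ : ∃ w, w = y * v * y⁻¹ * v⁻¹ := ⟨_, rfl⟩
  have hwW : w ∈ W := by
    have h1 := W.inv_mem (hyV v hv)
    have e : w = ⁅v, y⁆⁻¹ := by rw [hw, commutatorElement_def]; group
    rw [e]; exact h1
  have hwfix := hyW w hwW
  have hw2 := c.W2 w hwW
  have e1 : y * v * y⁻¹ = w * v := by rw [hw]; group
  have hy2 : (y * y) * v * (y * y)⁻¹ = v := by
    calc (y * y) * v * (y * y)⁻¹ = y * (y * v * y⁻¹) * y⁻¹ := by group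
      _ = y * (w * v) * y⁻¹ := by rw [e1]
      _ = (y * w * y⁻¹) * (y * v * y⁻¹) := by group
      _ = w * (w * v) := by rw [hwfix, e1]
      _ = v := by rw [← mul_assoc, hw2, one_mul]
  have hy3 := mem_centralizer_iff.mp (F.cube y hyN) v hv
  have e2 : y = y ^ 3 * (y * y)⁻¹ := by rw [pow_succ, pow_two]; group
  have hy2' : (y * y)⁻¹ * v = v * (y * y)⁻¹ := by
    calc (y * y)⁻¹ * v = (y * y)⁻¹ * ((y * y) * v * (y * y)⁻¹) := by rw [hy2]
      _ = v * (y * y)⁻¹ := by group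
  calc v * y = v * (y ^ 3 * (y * y)⁻¹) := by rw [← e2]
    _ = (v * y ^ 3) * (y * y)⁻¹ := by group
    _ = (y ^ 3 * v) * (y * y)⁻¹ := by rw [hy3]
    _ = y ^ 3 * (v * (y * y)⁻¹) := by group
    _ = y ^ 3 * ((y * y)⁻¹ * v) := by rw [hy2']
    _ = (y ^ 3 * (y * y)⁻¹) * v := by group
    _ = y * v := by rw [← e2]

/-- an element of `N` with `[V, x] ≤ W` lies in `⟨d⟩ C` -/
theorem decomp_of_comm_mem {d : L} (hdK : d ∈ K) (hdP : d ∉ P) {x : L} (hxN : x ∈ N)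
    (hxV : ∀ v ∈ VZ 2 L, ⁅v, x⁆ ∈ W) :
    ∃ i : ℕ, ∃ c' ∈ centralizer (VZ 2 L : Set L), x = d ^ i * c' := by
  have hKN := h.K_le_N F hJT hTJ hJth c.gen c.comm
  have hWV := W_le_V h F hJT hTJ hJth c
  have hW1 : W ≠ ⊥ := by
    intro hb
    have := c.W4
    rw [hb] at this
    simp at this
  obtain ⟨⟨a, haW⟩, ha1'⟩ := (Subgroup.ne_bot_iff_exists_ne_one).mp hW1
  have ha1 : a ≠ 1 := fun hh => ha1' (Subtype.ext hh)
  have ha2 : a * a = 1 := c.W2 a haW
  have conj_ne_one : ∀ g x : L, x ≠ 1 → g * x * g⁻¹ ≠ 1 := by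
    intro g x hx hh
    apply hx
    calc x = g⁻¹ * (g * x * g⁻¹) * g := by group
      _ = 1 := by rw [hh]; group
  obtain ⟨b, hb⟩ : ∃ b, b = d * a * d⁻¹ := ⟨_, rfl⟩
  have hbW : b ∈ W := by rw [hb]; exact conj_mem_of_le_normalizer c.KnW hdK haW
  have hba : b ≠ a := by
    intro hfix
    rw [hb] at hfix
    exact ha1 (c.fpf d hdK hdP a haW hfix)
  have hb1 : b ≠ 1 := by rw [hb]; exact conj_ne_one _ _ ha1
  have hbz : b ∉ zpowers a := by
    intro hz
    rcases zpowers_cases ha2 hz with hh | hh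
    · exact hb1 hh
    · exact hba hh
  have hfour := four_cases c.W4 c.W2 haW hbW ha1 hbz
  have hdsq : d * d ∉ P := by
    intro hsq
    apply hdP
    have h3 := c.cube_mem hdK
    have : d = d ^ 3 * (d * d)⁻¹ := by
      rw [pow_succ, pow_two]; group
    rw [this]
    exact P.mul_mem h3 (P.inv_mem hsq)
  obtain ⟨a₂, ha₂⟩ : ∃ a₂, a₂ = d * b * d⁻¹ := ⟨_, rfl⟩
  have ha₂W : a₂ ∈ W := by rw [ha₂]; exact conj_mem_of_le_normalizer c.KnW hdK hbW
  have ha₂eq : a₂ = a * b := by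
    rcases hfour a₂ ha₂W with hh | hh | hh | hh
    · exfalso
      rw [ha₂] at hh
      exact conj_ne_one _ _ hb1 hh
    · exfalso
      have hfix : (d * d) * a * (d * d)⁻¹ = a := by
        calc (d * d) * a * (d * d)⁻¹ = d * (d * a * d⁻¹) * d⁻¹ := by group
          _ = d * b * d⁻¹ := by rw [hb]
          _ = a₂ := ha₂.symm
          _ = a := hh
      exact ha1 (c.fpf _ (K.mul_mem hdK hdK) hdsq a haW hfix)
    · exfalso
      rw [ha₂] at hh
      exact hb1 (c.fpf d hdK hdP b hbW hh)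
    · exact hh
  -- `x` normalizes `W`
  have hxa : x * a * x⁻¹ ∈ W := by
    have h1 := W.mul_mem (W.inv_mem (hxV a (hWV haW))) haW
    convert h1 using 1
    rw [commutatorElement_def]; group
  have hxa1 : x * a * x⁻¹ ≠ 1 := conj_ne_one _ _ ha1
  -- the general step
  have key : ∀ i : ℕ, d ^ i * a * (d ^ i)⁻¹ = x * a * x⁻¹ →
      ∃ c' ∈ centralizer (VZ 2 L : Set L), x = d ^ i * c' := by
    intro i hi
    have heK : (d ^ i)⁻¹ ∈ K := K.inv_mem (K.pow_mem hdK i)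
    refine ⟨(d ^ i)⁻¹ * x, ?_, by group⟩
    apply mem_C_of_fix h F hJT hTJ hJth c hdK hdP (N.mul_mem (hKN heK) hxN) ?_ haW ha1
    · calc (d ^ i)⁻¹ * x * a * ((d ^ i)⁻¹ * x)⁻¹ = (d ^ i)⁻¹ * (x * a * x⁻¹) * (d ^ i) := by group
        _ = a := by rw [← hi]; group
    · intro v hv
      have e : ⁅v, (d ^ i)⁻¹ * x⁆ = ⁅v, (d ^ i)⁻¹⁆ * ((d ^ i)⁻¹ * ⁅v, x⁆ * (d ^ i)⁻¹⁻¹) := by
        simp only [commutatorElement_def]; group
      rw [e]
      exact W.mul_mem (comm_V_K_mem h F hJT hTJ hJth c hv heK)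
        (conj_mem_of_le_normalizer c.KnW heK (hxV v hv))
  rcases hfour _ hxa with hh | hh | hh | hh
  · exact absurd hh hxa1
  · exact ⟨0, key 0 (by rw [hh]; simp)⟩
  · refine ⟨1, key 1 ?_⟩
    rw [hh, pow_one, hb]
  · refine ⟨2, key 2 ?_⟩
    rw [hh, ← ha₂eq, ha₂, hb, pow_two]; group

end single

end Cfsg.Agent.Helper1.JC
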