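import Mathlib
import Cfsg.Agent.Lib.Helper1.JCD

/-!
# `N_L(W_K) ≤ N_L(K)` for a `J`-component `K` (KS 12.2.4, abstract form), part 2
-/

set_option autoImplicit false
set_option linter.unusedSectionVars false
set_option linter.style.haveILetI false

namespace Cfsg.Agent.Helper1.JC

open Subgroup
open scoped commutatorElement
open Cfsg.Agent.Helper10.JCompSub Cfsg.Agent.Helper10.JCompUniq
open Cfsg.Agent.Helper1.FF (VZ)
open Cfsg.Agent.Helper50.JComp (conj_mem_of_le_normalizer le_normalizer_of_conj_mem four_cases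
  zpowers_cases exists_mul_of_mem_sup)

variable {L : Type*} [Group L] [Finite L]

section single

variable {T : Sylow 2 L} (h : Setup T) {Hh N J : Subgroup L} (F : FFData Hh N)
  (hJT : J ≤ (T : Subgroup L)) (hTJ : (T : Subgroup L) ≤ normalizer (J : Set L))
  (hJth : J ≤ Cfsg.thompsonSubgroup 2 L) {K P W : Subgroup L} (c : Comp J K P W)
include h F hJT hTJ hJth c

/-- a pure involution of `J` acting nontrivially on `K` modulo `C` -/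
theorem exists_pure
    (hP : ∀ A ∈ Cfsg.maxElementaryAbelianSubgroups 2 L,
      A ≤ closure {t : L | t ∈ A ∧ Pure N t} ⊔ centralizer (VZ 2 L : Set L))
    {𝒜 : Set (Subgroup L)}
    (h𝒜 : ∀ A ∈ 𝒜, A ∈ Cfsg.maxElementaryAbelianSubgroups 2 L ∧ A ≤ J)
    (hJ𝒜 : ∀ X : Subgroup L, (∀ A ∈ 𝒜, A ≤ X) → J ≤ X) :
    ∃ t ∈ J, t * t = 1 ∧ Pure N t ∧
      ∃ k ∈ K, k * t * k⁻¹ * t⁻¹ ∉ centralizer (VZ 2 L : Set L) := by
  haveI := h.Cn
  by_contra hcon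
  push Not at hcon
  apply not_le_C h F hJT hTJ hJth c
  have hJX : J ≤ centMod K (centralizer (VZ 2 L : Set L)) := by
    apply hJ𝒜
    intro A hA
    obtain ⟨hAmax, hAJ⟩ := h𝒜 A hA
    refine (hP A hAmax).trans (sup_le ?_ ?_)
    · rw [closure_le]
      rintro t ⟨htA, htP⟩
      have ht2 : t * t = 1 := by
        have := hAmax.1.2 t htA
        rwa [pow_two] at this
      exact hcon t (hAJ htA) ht2 htP
    · intro x hx k hk
      exact Subgroup.mul_mem _ (h.Cn.conj_mem x hx k) (Subgroup.inv_mem _ hx)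
  rw [← c.comm, Subgroup.commutator_le]
  intro k hk a ha
  rw [commutatorElement_def]
  exact hJX ha k hk

section withT

variable {t k₀ : L} (htJ : t ∈ J) (ht2 : t * t = 1) (htP : Pure N t) (hk₀ : k₀ ∈ K)
  (hk₀t : k₀ * t * k₀⁻¹ * t⁻¹ ∉ centralizer (VZ 2 L : Set L))
include htJ ht2 htP hk₀ hk₀t

theorem comm_mem_K : k₀ * t * k₀⁻¹ * t⁻¹ ∈ K := by
  have hJK := h.JnK F hJT hTJ hJth c.gen c.comm
  have h1 : t * k₀⁻¹ * t⁻¹ ∈ K := conj_mem_of_le_normalizer hJK htJ (K.inv_mem hk₀)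
  have := K.mul_mem hk₀ h1
  convert this using 1
  group

theorem comm_not_mem_P : k₀ * t * k₀⁻¹ * t⁻¹ ∉ P :=
  fun hh => hk₀t (P_le_C h F hJT hTJ hJth c hh)

/-- `[N, t] ≤ K Q` -/
theorem comm_mem_sup_Q : ∀ x ∈ N, x * t * x⁻¹ * t⁻¹ ∈ K ⊔ Cfsg.pCore 2 L := by
  obtain ⟨D, hCD, hDN, hD3, hDt⟩ := htP
  have hKN := h.K_le_N F hJT hTJ hJth c.gen c.comm
  have hJK := h.JnK F hJT hTJ hJth c.gen c.comm
  have hKM := h.K_le_Mker F hJT hTJ hJth c.gen c.comm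
  obtain ⟨k, hk⟩ : ∃ k, k = k₀ * t * k₀⁻¹ * t⁻¹ := ⟨_, rfl⟩
  have hkK : k ∈ K := by rw [hk]; exact comm_mem_K h F hJT hTJ hJth c htJ ht2 ⟨D, hCD, hDN, hD3, hDt⟩ hk₀ hk₀t
  have hkD : k ∈ D := by rw [hk]; exact hDt k₀ (hKN hk₀)
  have hkC : k ∉ centralizer (VZ 2 L : Set L) := by rw [hk]; exact hk₀t
  intro x hx
  obtain ⟨y, hy⟩ : ∃ y, y = x * t * x⁻¹ * t⁻¹ := ⟨_, rfl⟩
  rw [← hy]
  have hyD : y ∈ D := by rw [hy]; exact hDt x hx
  have hty : t * y * t⁻¹ = y⁻¹ := by rw [hy]; exact inv_comm_of_sq ht2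
  obtain ⟨κ, hκK, cc, hcc, hyeq⟩ : ∃ κ ∈ K, ∃ cc ∈ centralizer (VZ 2 L : Set L), y = cc * κ := by
    rcases hD3 k hkD hkC y hyD with h1 | h1 | h1
    · exact ⟨1, K.one_mem, y, h1, by simp⟩
    · exact ⟨k, hkK, y * k⁻¹, h1, by group⟩
    · exact ⟨k * k, K.mul_mem hkK hkK, y * (k * k)⁻¹, h1, by group⟩
  have hq₁ : t * cc * t⁻¹ * cc⁻¹ ∈ Cfsg.pCore 2 L := h.T_le_Mker (hJT htJ) cc hcc
  have hκ' : t * κ * t⁻¹ ∈ K := conj_mem_of_le_normalizer hJK htJ hκK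
  have hq₂ : t * κ * t⁻¹ * cc * (t * κ * t⁻¹)⁻¹ * cc⁻¹ ∈ Cfsg.pCore 2 L := hKM hκ' cc hcc
  have h1 : t * (cc * κ) * t⁻¹ = (cc * κ)⁻¹ := by rw [← hyeq]; exact hty
  have key : cc * cc = (t * κ * t⁻¹)⁻¹ * (t * κ * t⁻¹ * cc * (t * κ * t⁻¹)⁻¹ * cc⁻¹) *
      (t * cc * t⁻¹ * cc⁻¹)⁻¹ * κ⁻¹ := by
    calc cc * cc = cc * (t * (cc * κ) * t⁻¹)⁻¹ * κ⁻¹ := by rw [h1]; group
      _ = _ := by group
  have hccKQ : cc * cc ∈ K ⊔ Cfsg.pCore 2 L := by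
    rw [key]
    exact Subgroup.mul_mem _ (Subgroup.mul_mem _ (Subgroup.mul_mem _
      (mem_sup_left (K.inv_mem hκ')) (mem_sup_right hq₂))
      (mem_sup_right (Subgroup.inv_mem _ hq₁))) (mem_sup_left (K.inv_mem hκK))
  have hccC : cc * cc ∈ centralizer (VZ 2 L : Set L) := Subgroup.mul_mem _ hcc hcc
  have hccQ : cc * cc ∈ Cfsg.pCore 2 L :=
    mem_Q_of_mem_sup_of_mem_C h F hJT hTJ hJth c hccKQ hccC
  have hccQ' : cc ∈ Cfsg.pCore 2 L := by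
    apply mem_Q_of_pow_mem h F hJT hTJ hJth c hcc (j := 1)
    rw [pow_one, pow_two]
    exact hccQ
  rw [hyeq]
  exact Subgroup.mul_mem _ (mem_sup_right hccQ') (mem_sup_left hκK)

/-- `N` normalizes `K Q` -/
theorem conj_mem_sup_Q : ∀ x ∈ N, ∀ z ∈ K ⊔ Cfsg.pCore 2 L,
    x * z * x⁻¹ ∈ K ⊔ Cfsg.pCore 2 L := by
  haveI := h.Qn
  have hKN := h.K_le_N F hJT hTJ hJth c.gen c.comm
  have hcs := comm_mem_sup_Q h F hJT hTJ hJth c htJ ht2 htP hk₀ hk₀t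
  have hkK := comm_mem_K h F hJT hTJ hJth c htJ ht2 htP hk₀ hk₀t
  have hkP := comm_not_mem_P h F hJT hTJ hJth c htJ ht2 htP hk₀ hk₀t
  intro x hx
  apply conj_mem_of_sup
  · have hKeq := c.K_eq hkK hkP
    intro κ hκ
    rw [hKeq] at hκ
    revert κ
    apply conj_mem_of_sup
    · intro p hp
      exact mem_sup_right (h.Qn.conj_mem p (P_le_Q h F hJT hTJ hJth c hp) x)
    · apply conj_mem_of_zpowers
      have h1 := hcs (x * k₀) (N.mul_mem hx (hKN hk₀))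
      have h2 := hcs x hx
      have := Subgroup.mul_mem _ h1 (Subgroup.inv_mem _ h2)
      convert this using 1
      group
  · intro q hq
    exact mem_sup_right (h.Qn.conj_mem q hq x)

end withT

omit h F hJT hTJ hJth c in
theorem orderOf_conj_eq (n g : L) : orderOf (n * g * n⁻¹) = orderOf g := by
  have h2 : orderOf ((MulAut.conj n).toMonoidHom g) = orderOf g :=
    orderOf_injective (MulAut.conj n).toMonoidHom (MulAut.conj n).injective g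
  have h3 : (MulAut.conj n).toMonoidHom g = n * g * n⁻¹ := by simp
  rw [← h3, h2]

/-- **`N_L(W) ≤ N_L(K)`** for a `J`-component `K` with four-group `W`. -/
theorem mem_normalizer_of_normalizes_W
    (hP : ∀ A ∈ Cfsg.maxElementaryAbelianSubgroups 2 L,
      A ≤ closure {t : L | t ∈ A ∧ Pure N t} ⊔ centralizer (VZ 2 L : Set L))
    {𝒜 : Set (Subgroup L)}
    (h𝒜 : ∀ A ∈ 𝒜, A ∈ Cfsg.maxElementaryAbelianSubgroups 2 L ∧ A ≤ J)
    (hJ𝒜 : ∀ X : Subgroup L, (∀ A ∈ 𝒜, A ≤ X) → J ≤ X)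
    {n : L} (hn : n ∈ normalizer (W : Set L)) : n ∈ normalizer (K : Set L) := by
  haveI := h.Qn
  haveI := h.Cn
  haveI := F.hn
  haveI hVn : (VZ 2 L).Normal := Cfsg.Agent.Helper1.FF.VZ_normal 2
  obtain ⟨t, htJ, ht2, htP, k₀, hk₀, hk₀t⟩ := exists_pure h F hJT hTJ hJth c hP h𝒜 hJ𝒜
  have hKN := h.K_le_N F hJT hTJ hJth c.gen c.comm
  have hKM := h.K_le_Mker F hJT hTJ hJth c.gen c.comm
  have hcs := conj_mem_sup_Q h F hJT hTJ hJth c htJ ht2 htP hk₀ hk₀t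
  obtain ⟨k, hk⟩ : ∃ k, k = k₀ * t * k₀⁻¹ * t⁻¹ := ⟨_, rfl⟩
  have hkK : k ∈ K := by
    rw [hk]; exact comm_mem_K h F hJT hTJ hJth c htJ ht2 htP hk₀ hk₀t
  have hkP : k ∉ P := by
    rw [hk]; exact comm_not_mem_P h F hJT hTJ hJth c htJ ht2 htP hk₀ hk₀t
  have htk : t * k * t⁻¹ = k⁻¹ := by rw [hk]; exact inv_comm_of_sq ht2
  obtain ⟨k', hk'⟩ : ∃ k', k' = n * k * n⁻¹ := ⟨_, rfl⟩
  obtain ⟨t', ht'⟩ : ∃ t', t' = n * t * n⁻¹ := ⟨_, rfl⟩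
  have hk'N : k' ∈ N := by rw [hk']; exact conj_mem_N h F hJT hTJ hJth c n k hkK
  have hk'V : ∀ v ∈ VZ 2 L, ⁅v, k'⁆ ∈ W := by
    intro v hv
    have hv' : n⁻¹ * v * n⁻¹⁻¹ ∈ VZ 2 L := hVn.conj_mem v hv n⁻¹
    have h1 := comm_V_K_mem h F hJT hTJ hJth c hv' hkK
    have h2 : n * ⁅n⁻¹ * v * n⁻¹⁻¹, k⁆ * n⁻¹ ∈ W :=
      conj_mem_of_le_normalizer (le_refl _) hn h1
    convert h2 using 1
    rw [hk']; simp only [commutatorElement_def]; group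
  obtain ⟨i, c₁, hc₁, hk'eq⟩ := decomp_of_comm_mem h F hJT hTJ hJth c hkK hkP hk'N hk'V
  have hc₁Q : c₁ ∈ Cfsg.pCore 2 L := by
    obtain ⟨π, hπ⟩ : ∃ π : L →* L ⧸ Cfsg.pCore 2 L, π = QuotientGroup.mk' (Cfsg.pCore 2 L) :=
      ⟨_, rfl⟩
    have hπ1 : ∀ x, π x = 1 ↔ x ∈ Cfsg.pCore 2 L := by
      intro x
      rw [hπ]
      exact QuotientGroup.eq_one_iff x
    obtain ⟨A, hA⟩ : ∃ A, A = π (k ^ i) := ⟨_, rfl⟩
    obtain ⟨γ, hγ⟩ : ∃ γ, γ = π c₁ := ⟨_, rfl⟩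
    obtain ⟨τ, hτ⟩ : ∃ τ, τ = π t := ⟨_, rfl⟩
    obtain ⟨τ', hτ'⟩ : ∃ τ', τ' = π t' := ⟨_, rfl⟩
    have r1 : τ * A * τ⁻¹ = A⁻¹ := by
      have e : t * k ^ i * t⁻¹ = (k ^ i)⁻¹ := by
        rw [← conj_pow, htk, inv_pow]
      have := congrArg π e
      rw [map_mul, map_mul, map_inv, map_inv] at this
      rw [hτ, hA]
      exact this
    have r2 : τ' * (A * γ) * τ'⁻¹ = (A * γ)⁻¹ := by
      have e : t' * k' * t'⁻¹ = k'⁻¹ := by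
        rw [ht', hk']
        calc n * t * n⁻¹ * (n * k * n⁻¹) * (n * t * n⁻¹)⁻¹ = n * (t * k * t⁻¹) * n⁻¹ := by group
          _ = (n * k * n⁻¹)⁻¹ := by rw [htk]; group
      have e2 : π k' = A * γ := by rw [hA, hγ, ← map_mul, ← hk'eq]
      have := congrArg π e
      rw [map_mul, map_mul, map_inv, map_inv, e2] at this
      rw [hτ']
      exact this
    have r3 : τ * γ * τ⁻¹ = γ := by
      have := (hπ1 _).mpr (h.T_le_Mker (hJT htJ) c₁ hc₁)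
      rw [map_mul, map_mul, map_mul, map_inv, map_inv, mul_inv_eq_one] at this
      rw [hτ, hγ]
      exact this
    have r4 : τ' * γ * τ'⁻¹ = γ := by
      have hc₂ : n⁻¹ * c₁ * n⁻¹⁻¹ ∈ centralizer (VZ 2 L : Set L) := h.Cn.conj_mem c₁ hc₁ n⁻¹
      have hq := h.T_le_Mker (hJT htJ) _ hc₂
      have hq' := h.Qn.conj_mem _ hq n
      have e : n * (t * (n⁻¹ * c₁ * n⁻¹⁻¹) * t⁻¹ * (n⁻¹ * c₁ * n⁻¹⁻¹)⁻¹) * n⁻¹ =
          t' * c₁ * t'⁻¹ * c₁⁻¹ := by rw [ht']; group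
      rw [e] at hq'
      have := (hπ1 _).mpr hq'
      rw [map_mul, map_mul, map_mul, map_inv, map_inv, mul_inv_eq_one] at this
      rw [hτ', hγ]
      exact this
    have r5 : A * γ = γ * A := by
      have := (hπ1 _).mpr (hKM (K.pow_mem hkK i) c₁ hc₁)
      rw [map_mul, map_mul, map_mul, map_inv, map_inv, mul_inv_eq_one, mul_inv_eq_iff_eq_mul]
        at this
      rw [hA, hγ]
      exact this
    have r5' : A⁻¹ * γ⁻¹ = γ⁻¹ * A⁻¹ := by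
      rw [← mul_inv_rev, ← mul_inv_rev, r5]
    have s1 : τ' * A * τ'⁻¹ = A⁻¹ * γ⁻¹ * γ⁻¹ := by
      calc τ' * A * τ'⁻¹ = (τ' * (A * γ) * τ'⁻¹) * (τ' * γ * τ'⁻¹)⁻¹ := by group
        _ = (A * γ)⁻¹ * γ⁻¹ := by rw [r2, r4]
        _ = A⁻¹ * γ⁻¹ * γ⁻¹ := by rw [mul_inv_rev, ← r5']
    obtain ⟨g, hg⟩ : ∃ g, g = τ * τ' := ⟨_, rfl⟩
    obtain ⟨δ, hδ⟩ : ∃ δ, δ = (γ * γ)⁻¹ := ⟨_, rfl⟩
    have s2 : g * A * g⁻¹ = A * δ := by
      calc g * A * g⁻¹ = τ * (τ' * A * τ'⁻¹) * τ⁻¹ := by rw [hg]; group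
        _ = τ * (A⁻¹ * γ⁻¹ * γ⁻¹) * τ⁻¹ := by rw [s1]
        _ = (τ * A * τ⁻¹)⁻¹ * (τ * γ * τ⁻¹)⁻¹ * (τ * γ * τ⁻¹)⁻¹ := by group
        _ = A * δ := by rw [r1, r3, hδ]; group
    have s3 : g * γ * g⁻¹ = γ := by
      calc g * γ * g⁻¹ = τ * (τ' * γ * τ'⁻¹) * τ⁻¹ := by rw [hg]; group
        _ = γ := by rw [r4, r3]
    have s3' : g * δ * g⁻¹ = δ := by
      calc g * δ * g⁻¹ = ((g * γ * g⁻¹) * (g * γ * g⁻¹))⁻¹ := by rw [hδ]; group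
        _ = δ := by rw [s3, hδ]
    have hpow : ∀ j : ℕ, g ^ j * A * (g ^ j)⁻¹ = A * δ ^ j := by
      intro j
      induction j with
      | zero => simp
      | succ j ih =>
        calc g ^ (j + 1) * A * (g ^ (j + 1))⁻¹ = g * (g ^ j * A * (g ^ j)⁻¹) * g⁻¹ := by
              rw [pow_succ']; group
          _ = g * (A * δ ^ j) * g⁻¹ := by rw [ih]
          _ = (g * A * g⁻¹) * (g * δ * g⁻¹) ^ j := by rw [conj_pow]; group
          _ = A * δ * δ ^ j := by rw [s2, s3']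
          _ = A * δ ^ (j + 1) := by rw [pow_succ', mul_assoc]
    obtain ⟨m, hm⟩ := exists_odd_pow (t * t')
    have htH : t ∈ Hh := F.thom (hJth htJ)
    have ht'H : t' ∈ Hh := by rw [ht']; exact F.hn.conj_mem t htH n
    have huN : (t * t') ^ 2 ^ m ∈ N :=
      F.odd _ (Hh.pow_mem (Hh.mul_mem htH ht'H) _) hm
    obtain ⟨u, hu⟩ : ∃ u, u = (t * t') ^ 2 ^ m := ⟨_, rfl⟩
    rw [← hu] at huN
    have h1 := hcs u huN (k ^ i) (mem_sup_left (K.pow_mem hkK i))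
    have h2 : π (u * k ^ i * u⁻¹) = A * δ ^ 2 ^ m := by
      rw [map_mul, map_mul, map_inv, hu, map_pow, map_mul, ← hτ, ← hτ', ← hA, ← hg]
      exact hpow (2 ^ m)
    obtain ⟨z, hz⟩ : ∃ z, z = ((c₁ * c₁)⁻¹) ^ 2 ^ m := ⟨_, rfl⟩
    have hzπ : π z = δ ^ 2 ^ m := by
      rw [hz, map_pow, map_inv, map_mul, ← hγ, ← hδ]
    have hzC : z ∈ centralizer (VZ 2 L : Set L) := by
      rw [hz]
      exact Subgroup.pow_mem _ (Subgroup.inv_mem _ (Subgroup.mul_mem _ hc₁ hc₁)) _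
    have hzKQ : z ∈ K ⊔ Cfsg.pCore 2 L := by
      have h4 : z⁻¹ * ((k ^ i)⁻¹ * (u * k ^ i * u⁻¹)) ∈ Cfsg.pCore 2 L := by
        rw [← hπ1, map_mul, map_inv, map_mul, map_inv, h2, ← hA, hzπ]
        group
      have e : z = ((k ^ i)⁻¹ * (u * k ^ i * u⁻¹)) *
          (z⁻¹ * ((k ^ i)⁻¹ * (u * k ^ i * u⁻¹)))⁻¹ := by group
      rw [e]
      exact Subgroup.mul_mem _ (Subgroup.mul_mem _
        (mem_sup_left (K.inv_mem (K.pow_mem hkK i))) h1)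
        (mem_sup_right (Subgroup.inv_mem _ h4))
    have hzQ : z ∈ Cfsg.pCore 2 L :=
      mem_Q_of_mem_sup_of_mem_C h F hJT hTJ hJth c hzKQ hzC
    apply mem_Q_of_pow_mem h F hJT hTJ hJth c hc₁ (j := m + 1)
    have e : c₁ ^ 2 ^ (m + 1) = z⁻¹ := by
      rw [hz, inv_pow, inv_inv, ← pow_two, ← pow_mul, ← pow_succ']
    rw [e]
    exact Subgroup.inv_mem _ hzQ
  have hk'KQ : k' ∈ K ⊔ Cfsg.pCore 2 L := by
    rw [hk'eq]
    exact Subgroup.mul_mem _ (mem_sup_left (K.pow_mem hkK i)) (mem_sup_right hc₁Q)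
  have hconj : ∀ κ ∈ K, n * κ * n⁻¹ ∈ K ⊔ Cfsg.pCore 2 L := by
    intro κ hκ
    rw [c.K_eq hkK hkP] at hκ
    revert κ
    apply conj_mem_of_sup
    · intro p hp
      exact mem_sup_right (h.Qn.conj_mem p (P_le_Q h F hJT hTJ hJth c hp) n)
    · apply conj_mem_of_zpowers
      rw [← hk']
      exact hk'KQ
  apply Cfsg.Agent.Helper49.mem_normalizer_of_conj_le
  intro y hy
  have hy' : y ∈ closure {g : L | g ∈ K ∧ Odd (orderOf g)} := by rw [c.gen]; exact hy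
  refine Subgroup.closure_induction (p := fun y _ => n * y * n⁻¹ ∈ K) ?_ ?_ ?_ ?_ hy'
  · rintro g ⟨hgK, hodd⟩
    apply mem_K_of_odd h F hJT hTJ hJth c (hconj g hgK)
    rw [orderOf_conj_eq]
    exact hodd
  · simp
  · intro x y _ _ hx hy
    have : n * (x * y) * n⁻¹ = (n * x * n⁻¹) * (n * y * n⁻¹) := by group
    rw [this]; exact K.mul_mem hx hy
  · intro x _ hx
    have : n * x⁻¹ * n⁻¹ = (n * x * n⁻¹)⁻¹ := by group
    rw [this]; exact K.inv_mem hx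

end single

end Cfsg.Agent.Helper1.JC
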