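import Mathlib
import Cfsg.Agent.Lib.Helper1.JCB
import Cfsg.Agent.Lib.Helper1.JCE
import Cfsg.Agent.Lib.Helper10.JCompTrU

/-!
# `N_G(K) = N_G(W_K)` for `K ∈ 𝒦₀(T)` (KS 12.2.4)
-/

set_option autoImplicit false
set_option linter.unusedSectionVars false
set_option linter.style.haveILetI false

namespace Cfsg.Agent.Helper1.JC

open Subgroup
open scoped commutatorElement
open Cfsg.Agent.Helper10.JCompSub Cfsg.Agent.Helper10.JCompUniq Cfsg.Agent.Helper10.JCompTr
open Cfsg.Agent.Helper50.JComp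

variable {G : Type*} [Group G] [Finite G]

/-- an elementary abelian subgroup of maximal order of a Sylow `2`-subgroup `S` of `M` is
an elementary abelian subgroup of maximal order of `↥M` -/
theorem maxEA_subgroupOf {S M A : Subgroup G} (hSyl : Cfsg.IsSylowTwoIn S M) (SM : Sylow 2 ↥M)
    (hSMeq : (SM : Subgroup ↥M) = S.subgroupOf M) (hA : MaxEA S A) :
    A.subgroupOf M ∈ Cfsg.maxElementaryAbelianSubgroups 2 ↥M := by
  obtain ⟨hle, hT2, hodd⟩ := hSyl
  obtain ⟨hAT, hA2, hAc, hAm⟩ := hA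
  obtain ⟨A₀, hA₀, hA₀T⟩ :=
    Cfsg.Agent.Helper10.exists_mem_maxElementaryAbelianSubgroups_le_sylow SM
  have hA₀G : A₀.map M.subtype ≤ S := by
    rw [hSMeq] at hA₀T
    have := Subgroup.map_mono (f := M.subtype) hA₀T
    rwa [Subgroup.map_subgroupOf_eq_of_le hle] at this
  have hA₀2 : ∀ x ∈ A₀.map M.subtype, x * x = 1 := by
    rintro _ ⟨x, hx, rfl⟩
    have := hA₀.1.2 x hx
    rw [pow_two] at this
    exact congrArg Subtype.val this
  have hA₀c : ∀ x ∈ A₀.map M.subtype, ∀ y ∈ A₀.map M.subtype, x * y = y * x := by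
    rintro _ ⟨x, hx, rfl⟩ _ ⟨y, hy, rfl⟩
    have := hA₀.1.1.is_comm.comm (⟨x, hx⟩ : ↥A₀) ⟨y, hy⟩
    have h3 : x * y = y * x := congrArg Subtype.val this
    exact congrArg Subtype.val h3
  have hAL : A ≤ M := hAT.trans hle
  refine ⟨⟨⟨⟨?_⟩⟩, ?_⟩, ?_⟩
  · intro x y
    apply Subtype.ext
    apply Subtype.ext
    exact hAc _ (mem_subgroupOf.mp x.2) _ (mem_subgroupOf.mp y.2)
  · intro x hx
    rw [pow_two]
    apply Subtype.ext
    exact hA2 _ (mem_subgroupOf.mp hx)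
  · intro B hB
    have h1 := hA₀.2 B hB
    have h2 := hAm _ hA₀G hA₀2 hA₀c
    rw [Subgroup.card_map_of_injective M.subtype_injective] at h2
    have h3 : Nat.card ↥(A.subgroupOf M) = Nat.card A :=
      Nat.card_congr (Subgroup.subgroupOfEquivOfLe hAL).toEquiv
    rw [h3]
    exact h1.trans h2

/-- **KS 12.2.4 (a)**: `N_G(W_K) ≤ N_G(K)` for `K ∈ 𝒦₀(T)`. -/
theorem normalizer_wOf_le (hL : Cfsg.IsCharacteristicTwoType G)
    (hN : ∀ N : Subgroup G, Cfsg.IsTwoLocal N → Group.IsSolvable ↥N)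
    (hZ : ∀ S : Sylow 2 G, Subgroup.centralizer (Cfsg.omegaCenterOf (S : Subgroup G) : Set G) ≤
      Subgroup.normalizer ((S : Subgroup G) : Set G))
    (T : Subgroup G) (hT : IsPGroup 2 ↥T) (K : Subgroup G) (hK : K ∈ Cfsg.jComponentsZero T) :
    normalizer (Cfsg.wOf K : Set G) ≤ normalizer (K : Set G) := by
  obtain ⟨S, hJS, hS, hMS, hKM⟩ := exists_sylow_normalizer_wOf hL T hT K hK
  obtain ⟨hK1, hK2⟩ := hK
  have hKS : Cfsg.IsJComponent S K := isJComponent_congr hJS.symm hK1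
  have hS2 : IsPGroup 2 ↥S := hS.2.1
  have hJS_le : Cfsg.thompsonSubgroupOf 2 S ≤ S := by
    unfold Cfsg.thompsonSubgroupOf; exact Subgroup.map_subtype_le _
  have hS1 : S ≠ ⊥ := by
    intro hb
    apply hMS.2.1
    intro x hx
    have : x ∈ (⊥ : Subgroup G) := hb ▸ hJS_le hx
    rw [mem_bot] at this
    rw [this]
    exact Subgroup.one_mem _
  obtain ⟨SM, hSMeq, hSetup⟩ := exists_setup hN hZ hS1 hMS
  obtain ⟨hJ1, hJ2, hJ3⟩ := thompson_props hMS.1 SM hSMeq
  obtain ⟨Hh, N, F, hP⟩ := exists_ffdata2 hSetup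
  have hJM : Cfsg.thompsonSubgroupOf 2 S ≤ normalizer (Cfsg.wOf K : Set G) :=
    hJS_le.trans hS.1
  have c := comp_of_isJComponent hS2 hKS hKM hJM
  -- the family of maximal elementary abelian subgroups
  have h𝒜 : ∀ A' ∈ {A' : Subgroup ↥(normalizer (Cfsg.wOf K : Set G)) |
      ∃ A : Subgroup G, MaxEA S A ∧ A' = A.subgroupOf (normalizer (Cfsg.wOf K : Set G))},
      A' ∈ Cfsg.maxElementaryAbelianSubgroups 2 ↥(normalizer (Cfsg.wOf K : Set G)) ∧
      A' ≤ (Cfsg.thompsonSubgroupOf 2 S).subgroupOf (normalizer (Cfsg.wOf K : Set G)) := by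
    rintro A' ⟨A, hA, rfl⟩
    refine ⟨maxEA_subgroupOf hMS.1 SM hSMeq hA, ?_⟩
    intro y hy
    rw [mem_subgroupOf] at hy ⊢
    exact hA.le_thompson hy
  have hJ𝒜 : ∀ X : Subgroup ↥(normalizer (Cfsg.wOf K : Set G)),
      (∀ A' ∈ {A' : Subgroup ↥(normalizer (Cfsg.wOf K : Set G)) |
        ∃ A : Subgroup G, MaxEA S A ∧ A' = A.subgroupOf (normalizer (Cfsg.wOf K : Set G))},
        A' ≤ X) →
      (Cfsg.thompsonSubgroupOf 2 S).subgroupOf (normalizer (Cfsg.wOf K : Set G)) ≤ X := by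
    intro X hX y hy
    rw [mem_subgroupOf, thompsonTwo_eq] at hy
    have hle : sSup {A : Subgroup G | MaxEA S A} ≤
        X.map (normalizer (Cfsg.wOf K : Set G)).subtype := by
      apply sSup_le
      intro A hA a ha
      have haM : a ∈ normalizer (Cfsg.wOf K : Set G) := hS.1 (hA.1 ha)
      have h1 : (⟨a, haM⟩ : ↥(normalizer (Cfsg.wOf K : Set G))) ∈ X :=
        hX _ ⟨A, hA, rfl⟩ (mem_subgroupOf.mpr ha)
      exact ⟨⟨a, haM⟩, h1, rfl⟩
    obtain ⟨x, hx, hxy⟩ := hle hy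
    have : x = y := Subtype.ext hxy
    rwa [← this]
  intro n hn
  have hn' : (⟨n, hn⟩ : ↥(normalizer (Cfsg.wOf K : Set G))) ∈
      normalizer (((Cfsg.wOf K).subgroupOf (normalizer (Cfsg.wOf K : Set G)) :
        Subgroup ↥(normalizer (Cfsg.wOf K : Set G))) :
        Set ↥(normalizer (Cfsg.wOf K : Set G))) := by
    rw [mem_normalizer_iff]
    intro w
    rw [mem_subgroupOf, mem_subgroupOf]
    have := (mem_normalizer_iff.mp hn) (w : G)
    simpa using this
  have main := mem_normalizer_of_normalizes_W hSetup F hJ1 hJ2 hJ3 c hP h𝒜 hJ𝒜 hn'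
  apply Cfsg.Agent.Helper49.mem_normalizer_of_conj_le
  intro y hy
  have hyM : y ∈ normalizer (Cfsg.wOf K : Set G) := hKM hy
  have h1 : (⟨y, hyM⟩ : ↥(normalizer (Cfsg.wOf K : Set G))) ∈
      K.subgroupOf (normalizer (Cfsg.wOf K : Set G)) := mem_subgroupOf.mpr hy
  have h2 := (mem_normalizer_iff.mp main _).mp h1
  rw [mem_subgroupOf] at h2
  simpa using h2

/-- **KS 12.2.4** -/
theorem normalizer_eq_and_isJComponent (hL : Cfsg.IsCharacteristicTwoType G)
    (hN : ∀ N : Subgroup G, Cfsg.IsTwoLocal N → Group.IsSolvable ↥N)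
    (hZ : ∀ S : Sylow 2 G, Subgroup.centralizer (Cfsg.omegaCenterOf (S : Subgroup G) : Set G) ≤
      Subgroup.normalizer ((S : Subgroup G) : Set G))
    (T : Subgroup G) (hT : IsPGroup 2 ↥T) (K : Subgroup G) (hK : K ∈ Cfsg.jComponentsZero T) :
    normalizer (K : Set G) = normalizer (Cfsg.wOf K : Set G) ∧
      ∀ g : G, Cfsg.thompsonSubgroupOf 2 (T.map (MulAut.conj g).toMonoidHom) ≤
          normalizer (Cfsg.wOf K : Set G) →
        Cfsg.IsJComponent (T.map (MulAut.conj g).toMonoidHom) K := by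
  have hle := normalizer_wOf_le hL hN hZ T hT K hK
  obtain ⟨S, hJS, hS, hNS, hKN⟩ := exists_sylow_normalizer_wOf hL T hT K hK
  obtain ⟨hK1, hK2⟩ := hK
  have heq : normalizer (K : Set G) = normalizer (Cfsg.wOf K : Set G) :=
    le_antisymm (normalizer_le_normalizer_wOf K) hle
  refine ⟨heq, ?_⟩
  intro g hg
  obtain ⟨n, hn, hJn⟩ := thompson_conj_of_le hT hS hJS g hg
  have hnK : n ∈ normalizer (K : Set G) := by rw [heq]; exact hn
  have h1 := isJComponent_map (MulAut.conj n) hK1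
  rw [Cfsg.Agent.Helper34.TNC.map_conj_eq_of_mem_normalizer (X := K) hnK] at h1
  refine isJComponent_congr ?_ h1
  rw [thompson_map, hJn]

end Cfsg.Agent.Helper1.JC
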