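import Mathlib
import Cfsg.Agent.Lib.Helper50.JComp1
import Cfsg.Agent.Lib.Helper50.JComp2
import Cfsg.Agent.Lib.Helper50.SubnormalSylow

/-!
# A counting lemma: an elementary abelian subgroup of maximal order normalizes a four-group `W`
whose conjugates are "orthogonal"
-/

set_option autoImplicit false
set_option linter.unusedSectionVars false
set_option linter.style.haveILetI false

namespace Cfsg.Agent.Helper1.JC

open Subgroup
open scoped commutatorElement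
open Cfsg.Agent.Helper50.JComp (mem_sup_of_commute sq_of_sup comm_of_exp_two
  four_cases zpowers_cases card_sup_zpowers)
open Cfsg.Agent.Helper50 (card_sup_mul_card_inf_of_le_normalizer)

variable {G : Type*} [Group G]

/-- conjugate of a subgroup -/
abbrev cjs (b : G) (W : Subgroup G) : Subgroup G := W.map (MulAut.conj b).toMonoidHom

theorem mem_cjs {b x : G} {W : Subgroup G} : x ∈ cjs b W ↔ ∃ w ∈ W, b * w * b⁻¹ = x := by
  unfold cjs
  rw [mem_map]
  simp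

theorem conj_mem_cjs {b w : G} {W : Subgroup G} (hw : w ∈ W) : b * w * b⁻¹ ∈ cjs b W :=
  mem_cjs.mpr ⟨w, hw, rfl⟩

theorem cjs_one (W : Subgroup G) : cjs 1 W = W := by
  ext x
  rw [mem_cjs]
  constructor
  · rintro ⟨w, hw, rfl⟩
    simpa using hw
  · intro hx
    exact ⟨x, hx, by simp⟩

theorem cjs_mul (a b : G) (W : Subgroup G) : cjs (a * b) W = cjs a (cjs b W) := by
  ext x
  rw [mem_cjs, mem_cjs]
  constructor
  · rintro ⟨w, hw, rfl⟩
    exact ⟨b * w * b⁻¹, conj_mem_cjs hw, by group⟩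
  · rintro ⟨y, hy, rfl⟩
    obtain ⟨w, hw, rfl⟩ := mem_cjs.mp hy
    exact ⟨w, hw, by group⟩

theorem card_cjs [Finite G] (b : G) (W : Subgroup G) : Nat.card (cjs b W) = Nat.card W :=
  Subgroup.card_map_of_injective (MulAut.conj b).injective

theorem cjs_eq_of_mem_normalizer {b : G} {W : Subgroup G} (hb : b ∈ normalizer (W : Set G)) :
    cjs b W = W := by
  ext x
  rw [mem_cjs]
  constructor
  · rintro ⟨w, hw, rfl⟩
    exact (mem_normalizer_iff.mp hb w).mp hw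
  · intro hx
    refine ⟨b⁻¹ * x * b, ?_, by group⟩
    have := (mem_normalizer_iff.mp (Subgroup.inv_mem _ hb) x).mp hx
    simpa using this

theorem mem_normalizer_of_cjs_eq {b : G} {W : Subgroup G} (h : cjs b W = W) :
    b ∈ normalizer (W : Set G) := by
  rw [mem_normalizer_iff]
  intro w
  constructor
  · intro hw
    rw [← h]
    exact conj_mem_cjs hw
  · intro hw
    rw [← h] at hw
    obtain ⟨w', hw', he⟩ := mem_cjs.mp hw
    have : w' = w := by
      have h1 : b⁻¹ * (b * w' * b⁻¹) * b = b⁻¹ * (b * w * b⁻¹) * b := by rw [he]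
      simpa [mul_assoc] using h1
    rwa [← this]

section cnt

variable [Finite G] {A Z W : Subgroup G} {k : G}
  (hA2 : ∀ x ∈ A, x * x = 1) (hAc : ∀ x ∈ A, ∀ y ∈ A, x * y = y * x)
  (hZ2 : ∀ z ∈ Z, z * z = 1) (hZc : ∀ x ∈ Z, ∀ y ∈ Z, x * y = y * x)
  (hAZ : A ≤ normalizer (Z : Set G)) (hWZ : W ≤ Z) (hW4 : Nat.card W = 4)
  (ha : ∀ b ∈ A, ∀ z ∈ Z, ⁅z, b * k * b⁻¹⁆ ∈ cjs b W)
  (hfpf : ∀ w ∈ W, k * w * k⁻¹ = w → w = 1)
  (horth : ∀ b ∈ A, cjs b W ≠ W → ∀ w ∈ cjs b W, k * w * k⁻¹ = w)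
include hA2 hAc hZ2 hZc hAZ hWZ hW4 ha hfpf horth

/-- `P1`: the conjugate of `k` acts fixed-point-freely on the conjugate of `W` -/
theorem cnt_fpf {b : G} {w : G} (hw : w ∈ cjs b W)
    (hfix : (b * k * b⁻¹) * w * (b * k * b⁻¹)⁻¹ = w) : w = 1 := by
  obtain ⟨w₀, hw₀, rfl⟩ := mem_cjs.mp hw
  have h1 : k * w₀ * k⁻¹ = w₀ := by
    have : b⁻¹ * ((b * k * b⁻¹) * (b * w₀ * b⁻¹) * (b * k * b⁻¹)⁻¹) * b =
        b⁻¹ * (b * w₀ * b⁻¹) * b := by rw [hfix]
    calc k * w₀ * k⁻¹ = b⁻¹ * ((b * k * b⁻¹) * (b * w₀ * b⁻¹) * (b * k * b⁻¹)⁻¹) * b := by group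
      _ = b⁻¹ * (b * w₀ * b⁻¹) * b := this
      _ = w₀ := by group
  rw [hfpf w₀ hw₀ h1]
  group

/-- `P2`: the conjugate of `k` centralizes the other conjugates of `W` -/
theorem cnt_orth {b b' : G} (hb : b ∈ A) (hb' : b' ∈ A) (hne : cjs b' W ≠ cjs b W) {w : G}
    (hw : w ∈ cjs b' W) : (b * k * b⁻¹) * w * (b * k * b⁻¹)⁻¹ = w := by
  obtain ⟨w₀, hw₀, rfl⟩ := mem_cjs.mp hw
  have hc : b⁻¹ * b' ∈ A := A.mul_mem (A.inv_mem hb) hb'
  have hne' : cjs (b⁻¹ * b') W ≠ W := by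
    intro h
    apply hne
    have : b' = b * (b⁻¹ * b') := by group
    rw [this, cjs_mul, h]
  have h1 := horth _ hc hne' _ (conj_mem_cjs (b := b⁻¹ * b') hw₀)
  calc (b * k * b⁻¹) * (b' * w₀ * b'⁻¹) * (b * k * b⁻¹)⁻¹
      = b * (k * ((b⁻¹ * b') * w₀ * (b⁻¹ * b')⁻¹) * k⁻¹) * b⁻¹ := by group
    _ = b * ((b⁻¹ * b') * w₀ * (b⁻¹ * b')⁻¹) * b⁻¹ := by rw [h1]
    _ = b' * w₀ * b'⁻¹ := by group

/-- `P4`: conjugates of `W` lie in `Z` -/
theorem cnt_le {b : G} (hb : b ∈ A) : cjs b W ≤ Z := by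
  intro x hx
  obtain ⟨w, hw, rfl⟩ := mem_cjs.mp hx
  exact (mem_normalizer_iff.mp (hAZ hb) w).mp (hWZ hw)

/-- a finite set of representatives for distinct conjugates -/
def Rep (A W : Subgroup G) (S : Finset G) : Prop :=
  (∀ b ∈ S, b ∈ A) ∧ ∀ b ∈ S, ∀ b' ∈ S, cjs b W = cjs b' W → b = b'

omit hA2 hAc hZ2 hZc hAZ hWZ hW4 ha hfpf horth in
theorem Rep.of_insert [DecidableEq G] {b₀ : G} {S : Finset G} (h : Rep A W (insert b₀ S))
    (hb₀ : b₀ ∉ S) : Rep A W S ∧ b₀ ∈ A ∧ ∀ b ∈ S, cjs b W ≠ cjs b₀ W := by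
  refine ⟨⟨fun b hb => h.1 b (Finset.mem_insert_of_mem hb), fun b hb b' hb' he =>
    h.2 b (Finset.mem_insert_of_mem hb) b' (Finset.mem_insert_of_mem hb') he⟩,
    h.1 b₀ (Finset.mem_insert_self _ _), ?_⟩
  intro b hb he
  have := h.2 b (Finset.mem_insert_of_mem hb) b₀ (Finset.mem_insert_self _ _) he
  rw [this] at hb
  exact hb₀ hb

/-- `L1a`: the conjugate of `k` by `b` centralizes the join of the other conjugates -/
theorem cnt_centralizes {S : Finset G} (hS : ∀ t ∈ S, t ∈ A) {b : G} (hb : b ∈ A)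
    (hne : ∀ t ∈ S, cjs t W ≠ cjs b W) :
    ∀ u ∈ S.sup (fun t => cjs t W), (b * k * b⁻¹) * u * (b * k * b⁻¹)⁻¹ = u := by
  have hle : S.sup (fun t => cjs t W) ≤ centralizer ({b * k * b⁻¹} : Set G) := by
    apply Finset.sup_le
    intro t ht u hu
    rw [mem_centralizer_iff]
    intro h hh
    rw [Set.mem_singleton_iff] at hh
    rw [hh]
    have := cnt_orth hA2 hAc hZ2 hZc hAZ hWZ hW4 ha hfpf horth hb (hS t ht) (hne t ht) hu
    calc b * k * b⁻¹ * u = (b * k * b⁻¹ * u * (b * k * b⁻¹)⁻¹) * (b * k * b⁻¹) := by group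
      _ = u * (b * k * b⁻¹) := by rw [this]
  intro u hu
  have := mem_centralizer_iff.mp (hle hu) (b * k * b⁻¹) rfl
  calc b * k * b⁻¹ * u * (b * k * b⁻¹)⁻¹ = (b * k * b⁻¹ * u) * (b * k * b⁻¹)⁻¹ := by group
    _ = (u * (b * k * b⁻¹)) * (b * k * b⁻¹)⁻¹ := by rw [this]
    _ = u := by group

theorem cnt_sup_le {S : Finset G} (hS : ∀ t ∈ S, t ∈ A) : S.sup (fun t => cjs t W) ≤ Z :=
  Finset.sup_le fun t ht => cnt_le hA2 hAc hZ2 hZc hAZ hWZ hW4 ha hfpf horth (hS t ht)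

/-- `L1b`: the order of the join of distinct conjugates -/
theorem cnt_card [DecidableEq G] (S : Finset G) (hS : Rep A W S) :
    Nat.card (S.sup (fun t => cjs t W) : Subgroup G) = 4 ^ S.card := by
  induction S using Finset.induction_on with
  | empty => simp
  | insert b₀ S' hb₀ ih =>
    obtain ⟨hS', hb₀A, hne⟩ := hS.of_insert hb₀
    rw [Finset.sup_insert, Finset.card_insert_of_notMem hb₀]
    have hU'Z := cnt_sup_le hA2 hAc hZ2 hZc hAZ hWZ hW4 ha hfpf horth hS'.1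
    have hωZ := cnt_le hA2 hAc hZ2 hZc hAZ hWZ hW4 ha hfpf horth hb₀A
    have hn : S'.sup (fun t => cjs t W) ≤ normalizer ((cjs b₀ W : Subgroup G) : Set G) := by
      intro u hu
      rw [mem_normalizer_iff]
      intro w
      constructor
      · intro hw
        have : u * w * u⁻¹ = w := by rw [hZc u (hU'Z hu) w (hωZ hw)]; group
        rw [this]; exact hw
      · intro hw
        have h1 : w = u⁻¹ * (u * w * u⁻¹) * u := by group
        have h2 : u⁻¹ * (u * w * u⁻¹) * u = u * w * u⁻¹ := by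
          have := hZc u⁻¹ (Z.inv_mem (hU'Z hu)) (u * w * u⁻¹) (hωZ hw)
          rw [this]; group
        rw [h1, h2]; exact hw
    have h1 := card_sup_mul_card_inf_of_le_normalizer (cjs b₀ W) (S'.sup (fun t => cjs t W)) hn
    have h2 : cjs b₀ W ⊓ S'.sup (fun t => cjs t W) = ⊥ := by
      rw [eq_bot_iff]
      intro x hx
      rw [mem_bot]
      apply cnt_fpf hA2 hAc hZ2 hZc hAZ hWZ hW4 ha hfpf horth (mem_inf.mp hx).1
      exact cnt_centralizes hA2 hAc hZ2 hZc hAZ hWZ hW4 ha hfpf horth hS'.1 hb₀A hne x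
        (mem_inf.mp hx).2
    rw [h2, Subgroup.card_bot, mul_one, card_cjs, hW4, ih hS'] at h1
    rw [h1, pow_succ, mul_comm]

/-- `L2`: an element of the join centralized by all conjugates of `k` is trivial -/
theorem cnt_eq_one [DecidableEq G] (S : Finset G) (hS : Rep A W S) :
    ∀ u ∈ S.sup (fun t => cjs t W),
      (∀ t ∈ S, (t * k * t⁻¹) * u * (t * k * t⁻¹)⁻¹ = u) → u = 1 := by
  induction S using Finset.induction_on with
  | empty =>
    intro u hu _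
    simpa using hu
  | insert b₀ S' hb₀ ih =>
    obtain ⟨hS', hb₀A, hne⟩ := hS.of_insert hb₀
    intro u hu hfix
    rw [Finset.sup_insert] at hu
    have hU'Z := cnt_sup_le hA2 hAc hZ2 hZc hAZ hWZ hW4 ha hfpf horth hS'.1
    have hωZ := cnt_le hA2 hAc hZ2 hZc hAZ hWZ hW4 ha hfpf horth hb₀A
    obtain ⟨w, hw, u', hu', rfl⟩ := mem_sup_of_commute
      (fun x hx y hy => hZc x (hωZ hx) y (hU'Z hy)) hu
    have hc' := cnt_centralizes hA2 hAc hZ2 hZc hAZ hWZ hW4 ha hfpf horth hS'.1 hb₀A hne u' hu'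
    have hcu := hfix b₀ (Finset.mem_insert_self _ _)
    have hw1 : w = 1 := by
      apply cnt_fpf hA2 hAc hZ2 hZc hAZ hWZ hW4 ha hfpf horth hw
      calc (b₀ * k * b₀⁻¹) * w * (b₀ * k * b₀⁻¹)⁻¹
          = ((b₀ * k * b₀⁻¹) * (w * u') * (b₀ * k * b₀⁻¹)⁻¹) *
            ((b₀ * k * b₀⁻¹) * u' * (b₀ * k * b₀⁻¹)⁻¹)⁻¹ := by group
        _ = w * u' * u'⁻¹ := by rw [hcu, hc']
        _ = w := by group
    rw [hw1, one_mul]
    apply ih hS' u' hu'
    intro t ht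
    have := hfix t (Finset.mem_insert_of_mem ht)
    rwa [hw1, one_mul] at this

omit hA2 hAc hZ2 hZc hAZ hWZ hW4 ha hfpf horth in
/-- existence of a full set of representatives containing `1` -/
theorem exists_rep (A W : Subgroup G) : ∃ S : Finset G, Rep A W S ∧ (1 : G) ∈ S ∧
    ∀ b ∈ A, ∃ t ∈ S, cjs b W = cjs t W := by
  classical
  haveI : Fintype G := Fintype.ofFinite G
  let 𝒮 : Finset (Finset G) := Finset.univ.filter (fun S => Rep A W S ∧ (1 : G) ∈ S)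
  have hne : 𝒮.Nonempty := by
    refine ⟨{1}, ?_⟩
    rw [Finset.mem_filter]
    refine ⟨Finset.mem_univ _, ⟨?_, ?_⟩, Finset.mem_singleton_self 1⟩
    · intro b hb
      rw [Finset.mem_singleton] at hb
      rw [hb]; exact A.one_mem
    · intro b hb b' hb' _
      rw [Finset.mem_singleton] at hb hb'
      rw [hb, hb']
  obtain ⟨S, hS𝒮, hmaxS⟩ := Finset.exists_max_image 𝒮 Finset.card hne
  rw [Finset.mem_filter] at hS𝒮
  obtain ⟨-, hS, h1S⟩ := hS𝒮
  refine ⟨S, hS, h1S, ?_⟩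
  intro b hb
  by_contra hcon
  push Not at hcon
  have hbS : b ∉ S := fun hbS => hcon b hbS rfl
  have hins : insert b S ∈ 𝒮 := by
    rw [Finset.mem_filter]
    refine ⟨Finset.mem_univ _, ⟨?_, ?_⟩, Finset.mem_insert_of_mem h1S⟩
    · intro x hx
      rcases Finset.mem_insert.mp hx with rfl | hx
      · exact hb
      · exact hS.1 x hx
    · intro x hx y hy he
      rcases Finset.mem_insert.mp hx with hxb | hx
      · rcases Finset.mem_insert.mp hy with hyb | hy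
        · rw [hxb, hyb]
        · rw [hxb] at he
          exact absurd he (hcon y hy)
      · rcases Finset.mem_insert.mp hy with hyb | hy
        · rw [hyb] at he
          exact absurd he.symm (hcon x hx)
        · exact hS.2 x hx y hy he
  have := hmaxS _ hins
  rw [Finset.card_insert_of_notMem hbS] at this
  omega

omit [Finite G] hA2 hAc hZ2 hZc hAZ hWZ hW4 ha hfpf horth in
/-- two commuting involutions normalizing a four-group, one of them acting nontrivially -/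
theorem four_index [Finite G] {W : Subgroup G} (hW4 : Nat.card W = 4) (hW2 : ∀ w ∈ W, w * w = 1)
    {b₁ b₂ : G} (h₁2 : b₁ * b₁ = 1) (h12 : b₁ * b₂ = b₂ * b₁)
    (h₁W : ∀ w ∈ W, b₁ * w * b₁⁻¹ ∈ W) (h₂W : ∀ w ∈ W, b₂ * w * b₂⁻¹ ∈ W)
    {w₀ : G} (hw₀ : w₀ ∈ W) (hmove : b₁ * w₀ * b₁⁻¹ ≠ w₀) :
    (∀ w ∈ W, b₂ * w * b₂⁻¹ = w) ∨ (∀ w ∈ W, (b₁ * b₂) * w * (b₁ * b₂)⁻¹ = w) := by
  have hWc := comm_of_exp_two hW2
  have hb₁inv : b₁⁻¹ = b₁ := inv_eq_of_mul_eq_one_left h₁2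
  obtain ⟨f, hf⟩ : ∃ f, f = w₀ * (b₁ * w₀ * b₁⁻¹) := ⟨_, rfl⟩
  have hfW : f ∈ W := by rw [hf]; exact W.mul_mem hw₀ (h₁W w₀ hw₀)
  have hw₀2 := hW2 w₀ hw₀
  have hf1 : f ≠ 1 := by
    intro h1
    apply hmove
    rw [hf] at h1
    have : b₁ * w₀ * b₁⁻¹ = w₀⁻¹ := by
      calc b₁ * w₀ * b₁⁻¹ = w₀⁻¹ * (w₀ * (b₁ * w₀ * b₁⁻¹)) := by group
        _ = w₀⁻¹ := by rw [h1, mul_one]
    rw [this]
    exact inv_eq_of_mul_eq_one_left hw₀2
  have hb₁f : b₁ * f * b₁⁻¹ = f := by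
    rw [hf]
    calc b₁ * (w₀ * (b₁ * w₀ * b₁⁻¹)) * b₁⁻¹
        = (b₁ * w₀ * b₁⁻¹) * ((b₁ * b₁) * w₀ * (b₁ * b₁)⁻¹) := by group
      _ = (b₁ * w₀ * b₁⁻¹) * w₀ := by rw [h₁2]; group
      _ = w₀ * (b₁ * w₀ * b₁⁻¹) := hWc _ (h₁W w₀ hw₀) _ hw₀
  have hf2 := hW2 f hfW
  have hw₀1 : w₀ ≠ 1 := by
    intro h1
    apply hmove
    rw [h1]; group
  have hw₀f : w₀ ∉ zpowers f := by
    intro hz
    rcases zpowers_cases hf2 hz with hh | hh
    · exact hw₀1 hh
    · apply hmove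
      rw [hh]; exact hb₁f
  have hfour := four_cases hW4 hW2 hfW hw₀ hf1 hw₀f
  have hb₁w₀ : b₁ * w₀ * b₁⁻¹ = f * w₀ := by
    rw [hf]
    calc b₁ * w₀ * b₁⁻¹ = (w₀ * w₀) * (b₁ * w₀ * b₁⁻¹) := by rw [hw₀2, one_mul]
      _ = w₀ * (w₀ * (b₁ * w₀ * b₁⁻¹)) := by group
      _ = w₀ * ((b₁ * w₀ * b₁⁻¹) * w₀) := by rw [hWc w₀ hw₀ _ (h₁W w₀ hw₀)]
      _ = w₀ * (b₁ * w₀ * b₁⁻¹) * w₀ := by group
  have hb₁fw : b₁ * (f * w₀) * b₁⁻¹ = w₀ := by
    calc b₁ * (f * w₀) * b₁⁻¹ = (b₁ * f * b₁⁻¹) * (b₁ * w₀ * b₁⁻¹) := by group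
      _ = f * (f * w₀) := by rw [hb₁f, hb₁w₀]
      _ = (f * f) * w₀ := by group
      _ = w₀ := by rw [hf2, one_mul]
  have hfw_ne : f * w₀ ≠ w₀ := by
    intro h
    apply hf1
    calc f = (f * w₀) * w₀⁻¹ := by group
      _ = 1 := by rw [h]; group
  have conj_ne_one : ∀ g x : G, x ≠ 1 → g * x * g⁻¹ ≠ 1 := by
    intro g x hx hh
    apply hx
    calc x = g⁻¹ * (g * x * g⁻¹) * g := by group
      _ = 1 := by rw [hh]; group
  have conj_inj : ∀ g x y : G, g * x * g⁻¹ = g * y * g⁻¹ → x = y := by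
    intro g x y h
    calc x = g⁻¹ * (g * x * g⁻¹) * g := by group
      _ = g⁻¹ * (g * y * g⁻¹) * g := by rw [h]
      _ = y := by group
  -- `b₂` fixes `f`
  have hb₂f : b₂ * f * b₂⁻¹ = f := by
    have hg := h₂W f hfW
    have hfix : b₁ * (b₂ * f * b₂⁻¹) * b₁⁻¹ = b₂ * f * b₂⁻¹ := by
      calc b₁ * (b₂ * f * b₂⁻¹) * b₁⁻¹ = (b₁ * b₂) * f * (b₁ * b₂)⁻¹ := by group
        _ = (b₂ * b₁) * f * (b₂ * b₁)⁻¹ := by rw [h12]
        _ = b₂ * (b₁ * f * b₁⁻¹) * b₂⁻¹ := by group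
        _ = b₂ * f * b₂⁻¹ := by rw [hb₁f]
    rcases hfour _ hg with hh | hh | hh | hh
    · exact absurd hh (conj_ne_one _ _ hf1)
    · exact hh
    · exfalso
      rw [hh] at hfix
      exact hmove hfix
    · exfalso
      rw [hh, hb₁fw] at hfix
      exact hfw_ne hfix.symm
  have hall : ∀ b : G, b * f * b⁻¹ = f → b * w₀ * b⁻¹ = w₀ → ∀ w ∈ W, b * w * b⁻¹ = w := by
    intro b h1 h2 w hw
    rcases hfour w hw with hh | hh | hh | hh
    · rw [hh]; group
    · rw [hh]; exact h1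
    · rw [hh]; exact h2
    · rw [hh]
      calc b * (f * w₀) * b⁻¹ = (b * f * b⁻¹) * (b * w₀ * b⁻¹) := by group
        _ = f * w₀ := by rw [h1, h2]
  rcases hfour _ (h₂W w₀ hw₀) with hh | hh | hh | hh
  · exact absurd hh (conj_ne_one _ _ hw₀1)
  · exfalso
    rw [← hb₂f] at hh
    have := conj_inj _ _ _ hh
    apply hw₀f
    rw [this]; exact mem_zpowers f
  · left
    exact hall b₂ hb₂f hh
  · right
    apply hall
    · calc (b₁ * b₂) * f * (b₁ * b₂)⁻¹ = b₁ * (b₂ * f * b₂⁻¹) * b₁⁻¹ := by group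
        _ = f := by rw [hb₂f, hb₁f]
    · calc (b₁ * b₂) * w₀ * (b₁ * b₂)⁻¹ = b₁ * (b₂ * w₀ * b₂⁻¹) * b₁⁻¹ := by group
        _ = w₀ := by rw [hh, hb₁fw]

omit [Finite G] hA2 hAc hZ2 hZc hAZ hWZ hW4 ha hfpf horth in
theorem le_normalizer_of_comm {H K : Subgroup G} (h : ∀ x ∈ K, ∀ y ∈ H, x * y = y * x) :
    K ≤ normalizer (H : Set G) := by
  intro u hu
  rw [mem_normalizer_iff]
  intro w
  constructor
  · intro hw
    have : u * w * u⁻¹ = w := by rw [h u hu w hw]; group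
    rw [this]; exact hw
  · intro hw
    have h1 : w = u⁻¹ * (u * w * u⁻¹) * u := by group
    have h2 : u⁻¹ * (u * w * u⁻¹) * u = u * w * u⁻¹ := by
      have := h u⁻¹ (K.inv_mem hu) (u * w * u⁻¹) hw
      rw [this]; group
    rw [h1, h2]; exact hw

omit hA2 hAc hZ2 hZc hAZ hWZ hW4 ha hfpf horth in
theorem card_sup_le_mul (H K : Subgroup G) (h : ∀ x ∈ K, ∀ y ∈ H, x * y = y * x) :
    Nat.card (H ⊔ K : Subgroup G) ≤ Nat.card H * Nat.card K := by
  have h1 := card_sup_mul_card_inf_of_le_normalizer H K (le_normalizer_of_comm h)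
  rw [← h1]
  exact Nat.le_mul_of_pos_right _ Nat.card_pos

omit hA2 hAc hZ2 hZc hAZ hWZ hW4 ha hfpf horth in
theorem card_sup_of_inf_eq_bot (H K : Subgroup G) (h : ∀ x ∈ K, ∀ y ∈ H, x * y = y * x)
    (hd : H ⊓ K = ⊥) : Nat.card (H ⊔ K : Subgroup G) = Nat.card H * Nat.card K := by
  have h1 := card_sup_mul_card_inf_of_le_normalizer H K (le_normalizer_of_comm h)
  rw [hd, Subgroup.card_bot, mul_one] at h1
  exact h1

omit [Finite G] hA2 hAc hZ2 hZc hAZ hWZ hW4 ha hfpf horth in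
theorem four_mul_lt_four_pow : ∀ n : ℕ, 2 ≤ n → 4 * n < 4 ^ n := by
  intro n hn
  induction n, hn using Nat.le_induction with
  | base => norm_num
  | succ n hn ih =>
    rw [pow_succ]
    omega

/-- the counting lemma -/
theorem cnt_main
    (hmax : ∀ E : Subgroup G, E ≤ A ⊔ Z → (∀ x ∈ E, x * x = 1) → Nat.card E ≤ Nat.card A) :
    ∀ b ∈ A, cjs b W = W := by
  classical
  obtain ⟨S, hS, h1S, hfull⟩ := exists_rep A W
  obtain ⟨f, hf⟩ : ∃ f : G → Subgroup G, f = fun t => cjs t W := ⟨_, rfl⟩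
  have hfa : ∀ t, f t = cjs t W := fun t => by rw [hf]
  obtain ⟨U, hU⟩ : ∃ U, U = S.sup f := ⟨_, rfl⟩
  obtain ⟨U', hU'⟩ : ∃ U', U' = (S.erase 1).sup f := ⟨_, rfl⟩
  have hS' : Rep A W (S.erase 1) :=
    ⟨fun b hb => hS.1 b (Finset.mem_of_mem_erase hb), fun b hb b' hb' he =>
      hS.2 b (Finset.mem_of_mem_erase hb) b' (Finset.mem_of_mem_erase hb') he⟩
  have hUeq : U = W ⊔ U' := by
    have h1 : S.sup f = (insert 1 (S.erase 1)).sup f := by rw [Finset.insert_erase h1S]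
    rw [hU, hU', h1, Finset.sup_insert, hfa, cjs_one]
  have hUZ : U ≤ Z := by
    rw [hU, hf]; exact cnt_sup_le hA2 hAc hZ2 hZc hAZ hWZ hW4 ha hfpf horth hS.1
  have hU'U : U' ≤ U := by
    rw [hU, hU']; exact Finset.sup_mono (Finset.erase_subset _ _)
  have hU'Z : U' ≤ Z := hU'U.trans hUZ
  have hcardU : Nat.card U = 4 ^ S.card := by
    rw [hU, hf]; exact cnt_card hA2 hAc hZ2 hZc hAZ hWZ hW4 ha hfpf horth S hS
  have hkU' : ∀ u ∈ U', k * u * k⁻¹ = u := by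
    intro u hu
    have hne : ∀ t ∈ S.erase 1, cjs t W ≠ cjs 1 W := by
      intro t ht he
      have := hS.2 t (Finset.mem_of_mem_erase ht) 1 h1S he
      exact (Finset.ne_of_mem_erase ht) this
    have := cnt_centralizes hA2 hAc hZ2 hZc hAZ hWZ hW4 ha hfpf horth hS'.1 A.one_mem hne u
      (by rw [hU', hf] at hu; exact hu)
    simpa using this
  have hWU' : W ⊓ U' = ⊥ := by
    rw [eq_bot_iff]; intro x hx; rw [mem_bot]
    exact hfpf x (mem_inf.mp hx).1 (hkU' x (mem_inf.mp hx).2)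
  obtain ⟨A₀, hA₀⟩ : ∃ A₀, A₀ = A ⊓ centralizer (W : Set G) := ⟨_, rfl⟩
  obtain ⟨A₁, hA₁⟩ : ∃ A₁, A₁ = A ⊓ normalizer (W : Set G) := ⟨_, rfl⟩
  have hA₀A : A₀ ≤ A := by rw [hA₀]; exact inf_le_left
  have hA₁A : A₁ ≤ A := by rw [hA₁]; exact inf_le_left
  have hA₀C : A₀ ≤ centralizer (W : Set G) := by rw [hA₀]; exact inf_le_right
  have hA₁N : A₁ ≤ normalizer (W : Set G) := by rw [hA₁]; exact inf_le_right
  have hW2 : ∀ w ∈ W, w * w = 1 := fun w hw => hZ2 w (hWZ hw)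
  -- `A₀` centralizes `U`
  have hA₀U : ∀ a ∈ A₀, ∀ u ∈ U, a * u = u * a := by
    have hle : U ≤ centralizer (A₀ : Set G) := by
      rw [hU]
      apply Finset.sup_le
      intro t ht x hx
      rw [hfa] at hx
      rw [mem_centralizer_iff]
      intro a haA₀
      obtain ⟨w, hw, rfl⟩ := mem_cjs.mp hx
      have hat : a * t = t * a := hAc a (hA₀A haA₀) t (hS.1 t ht)
      have haw : w * a = a * w := mem_centralizer_iff.mp (hA₀C haA₀) w hw
      have hat' : a * t⁻¹ = t⁻¹ * a := by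
        calc a * t⁻¹ = t⁻¹ * (t * a) * t⁻¹ := by group
          _ = t⁻¹ * (a * t) * t⁻¹ := by rw [hat]
          _ = t⁻¹ * a := by group
      calc a * (t * w * t⁻¹) = (a * t) * w * t⁻¹ := by group
        _ = (t * a) * w * t⁻¹ := by rw [hat]
        _ = t * (a * w) * t⁻¹ := by group
        _ = t * (w * a) * t⁻¹ := by rw [haw]
        _ = t * w * (a * t⁻¹) := by group
        _ = t * w * (t⁻¹ * a) := by rw [hat']
        _ = t * w * t⁻¹ * a := by group
    intro a haA₀ u hu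
    exact mem_centralizer_iff.mp (hle hu) a haA₀
  have hE2 : ∀ x ∈ A₀ ⊔ U, x * x = 1 :=
    sq_of_sup (fun x hx => hA2 x (hA₀A hx)) (fun x hx => hZ2 x (hUZ hx)) hA₀U
  have hEcard : Nat.card (A₀ ⊔ U : Subgroup G) ≤ Nat.card A :=
    hmax _ (sup_le_sup hA₀A hUZ) hE2
  have hprod : Nat.card (A₀ ⊔ U : Subgroup G) * Nat.card (A₀ ⊓ U : Subgroup G) =
      Nat.card A₀ * Nat.card U :=
    card_sup_mul_card_inf_of_le_normalizer A₀ U
      (le_normalizer_of_comm (fun x hx y hy => (hA₀U y hy x hx).symm))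
  -- `|A| ≤ m |A₁|`
  have hF4 : Nat.card A ≤ S.card * Nat.card A₁ := by
    have hτ : ∀ b : A, ∃ t : S, cjs (b : G) W = cjs (t : G) W := fun b =>
      let ⟨t, ht, he⟩ := hfull b b.2
      ⟨⟨t, ht⟩, he⟩
    choose τ hτ using hτ
    have hmem : ∀ b : A, ((τ b : G))⁻¹ * (b : G) ∈ A₁ := by
      intro b
      rw [hA₁]
      refine mem_inf.mpr ⟨A.mul_mem (A.inv_mem (hS.1 _ (τ b).2)) b.2, ?_⟩
      apply mem_normalizer_of_cjs_eq
      rw [cjs_mul, hτ b, ← cjs_mul, inv_mul_cancel, cjs_one]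
    let φ : A → S × A₁ := fun b => (τ b, ⟨((τ b : G))⁻¹ * (b : G), hmem b⟩)
    have hinj : Function.Injective φ := by
      intro b b' hbb
      have h1 : τ b = τ b' := congrArg Prod.fst hbb
      have h2 : ((τ b : G))⁻¹ * (b : G) = ((τ b' : G))⁻¹ * (b' : G) :=
        congrArg (fun x => ((x.2 : A₁) : G)) hbb
      rw [h1] at h2
      exact Subtype.ext (mul_left_cancel h2)
    have := Nat.card_le_card_of_injective φ hinj
    rw [Nat.card_prod] at this
    have hcS : Nat.card S = S.card := by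
      rw [Nat.card_eq_fintype_card, Fintype.card_coe]
    rwa [hcS] at this
  -- an element of `A` in `U'` is trivial
  have hα : ∀ u ∈ A, u ∈ U' → u = 1 := by
    intro u huA huU'
    apply cnt_eq_one hA2 hAc hZ2 hZc hAZ hWZ hW4 ha hfpf horth S hS u
      (by have := hU'U huU'; rw [hU, hf] at this; exact this)
    intro t ht
    have htu : t * u = u * t := hAc t (hS.1 t ht) u huA
    have hku := hkU' u huU'
    have h3 : t⁻¹ * u * t = u := by
      calc t⁻¹ * u * t = t⁻¹ * (u * t) := by group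
        _ = t⁻¹ * (t * u) := by rw [htu]
        _ = u := by group
    calc t * k * t⁻¹ * u * (t * k * t⁻¹)⁻¹ = t * (k * (t⁻¹ * u * t) * k⁻¹) * t⁻¹ := by group
      _ = t * (k * u * k⁻¹) * t⁻¹ := by rw [h3]
      _ = t * u * t⁻¹ := by rw [hku]
      _ = u := by rw [htu]; group
  have hAU'bot : (A₀ ⊓ U) ⊓ U' = ⊥ := by
    rw [eq_bot_iff]; intro x hx; rw [mem_bot]
    exact hα x (hA₀A (mem_inf.mp (mem_inf.mp hx).1).1) (mem_inf.mp hx).2
  have hc1 : Nat.card ((A₀ ⊓ U) ⊔ U' : Subgroup G) = Nat.card (A₀ ⊓ U : Subgroup G) * Nat.card U' :=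
    card_sup_of_inf_eq_bot _ _
      (fun x hx y hy => hZc x (hU'Z hx) y (hUZ (mem_inf.mp hy).2)) hAU'bot
  have hcardU2 : Nat.card U = 4 * Nat.card U' := by
    rw [hUeq, card_sup_of_inf_eq_bot W U' (fun x hx y hy => hZc x (hU'Z hx) y (hWZ hy)) hWU', hW4]
  have hU'pos : 0 < Nat.card U' := Nat.card_pos
  -- (I3)
  have hF5 : Nat.card A₁ * Nat.card (A₀ ⊓ U : Subgroup G) ≤ 4 * Nat.card A₀ := by
    by_cases hcase : A₁ ≤ A₀
    · have h1 : Nat.card A₁ ≤ Nat.card A₀ := Subgroup.card_le_of_le hcase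
      have h2 : (A₀ ⊓ U) ⊔ U' ≤ U := sup_le inf_le_right hU'U
      have h3 : Nat.card (A₀ ⊓ U : Subgroup G) * Nat.card U' ≤ 4 * Nat.card U' := by
        rw [← hc1, ← hcardU2]; exact Subgroup.card_le_of_le h2
      have h4 : Nat.card (A₀ ⊓ U : Subgroup G) ≤ 4 := Nat.le_of_mul_le_mul_right h3 hU'pos
      calc Nat.card A₁ * Nat.card (A₀ ⊓ U : Subgroup G) ≤ Nat.card A₀ * 4 := Nat.mul_le_mul h1 h4
        _ = 4 * Nat.card A₀ := mul_comm _ _
    · obtain ⟨b₁, hb₁, hb₁0⟩ := SetLike.not_le_iff_exists.mp hcase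
      have hb₁A : b₁ ∈ A := hA₁A hb₁
      have hb₁N : b₁ ∈ normalizer (W : Set G) := hA₁N hb₁
      have hb₁C : b₁ ∉ centralizer (W : Set G) := fun h =>
        hb₁0 (by rw [hA₀]; exact mem_inf.mpr ⟨hb₁A, h⟩)
      obtain ⟨w₀, hw₀, hmove⟩ : ∃ w₀ ∈ W, b₁ * w₀ * b₁⁻¹ ≠ w₀ := by
        by_contra hcon
        push Not at hcon
        apply hb₁C
        rw [mem_centralizer_iff]
        intro w hw
        have := hcon w hw
        calc w * b₁ = (b₁ * w * b₁⁻¹) * b₁ := by rw [this]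
          _ = b₁ * w := by group
      have hb₁2 := hA2 b₁ hb₁A
      have hnW : ∀ b ∈ normalizer (W : Set G), ∀ w ∈ W, b * w * b⁻¹ ∈ W :=
        fun b hb w hw => (mem_normalizer_iff.mp hb w).mp hw
      have hcent : ∀ b : G, (∀ w ∈ W, b * w * b⁻¹ = w) → b ∈ centralizer (W : Set G) := by
        intro b h
        rw [mem_centralizer_iff]
        intro w hw
        calc w * b = (b * w * b⁻¹) * b := by rw [h w hw]
          _ = b * w := by group
      have hA₁le : A₁ ≤ A₀ ⊔ zpowers b₁ := by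
        intro b₂ hb₂
        have hb₂A : b₂ ∈ A := hA₁A hb₂
        have hb₂N : b₂ ∈ normalizer (W : Set G) := hA₁N hb₂
        rcases four_index hW4 hW2 hb₁2 (hAc b₁ hb₁A b₂ hb₂A) (hnW b₁ hb₁N) (hnW b₂ hb₂N) hw₀ hmove
          with h | h
        · apply mem_sup_left
          rw [hA₀]
          exact mem_inf.mpr ⟨hb₂A, hcent b₂ h⟩
        · have h12 : b₁ * b₂ ∈ A₀ := by
            rw [hA₀]
            exact mem_inf.mpr ⟨A.mul_mem hb₁A hb₂A, hcent _ h⟩
          have : b₂ = (b₁ * b₂) * b₁ := by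
            rw [hAc b₁ hb₁A b₂ hb₂A, mul_assoc, hb₁2, mul_one]
          rw [this]
          exact mul_mem (mem_sup_left h12) (mem_sup_right (mem_zpowers b₁))
      have hcard1 : Nat.card A₁ ≤ 2 * Nat.card A₀ := by
        calc Nat.card A₁ ≤ Nat.card (A₀ ⊔ zpowers b₁ : Subgroup G) := Subgroup.card_le_of_le hA₁le
          _ = 2 * Nat.card A₀ :=
            card_sup_zpowers hb₁2 hb₁0 (fun h hh => hAc b₁ hb₁A h (hA₀A hh))
      -- `b₁` normalizes `U'`
      have hb₁U' : ∀ u ∈ U', b₁ * u * b₁⁻¹ ∈ U' := by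
        have hle : (S.erase 1).sup f ≤ U'.comap (MulAut.conj b₁).toMonoidHom := by
          apply Finset.sup_le
          intro t ht x hx
          rw [hfa] at hx
          rw [mem_comap]
          show b₁ * x * b₁⁻¹ ∈ U'
          obtain ⟨w, hw, rfl⟩ := mem_cjs.mp hx
          have htA := hS.1 t (Finset.mem_of_mem_erase ht)
          obtain ⟨t', ht', he⟩ := hfull (b₁ * t) (A.mul_mem hb₁A htA)
          have ht'1 : t' ≠ 1 := by
            intro h1
            rw [h1, cjs_one, cjs_mul] at he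
            have h2 : cjs t W = W := by
              have := congrArg (cjs b₁⁻¹) he
              rw [← cjs_mul, inv_mul_cancel, cjs_one,
                cjs_eq_of_mem_normalizer (inv_mem hb₁N)] at this
              exact this
            have := hS.2 t (Finset.mem_of_mem_erase ht) 1 h1S (by rw [h2, cjs_one])
            exact Finset.ne_of_mem_erase ht this
          have hmem : b₁ * (t * w * t⁻¹) * b₁⁻¹ ∈ cjs t' W := by
            rw [← he]
            have : b₁ * (t * w * t⁻¹) * b₁⁻¹ = (b₁ * t) * w * (b₁ * t)⁻¹ := by group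
            rw [this]; exact conj_mem_cjs hw
          rw [hU']
          have hle' : f t' ≤ (S.erase 1).sup f :=
            Finset.le_sup (f := f) (Finset.mem_erase.mpr ⟨ht'1, ht'⟩)
          rw [hfa] at hle'
          exact hle' hmem
        intro u hu
        rw [hU'] at hu
        exact hle hu
      obtain ⟨W₁, hW₁⟩ : ∃ W₁, W₁ = W ⊓ centralizer ({b₁} : Set G) := ⟨_, rfl⟩
      have hW₁W : W₁ ≤ W := by rw [hW₁]; exact inf_le_left
      have hW₁card : Nat.card W₁ ≤ 2 := by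
        have hdvd : Nat.card W₁ ∣ 4 := by
          rw [← hW4]; exact Subgroup.card_dvd_of_le hW₁W
        have hne4 : Nat.card W₁ ≠ 4 := by
          intro h4
          have heq : W₁ = W := Subgroup.eq_of_le_of_card_ge hW₁W (by rw [h4, hW4])
          have hw₀1 : w₀ ∈ W₁ := by rw [heq]; exact hw₀
          rw [hW₁] at hw₀1
          have := mem_centralizer_iff.mp (mem_inf.mp hw₀1).2 b₁ rfl
          apply hmove
          rw [this]; group
        have hle4 := Nat.le_of_dvd (by norm_num) hdvd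
        have hne3 : Nat.card W₁ ≠ 3 := by
          intro h3
          rw [h3] at hdvd
          omega
        omega
      have hsub : A₀ ⊓ U ≤ W₁ ⊔ U' := by
        intro u hu
        have huA : u ∈ A := hA₀A (mem_inf.mp hu).1
        have huU : u ∈ W ⊔ U' := by rw [← hUeq]; exact (mem_inf.mp hu).2
        obtain ⟨w, hw, u', hu', rfl⟩ := mem_sup_of_commute
          (fun x hx y hy => hZc x (hWZ hx) y (hU'Z hy)) huU
        have hbu : b₁ * (w * u') * b₁⁻¹ = w * u' := by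
          rw [hAc b₁ hb₁A _ huA]; group
        have hx1 : w⁻¹ * (b₁ * w * b₁⁻¹) ∈ W := W.mul_mem (W.inv_mem hw) (hnW b₁ hb₁N w hw)
        have hx2 : w⁻¹ * (b₁ * w * b₁⁻¹) = u' * (b₁ * u' * b₁⁻¹)⁻¹ := by
          calc w⁻¹ * (b₁ * w * b₁⁻¹) = w⁻¹ * (b₁ * (w * u') * b₁⁻¹) * (b₁ * u' * b₁⁻¹)⁻¹ := by group
            _ = w⁻¹ * (w * u') * (b₁ * u' * b₁⁻¹)⁻¹ := by rw [hbu]
            _ = u' * (b₁ * u' * b₁⁻¹)⁻¹ := by group
        have hx3 : w⁻¹ * (b₁ * w * b₁⁻¹) ∈ U' := by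
          rw [hx2]; exact U'.mul_mem hu' (U'.inv_mem (hb₁U' u' hu'))
        have hx4 : w⁻¹ * (b₁ * w * b₁⁻¹) = 1 := by
          have : w⁻¹ * (b₁ * w * b₁⁻¹) ∈ W ⊓ U' := mem_inf.mpr ⟨hx1, hx3⟩
          rw [hWU', mem_bot] at this
          exact this
        have hwfix : b₁ * w * b₁⁻¹ = w := by
          calc b₁ * w * b₁⁻¹ = w * (w⁻¹ * (b₁ * w * b₁⁻¹)) := by group
            _ = w := by rw [hx4, mul_one]
        have hwW₁ : w ∈ W₁ := by
          rw [hW₁]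
          refine mem_inf.mpr ⟨hw, ?_⟩
          rw [mem_centralizer_iff]
          intro h hh
          rw [Set.mem_singleton_iff] at hh
          rw [hh]
          calc b₁ * w = (b₁ * w * b₁⁻¹) * b₁ := by group
            _ = w * b₁ := by rw [hwfix]
        exact mul_mem (mem_sup_left hwW₁) (mem_sup_right hu')
      have h2 : (A₀ ⊓ U) ⊔ U' ≤ W₁ ⊔ U' := sup_le hsub le_sup_right
      have h3 : Nat.card (A₀ ⊓ U : Subgroup G) * Nat.card U' ≤ 2 * Nat.card U' := by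
        calc Nat.card (A₀ ⊓ U : Subgroup G) * Nat.card U'
            = Nat.card ((A₀ ⊓ U) ⊔ U' : Subgroup G) := hc1.symm
          _ ≤ Nat.card (W₁ ⊔ U' : Subgroup G) := Subgroup.card_le_of_le h2
          _ ≤ Nat.card W₁ * Nat.card U' :=
            card_sup_le_mul _ _ (fun x hx y hy => hZc x (hU'Z hx) y (hWZ (hW₁W hy)))
          _ ≤ 2 * Nat.card U' := Nat.mul_le_mul_right _ hW₁card
      have h4 : Nat.card (A₀ ⊓ U : Subgroup G) ≤ 2 := Nat.le_of_mul_le_mul_right h3 hU'pos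
      calc Nat.card A₁ * Nat.card (A₀ ⊓ U : Subgroup G) ≤ (2 * Nat.card A₀) * 2 :=
            Nat.mul_le_mul hcard1 h4
        _ = 4 * Nat.card A₀ := by ring
  -- arithmetic
  have hA₀pos : 0 < Nat.card A₀ := Nat.card_pos
  have hfin : Nat.card A₀ * 4 ^ S.card ≤ Nat.card A₀ * (4 * S.card) := by
    calc Nat.card A₀ * 4 ^ S.card = Nat.card (A₀ ⊔ U : Subgroup G) * Nat.card (A₀ ⊓ U : Subgroup G) := by
          rw [hprod, hcardU]
      _ ≤ Nat.card A * Nat.card (A₀ ⊓ U : Subgroup G) := Nat.mul_le_mul_right _ hEcard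
      _ ≤ (S.card * Nat.card A₁) * Nat.card (A₀ ⊓ U : Subgroup G) := Nat.mul_le_mul_right _ hF4
      _ = S.card * (Nat.card A₁ * Nat.card (A₀ ⊓ U : Subgroup G)) := by ring
      _ ≤ S.card * (4 * Nat.card A₀) := Nat.mul_le_mul_left _ hF5
      _ = Nat.card A₀ * (4 * S.card) := by ring
  have hm : 4 ^ S.card ≤ 4 * S.card := Nat.le_of_mul_le_mul_left hfin hA₀pos
  have hm1 : S.card ≤ 1 := by
    by_contra hcon
    push Not at hcon
    have := four_mul_lt_four_pow S.card hcon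
    omega
  have hSeq : ∀ t ∈ S, t = 1 := by
    intro t ht
    exact Finset.card_le_one.mp hm1 t ht 1 h1S
  intro b hb
  obtain ⟨t, ht, he⟩ := hfull b hb
  rw [he, hSeq t ht, cjs_one]

end cnt

end Cfsg.Agent.Helper1.JC
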