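import Mathlib
import Cfsg.Agent.Lib.Helper1.JCF
import Cfsg.Agent.Lib.Helper1.JCG
import Cfsg.Agent.Lib.Helper47.Subn
import Cfsg.Agent.Lib.Helper22.Radical
import Cfsg.Agent.Lib.Helper23.Large
import Cfsg.Agent.Lib.Helper24.SZInternal
import Cfsg.Agent.Lib.Helper2.Nilpotent

/-!
# A `J(Tᵍ)`-component `K` that is subnormal in `X`: the conjugates of `K` under `X`
normalize `W_K`
-/

set_option autoImplicit false
set_option linter.unusedSectionVars false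
set_option linter.style.haveILetI false

namespace Cfsg.Agent.Helper1.JC

open Subgroup
open scoped commutatorElement
open Cfsg.Agent.Helper10.JCompUniq (Comp)
open Cfsg.Agent.Helper50.Higman (omegaZ mem_omegaZ omegaZ_le)
open Cfsg.Agent.Helper50.JComp (conj_mem_of_le_normalizer le_normalizer_of_conj_mem JD
  normalizer_le_normalizer_omegaZ)

variable {G : Type*} [Group G] [Finite G]

/-- the abstract data of a `J(T)`-component, at the level of `G` -/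
theorem comp_G {T K : Subgroup G} (hT : IsPGroup 2 ↥T) (hK : Cfsg.IsJComponent T K) :
    Comp (Cfsg.thompsonSubgroupOf 2 T) K (Cfsg.pCoreOf 2 K) (Cfsg.wOf K) := by
  have hD := JD.of_isJComponent hK hT
  obtain ⟨hgen, hcomm, hidx, -, hW4, hW2⟩ := hK
  refine ⟨hgen, hcomm, hD.QK, hD.Q2, hidx, hD.KnQ, ?_, hD.hW, hW4, hW2, ?_⟩
  · intro x hx k hk
    have hz : IsPGroup 2 (zpowers x) := by
      have : orderOf x ∣ 2 ^ k := orderOf_dvd_of_pow_eq_one hk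
      obtain ⟨m, -, hm⟩ := (Nat.dvd_prime_pow Nat.prime_two).mp this
      apply IsPGroup.of_card (n := m)
      rw [Nat.card_zpowers, hm]
    exact hD.sub2 _ (zpowers_le.mpr hx) hz (mem_zpowers _)
  · intro k hk hkP w hw hfix
    exact hD.fixed_eq_one' hk hkP hw hfix

/-- the local data: `R = O₂(X)`, `Z = Ω₁Z(R)` -/
structure Loc (K P W X R Z : Subgroup G) : Prop where
  KX : K ≤ X
  RX : R ≤ X
  XnR : X ≤ normalizer (R : Set G)
  R2 : IsPGroup 2 R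
  PR : P ≤ R
  RnK : R ≤ normalizer (K : Set G)
  RnW : R ≤ normalizer (W : Set G)
  hZ : Z = omegaZ R

theorem exists_loc {T K X : Subgroup G} (hT : IsPGroup 2 ↥T) (hK : Cfsg.IsJComponent T K)
    (hKX : K ≤ X) (hsn : (K.subgroupOf X).IsSubnormal) :
    Loc K (Cfsg.pCoreOf 2 K) (Cfsg.wOf K) X (Cfsg.pCoreOf 2 X) (omegaZ (Cfsg.pCoreOf 2 X)) := by
  haveI : Fact (Nat.Prime 2) := ⟨Nat.prime_two⟩
  have c := comp_G hT hK
  have hRnK : Cfsg.pCoreOf 2 X ≤ normalizer (K : Set G) := by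
    apply le_normalizer_of_conj_mem
    intro r hr
    have hle : K ≤ K.comap (MulAut.conj r).toMonoidHom := by
      calc K = closure {g : G | g ∈ K ∧ Odd (orderOf g)} := c.gen.symm
        _ ≤ K.comap (MulAut.conj r).toMonoidHom := by
          rw [closure_le]
          rintro k ⟨hkK, hodd⟩
          rw [SetLike.mem_coe, mem_comap]
          show r * k * r⁻¹ ∈ K
          obtain ⟨r', hr', rfl⟩ := Subgroup.mem_map.mp hr
          have hkX : k ∈ X := hKX hkK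
          have hmem : r' * ⟨k, hkX⟩ * r'⁻¹ ∈ K.subgroupOf X := by
            apply Cfsg.Agent.Helper47.mem_of_mem_sup_pCore_of_isSubnormal (p := 2) hsn
            · have h1 : orderOf (r' * ⟨k, hkX⟩ * r'⁻¹) = orderOf k := by
                rw [← Subgroup.orderOf_coe]
                have : ((r' * ⟨k, hkX⟩ * r'⁻¹ : ↥X) : G) = (r' : G) * k * (r' : G)⁻¹ := by
                  simp
                rw [this]
                exact orderOf_conj_eq _ _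
              rw [h1]
              exact (Nat.coprime_two_left.mpr hodd).symm
            · exact mul_mem (mul_mem (mem_sup_right hr')
                (mem_sup_left (mem_subgroupOf.mpr hkK))) (inv_mem (mem_sup_right hr'))
          rw [mem_subgroupOf] at hmem
          simpa using hmem
    intro y hy
    exact hle hy
  refine ⟨hKX, Cfsg.Agent.Helper23.pCoreOf_le X, Cfsg.Agent.Helper23.le_normalizer_pCoreOf X,
    Cfsg.Agent.Helper23.pCoreOf_isPGroup X, ?_, hRnK, hRnK.trans (normalizer_le_normalizer_wOf K), rfl⟩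
  -- `O₂(K) ≤ O₂(X)`
  have hPX : Cfsg.pCoreOf 2 K ≤ X := c.PK.trans hKX
  have h1 : (Cfsg.pCoreOf 2 K).subgroupOf X ≤ Cfsg.pCore 2 ↥X := by
    apply Cfsg.Agent.Helper22.le_pCore_of_subnormal hsn
    · intro x hx
      rw [mem_subgroupOf] at hx ⊢
      exact c.PK hx
    · apply le_normalizer_of_conj_mem
      intro x hx y hy
      rw [mem_subgroupOf] at hx hy ⊢
      have := conj_mem_of_le_normalizer c.KnP hx hy
      simpa using this
    · exact c.P2.comap_subtype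
  have h2 := Subgroup.map_mono (f := X.subtype) h1
  rwa [Subgroup.map_subgroupOf_eq_of_le hPX] at h2

namespace Loc

variable {J K P W X R Z : Subgroup G} (c : Comp J K P W) (l : Loc K P W X R Z)
include c l

theorem W_le_omegaZP : W ≤ omegaZ P := by
  rw [c.hW, Subgroup.commutator_le]
  intro u hu k hk
  have hn : K ≤ normalizer (omegaZ P : Set G) := c.KnP.trans (normalizer_le_normalizer_omegaZ P)
  have h1 := conj_mem_of_le_normalizer hn hk ((omegaZ P).inv_mem hu)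
  have : ⁅u, k⁆ = u * (k * u⁻¹ * k⁻¹) := by rw [commutatorElement_def]; group
  rw [this]
  exact (omegaZ P).mul_mem hu h1

theorem W_le_R : W ≤ R := (l.W_le_omegaZP c).trans ((omegaZ_le P).trans l.PR)

theorem XnZ : X ≤ normalizer (Z : Set G) := by
  rw [l.hZ]; exact l.XnR.trans (normalizer_le_normalizer_omegaZ R)

theorem Z_le_R : Z ≤ R := by rw [l.hZ]; exact omegaZ_le R

theorem Z_comm_R {z q : G} (hz : z ∈ Z) (hq : q ∈ R) : q * z = z * q := by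
  have hz' := hz
  rw [l.hZ, mem_omegaZ] at hz'
  exact hz'.2.1 q hq

theorem Z_sq {z : G} (hz : z ∈ Z) : z * z = 1 := by
  have hz' := hz
  rw [l.hZ, mem_omegaZ] at hz'
  exact hz'.2.2

theorem Z_comm {x y : G} (hx : x ∈ Z) (hy : y ∈ Z) : x * y = y * x :=
  l.Z_comm_R c hy (l.Z_le_R c hx)

/-- `W ≤ Z` -/
theorem W_le_Z : W ≤ Z := by
  have hWR := l.W_le_R c
  haveI : Fact (Nat.Prime 2) := ⟨Nat.prime_two⟩
  haveI : Group.IsNilpotent ↥R := l.R2.isNilpotent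
  haveI : (W.subgroupOf R).Normal := (normal_subgroupOf_iff_le_normalizer hWR).mpr l.RnW
  have hne : W.subgroupOf R ≠ ⊥ := by
    intro h
    have h1 : Nat.card (W.subgroupOf R) = 1 := by rw [h]; exact Subgroup.card_bot
    rw [Nat.card_congr (Subgroup.subgroupOfEquivOfLe hWR).toEquiv, c.W4] at h1
    omega
  have h2 := Cfsg.Agent.Helper2.normal_inf_center_ne_bot (W.subgroupOf R) hne
  obtain ⟨⟨⟨x, hxR⟩, hx⟩, hx1'⟩ := (Subgroup.ne_bot_iff_exists_ne_one).mp h2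
  have hx1 : (⟨x, hxR⟩ : ↥R) ≠ 1 := fun h => hx1' (Subtype.ext h)
  obtain ⟨hxW, hxc⟩ := mem_inf.mp hx
  rw [mem_subgroupOf] at hxW
  rw [mem_center_iff] at hxc
  -- the subgroup `C = W ⊓ C(R)`
  have hCeq : W ⊓ centralizer (R : Set G) = W := by
    apply c.irreducible inf_le_left
    · intro hbot
      have : x ∈ W ⊓ centralizer (R : Set G) := by
        refine mem_inf.mpr ⟨hxW, ?_⟩
        rw [mem_centralizer_iff]
        intro q hq
        have := hxc ⟨q, hq⟩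
        exact congrArg Subtype.val this
      rw [hbot, mem_bot] at this
      apply hx1
      exact Subtype.ext this
    · apply le_normalizer_of_conj_mem
      intro k hk y hy
      obtain ⟨hyW, hyC⟩ := mem_inf.mp hy
      refine mem_inf.mpr ⟨conj_mem_of_le_normalizer c.KnW hk hyW, ?_⟩
      rw [mem_centralizer_iff] at hyC ⊢
      intro q hq
      have hq' : k⁻¹ * q * k ∈ R := by
        have := conj_mem_of_le_normalizer l.XnR (X.inv_mem (l.KX hk)) hq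
        simpa using this
      have := hyC _ hq'
      calc q * (k * y * k⁻¹) = k * ((k⁻¹ * q * k) * y) * k⁻¹ := by group
        _ = k * (y * (k⁻¹ * q * k)) * k⁻¹ := by rw [this]
        _ = k * y * k⁻¹ * q := by group
  intro w hw
  rw [l.hZ, mem_omegaZ]
  have hwC : w ∈ centralizer (R : Set G) := by
    have : w ∈ W ⊓ centralizer (R : Set G) := by rw [hCeq]; exact hw
    exact (mem_inf.mp this).2
  exact ⟨hWR hw, fun q hq => mem_centralizer_iff.mp hwC q hq, c.W2 w hw⟩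

/-- `[Z, K] ≤ Ω₁Z(P)` -/
theorem comm_mem_omegaZP {z k : G} (hz : z ∈ Z) (hk : k ∈ K) : ⁅z, k⁆ ∈ omegaZ P := by
  have hzR := l.Z_le_R c hz
  have h1 : ⁅z, k⁆ ∈ K := by
    have := conj_mem_of_le_normalizer l.RnK hzR hk
    have h : ⁅z, k⁆ = (z * k * z⁻¹) * k⁻¹ := by rw [commutatorElement_def]
    rw [h]
    exact K.mul_mem this (K.inv_mem hk)
  have h2 : ⁅z, k⁆ ∈ Z := by
    have := conj_mem_of_le_normalizer (l.XnZ c) (l.KX hk) (Z.inv_mem hz)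
    have h : ⁅z, k⁆ = z * (k * z⁻¹ * k⁻¹) := by rw [commutatorElement_def]; group
    rw [h]
    exact Z.mul_mem hz this
  have h3 : ⁅z, k⁆ ∈ P := by
    apply c.sub2 _ h1 1
    rw [pow_one, pow_two]
    exact l.Z_sq c h2
  rw [mem_omegaZ]
  exact ⟨h3, fun q hq => l.Z_comm_R c h2 (l.PR hq), l.Z_sq c h2⟩

/-- `[Z, K] ≤ W` -/
theorem comm_mem_W {z k : G} (hz : z ∈ Z) (hk : k ∈ K) : ⁅z, k⁆ ∈ W := by
  haveI : Fact (Nat.Prime 2) := ⟨Nat.prime_two⟩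
  have hKZ : K ≤ normalizer (Z : Set G) := l.KX.trans (l.XnZ c)
  have hZ2 : IsPGroup 2 Z := l.R2.to_le (l.Z_le_R c)
  -- odd elements
  have hodd : ∀ d ∈ K, Odd (orderOf d) → ∀ z ∈ Z, ⁅z, d⁆ ∈ W := by
    intro d hd hdodd z hz
    have hDK : zpowers d ≤ K := zpowers_le.mpr hd
    have hDn : zpowers d ≤ normalizer (Z : Set G) := hDK.trans hKZ
    have hcop : (Nat.card (zpowers d)).Coprime (Nat.card Z) := by
      obtain ⟨n, hn⟩ := IsPGroup.iff_card.mp hZ2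
      rw [hn, Nat.card_zpowers]
      exact Nat.Coprime.pow_right _ (Nat.coprime_two_right.mpr hdodd)
    have hsolv : Group.IsSolvable ↥Z :=
      Group.isSolvable_of_comm (fun a b => Subtype.ext (l.Z_comm c a.2 b.2))
    have heq := Cfsg.Agent.Helper24.commutator_commutator_eq Z (zpowers d) hDn hcop hsolv
    have h1 : ⁅Z, zpowers d⁆ ≤ omegaZ P := by
      rw [Subgroup.commutator_le]
      intro a ha b hb
      exact l.comm_mem_omegaZP c ha (hDK hb)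
    have h2 : ⁅z, d⁆ ∈ ⁅⁅Z, zpowers d⁆, zpowers d⁆ := by
      rw [heq]
      exact Subgroup.commutator_mem_commutator hz (mem_zpowers d)
    have h3 : ⁅⁅Z, zpowers d⁆, zpowers d⁆ ≤ ⁅omegaZ P, K⁆ := Subgroup.commutator_mono h1 hDK
    rw [c.hW]
    exact h3 h2
  have hkK : k ∈ closure {g : G | g ∈ K ∧ Odd (orderOf g)} := by rw [c.gen]; exact hk
  clear hk
  revert z
  induction hkK using Subgroup.closure_induction with
  | mem x hx =>
    intro z hz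
    exact hodd x hx.1 hx.2 z hz
  | one =>
    intro z hz
    rw [commutatorElement_def]
    simp
  | mul x y hx hy ihx ihy =>
    intro z hz
    have hxK : x ∈ K := by rw [← c.gen]; exact hx
    have h : ⁅z, x * y⁆ = ⁅z, x⁆ * (x * ⁅z, y⁆ * x⁻¹) := by
      rw [commutatorElement_def, commutatorElement_def, commutatorElement_def]; group
    rw [h]
    exact W.mul_mem (ihx hz) (conj_mem_of_le_normalizer c.KnW hxK (ihy hz))
  | inv x hx ih =>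
    intro z hz
    have hxK : x ∈ K := by rw [← c.gen]; exact hx
    have h : ⁅z, x⁻¹⁆ = x⁻¹ * (⁅z, x⁆)⁻¹ * (x⁻¹)⁻¹ := by
      rw [commutatorElement_def, commutatorElement_def]; group
    rw [h]
    exact conj_mem_of_le_normalizer c.KnW (K.inv_mem hxK) (W.inv_mem (ih hz))

end Loc

omit [Finite G] in
theorem le_normalizer_cjs {g : G} {A B : Subgroup G}
    (h : cjs g⁻¹ A ≤ normalizer (B : Set G)) : A ≤ normalizer (cjs g B : Set G) := by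
  apply le_normalizer_of_conj_mem
  intro a ha x hx
  obtain ⟨b, hb, rfl⟩ := mem_cjs.mp hx
  have h1 : g⁻¹ * a * (g⁻¹)⁻¹ ∈ cjs g⁻¹ A := conj_mem_cjs ha
  have h2 := conj_mem_of_le_normalizer h h1 hb
  have : a * (g * b * g⁻¹) * a⁻¹ =
      g * ((g⁻¹ * a * (g⁻¹)⁻¹) * b * (g⁻¹ * a * (g⁻¹)⁻¹)⁻¹) * g⁻¹ := by group
  rw [this]
  exact conj_mem_cjs h2

section step

variable {K W Z : Subgroup G}
  (hZ2 : ∀ z ∈ Z, z * z = 1) (hZc : ∀ x ∈ Z, ∀ y ∈ Z, x * y = y * x)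
  (hWZ : W ≤ Z) (hW4 : Nat.card W = 4)
  (hKW : K ≤ normalizer (W : Set G))
  (hirr : ∀ Y : Subgroup G, Y ≤ W → Y ≠ ⊥ → K ≤ normalizer (Y : Set G) → Y = W)
  (hcomm : ∀ z ∈ Z, ∀ k ∈ K, ⁅z, k⁆ ∈ W)
include hZ2 hZc hWZ hW4 hKW hirr hcomm

theorem inf_eq_bot_of_ne {W' : Subgroup G} (hW'4 : Nat.card W' = 4)
    (hKW' : K ≤ normalizer (W' : Set G)) (hne : W' ≠ W) : W ⊓ W' = ⊥ := by
  by_contra hbot
  have hn : K ≤ normalizer ((W ⊓ W' : Subgroup G) : Set G) := by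
    apply le_normalizer_of_conj_mem
    intro k hk x hx
    exact mem_inf.mpr ⟨conj_mem_of_le_normalizer hKW hk (mem_inf.mp hx).1,
      conj_mem_of_le_normalizer hKW' hk (mem_inf.mp hx).2⟩
  have h1 : W ⊓ W' = W := hirr _ inf_le_left hbot hn
  have h2 : W ≤ W' := by rw [← h1]; exact inf_le_right
  exact hne (Subgroup.eq_of_le_of_card_ge h2 (by rw [hW'4, hW4])).symm

theorem centralizes_of_ne {W' : Subgroup G} (hW'Z : W' ≤ Z) (hW'4 : Nat.card W' = 4)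
    (hKW' : K ≤ normalizer (W' : Set G)) (hne : W' ≠ W) :
    ∀ x ∈ W', ∀ k ∈ K, k * x * k⁻¹ = x := by
  intro x hx k hk
  have h1 : ⁅x, k⁆ ∈ W := hcomm x (hW'Z hx) k hk
  have h2 : ⁅x, k⁆ ∈ W' := by
    have := conj_mem_of_le_normalizer hKW' hk (W'.inv_mem hx)
    have h : ⁅x, k⁆ = x * (k * x⁻¹ * k⁻¹) := by rw [commutatorElement_def]; group
    rw [h]
    exact W'.mul_mem hx this
  have h3 : ⁅x, k⁆ = 1 := by
    have : ⁅x, k⁆ ∈ W ⊓ W' := mem_inf.mpr ⟨h1, h2⟩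
    rw [inf_eq_bot_of_ne hZ2 hZc hWZ hW4 hKW hirr hcomm hW'4 hKW' hne, mem_bot] at this
    exact this
  calc k * x * k⁻¹ = (⁅x, k⁆)⁻¹ * x := by rw [commutatorElement_def]; group
    _ = x := by rw [h3]; simp

theorem step_lemma (hfpf : ∀ w ∈ W, (∀ k ∈ K, k * w * k⁻¹ = w) → w = 1)
    {U : Subgroup G} {k₂ : G} (hU4 : Nat.card U = 4)
    (hk₂Z : k₂ ∈ normalizer (Z : Set G))
    (hk₂3 : ∀ z ∈ Z, k₂ ^ 3 * z * (k₂ ^ 3)⁻¹ = z)
    (hk₂U : ∀ z ∈ Z, z * (k₂ * z * k₂⁻¹) ∈ U)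
    (hk₂nU : ∀ u ∈ U, k₂ * u * k₂⁻¹ ∈ U)
    (hQ1 : K ≤ normalizer (cjs k₂ W : Set G))
    (hQ2 : K ≤ normalizer (cjs (k₂ * k₂) W : Set G)) :
    cjs k₂ W = W := by
  by_contra hne
  have hcZ : ∀ z ∈ Z, k₂ * z * k₂⁻¹ ∈ Z := fun z hz => (mem_normalizer_iff.mp hk₂Z z).mp hz
  have hW'Z : cjs k₂ W ≤ Z := by
    intro x hx
    obtain ⟨w, hw, rfl⟩ := mem_cjs.mp hx
    exact hcZ w (hWZ hw)
  have hW''Z : cjs (k₂ * k₂) W ≤ Z := by
    rw [cjs_mul]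
    intro x hx
    obtain ⟨w, hw, rfl⟩ := mem_cjs.mp hx
    exact hcZ w (hW'Z hw)
  have h3 : cjs (k₂ ^ 3) W = W := by
    ext x
    rw [mem_cjs]
    constructor
    · rintro ⟨w, hw, rfl⟩
      rw [hk₂3 w (hWZ hw)]; exact hw
    · intro hx
      exact ⟨x, hx, hk₂3 x (hWZ hx)⟩
  have hne2 : cjs (k₂ * k₂) W ≠ W := by
    intro h
    apply hne
    have e : k₂ * k₂ ^ 3 = (k₂ * k₂) * (k₂ * k₂) := by
      rw [pow_succ, pow_two]; simp only [mul_assoc]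
    calc cjs k₂ W = cjs k₂ (cjs (k₂ ^ 3) W) := by rw [h3]
      _ = cjs (k₂ * k₂ ^ 3) W := (cjs_mul _ _ _).symm
      _ = cjs ((k₂ * k₂) * (k₂ * k₂)) W := by rw [e]
      _ = cjs (k₂ * k₂) (cjs (k₂ * k₂) W) := cjs_mul _ _ _
      _ = W := by rw [h, h]
  have hW'4 : Nat.card (cjs k₂ W) = 4 := by rw [card_cjs, hW4]
  have hW''4 : Nat.card (cjs (k₂ * k₂) W) = 4 := by rw [card_cjs, hW4]
  have i1 := inf_eq_bot_of_ne hZ2 hZc hWZ hW4 hKW hirr hcomm hW'4 hQ1 hne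
  have c1 := centralizes_of_ne hZ2 hZc hWZ hW4 hKW hirr hcomm hW'Z hW'4 hQ1 hne
  have c2 := centralizes_of_ne hZ2 hZc hWZ hW4 hKW hirr hcomm hW''Z hW''4 hQ2 hne2
  have hφ1 : ∀ w ∈ W, w * (k₂ * w * k₂⁻¹) = 1 → w = 1 := by
    intro w hw h
    have hw' : w = (k₂ * w * k₂⁻¹)⁻¹ := eq_inv_of_mul_eq_one_left h
    have : w ∈ W ⊓ cjs k₂ W := by
      refine mem_inf.mpr ⟨hw, ?_⟩
      rw [hw']
      exact inv_mem (conj_mem_cjs hw)
    rw [i1, mem_bot] at this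
    exact this
  let f : W → U := fun w => ⟨(w : G) * (k₂ * w * k₂⁻¹), hk₂U w (hWZ w.2)⟩
  have hfinj : Function.Injective f := by
    intro w₁ w₂ h
    have h' : (w₁ : G) * (k₂ * w₁ * k₂⁻¹) = w₂ * (k₂ * w₂ * k₂⁻¹) := congrArg Subtype.val h
    have hw₁Z := hWZ w₁.2
    have hw₂Z := hWZ w₂.2
    have hc₁Z := hcZ _ hw₁Z
    have hc₂Z := hcZ _ hw₂Z
    have hw : (w₁ : G) * (w₂ : G)⁻¹ = 1 := by
      apply hφ1 _ (W.mul_mem w₁.2 (W.inv_mem w₂.2))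
      have e1 : k₂ * ((w₁ : G) * (w₂ : G)⁻¹) * k₂⁻¹ =
          (k₂ * w₁ * k₂⁻¹) * (k₂ * w₂ * k₂⁻¹)⁻¹ := by group
      rw [e1]
      calc (w₁ : G) * (w₂ : G)⁻¹ * ((k₂ * w₁ * k₂⁻¹) * (k₂ * w₂ * k₂⁻¹)⁻¹)
          = w₁ * ((w₂ : G)⁻¹ * (k₂ * w₁ * k₂⁻¹)) * (k₂ * w₂ * k₂⁻¹)⁻¹ := by group
        _ = w₁ * ((k₂ * w₁ * k₂⁻¹) * (w₂ : G)⁻¹) * (k₂ * w₂ * k₂⁻¹)⁻¹ := by
            rw [hZc _ (Z.inv_mem hw₂Z) _ hc₁Z]
        _ = (w₁ * (k₂ * w₁ * k₂⁻¹)) * (w₂ : G)⁻¹ * (k₂ * w₂ * k₂⁻¹)⁻¹ := by group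
        _ = (w₂ * (k₂ * w₂ * k₂⁻¹)) * (w₂ : G)⁻¹ * (k₂ * w₂ * k₂⁻¹)⁻¹ := by rw [h']
        _ = w₂ * ((k₂ * w₂ * k₂⁻¹) * (w₂ : G)⁻¹) * (k₂ * w₂ * k₂⁻¹)⁻¹ := by group
        _ = w₂ * ((w₂ : G)⁻¹ * (k₂ * w₂ * k₂⁻¹)) * (k₂ * w₂ * k₂⁻¹)⁻¹ := by
            rw [hZc _ hc₂Z _ (Z.inv_mem hw₂Z)]
        _ = 1 := by group
    exact Subtype.ext (mul_inv_eq_one.mp hw)
  have hfbij : Function.Bijective f :=
    (Nat.bijective_iff_injective_and_card f).mpr ⟨hfinj, by rw [hW4, hU4]⟩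
  obtain ⟨w, hw, hw1⟩ : ∃ w ∈ W, w ≠ 1 := by
    by_contra hcon
    push Not at hcon
    have : W = ⊥ := (Subgroup.eq_bot_iff_forall _).mpr hcon
    rw [this, Subgroup.card_bot] at hW4
    omega
  have hv : k₂ * (w * (k₂ * w * k₂⁻¹)) * k₂⁻¹ ∈ U := hk₂nU _ (hk₂U w (hWZ hw))
  obtain ⟨⟨wd, hwd⟩, hfwd⟩ := hfbij.2 ⟨_, hv⟩
  have hfwd' : wd * (k₂ * wd * k₂⁻¹) = k₂ * (w * (k₂ * w * k₂⁻¹)) * k₂⁻¹ :=
    congrArg Subtype.val hfwd
  have hwd_eq : wd = (k₂ * w * k₂⁻¹) * (k₂ * (k₂ * w * k₂⁻¹) * k₂⁻¹) * (k₂ * wd * k₂⁻¹)⁻¹ := by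
    calc wd = (wd * (k₂ * wd * k₂⁻¹)) * (k₂ * wd * k₂⁻¹)⁻¹ := by group
      _ = (k₂ * (w * (k₂ * w * k₂⁻¹)) * k₂⁻¹) * (k₂ * wd * k₂⁻¹)⁻¹ := by rw [hfwd']
      _ = (k₂ * w * k₂⁻¹) * (k₂ * (k₂ * w * k₂⁻¹) * k₂⁻¹) * (k₂ * wd * k₂⁻¹)⁻¹ := by group
  have hwd1 : wd = 1 := by
    apply hfpf wd hwd
    intro k hk
    have e1 := c1 (k₂ * w * k₂⁻¹) (conj_mem_cjs hw) k hk
    have hmem2 : k₂ * (k₂ * w * k₂⁻¹) * k₂⁻¹ ∈ cjs (k₂ * k₂) W := by
      rw [cjs_mul]; exact conj_mem_cjs (conj_mem_cjs hw)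
    have e2 := c2 _ hmem2 k hk
    have e3 := c1 (k₂ * wd * k₂⁻¹) (conj_mem_cjs hwd) k hk
    calc k * wd * k⁻¹
        = k * ((k₂ * w * k₂⁻¹) * (k₂ * (k₂ * w * k₂⁻¹) * k₂⁻¹) * (k₂ * wd * k₂⁻¹)⁻¹) * k⁻¹ := by
          rw [← hwd_eq]
      _ = (k * (k₂ * w * k₂⁻¹) * k⁻¹) * (k * (k₂ * (k₂ * w * k₂⁻¹) * k₂⁻¹) * k⁻¹) *
            (k * (k₂ * wd * k₂⁻¹) * k⁻¹)⁻¹ := by group
      _ = (k₂ * w * k₂⁻¹) * (k₂ * (k₂ * w * k₂⁻¹) * k₂⁻¹) * (k₂ * wd * k₂⁻¹)⁻¹ := by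
          rw [e1, e2, e3]
      _ = wd := hwd_eq.symm
  apply hw1
  apply hφ1 w hw
  rw [hwd1] at hfwd'
  have : k₂ * (w * (k₂ * w * k₂⁻¹)) * k₂⁻¹ = 1 := by
    rw [← hfwd']; group
  calc w * (k₂ * w * k₂⁻¹) = k₂⁻¹ * (k₂ * (w * (k₂ * w * k₂⁻¹)) * k₂⁻¹) * k₂ := by group
    _ = 1 := by rw [this]; group

end step

end Cfsg.Agent.Helper1.JC
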