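import Mathlib
import Cfsg.Agent.Lib.Helper1.JCH

/-!
# KS 12.2.5: a `J(Tᵍ)`-component `K ≤ L` that is subnormal in `⟨K, J(T)⟩` is a `J(T)`-component
-/

set_option autoImplicit false
set_option linter.unusedSectionVars false
set_option linter.style.haveILetI false

namespace Cfsg.Agent.Helper1.JC

open Subgroup
open scoped commutatorElement
open Cfsg.Agent.Helper10.JCompUniq (Comp)
open Cfsg.Agent.Helper50.Higman (omegaZ mem_omegaZ omegaZ_le)
open Cfsg.Agent.Helper50.JComp (conj_mem_of_le_normalizer le_normalizer_of_conj_mem JD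
  normalizer_le_normalizer_omegaZ MaxEA thompsonTwo_eq)

variable {G : Type*} [Group G] [Finite G]

namespace Loc

variable {J K P W X R Z : Subgroup G} (c : Comp J K P W) (l : Loc K P W X R Z)
include c l

/-- `[Z, yKy⁻¹] ≤ yWy⁻¹` for `y ∈ X` -/
theorem comm_conj_mem {y z k : G} (hy : y ∈ X) (hz : z ∈ Z) (hk : k ∈ K) :
    ⁅z, y * k * y⁻¹⁆ ∈ cjs y W := by
  have hz' : y⁻¹ * z * y ∈ Z := by
    have := conj_mem_of_le_normalizer (l.XnZ c) (X.inv_mem hy) hz
    simpa using this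
  have h := l.comm_mem_W c hz' hk
  have e : ⁅z, y * k * y⁻¹⁆ = y * ⁅y⁻¹ * z * y, k⁆ * y⁻¹ := by
    rw [commutatorElement_def, commutatorElement_def]; group
  rw [e]
  exact conj_mem_cjs h

theorem cjs_W_le_Z {y : G} (hy : y ∈ X) : cjs y W ≤ Z := by
  intro x hx
  obtain ⟨w, hw, rfl⟩ := mem_cjs.mp hx
  exact conj_mem_of_le_normalizer (l.XnZ c) hy (l.W_le_Z c hw)

/-- all `X`-conjugates of `K` normalize `W` -/
theorem chain (hsn : (K.subgroupOf X).IsSubnormal) :
    ∀ y ∈ X, cjs y K ≤ normalizer (W : Set G) := by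
  obtain ⟨d, hdK, -, hdP⟩ := c.exists_odd
  have hfpf : ∀ w ∈ W, (∀ k ∈ K, k * w * k⁻¹ = w) → w = 1 :=
    fun w hw h => c.fpf d hdK hdP w hw (h d hdK)
  have hZ2 : ∀ z ∈ Z, z * z = 1 := fun z hz => l.Z_sq c hz
  have hZc : ∀ x ∈ Z, ∀ y ∈ Z, x * y = y * x := fun x hx y hy => l.Z_comm c hx hy
  have hWZ := l.W_le_Z c
  have hirr : ∀ Y : Subgroup G, Y ≤ W → Y ≠ ⊥ → K ≤ normalizer (Y : Set G) → Y = W :=
    fun Y h1 h2 h3 => c.irreducible h1 h2 h3
  have hcomm : ∀ z ∈ Z, ∀ k ∈ K, ⁅z, k⁆ ∈ W := fun z hz k hk => l.comm_mem_W c hz hk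
  have key : ∀ S : Subgroup ↥X, S.IsSubnormal → K.subgroupOf X ≤ S →
      (∀ y ∈ S, cjs (y : G) K ≤ normalizer (W : Set G)) →
      ∀ y : ↥X, cjs (y : G) K ≤ normalizer (W : Set G) := by
    intro S hS
    induction hS with
    | top =>
      intro _ h y
      exact h y (mem_top y)
    | step H B hle hB hn ih =>
      intro hKH hQ
      apply ih (hKH.trans hle)
      intro y hyB k₂ hk₂
      obtain ⟨k, hk, rfl⟩ := mem_cjs.mp hk₂
      have hkX : k ∈ X := l.KX hk
      have hk'H : (⟨k, hkX⟩ : ↥X) ∈ H := hKH (mem_subgroupOf.mpr hk)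
      obtain ⟨κ, hκ⟩ : ∃ κ : ↥X, κ = y * ⟨k, hkX⟩ * y⁻¹ := ⟨_, rfl⟩
      have hκG : (κ : G) = (y : G) * k * (y : G)⁻¹ := by rw [hκ]; rfl
      have hκH : κ ∈ H := by
        have := hn.conj_mem ⟨⟨k, hkX⟩, hle hk'H⟩ (mem_subgroupOf.mpr hk'H) ⟨y, hyB⟩
        rw [mem_subgroupOf] at this
        rw [hκ]
        exact this
      rw [← hκG]
      apply mem_normalizer_of_cjs_eq
      have hκX : (κ : G) ∈ X := κ.2
      apply step_lemma hZ2 hZc hWZ c.W4 c.KnW hirr hcomm hfpf (U := cjs (y : G) W)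
      · rw [card_cjs, c.W4]
      · exact l.XnZ c hκX
      · intro z hz
        have h3 : (κ : G) ^ 3 ∈ R := by
          rw [hκG]
          have : ((y : G) * k * (y : G)⁻¹) ^ 3 = (y : G) * k ^ 3 * (y : G)⁻¹ := conj_pow
          rw [this]
          exact conj_mem_of_le_normalizer l.XnR y.2 (l.PR (c.cube_mem hk))
        have := l.Z_comm_R c hz h3
        calc (κ : G) ^ 3 * z * ((κ : G) ^ 3)⁻¹ = (z * (κ : G) ^ 3) * ((κ : G) ^ 3)⁻¹ := by rw [this]
          _ = z := by group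
      · intro z hz
        have h := l.comm_conj_mem c y.2 hz hk
        have hzinv : z⁻¹ = z := inv_eq_of_mul_eq_one_left (hZ2 z hz)
        have e : ⁅z, (y : G) * k * (y : G)⁻¹⁆ = z * ((κ : G) * z * (κ : G)⁻¹) := by
          rw [commutatorElement_def, hκG]
          calc z * ((y : G) * k * (y : G)⁻¹) * z⁻¹ * ((y : G) * k * (y : G)⁻¹)⁻¹
              = z * (((y : G) * k * (y : G)⁻¹) * z⁻¹ * ((y : G) * k * (y : G)⁻¹)⁻¹) := by group
            _ = z * (((y : G) * k * (y : G)⁻¹) * z * ((y : G) * k * (y : G)⁻¹)⁻¹) := by rw [hzinv]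
        rw [← e]
        exact h
      · intro u hu
        obtain ⟨w, hw, rfl⟩ := mem_cjs.mp hu
        have := conj_mem_of_le_normalizer c.KnW hk hw
        have e : (κ : G) * ((y : G) * w * (y : G)⁻¹) * (κ : G)⁻¹ =
            (y : G) * (k * w * k⁻¹) * (y : G)⁻¹ := by
          rw [hκG]; group
        rw [e]
        exact conj_mem_cjs this
      · apply le_normalizer_cjs
        exact hQ κ⁻¹ (H.inv_mem hκH)
      · apply le_normalizer_cjs
        exact hQ (κ * κ)⁻¹ (H.inv_mem (H.mul_mem hκH hκH))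
  intro y hy
  refine key _ hsn le_rfl ?_ ⟨y, hy⟩
  intro y hy
  rw [mem_subgroupOf] at hy
  have : cjs (y : G) K = K := cjs_eq_of_mem_normalizer (le_normalizer hy)
  rw [this]
  exact c.KnW

/-- a maximal elementary abelian subgroup of `T` normalizes `W` -/
theorem maxEA_le_normalizer (hsn : (K.subgroupOf X).IsSubnormal) {A T L : Subgroup G}
    (hA : MaxEA T A) (hAX : A ≤ X) (hXL : X ≤ L) (hTL : Cfsg.IsSylowTwoIn T L) :
    A ≤ normalizer (W : Set G) := by
  obtain ⟨d, hdK, -, hdP⟩ := c.exists_odd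
  have hZ2 : ∀ z ∈ Z, z * z = 1 := fun z hz => l.Z_sq c hz
  have hZc : ∀ x ∈ Z, ∀ y ∈ Z, x * y = y * x := fun x hx y hy => l.Z_comm c hx hy
  have hWZ := l.W_le_Z c
  have hirr : ∀ Y : Subgroup G, Y ≤ W → Y ≠ ⊥ → K ≤ normalizer (Y : Set G) → Y = W :=
    fun Y h1 h2 h3 => c.irreducible h1 h2 h3
  have hcomm : ∀ z ∈ Z, ∀ k ∈ K, ⁅z, k⁆ ∈ W := fun z hz k hk => l.comm_mem_W c hz hk
  have hchain := l.chain c hsn
  have hmain : ∀ b ∈ A, cjs b W = W := by
    apply cnt_main hA.2.1 hA.2.2.1 hZ2 hZc (hAX.trans (l.XnZ c)) hWZ c.W4 (k := d)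
    · intro b hb z hz
      exact l.comm_conj_mem c (hAX hb) hz hdK
    · exact c.fpf d hdK hdP
    · intro b hb hne w hw
      have hKn : K ≤ normalizer (cjs b W : Set G) := by
        apply le_normalizer_cjs
        exact hchain b⁻¹ (X.inv_mem (hAX hb))
      exact centralizes_of_ne hZ2 hZc hWZ c.W4 c.KnW hirr hcomm (l.cjs_W_le_Z c (hAX hb))
        (by rw [card_cjs, c.W4]) hKn hne w hw d hdK
    · intro E hE hE2
      have hEL : E ≤ L := hE.trans ((sup_le hAX ((l.Z_le_R c).trans l.RX)).trans hXL)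
      have hEp : IsPGroup 2 E := by
        intro g
        refine ⟨1, ?_⟩
        rw [pow_one, pow_two]
        exact Subtype.ext (hE2 g g.2)
      obtain ⟨n, -, hn⟩ := exists_conj_le hTL hEp hEL
      have hA' := maxEA_map (MulAut.conj n) hA
      have := hA'.2.2.2 E hn hE2 (Cfsg.Agent.Helper50.JComp.comm_of_exp_two hE2)
      rwa [Subgroup.card_map_of_injective (MulAut.conj n).injective] at this
  intro b hb
  exact mem_normalizer_of_cjs_eq (hmain b hb)

end Loc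

/-- **KS 12.2.5** -/
theorem isJComponent_of_subnormal (hL : Cfsg.IsCharacteristicTwoType G)
    (hN : ∀ N : Subgroup G, Cfsg.IsTwoLocal N → Group.IsSolvable ↥N)
    (hZ : ∀ S : Sylow 2 G, Subgroup.centralizer (Cfsg.omegaCenterOf (S : Subgroup G) : Set G) ≤
      Subgroup.normalizer ((S : Subgroup G) : Set G))
    (T : Subgroup G) (hT : IsPGroup 2 ↥T) (L : Subgroup G) (hLT : L ∈ Cfsg.jOvergroups T)
    (K : Subgroup G) (hKL : K ≤ L)
    (hKsn : (K.subgroupOf (K ⊔ Cfsg.thompsonSubgroupOf 2 T)).IsSubnormal)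
    (g : G) (hKg : K ∈ Cfsg.jComponentsZero (T.map (MulAut.conj g).toMonoidHom)) :
    Cfsg.IsJComponent T K := by
  have hT' : IsPGroup 2 ↥(T.map (MulAut.conj g).toMonoidHom) := hT.map _
  have hK' : Cfsg.IsJComponent (T.map (MulAut.conj g).toMonoidHom) K := hKg.1
  have c := comp_G hT' hK'
  have l := exists_loc hT' hK' (le_sup_left : K ≤ K ⊔ Cfsg.thompsonSubgroupOf 2 T) hKsn
  have hTL : Cfsg.IsSylowTwoIn T L := hLT.1
  have hXL : K ⊔ Cfsg.thompsonSubgroupOf 2 T ≤ L := sup_le hKL ((thompson_le T).trans hTL.1)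
  have hJ : Cfsg.thompsonSubgroupOf 2 T ≤ normalizer (Cfsg.wOf K : Set G) := by
    rw [thompsonTwo_eq]
    apply sSup_le
    intro A hA
    have hAJ : A ≤ Cfsg.thompsonSubgroupOf 2 T := by
      rw [thompsonTwo_eq]; exact le_sSup hA
    exact l.maxEA_le_normalizer c hKsn hA (hAJ.trans le_sup_right) hXL hTL
  have h := (normalizer_eq_and_isJComponent hL hN hZ _ hT' K hKg).2 g⁻¹
  have hTeq : (T.map (MulAut.conj g).toMonoidHom).map (MulAut.conj g⁻¹).toMonoidHom = T := by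
    ext x
    have e : ∀ t : G, (MulAut.conj g⁻¹).toMonoidHom ((MulAut.conj g).toMonoidHom t) = t := by
      intro t
      simp [mul_assoc]
    constructor
    · rintro ⟨_, ⟨t, ht, rfl⟩, rfl⟩
      rw [e t]
      exact ht
    · intro hx
      exact ⟨_, ⟨x, hx, rfl⟩, e x⟩
  rw [hTeq] at h
  exact h hJ

end Cfsg.Agent.Helper1.JC
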