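import Mathlib
import Cfsg.Agent.Lib.Helper7.M11UDefs

/-!
# M11U (G7) `chain_of_a`: the subgroup of order 720 (piece of helper7's lemma server "M11U", row S0420)
-/

set_option autoImplicit false

namespace Cfsg.Agent.Helper1.M11U

open Subgroup Cfsg.Agent.Helper7.M11U
open scoped Pointwise

variable {G : Type*} [Group G] [Finite G] {t : G} {R R2 R3 : Sylow 3 G}

omit [Finite G] in
theorem h1g7_mem_smul (P : Sylow 3 G) (g x : G) :
    x ∈ ((g • P : Sylow 3 G) : Subgroup G) ↔ g⁻¹ * x * g ∈ (P : Subgroup G) := by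
  rw [Sylow.coe_subgroup_smul, Subgroup.mem_pointwise_smul_iff_inv_smul_mem]
  have : (MulAut.conj g)⁻¹ • x = g⁻¹ * x * g := by
    rw [← map_inv, MulAut.smul_def, MulAut.conj_apply, inv_inv]
  rw [this]

omit [Finite G] in
theorem h1g7_conj_mem_smul (P : Sylow 3 G) (g x : G) (hx : x ∈ (P : Subgroup G)) :
    g * x * g⁻¹ ∈ ((g • P : Sylow 3 G) : Subgroup G) := by
  rw [h1g7_mem_smul]
  have : g⁻¹ * (g * x * g⁻¹) * g = x := by group
  rw [this]; exact hx

omit [Finite G] in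
theorem h1g7_inverts_smul (g u : G) (P : Sylow 3 G) (h : Inverts u (P : Subgroup G)) :
    Inverts (g * u * g⁻¹) ((g • P : Sylow 3 G) : Subgroup G) := by
  intro x hx
  rw [h1g7_mem_smul] at hx
  have h1 := h _ hx
  have e1 : g * u * g⁻¹ * x * (g * u * g⁻¹)⁻¹ = g * (u * (g⁻¹ * x * g) * u⁻¹) * g⁻¹ := by group
  rw [e1, h1]; group

omit [Finite G] in
theorem h1g7_adj_smul (g : G) (X Y : Sylow 3 G) (h : Adj X Y) : Adj (g • X) (g • Y) := by
  obtain ⟨hne, u, hu, hX, hY⟩ := h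
  refine ⟨fun e => hne (smul_left_cancel g e), g * u * g⁻¹, ?_, h1g7_inverts_smul g u X hX,
    h1g7_inverts_smul g u Y hY⟩
  have := MulEquiv.orderOf_eq (MulAut.conj g) u
  rw [MulAut.conj_apply] at this
  rw [this, hu]

omit [Finite G] in
theorem h1g7_smul_eq_self (P : Sylow 3 G) (r : G) (hr : r ∈ (P : Subgroup G)) : r • P = P :=
  Sylow.smul_eq_iff_mem_normalizer.mpr (le_normalizer hr)

omit [Finite G] in
/-- `(a * r * a⁻¹) • (a • P) = a • (r • P)`. -/
theorem h1g7_conj_smul (a r : G) (P : Sylow 3 G) : (a * r * a⁻¹) • (a • P) = a • (r • P) := by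
  rw [← mul_smul, ← mul_smul]
  congr 1
  group

omit [Finite G] in
/-- orbit-stabiliser for a subgroup acting on the Sylow 3-subgroups. -/
theorem h1g7_card_orbit (H : Subgroup G) (P : Sylow 3 G) (𝒪 : Set (Sylow 3 G))
    (h𝒪 : ∀ X, X ∈ 𝒪 ↔ ∃ h ∈ H, h • P = X) :
    Nat.card H = 𝒪.ncard * Nat.card (H ⊓ normalizer ((P : Subgroup G) : Set G) : Subgroup G) := by
  have e := MulAction.orbitProdStabilizerEquivGroup H P
  rw [← Nat.card_congr e, Nat.card_prod]
  congr 1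
  · rw [Nat.card_coe_set_eq]
    congr 1
    ext X
    rw [MulAction.mem_orbit_iff, h𝒪]
    constructor
    · rintro ⟨h, hh⟩
      exact ⟨h.1, h.2, hh⟩
    · rintro ⟨h, hh, hX⟩
      exact ⟨⟨h, hh⟩, hX⟩
  · refine Nat.card_congr ⟨fun x => ⟨x.1.1, ⟨x.1.2, ?_⟩⟩, fun y => ⟨⟨y.1, y.2.1⟩, ?_⟩, ?_, ?_⟩
    · have := x.2
      rw [MulAction.mem_stabilizer_iff, Subgroup.smul_def] at this
      exact Sylow.smul_eq_iff_mem_normalizer.mp this
    · rw [MulAction.mem_stabilizer_iff, Subgroup.smul_def]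
      exact Sylow.smul_eq_iff_mem_normalizer.mpr y.2.2
    · intro x; rfl
    · intro y; rfl

/-- (G7) the subgroup of order 720. -/
theorem chain_of_a (B : Base G) (L : Loc G) (T : Tri t R R2 R3) (Cf : Conf t R R2 R3)
    (hadj : ∀ (t' : G) (P P2 P3 : Sylow 3 G), Tri t' P P2 P3 →
      (∀ X : Sylow 3 G, Adj P X ↔ ∃ r ∈ (P : Subgroup G), X = r • P2 ∨ X = r • P3) ∧
      (∀ r ∈ (P : Subgroup G), ∀ r' ∈ (P : Subgroup G), r • P2 ≠ r' • P3) ∧
      (∀ r ∈ (P : Subgroup G), ∀ r' ∈ (P : Subgroup G), r • P2 = r' • P2 → r = r'))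
    (ha : ∀ r ∈ (R : Subgroup G), r ≠ 1 → Adj R2 (r • R2))
    (hnb : ∀ r ∈ (R : Subgroup G), r ≠ 1 → ¬ Adj R2 (r • R3)) :
    ∃ (M N0 O : Subgroup G) (s m n : G), Chain M N0 O s m n := by
  classical
  obtain ⟨g, hgt, hgR, hgR2, hgR3⟩ := Cf.sw12
  obtain ⟨s, hsN, hst, hs23, hs32⟩ := Cf.sw23
  obtain ⟨hA, hA2, hA3⟩ := hadj t R R2 R3 T
  have T' : Tri t R2 R R3 := ⟨T.ht, T.i2, T.i1, T.i3, T.ne12.symm, T.ne23, T.ne13⟩
  obtain ⟨hB, hB2, hB3⟩ := hadj t R2 R R3 T'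
  -- inverse actions of g
  have hg'R2 : g⁻¹ • R2 = R := by rw [← hgR, inv_smul_smul]
  have hg'R : g⁻¹ • R = R2 := by rw [← hgR2, inv_smul_smul]
  have hg'R3 : g⁻¹ • R3 = R3 := by
    conv_lhs => rw [← hgR3]
    rw [inv_smul_smul]
  have hs'R3 : s⁻¹ • R3 = R2 := by rw [← hs23, inv_smul_smul]
  have hsR : s • R = R := Sylow.smul_eq_iff_mem_normalizer.mpr hsN
  have hs'R : s⁻¹ • R = R := by
    conv_lhs => rw [← hsR]
    rw [inv_smul_smul]
  -- `hnb` transported by `g`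
  have hnb' : ∀ x ∈ (R2 : Subgroup G), x ≠ 1 → ¬ Adj R (x • R3) := by
    intro x hx hx1 hadjx
    have hr : g⁻¹ * x * g ∈ (R : Subgroup G) := by
      rw [← h1g7_mem_smul, hgR]; exact hx
    have hr1 : g⁻¹ * x * g ≠ 1 := by
      intro h
      apply hx1
      have : x = g * (g⁻¹ * x * g) * g⁻¹ := by group
      rw [this, h]; group
    apply hnb _ hr hr1
    have := h1g7_adj_smul g⁻¹ _ _ hadjx
    rw [hg'R] at this
    have e : g⁻¹ • x • R3 = (g⁻¹ * x * g) • R3 := by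
      conv_rhs => rw [← hg'R3]
      rw [← mul_smul, ← mul_smul]
      congr 1
      group
    rw [e] at this
    exact this
  -- the two descriptions of the clique
  have key1 : ∀ r ∈ (R : Subgroup G), r ≠ 1 → ∃ x ∈ (R2 : Subgroup G), r • R2 = x • R := by
    intro r hr hr1
    obtain ⟨x, hx, h | h⟩ := (hB _).mp (ha r hr hr1)
    · exact ⟨x, hx, h⟩
    · exfalso
      have h1 : Adj R (r • R2) := (hA _).mpr ⟨r, hr, Or.inl rfl⟩
      rw [h] at h1
      by_cases hx1 : x = 1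
      · rw [hx1, one_smul] at h
        exact hA2 r hr 1 (one_mem _) (by rw [one_smul]; exact h)
      · exact hnb' x hx hx1 h1
  have key2 : ∀ x ∈ (R2 : Subgroup G), x ≠ 1 → ∃ r ∈ (R : Subgroup G), x • R = r • R2 := by
    intro x hx hx1
    have hr : g⁻¹ * x * g ∈ (R : Subgroup G) := by
      rw [← h1g7_mem_smul, hgR]; exact hx
    have hr1 : g⁻¹ * x * g ≠ 1 := by
      intro h
      apply hx1
      have : x = g * (g⁻¹ * x * g) * g⁻¹ := by group
      rw [this, h]; group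
    obtain ⟨x0, hx0, h0⟩ := key1 _ hr hr1
    refine ⟨g * x0 * g⁻¹, ?_, ?_⟩
    · have := h1g7_conj_mem_smul R2 g x0 hx0
      rw [hgR2] at this
      exact this
    · have e1 : x • R = g • (g⁻¹ * x * g) • R2 := by
        conv_lhs => rw [← hgR2]
        rw [← mul_smul, ← mul_smul]
        congr 1
        group
      have e2 : (g * x0 * g⁻¹) • R2 = g • x0 • R := by
        conv_lhs => rw [← hgR]
        exact h1g7_conj_smul g x0 R
      rw [e1, e2, h0]
  -- the clique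
  let 𝒞 : Set (Sylow 3 G) := {X | X = R ∨ ∃ r ∈ (R : Subgroup G), X = r • R2}
  have h𝒞fin : 𝒞.Finite := Set.toFinite _
  have hR𝒞 : R ∈ 𝒞 := Or.inl rfl
  have hR2𝒞 : R2 ∈ 𝒞 := Or.inr ⟨1, one_mem _, (one_smul _ _).symm⟩
  have hne_R : ∀ r ∈ (R : Subgroup G), r • R2 ≠ R := by
    intro r hr h
    apply T.ne12
    have : r⁻¹ • (r • R2) = r⁻¹ • R := by rw [h]
    rw [inv_smul_smul, h1g7_smul_eq_self R _ (inv_mem hr)] at this
    exact this.symm
  -- invariance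
  have iR : ∀ r ∈ (R : Subgroup G), ∀ X ∈ 𝒞, r • X ∈ 𝒞 := by
    rintro r hr X (rfl | ⟨r', hr', rfl⟩)
    · left; exact h1g7_smul_eq_self _ r hr
    · right; exact ⟨r * r', mul_mem hr hr', (mul_smul _ _ _).symm⟩
  have iO : ∀ o : G, o ∈ normalizer ((R : Subgroup G) : Set G) →
      o ∈ normalizer ((R2 : Subgroup G) : Set G) → ∀ X ∈ 𝒞, o • X ∈ 𝒞 := by
    rintro o ho ho2 X (rfl | ⟨r', hr', rfl⟩)
    · left; exact Sylow.smul_eq_iff_mem_normalizer.mpr ho
    · right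
      refine ⟨o * r' * o⁻¹, (mem_normalizer_iff.mp ho r').mp hr', ?_⟩
      have := h1g7_conj_smul o r' R2
      rw [Sylow.smul_eq_iff_mem_normalizer.mpr ho2] at this
      exact this.symm
  have ig : ∀ X ∈ 𝒞, g • X ∈ 𝒞 := by
    rintro X (rfl | ⟨r', hr', rfl⟩)
    · rw [hgR]; exact hR2𝒞
    · have e : g • r' • R2 = (g * r' * g⁻¹) • R := by
        conv_rhs => rw [← hgR2]
        exact (h1g7_conj_smul g r' R2).symm
      have hx : g * r' * g⁻¹ ∈ (R2 : Subgroup G) := by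
        have := h1g7_conj_mem_smul R g r' hr'
        rw [hgR] at this
        exact this
      rw [e]
      by_cases hx1 : g * r' * g⁻¹ = 1
      · rw [hx1, one_smul]; exact hR𝒞
      · obtain ⟨r, hr, h⟩ := key2 _ hx hx1
        rw [h]; exact Or.inr ⟨r, hr, rfl⟩
  -- the groups
  let M : Subgroup G := MulAction.stabilizer G 𝒞
  have hM : ∀ a : G, a ∈ M ↔ ∀ X ∈ 𝒞, a • X ∈ 𝒞 := fun a => MulAction.mem_stabilizer_set' h𝒞fin
  have hRM : ∀ r ∈ (R : Subgroup G), r ∈ M := fun r hr => (hM r).mpr (iR r hr)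
  have hOM : ∀ o : G, o ∈ normalizer ((R : Subgroup G) : Set G) →
      o ∈ normalizer ((R2 : Subgroup G) : Set G) → o ∈ M := fun o h1 h2 => (hM o).mpr (iO o h1 h2)
  have hgM : g ∈ M := (hM g).mpr ig
  let N0 : Subgroup G := M ⊓ normalizer ((R : Subgroup G) : Set G)
  let O : Subgroup G := normalizer ((R : Subgroup G) : Set G) ⊓ normalizer ((R2 : Subgroup G) : Set G)
  -- decomposition of N0
  have hdec : ∀ x ∈ N0, ∃ r ∈ (R : Subgroup G), r⁻¹ * x ∈ O := by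
    intro x hx
    have h1 : x • R2 ∈ 𝒞 := (hM x).mp hx.1 _ hR2𝒞
    have hxR : x • R = R := Sylow.smul_eq_iff_mem_normalizer.mpr hx.2
    rcases h1 with h1 | ⟨r, hr, h1⟩
    · exfalso
      apply T.ne12
      have : x • R2 = x • R := by rw [h1, hxR]
      exact (smul_left_cancel x this).symm
    · refine ⟨r, hr, ?_, ?_⟩
      · exact mul_mem (le_normalizer (inv_mem hr)) hx.2
      · apply Sylow.smul_eq_iff_mem_normalizer.mp
        rw [mul_smul, h1, inv_smul_smul]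
  have hON0 : ∀ o ∈ O, o ∈ N0 := fun o ho => ⟨hOM o ho.1 ho.2, ho.1⟩
  -- cardinalities
  have cO : Nat.card O = 8 := Cf.cO
  have hcardR : Nat.card (R : Subgroup G) = 9 := L.card3 R
  let 𝒪2 : Set (Sylow 3 G) := (fun r : G => r • R2) '' ((R : Subgroup G) : Set G)
  have h𝒪2 : ∀ X, X ∈ 𝒪2 ↔ ∃ h ∈ N0, h • R2 = X := by
    intro X
    constructor
    · rintro ⟨r, hr, rfl⟩
      exact ⟨r, ⟨hRM r hr, le_normalizer hr⟩, rfl⟩
    · rintro ⟨h, hh, rfl⟩
      obtain ⟨r, hr, ho⟩ := hdec h hh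
      refine ⟨r, hr, ?_⟩
      have := Sylow.smul_eq_iff_mem_normalizer.mpr ho.2
      rw [mul_smul] at this
      show r • R2 = h • R2
      conv_lhs => rw [← this]
      rw [smul_inv_smul]
  have c𝒪2 : 𝒪2.ncard = 9 := by
    rw [Set.InjOn.ncard_image]
    · rw [← Nat.card_coe_set_eq]; exact hcardR
    · intro r hr r' hr' h
      exact hA3 r hr r' hr' h
  have cN0 : Nat.card N0 = 72 := by
    rw [h1g7_card_orbit N0 R2 𝒪2 h𝒪2, c𝒪2]
    have : (N0 ⊓ normalizer ((R2 : Subgroup G) : Set G) : Subgroup G) = O := by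
      ext x
      constructor
      · rintro ⟨⟨_, h1⟩, h2⟩
        exact ⟨h1, h2⟩
      · intro hx
        exact ⟨hON0 x hx, hx.2⟩
    rw [this, cO]
  have h𝒞orb : ∀ X, X ∈ 𝒞 ↔ ∃ h ∈ M, h • R = X := by
    intro X
    constructor
    · rintro (rfl | ⟨r, hr, rfl⟩)
      · exact ⟨1, one_mem _, one_smul _ _⟩
      · exact ⟨r * g, mul_mem (hRM r hr) hgM, by rw [mul_smul, hgR]⟩
    · rintro ⟨h, hh, rfl⟩
      exact (hM h).mp hh _ hR𝒞
  have c𝒞 : 𝒞.ncard = 10 := by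
    have : 𝒞 = insert R 𝒪2 := by
      ext X
      constructor
      · rintro (rfl | ⟨r, hr, rfl⟩)
        · exact Set.mem_insert _ _
        · exact Set.mem_insert_of_mem _ ⟨r, hr, rfl⟩
      · rintro (rfl | ⟨r, hr, rfl⟩)
        · exact hR𝒞
        · exact Or.inr ⟨r, hr, rfl⟩
    rw [this, Set.ncard_insert_of_notMem _ (Set.toFinite _), c𝒪2]
    rintro ⟨r, hr, h⟩
    exact hne_R r hr h
  have cM : Nat.card M = 720 := by
    rw [h1g7_card_orbit M R 𝒞 h𝒞orb, c𝒞]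
    show 10 * Nat.card N0 = 720
    rw [cN0]
  -- a nontrivial element of R
  have : Nontrivial (R : Subgroup G) := by
    rw [← Finite.one_lt_card_iff_nontrivial]
    omega
  obtain ⟨⟨r1, hr1⟩, hne1'⟩ := exists_ne (1 : (R : Subgroup G))
  have hne1 : r1 ≠ 1 := fun h => hne1' (Subtype.ext h)
  -- images under s
  have hs𝒞 : ∀ X ∈ 𝒞, s • X = R ∨ ∃ r ∈ (R : Subgroup G), s • X = r • R3 := by
    rintro X (rfl | ⟨r, hr, rfl⟩)
    · left; exact hsR
    · right
      refine ⟨s * r * s⁻¹, (mem_normalizer_iff.mp hsN r).mp hr, ?_⟩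
      have := h1g7_conj_smul s r R2
      rw [hs23] at this
      exact this.symm
  have hs'𝒞3 : ∀ r ∈ (R : Subgroup G), s⁻¹ • (r • R3) ∈ 𝒞 := by
    intro r hr
    right
    refine ⟨s⁻¹ * r * s, ?_, ?_⟩
    · have := (mem_normalizer_iff.mp (inv_mem hsN) r).mp hr
      rw [inv_inv] at this
      exact this
    · have := h1g7_conj_smul s⁻¹ r R3
      rw [hs'R3, inv_inv] at this
      exact this.symm
  refine ⟨M, N0, O, s, g, r1, cM, cN0, cO, hgM, ⟨hRM r1 hr1, le_normalizer hr1⟩, ?_, ?_, ?_⟩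
  · -- (1)
    intro x
    constructor
    · intro hx
      refine ⟨hx.1, (hM _).mpr ?_⟩
      intro X hX
      have e : (s⁻¹ * x * s) • X = s⁻¹ • x • s • X := by rw [mul_smul, mul_smul]
      rw [e]
      have hxR : x • R = R := Sylow.smul_eq_iff_mem_normalizer.mpr hx.2
      rcases hs𝒞 X hX with h | ⟨r, hr, h⟩
      · rw [h, hxR, hs'R]; exact hR𝒞
      · rw [h]
        obtain ⟨r0, hr0, ho⟩ := hdec x hx
        have ho3 := (Cf.Ot _ ho.1 ho.2).2
        have e2 : x • r • R3 = (r0 * ((r0⁻¹ * x) * r * (r0⁻¹ * x)⁻¹)) • R3 := by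
          have h5 := h1g7_conj_smul (r0⁻¹ * x) r R3
          rw [Sylow.smul_eq_iff_mem_normalizer.mpr ho3] at h5
          rw [mul_smul r0, h5, ← mul_smul r0, mul_inv_cancel_left]
        rw [e2]
        exact hs'𝒞3 _ (mul_mem hr0 ((mem_normalizer_iff.mp ho.1 r).mp hr))
    · rintro ⟨hxM, hxs⟩
      refine ⟨hxM, ?_⟩
      apply Sylow.smul_eq_iff_mem_normalizer.mp
      have h1 : x • R ∈ 𝒞 := (hM x).mp hxM _ hR𝒞
      have h2 : (s⁻¹ * x * s) • R ∈ 𝒞 := (hM _).mp hxs _ hR𝒞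
      have e : (s⁻¹ * x * s) • R = s⁻¹ • x • R := by rw [mul_smul, mul_smul, hsR]
      rw [e] at h2
      have h3 := hs𝒞 _ h2
      rw [smul_inv_smul] at h3
      rcases h1 with h1 | ⟨r, hr, h1⟩
      · exact h1
      · rcases h3 with h3 | ⟨r', hr', h3⟩
        · exact h3
        · exfalso
          exact hA2 r hr r' hr' (h1.symm.trans h3)
  · -- (2)
    intro x
    constructor
    · intro hx
      refine ⟨hON0 x hx, M.mul_mem (M.mul_mem (M.inv_mem hgM) (hOM x hx.1 hx.2)) hgM, ?_⟩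
      apply Sylow.smul_eq_iff_mem_normalizer.mp
      rw [mul_smul, mul_smul, hgR, Sylow.smul_eq_iff_mem_normalizer.mpr hx.2, hg'R2]
    · rintro ⟨hx, hxg⟩
      refine ⟨hx.2, ?_⟩
      apply Sylow.smul_eq_iff_mem_normalizer.mp
      have := Sylow.smul_eq_iff_mem_normalizer.mpr hxg.2
      rw [mul_smul, mul_smul, hgR] at this
      have h2 : g • (g⁻¹ • x • R2) = g • R := by rw [this]
      rw [smul_inv_smul, hgR] at h2
      exact h2
  · -- (3)
    intro x hx hx'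
    have hz1 : (r1⁻¹ * x * r1) * x⁻¹ ∈ O := O.mul_mem hx' (O.inv_mem hx)
    have hz2 : (r1⁻¹ * x * r1) * x⁻¹ ∈ (R : Subgroup G) := by
      have e : (r1⁻¹ * x * r1) * x⁻¹ = r1⁻¹ * (x * r1 * x⁻¹) := by group
      rw [e]
      exact mul_mem (inv_mem hr1) ((mem_normalizer_iff.mp hx.1 r1).mp hr1)
    have hz : (r1⁻¹ * x * r1) * x⁻¹ = 1 := by
      have d1 := Subgroup.orderOf_dvd_natCard O hz1
      have d2 := Subgroup.orderOf_dvd_natCard (R : Subgroup G) hz2
      rw [cO] at d1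
      rw [hcardR] at d2
      have := Nat.dvd_gcd d1 d2
      norm_num at this
      exact this
    have hcomm : x * r1 * x⁻¹ = r1 := by
      have e : x * r1 * x⁻¹ = r1 * ((r1⁻¹ * x * r1) * x⁻¹) := by group
      rw [e, hz, mul_one]
    exact Cf.Oreg x hx.1 hx.2 r1 hr1 hne1 hcomm

end Cfsg.Agent.Helper1.M11U
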