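import Mathlib
import Cfsg.Agent.Lib.Helper7.M11UDefs
import Cfsg.Agent.Lib.Helper1.M11UG7

/-!
# M11UG2 (b2): a subgroup of order 16 of `C(t)` is transitive on the four Sylow 3-subgroups normalised
but not inverted by `t` (second seat; sub-piece of helper1's sub-server for helper7's M11U (G2))
-/

set_option autoImplicit false

namespace Cfsg.Agent.Helper1.M11U

open Subgroup Cfsg.Agent.Helper7.M11U
open scoped Pointwise

variable {G : Type*} [Group G] [Finite G] {t : G} {R R2 R3 : Sylow 3 G}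

omit [Finite G] in
theorem h1g2_normalizes_of_inverts (ht : orderOf t = 2) (E : Sylow 3 G)
    (h : Inverts t (E : Subgroup G)) : t ∈ normalizer ((E : Subgroup G) : Set G) := by
  have ht2 : t * t = 1 := by
    have := pow_orderOf_eq_one t
    rw [ht, pow_two] at this
    exact this
  have hti : t⁻¹ = t := inv_eq_of_mul_eq_one_left ht2
  rw [mem_normalizer_iff]
  intro x
  constructor
  · intro hx
    rw [h x hx]
    exact inv_mem hx
  · intro hx
    have h1 := h _ hx
    have e : t * (t * x * t⁻¹) * t⁻¹ = x := by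
      rw [hti]
      calc t * (t * x * t) * t = (t * t) * x * (t * t) := by group
        _ = x := by rw [ht2, one_mul, mul_one]
    rw [e] at h1
    rw [h1]
    exact inv_mem hx

/-- (G2b2) a subgroup `S ≤ C(t)` of order 16 is transitive on them as well. -/
theorem g2b2 (B : Base G) (L : Loc G) (ht : orderOf t = 2)
    (htr : ∀ E E' : Sylow 3 G, t ∈ normalizer ((E : Subgroup G) : Set G) → ¬ Inverts t (E : Subgroup G) →
      t ∈ normalizer ((E' : Subgroup G) : Set G) → ¬ Inverts t (E' : Subgroup G) →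
      ∃ c : G, c * t = t * c ∧ c • E = E')
    (S : Subgroup G) (hSt : ∀ s ∈ S, s * t = t * s) (hS : Nat.card S = 16) :
    ∀ E E' : Sylow 3 G, t ∈ normalizer ((E : Subgroup G) : Set G) → ¬ Inverts t (E : Subgroup G) →
      t ∈ normalizer ((E' : Subgroup G) : Set G) → ¬ Inverts t (E' : Subgroup G) →
      ∃ s ∈ S, s • E = E' := by
  classical
  intro E E' hEt hEi hEt' hEi'
  let 𝓝 : Set (Sylow 3 G) := {X | t ∈ normalizer ((X : Subgroup G) : Set G)}
  let ℐ : Set (Sylow 3 G) := {X | Inverts t (X : Subgroup G)}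
  let 𝓔 : Set (Sylow 3 G) := {X | t ∈ normalizer ((X : Subgroup G) : Set G) ∧ ¬ Inverts t (X : Subgroup G)}
  have c𝓝 : 𝓝.ncard = 7 := by
    rw [← Nat.card_coe_set_eq]
    exact L.seven t ht
  have cℐ : ℐ.ncard = 3 := by
    rw [← Nat.card_coe_set_eq]
    exact L.three t ht
  have hsub : ℐ ⊆ 𝓝 := fun X hX => h1g2_normalizes_of_inverts ht X hX
  have c𝓔 : 𝓔.ncard = 4 := by
    have : 𝓔 = 𝓝 \ ℐ := by
      ext X
      rfl
    rw [this, Set.ncard_sdiff hsub (Set.toFinite _), c𝓝, cℐ]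
  -- C(t) preserves 𝓔
  have hpres : ∀ c : G, c * t = t * c → ∀ X ∈ 𝓔, c • X ∈ 𝓔 := by
    intro c hc X hX
    have hconj : c⁻¹ * t * c = t := by
      rw [mul_assoc, ← hc, ← mul_assoc, inv_mul_cancel, one_mul]
    constructor
    · apply Sylow.smul_eq_iff_mem_normalizer.mp
      have h1 := Sylow.smul_eq_iff_mem_normalizer.mpr hX.1
      rw [← mul_smul, ← hc, mul_smul, h1]
    · intro hinv
      apply hX.2
      have := h1g7_inverts_smul c⁻¹ t _ hinv
      rw [inv_smul_smul, inv_inv, hconj] at this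
      exact this
  -- orbit of E under C(t)
  let C : Subgroup G := centralizer ({t} : Set G)
  have hCmem : ∀ c : G, c ∈ C ↔ c * t = t * c := by
    intro c
    show c ∈ centralizer ({t} : Set G) ↔ _
    rw [mem_centralizer_iff]
    constructor
    · intro h; exact (h t rfl).symm
    · intro h x hx
      rw [Set.mem_singleton_iff] at hx
      rw [hx]; exact h.symm
  have hE𝓔 : E ∈ 𝓔 := ⟨hEt, hEi⟩
  have horbC : ∀ X, X ∈ 𝓔 ↔ ∃ c ∈ C, c • E = X := by
    intro X
    constructor
    · intro hX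
      obtain ⟨c, hc, hcE⟩ := htr E X hEt hEi hX.1 hX.2
      exact ⟨c, (hCmem c).mpr hc, hcE⟩
    · rintro ⟨c, hc, rfl⟩
      exact hpres c ((hCmem c).mp hc) E hE𝓔
  have cC : Nat.card C = 48 := B.h48 t ht
  have cstab : Nat.card (C ⊓ normalizer ((E : Subgroup G) : Set G) : Subgroup G) = 12 := by
    have := h1g7_card_orbit C E 𝓔 horbC
    rw [cC, c𝓔] at this
    omega
  -- orbit of E under S
  let 𝒪 : Set (Sylow 3 G) := {X | ∃ s ∈ S, s • E = X}
  have hSC : S ≤ C := fun s hs => (hCmem s).mpr (hSt s hs)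
  have h𝒪sub : 𝒪 ⊆ 𝓔 := by
    rintro X ⟨s, hs, rfl⟩
    exact hpres s (hSt s hs) E hE𝓔
  have hcard := h1g7_card_orbit S E 𝒪 (fun X => Iff.rfl)
  rw [hS] at hcard
  have d1 : Nat.card (S ⊓ normalizer ((E : Subgroup G) : Set G) : Subgroup G) ∣ 12 := by
    rw [← cstab]
    exact Subgroup.card_dvd_of_le (inf_le_inf_right _ hSC)
  have d2 : Nat.card (S ⊓ normalizer ((E : Subgroup G) : Set G) : Subgroup G) ∣ 16 := by
    rw [← hS]
    exact Subgroup.card_dvd_of_le inf_le_left
  have d3 : Nat.card (S ⊓ normalizer ((E : Subgroup G) : Set G) : Subgroup G) ∣ 4 := by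
    have := Nat.dvd_gcd d1 d2
    norm_num at this
    exact this
  have hle : Nat.card (S ⊓ normalizer ((E : Subgroup G) : Set G) : Subgroup G) ≤ 4 :=
    Nat.le_of_dvd (by norm_num) d3
  have h𝒪card : 4 ≤ 𝒪.ncard := by
    by_contra hlt
    push Not at hlt
    have : 𝒪.ncard * Nat.card (S ⊓ normalizer ((E : Subgroup G) : Set G) : Subgroup G) ≤ 3 * 4 :=
      Nat.mul_le_mul (by omega) hle
    omega
  have heq : 𝒪 = 𝓔 := Set.eq_of_subset_of_ncard_le h𝒪sub (by rw [c𝓔]; exact h𝒪card) (Set.toFinite _)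
  have : E' ∈ 𝒪 := by
    rw [heq]
    exact ⟨hEt', hEi'⟩
  exact this

end Cfsg.Agent.Helper1.M11U
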