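import Mathlib
import Cfsg.Agent.Lib.Helper7.M11UDefs
import Cfsg.Agent.Lib.Helper23.M11UG2a
import Cfsg.Agent.Lib.Helper82.M11UG2b1
import Cfsg.Agent.Lib.Helper1.M11UG2b2

/-!
# M11U (G2) `nonadj_trans`: `N(R)` is transitive on the 36 non-neighbours of `R`
(piece of helper7's lemma server "M11U", row S0420; assembled from the sub-pieces g2a (helper23),
g2b1 (helper82), g2b2)
-/

set_option autoImplicit false

namespace Cfsg.Agent.Helper1.M11U

open Subgroup Cfsg.Agent.Helper7.M11U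
open scoped Pointwise

variable {G : Type*} [Group G] [Finite G] {t : G} {R R2 R3 : Sylow 3 G}

/-- (G2) `N(R)` is transitive on the non-neighbours of `R`. -/
theorem nonadj_trans (B : Base G) (L : Loc G) (T : Tri t R R2 R3) (Cf : Conf t R R2 R3)
    (hadj : ∀ (t' : G) (P P2 P3 : Sylow 3 G), Tri t' P P2 P3 →
      (∀ X : Sylow 3 G, Adj P X ↔ ∃ r ∈ (P : Subgroup G), X = r • P2 ∨ X = r • P3) ∧
      (∀ r ∈ (P : Subgroup G), ∀ r' ∈ (P : Subgroup G), r • P2 ≠ r' • P3) ∧
      (∀ r ∈ (P : Subgroup G), ∀ r' ∈ (P : Subgroup G), r • P2 = r' • P2 → r = r')) :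
    ∀ X Y : Sylow 3 G, X ≠ R → ¬ Adj R X → Y ≠ R → ¬ Adj R Y →
      ∃ n : G, n ∈ normalizer ((R : Subgroup G) : Set G) ∧ n • X = Y := by
  classical
  obtain ⟨hA, -, -⟩ := hadj t R R2 R3 T
  -- the Sylow 3-subgroups inverted by t are R, R2, R3
  have hthree : ∀ E : Sylow 3 G, Inverts t (E : Subgroup G) → E = R ∨ E = R2 ∨ E = R3 := by
    intro E hE
    by_contra hne
    push Not at hne
    have h3 := L.three t T.ht
    have : Fintype {P : Sylow 3 G // Inverts t (P : Subgroup G)} := Fintype.ofFinite _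
    rw [Nat.card_eq_fintype_card] at h3
    let a : {P : Sylow 3 G // Inverts t (P : Subgroup G)} := ⟨R, T.i1⟩
    let b : {P : Sylow 3 G // Inverts t (P : Subgroup G)} := ⟨R2, T.i2⟩
    let c : {P : Sylow 3 G // Inverts t (P : Subgroup G)} := ⟨R3, T.i3⟩
    let d : {P : Sylow 3 G // Inverts t (P : Subgroup G)} := ⟨E, hE⟩
    have hcard : ({a, b, c, d} : Finset _).card = 4 := by
      rw [Finset.card_insert_of_notMem, Finset.card_insert_of_notMem, Finset.card_insert_of_notMem,
        Finset.card_singleton]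
      · simp only [Finset.mem_singleton, c, d, Subtype.mk.injEq]; exact fun h => hne.2.2 h.symm
      · simp only [Finset.mem_insert, Finset.mem_singleton, b, c, d, Subtype.mk.injEq]
        rintro (h | h)
        · exact T.ne23 h
        · exact hne.2.1 h.symm
      · simp only [Finset.mem_insert, Finset.mem_singleton, a, b, c, d, Subtype.mk.injEq]
        rintro (h | h | h)
        · exact T.ne12 h
        · exact T.ne13 h
        · exact hne.1 h.symm
    have := Finset.card_le_univ ({a, b, c, d} : Finset _)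
    omega
  have key : ∀ X : Sylow 3 G, X ≠ R → ¬ Adj R X → ∃ r ∈ (R : Subgroup G), ∃ E : Sylow 3 G,
      t ∈ normalizer ((E : Subgroup G) : Set G) ∧ ¬ Inverts t (E : Subgroup G) ∧ X = r • E := by
    intro X hX hnX
    obtain ⟨r, hr, E, hEt, hER, rfl⟩ := Cfsg.Agent.Helper23.M11U.g2a B L T.ht T.i1 X hX
    refine ⟨r, hr, E, hEt, ?_, rfl⟩
    intro hinv
    rcases hthree E hinv with h | h | h
    · exact hER h
    · exact hnX ((hA _).mpr ⟨r, hr, Or.inl (by rw [h])⟩)
    · exact hnX ((hA _).mpr ⟨r, hr, Or.inr (by rw [h])⟩)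
  intro X Y hX hnX hY hnY
  obtain ⟨r, hr, E, hEt, hEi, rfl⟩ := key X hX hnX
  obtain ⟨r', hr', E', hEt', hEi', rfl⟩ := key Y hY hnY
  have hSt : ∀ s ∈ (normalizer ((R : Subgroup G) : Set G) ⊓ centralizer ({t} : Set G) : Subgroup G),
      s * t = t * s := by
    intro s hs
    have h2 : s ∈ centralizer ({t} : Set G) := hs.2
    rw [mem_centralizer_iff] at h2
    exact (h2 t rfl).symm
  obtain ⟨s, hs, hsE⟩ := g2b2 B L T.ht (Cfsg.Agent.Helper82.M11U.g2b1 B L T.ht) _ hSt Cf.cS E E' hEt hEi hEt' hEi'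
  have hRN : (R : Subgroup G) ≤ normalizer ((R : Subgroup G) : Set G) := le_normalizer
  refine ⟨r' * s * r⁻¹, mul_mem (mul_mem (hRN hr') hs.1) (inv_mem (hRN hr)), ?_⟩
  rw [mul_smul, mul_smul, inv_smul_smul, hsE]

end Cfsg.Agent.Helper1.M11U
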