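import Mathlib
import Cfsg.Agent.Lib.Helper18.O3K0
import Cfsg.Agent.S1163

/-!
# O3K server (helper18, S2363): piece (SZ) `concl_sz`, verbatim.
Order of `Lie.Sz F (2^(m+1))` from the landed S1163: `q² (q - 1) (q² + 1)`, `q = 2^(2m+1)`.
-/

set_option autoImplicit false

namespace Cfsg.Agent.Helper1.O3K

open Cfsg Cfsg.Agent.Helper18.O3K

/-- arithmetic core: with `q = 2 ^ k`, `k ≥ 1`, `P = (q - 1) (q² + 1)` is odd and `P³ < q ^ 10`. -/
theorem h1_sz_arith (k : ℕ) (hk : 1 ≤ k) :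
    ¬ 2 ∣ (2 ^ k - 1) * ((2 ^ k) ^ 2 + 1) ∧
      ((2 ^ k - 1) * ((2 ^ k) ^ 2 + 1)) ^ 3 < 1 ^ 3 * 2 ^ (5 * (2 * k)) := by
  have hq2 : 2 ≤ 2 ^ k := by
    calc 2 = 2 ^ 1 := by norm_num
      _ ≤ 2 ^ k := Nat.pow_le_pow_right (by norm_num) hk
  obtain ⟨q, hq⟩ : ∃ q, q = 2 ^ k := ⟨_, rfl⟩
  rw [← hq] at hq2 ⊢
  have heven : 2 ∣ q := by
    rw [hq]; exact dvd_pow_self 2 (by omega)
  constructor
  · intro h
    rcases (Nat.Prime.dvd_mul Nat.prime_two).mp h with h1 | h1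
    · have : 2 ∣ q - (q - 1) := Nat.dvd_sub heven h1
      have h2 : q - (q - 1) = 1 := by omega
      rw [h2] at this
      omega
    · have h3 : 2 ∣ q ^ 2 := dvd_pow heven (by norm_num)
      have : 2 ∣ 1 := (Nat.dvd_add_right h3).mp h1
      omega
  · have hP : (q - 1) * (q ^ 2 + 1) < q ^ 3 := by
      obtain ⟨r, rfl⟩ : ∃ r, q = r + 2 := ⟨q - 2, by omega⟩
      have : (r + 2 - 1) = r + 1 := by omega
      rw [this]
      nlinarith [Nat.zero_le r]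
    have h10 : 2 ^ (5 * (2 * k)) = q ^ 10 := by
      rw [hq, ← pow_mul]; congr 1; ring
    rw [h10, one_pow, one_mul]
    calc ((q - 1) * (q ^ 2 + 1)) ^ 3 < (q ^ 3) ^ 3 := Nat.pow_lt_pow_left hP (by norm_num)
      _ = q ^ 9 := by ring
      _ ≤ q ^ 10 := Nat.pow_le_pow_right (by omega) (by norm_num)

/- (SZ) order of `Lie.Sz F (2^(m+1))` (find the landed card statement for THIS model; S0324 is about `Cfsg.Sz F m`). -/
theorem concl_sz (F : Type) [Field F] [Fintype F] (m : ℕ) (hm : 1 ≤ m)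
    (hF : Fintype.card F = 2 ^ (2 * m + 1)) : Concl 2 ↥(Lie.Sz F (2 ^ (m + 1))) := by
  have hcard := (Cfsg.Agent.S1163.result (F := F) hm hF).1
  haveI : Finite ↥(Lie.Sz F (2 ^ (m + 1))) := by
    apply Nat.finite_of_card_ne_zero
    rw [hcard]
    have h1 : 2 ≤ 2 ^ (2 * m + 1) := by
      calc 2 = 2 ^ 1 := by norm_num
        _ ≤ 2 ^ (2 * m + 1) := Nat.pow_le_pow_right (by norm_num) (by omega)
    have h2 : 0 < 2 ^ (2 * m + 1) - 1 := by omega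
    positivity
  obtain ⟨hodd, hlt⟩ := h1_sz_arith (2 * m + 1) (by omega)
  refine concl_of_mul Nat.prime_two 1 (2 * (2 * m + 1))
    ((2 ^ (2 * m + 1) - 1) * ((2 ^ (2 * m + 1)) ^ 2 + 1)) ?_ (by norm_num) hodd hlt
  rw [hcard, one_mul]
  have : (2 : ℕ) ^ (2 * (2 * m + 1)) = (2 ^ (2 * m + 1)) ^ 2 := by
    rw [← pow_mul]; congr 1; ring
  rw [this]
  ring

end Cfsg.Agent.Helper1.O3K
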