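import Mathlib

/-!
# Overgroups of a Sylow normaliser (generic) and the KEY lemma for order 459648 (S1022).
-/

set_option autoImplicit false

namespace Cfsg.Agent.Helper1.O459648

variable {G : Type*} [Group G] [Finite G]

/-- If `N_G(P) ≤ M` then `|M| = d * |N_G(P)|` with `d = n_p(M) ≡ 1 mod p`. -/
theorem h1_card_overgroup {p : ℕ} [hp : Fact p.Prime] (P : Sylow p G) (M : Subgroup G)
    (hNM : Subgroup.normalizer ((P : Subgroup G) : Set G) ≤ M) :
    ∃ d : ℕ, d % p = 1 ∧
      Nat.card M = d * Nat.card (Subgroup.normalizer ((P : Subgroup G) : Set G)) := by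
  have hPM : (P : Subgroup G) ≤ M := Subgroup.le_normalizer.trans hNM
  refine ⟨Nat.card (Sylow p M), ?_, ?_⟩
  · have h1 := card_sylow_modEq_one p M
    have hp1 : 1 < p := hp.out.one_lt
    have : Nat.card (Sylow p M) % p = 1 % p := h1
    rwa [Nat.mod_eq_of_lt hp1] at this
  · have h2 := (P.subtype hPM).card_eq_index_normalizer
    have h3 : Subgroup.normalizer (((P.subtype hPM : Sylow p M) : Subgroup M) : Set M) =
        (Subgroup.normalizer ((P : Subgroup G) : Set G)).subgroupOf M := by
      rw [Sylow.coe_subtype]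
      exact (Subgroup.subgroupOf_normalizer_eq hPM).symm
    have h3' : Subgroup.normalizer ((P.subtype hPM : Sylow p M) : Set M) =
        (Subgroup.normalizer ((P : Subgroup G) : Set G)).subgroupOf M := h3
    rw [h2, h3']
    have h4 := Subgroup.card_mul_index
      ((Subgroup.normalizer ((P : Subgroup G) : Set G)).subgroupOf M)
    have h5 : Nat.card ((Subgroup.normalizer ((P : Subgroup G) : Set G)).subgroupOf M) =
        Nat.card (Subgroup.normalizer ((P : Subgroup G) : Set G)) :=
      Nat.card_congr (Subgroup.subgroupOfEquivOfLe hNM).toEquiv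
    rw [h5] at h4
    rw [← h4, mul_comm]

/-- arithmetic: a divisor of `1008` that is `1 mod 19` is `1` or `1008`. -/
theorem h1_dvd_1008 (d : ℕ) (hd : d ∣ 1008) (h19 : d % 19 = 1) : d = 1 ∨ d = 1008 := by
  have hle : d ≤ 1008 := Nat.le_of_dvd (by norm_num) hd
  have hmem : d ∈ (Nat.divisors 1008).filter (fun x => x % 19 = 1) := by
    rw [Finset.mem_filter, Nat.mem_divisors]
    exact ⟨⟨hd, by norm_num⟩, h19⟩
  have hset : (Nat.divisors 1008).filter (fun x => x % 19 = 1) = {1, 1008} := by decide +kernel
  rw [hset] at hmem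
  simpa using hmem

/-- KEY (order `459648`, `n_19 = 1008`): a subgroup `X ≠ ⊥, ⊤` of the simple group `G` whose
normaliser contains `N = N_G(P)`, `P` a Sylow `19`-subgroup, has `N_G(X) = N`. -/
theorem h1_key {G : Type*} [Group G] [Finite G] [IsSimpleGroup G] [Fact (Nat.Prime 19)]
    (hG : Nat.card G = 459648) (h1008 : Nat.card (Sylow 19 G) = 1008)
    (P : Sylow 19 G) (X : Subgroup G) (hX : X ≠ ⊥) (hXt : X ≠ ⊤)
    (hN : Subgroup.normalizer ((P : Subgroup G) : Set G) ≤ Subgroup.normalizer (X : Set G)) :
    Subgroup.normalizer (X : Set G) = Subgroup.normalizer ((P : Subgroup G) : Set G) := by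
  obtain ⟨d, hd19, hd⟩ := h1_card_overgroup P _ hN
  have hNcard : Nat.card (Subgroup.normalizer ((P : Subgroup G) : Set G)) * 1008 = 459648 := by
    have h1 : Nat.card (Sylow 19 G) =
        (Subgroup.normalizer ((P : Subgroup G) : Set G)).index := P.card_eq_index_normalizer
    have h2 := Subgroup.card_mul_index (Subgroup.normalizer ((P : Subgroup G) : Set G))
    rw [← h1, h1008, hG] at h2
    exact h2
  have hN456 : Nat.card (Subgroup.normalizer ((P : Subgroup G) : Set G)) = 456 := by omega
  have hMdvd : Nat.card (Subgroup.normalizer (X : Set G)) ∣ 459648 := by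
    rw [← hG]; exact Subgroup.card_subgroup_dvd_card _
  rw [hd, hN456] at hMdvd
  have hd1008 : d ∣ 1008 := by
    have : d * 456 ∣ 1008 * 456 := by norm_num; exact hMdvd
    exact Nat.dvd_of_mul_dvd_mul_right (by norm_num) this
  rcases h1_dvd_1008 d hd1008 hd19 with rfl | rfl
  · -- d = 1
    symm
    apply Subgroup.eq_of_le_of_card_ge hN
    rw [hd, one_mul]
  · -- d = 1008: N_G(X) = ⊤
    exfalso
    have htop : Subgroup.normalizer (X : Set G) = ⊤ := by
      apply Subgroup.eq_top_of_card_eq
      rw [hd, hN456, hG]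
    have hnorm : X.Normal := Subgroup.normalizer_eq_top_iff.mp htop
    rcases hnorm.eq_bot_or_eq_top with h | h
    · exact hX h
    · exact hXt h

end Cfsg.Agent.Helper1.O459648
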