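import Mathlib

/-!
# Generic pieces for order-killers (S1022): normaliser growth of p-subgroups.
-/

set_option autoImplicit false

namespace Cfsg.Agent.Helper1.O459648

variable {G : Type*} [Group G] [Finite G]

/-- A `p`-subgroup `X` of order `p ^ k` in a group whose order is divisible by `p ^ (k + 1)` has
`p ^ (k + 1) ∣ |N_G(X)|`. -/
theorem h1_pow_succ_dvd_card_normalizer {p : ℕ} [hp : Fact p.Prime] (X : Subgroup G) {k : ℕ}
    (hX : Nat.card X = p ^ k) (hG : p ^ (k + 1) ∣ Nat.card G) :
    p ^ (k + 1) ∣ Nat.card (Subgroup.normalizer (X : Set G)) := by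
  have h1 := Sylow.prime_dvd_card_quotient_normalizer hG hX
  have h2 : Nat.card (Subgroup.normalizer (X : Set G)) =
      Nat.card ((Subgroup.normalizer (X : Set G)) ⧸
        Subgroup.comap ((Subgroup.normalizer (X : Set G)).subtype) X) *
        Nat.card (Subgroup.comap ((Subgroup.normalizer (X : Set G)).subtype) X) :=
    Subgroup.card_eq_card_quotient_mul_card_subgroup _
  have h3 : Nat.card (Subgroup.comap ((Subgroup.normalizer (X : Set G)).subtype) X) = Nat.card X := by
    have hle : X ≤ Subgroup.normalizer (X : Set G) := Subgroup.le_normalizer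
    exact Nat.card_congr (Subgroup.subgroupOfEquivOfLe hle).toEquiv
  rw [h2, h3, hX, pow_succ, mul_comm]
  exact Nat.mul_dvd_mul h1 (dvd_refl _)

end Cfsg.Agent.Helper1.O459648
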