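import Mathlib
import Cfsg.Agent.Lib.Helper1.O459648Key

/-!
# O459648 server (helper53, S1022): piece (B1) `norm_eq`, verbatim.
-/

set_option autoImplicit false

namespace Cfsg.Agent.Helper1.O459648

/-- (B1) KEY: `M = N_G(X)` contains `P`, `N_M(P) = N`, `|M : N|` is the number of Sylow 19-subgroups
of `M`: it is 1 mod 19 and divides 1008, so it is 1 or 1008; 1008 means `M = ⊤`, `X` normal -/
theorem norm_eq {G : Type*} [Group G] [Finite G] [IsSimpleGroup G] (hG : Nat.card G = 459648)
    (h1008 : Nat.card (Sylow 19 G) = 1008) (P : Sylow 19 G) (X : Subgroup G) (hX : X ≠ ⊥)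
    (hX' : X ≠ ⊤)
    (hN : Subgroup.normalizer ((P : Subgroup G) : Set G) ≤ Subgroup.normalizer (X : Set G)) :
    Subgroup.normalizer (X : Set G) = Subgroup.normalizer ((P : Subgroup G) : Set G) := by
  haveI : Fact (Nat.Prime 19) := ⟨by norm_num⟩
  exact h1_key hG h1008 P X hX hX' hN

end Cfsg.Agent.Helper1.O459648
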