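import Mathlib
import Cfsg.Agent.Lib.Helper74.M11Defs
import Cfsg.Agent.S1017

/-!
# O5040 (S10) `struct_of_10` (helper74 lemma server, row S0978), second seat by helper1.
-/

set_option autoImplicit false

namespace Cfsg.Agent.Helper1.O5040

open Cfsg.Agent.Helper74.M11

section core

variable {S : Type*} [Group S]

/-- the four-group generated by two commuting involutions -/
def h1Klein (u w : S) (h1 : u * u = 1) (h2 : w * w = 1) (hc : u * w = w * u) : Subgroup S where
  carrier := {x | x = 1 ∨ x = u ∨ x = w ∨ x = u * w}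
  one_mem' := Or.inl rfl
  mul_mem' := by
    have e1 : u * (u * w) = w := by rw [← mul_assoc, h1, one_mul]
    have e2 : w * (u * w) = u := by rw [← mul_assoc, ← hc, mul_assoc, h2, mul_one]
    have e3 : u * w * u = w := by rw [mul_assoc, ← hc, ← mul_assoc, h1, one_mul]
    have e4 : u * w * w = u := by rw [mul_assoc, h2, mul_one]
    have e5 : u * w * (u * w) = 1 := by rw [mul_assoc, e2, h1]
    rintro a b (rfl | rfl | rfl | rfl) (rfl | rfl | rfl | rfl)
    · left; rw [one_mul]
    · right; left; rw [one_mul]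
    · right; right; left; rw [one_mul]
    · right; right; right; rw [one_mul]
    · right; left; rw [mul_one]
    · left; exact h1
    · right; right; right; rfl
    · right; right; left; exact e1
    · right; right; left; rw [mul_one]
    · right; right; right; exact hc.symm
    · left; exact h2
    · right; left; exact e2
    · right; right; right; rw [mul_one]
    · right; right; left; exact e3
    · right; left; exact e4
    · left; exact e5
  inv_mem' := by
    have e2 : w * (u * w) = u := by rw [← mul_assoc, ← hc, mul_assoc, h2, mul_one]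
    have e5 : u * w * (u * w) = 1 := by rw [mul_assoc, e2, h1]
    rintro a (rfl | rfl | rfl | rfl)
    · left; exact inv_one
    · right; left; exact inv_eq_of_mul_eq_one_right h1
    · right; right; left; exact inv_eq_of_mul_eq_one_right h2
    · right; right; right; exact inv_eq_of_mul_eq_one_right e5

theorem h1_mem_klein (u w : S) (h1 : u * u = 1) (h2 : w * w = 1) (hc : u * w = w * u) (x : S) :
    x ∈ h1Klein u w h1 h2 hc ↔ (x = 1 ∨ x = u ∨ x = w ∨ x = u * w) := Iff.rfl

theorem h1_card_klein [Finite S] (u w : S) (h1 : u * u = 1) (h2 : w * w = 1) (hc : u * w = w * u)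
    (hu : u ≠ 1) (hw : w ≠ 1) (huw : u ≠ w) : Nat.card (h1Klein u w h1 h2 hc) = 4 := by
  classical
  have hset : ((h1Klein u w h1 h2 hc : Subgroup S) : Set S) = {1, u, w, u * w} := by
    ext x
    simp only [SetLike.mem_coe, h1_mem_klein, Set.mem_insert_iff, Set.mem_singleton_iff]
  have huw1 : u * w ≠ 1 := by
    intro h
    apply huw
    calc u = u * (w * w) := by rw [h2, mul_one]
      _ = (u * w) * w := by rw [mul_assoc]
      _ = w := by rw [h, one_mul]
  have h3 : u * w ≠ u := by
    intro h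
    apply hw
    calc w = (u * u) * w := by rw [h1, one_mul]
      _ = u * (u * w) := by rw [mul_assoc]
      _ = 1 := by rw [h, h1]
  have h4 : u * w ≠ w := by
    intro h
    apply hu
    calc u = u * (w * w) := by rw [h2, mul_one]
      _ = (u * w) * w := by rw [mul_assoc]
      _ = 1 := by rw [h, h2]
  have : Nat.card (h1Klein u w h1 h2 hc) = Set.ncard ((h1Klein u w h1 h2 hc : Subgroup S) : Set S) :=
    (Nat.card_coe_set_eq _)
  rw [this, hset]
  rw [Set.ncard_insert_of_notMem, Set.ncard_insert_of_notMem, Set.ncard_insert_of_notMem,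
    Set.ncard_singleton]
  · simp only [Set.mem_singleton_iff]; exact fun h => h4 h.symm
  · simp only [Set.mem_insert_iff, Set.mem_singleton_iff]
    rintro (h | h)
    · exact huw h
    · exact h3 h.symm
  · simp only [Set.mem_insert_iff, Set.mem_singleton_iff]
    rintro (h | h | h)
    · exact hu h.symm
    · exact hw h.symm
    · exact huw1 h.symm

theorem h1_s10_core [Finite S] (hS : Nat.card S = 16) (u : S) (hu : orderOf u = 2)
    (T : Subgroup S) (hT : Nat.card T = 8) (hTu : ∀ g : S, g ∈ T ↔ g * u = u * g)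
    (hcyc : ∀ g h : S, g ∈ Subgroup.center S → h ∈ Subgroup.center S → g * g = 1 → h * h = 1 →
      g ≠ 1 → h ≠ 1 → g = h) :
    ∃ v s : S, orderOf v = 4 ∧ v ∈ Subgroup.center S ∧ s * u * s⁻¹ = u * v ^ 2 ∧
      s ^ 2 ∈ Subgroup.zpowers v := by
  classical
  have hidx : T.index = 2 := by
    have := T.card_mul_index
    rw [hT, hS] at this
    omega
  have hnorm : T.Normal := Subgroup.normal_of_index_eq_two hidx
  have hmul : ∀ a b : S, a * b ∈ T ↔ (a ∈ T ↔ b ∈ T) :=
    fun a b => Subgroup.mul_mem_iff_of_index_two hidx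
  obtain ⟨s, hsT⟩ : ∃ s : S, s ∉ T := by
    by_contra h
    push Not at h
    have : T = ⊤ := (Subgroup.eq_top_iff' T).2 h
    rw [this, Subgroup.index_top] at hidx
    omega
  have huT : u ∈ T := (hTu u).2 rfl
  have u2 : u * u = 1 := by
    have := pow_orderOf_eq_one u
    rwa [hu, pow_two] at this
  have hu1 : u ≠ 1 := by
    intro h
    rw [h, orderOf_one] at hu
    omega
  obtain ⟨w, hw⟩ : ∃ w : S, w = s * u * s⁻¹ := ⟨_, rfl⟩
  have hwT : w ∈ T := by rw [hw]; exact hnorm.conj_mem u huT s
  have w2 : w * w = 1 := by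
    rw [hw]
    calc s * u * s⁻¹ * (s * u * s⁻¹) = s * (u * u) * s⁻¹ := by group
      _ = 1 := by rw [u2]; group
  have hwu : u * w = w * u := ((hTu w).1 hwT).symm
  have hwne : u ≠ w := by
    intro h
    apply hsT
    rw [hTu]
    calc s * u = (s * u * s⁻¹) * s := by group
      _ = u * s := by rw [← hw, ← h]
  have hw1 : w ≠ 1 := by
    intro h
    apply hu1
    have h' : s * u * s⁻¹ = 1 := by rw [← hw, h]
    calc u = s⁻¹ * (s * u * s⁻¹) * s := by group
      _ = 1 := by rw [h']; group
  have huw1 : u * w ≠ 1 := by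
    intro h
    apply hwne
    calc u = u * (w * w) := by rw [w2, mul_one]
      _ = (u * w) * w := by rw [mul_assoc]
      _ = w := by rw [h, one_mul]
  have hssT : s * s ∈ T := (hmul s s).2 Iff.rfl
  have hssu : s * s * u = u * (s * s) := (hTu _).1 hssT
  have hsw : s * w * s⁻¹ = u := by
    rw [hw]
    calc s * (s * u * s⁻¹) * s⁻¹ = (s * s * u) * s⁻¹ * s⁻¹ := by group
      _ = u := by rw [hssu]; group
  have hsu' : s⁻¹ * u * s = w := by
    calc s⁻¹ * u * s = s⁻¹ * (s * w * s⁻¹) * s := by rw [hsw]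
      _ = w := by group
  have hsw' : s⁻¹ * w * s = u := by
    rw [hw]; group
  have hTw : ∀ t ∈ T, t * w = w * t := by
    intro t ht
    have h1 : s⁻¹ * t * s ∈ T := by
      have := hnorm.conj_mem t ht s⁻¹
      simpa using this
    have h2 := (hTu _).1 h1
    rw [hw]
    calc t * (s * u * s⁻¹) = s * ((s⁻¹ * t * s) * u) * s⁻¹ := by group
      _ = s * (u * (s⁻¹ * t * s)) * s⁻¹ := by rw [h2]
      _ = s * u * s⁻¹ * t := by group
  have hcen : ∀ x : S, (∀ t ∈ T, t * x = x * t) → s * x = x * s → x ∈ Subgroup.center S := by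
    intro x hx hsx
    rw [Subgroup.mem_center_iff]
    intro g
    by_cases hg : g ∈ T
    · exact hx g hg
    · have ht : s⁻¹ * g ∈ T := by
        rw [hmul]
        constructor
        · intro h; exact absurd (by simpa using T.inv_mem h) hsT
        · intro h; exact absurd h hg
      have h2 := hx _ ht
      calc g * x = s * ((s⁻¹ * g) * x) := by group
        _ = s * (x * (s⁻¹ * g)) := by rw [h2]
        _ = (s * x) * (s⁻¹ * g) := by group
        _ = (x * s) * (s⁻¹ * g) := by rw [hsx]
        _ = x * g := by group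
  have hunc : u ∉ Subgroup.center S := by
    intro h
    apply hsT
    rw [hTu]
    exact (Subgroup.mem_center_iff.1 h s)
  have hwnc : w ∉ Subgroup.center S := by
    intro h
    apply hwne
    have h1 : s * w = w * s := Subgroup.mem_center_iff.1 h s
    calc u = s * w * s⁻¹ := hsw.symm
      _ = w * s * s⁻¹ := by rw [h1]
      _ = w := by group
  have hζc : u * w ∈ Subgroup.center S := by
    apply hcen
    · intro t ht
      have h1 := (hTu t).1 ht
      have h2 := hTw t ht
      calc t * (u * w) = (t * u) * w := by rw [mul_assoc]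
        _ = u * (t * w) := by rw [h1, mul_assoc]
        _ = u * w * t := by rw [h2, mul_assoc]
    · calc s * (u * w) = (s * u * s⁻¹) * (s * w * s⁻¹) * s := by group
        _ = w * u * s := by rw [← hw, hsw]
        _ = u * w * s := by rw [hwu]
  have hζ2 : u * w * (u * w) = 1 := by
    calc u * w * (u * w) = u * (w * u) * w := by group
      _ = u * (u * w) * w := by rw [hwu]
      _ = (u * u) * (w * w) := by group
      _ = 1 := by rw [u2, w2, one_mul]
  -- the four-group A
  obtain ⟨A, hAdef⟩ : ∃ A : Subgroup S, A = h1Klein u w u2 w2 hwu := ⟨_, rfl⟩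
  have hAmem : ∀ x : S, x ∈ A ↔ (x = 1 ∨ x = u ∨ x = w ∨ x = u * w) := by
    intro x; rw [hAdef]; exact h1_mem_klein u w u2 w2 hwu x
  have hA4 : Nat.card A = 4 := by
    rw [hAdef]; exact h1_card_klein u w u2 w2 hwu hu1 hw1 hwne
  have hAT : A ≤ T := by
    intro x hx
    rcases (hAmem x).1 hx with rfl | rfl | rfl | rfl
    · exact T.one_mem
    · exact huT
    · exact hwT
    · exact T.mul_mem huT hwT
  have hidxA : (A.subgroupOf T).index = 2 := by
    have h1 := (A.subgroupOf T).card_mul_index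
    have h2 : Nat.card (A.subgroupOf T) = Nat.card A :=
      Nat.card_congr (Subgroup.subgroupOfEquivOfLe hAT).toEquiv
    rw [h2, hA4, hT] at h1
    omega
  have hA2 : ∀ a b : S, a ∈ T → b ∈ T → (a * b ∈ A ↔ (a ∈ A ↔ b ∈ A)) := by
    intro a b ha hb
    have := Subgroup.mul_mem_iff_of_index_two hidxA (a := ⟨a, ha⟩) (b := ⟨b, hb⟩)
    simpa [Subgroup.mem_subgroupOf] using this
  have hAc : ∀ a ∈ A, ∀ t ∈ T, t * a = a * t := by
    intro a ha t ht
    rcases (hAmem a).1 ha with rfl | rfl | rfl | rfl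
    · rw [mul_one, one_mul]
    · exact (hTu t).1 ht
    · exact hTw t ht
    · exact Subgroup.mem_center_iff.1 hζc t
  have hTab : ∀ t1 ∈ T, ∀ t2 ∈ T, t1 * t2 = t2 * t1 := by
    intro t1 h1 t2 h2
    by_cases h1A : t1 ∈ A
    · exact (hAc t1 h1A t2 h2).symm
    by_cases h2A : t2 ∈ A
    · exact hAc t2 h2A t1 h1
    have ha : t1⁻¹ * t2 ∈ A := by
      rw [hA2 _ _ (T.inv_mem h1) h2]
      constructor
      · intro h; exact absurd (by simpa using A.inv_mem h) h1A
      · intro h; exact absurd h h2A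
    have hc := hAc _ ha t1 h1
    calc t1 * t2 = t1 * (t1 * (t1⁻¹ * t2)) := by group
      _ = t1 * ((t1⁻¹ * t2) * t1) := by rw [hc]
      _ = t2 * t1 := by group
  have hAs' : ∀ a ∈ A, s⁻¹ * a * s ∈ A := by
    intro a ha
    rcases (hAmem a).1 ha with rfl | rfl | rfl | rfl
    · rw [hAmem]; left; group
    · rw [hAmem]; right; right; left; exact hsu'
    · rw [hAmem]; right; left; exact hsw'
    · rw [hAmem]; right; right; right
      calc s⁻¹ * (u * w) * s = (s⁻¹ * u * s) * (s⁻¹ * w * s) := by group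
        _ = w * u := by rw [hsu', hsw']
        _ = u * w := hwu.symm
  obtain ⟨t0, ht0T, ht0A⟩ : ∃ t0 ∈ T, t0 ∉ A := by
    by_contra h
    push Not at h
    have : T = A := le_antisymm (fun x hx => h x hx) hAT
    rw [this] at hT
    omega
  have hw0T : s * t0 * s⁻¹ ∈ T := hnorm.conj_mem t0 ht0T s
  have hw0A : s * t0 * s⁻¹ ∉ A := by
    intro h
    apply ht0A
    have := hAs' _ h
    have e : s⁻¹ * (s * t0 * s⁻¹) * s = t0 := by group
    rwa [e] at this
  have haA : t0⁻¹ * (s * t0 * s⁻¹) ∈ A := by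
    rw [hA2 _ _ (T.inv_mem ht0T) hw0T]
    constructor
    · intro h; exact absurd (by simpa using A.inv_mem h) ht0A
    · intro h; exact absurd h hw0A
  have hconj2 : s * (s * t0 * s⁻¹) * s⁻¹ = t0 := by
    calc s * (s * t0 * s⁻¹) * s⁻¹ = (s * s * t0) * s⁻¹ * s⁻¹ := by group
      _ = (t0 * (s * s)) * s⁻¹ * s⁻¹ := by rw [hTab _ hssT _ ht0T]
      _ = t0 := by group
  -- a central element of T outside A
  obtain ⟨v, hvT, hvA, hvc⟩ : ∃ v : S, v ∈ T ∧ v ∉ A ∧ v ∈ Subgroup.center S := by
    rcases (hAmem _).1 haA with h | h | h | h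
    · -- s t0 s⁻¹ = t0
      refine ⟨t0, ht0T, ht0A, hcen t0 (fun t ht => hTab t ht t0 ht0T) ?_⟩
      have e : s * t0 * s⁻¹ = t0 := by
        calc s * t0 * s⁻¹ = t0 * (t0⁻¹ * (s * t0 * s⁻¹)) := by group
          _ = t0 := by rw [h, mul_one]
      calc s * t0 = (s * t0 * s⁻¹) * s := by group
        _ = t0 * s := by rw [e]
    · exfalso
      have e : s * t0 * s⁻¹ = t0 * u := by
        calc s * t0 * s⁻¹ = t0 * (t0⁻¹ * (s * t0 * s⁻¹)) := by group
          _ = t0 * u := by rw [h]
      apply huw1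
      have : t0 = t0 * (u * w) := by
        calc t0 = s * (s * t0 * s⁻¹) * s⁻¹ := hconj2.symm
          _ = s * (t0 * u) * s⁻¹ := by rw [e]
          _ = (s * t0 * s⁻¹) * (s * u * s⁻¹) := by group
          _ = t0 * u * w := by rw [e, ← hw]
          _ = t0 * (u * w) := by rw [mul_assoc]
      exact (mul_eq_left.1 this.symm)
    · exfalso
      have e : s * t0 * s⁻¹ = t0 * w := by
        calc s * t0 * s⁻¹ = t0 * (t0⁻¹ * (s * t0 * s⁻¹)) := by group
          _ = t0 * w := by rw [h]
      apply huw1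
      have : t0 = t0 * (u * w) := by
        calc t0 = s * (s * t0 * s⁻¹) * s⁻¹ := hconj2.symm
          _ = s * (t0 * w) * s⁻¹ := by rw [e]
          _ = (s * t0 * s⁻¹) * (s * w * s⁻¹) := by group
          _ = t0 * w * u := by rw [e, hsw]
          _ = t0 * (u * w) := by rw [mul_assoc, hwu]
      exact (mul_eq_left.1 this.symm)
    · have e : s * t0 * s⁻¹ = t0 * (u * w) := by
        calc s * t0 * s⁻¹ = t0 * (t0⁻¹ * (s * t0 * s⁻¹)) := by group
          _ = t0 * (u * w) := by rw [h]
      refine ⟨t0 * u, T.mul_mem ht0T huT, ?_, hcen _ (fun t ht => hTab t ht _ (T.mul_mem ht0T huT)) ?_⟩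
      · intro hA
        apply ht0A
        have := A.mul_mem hA ((hAmem u).2 (Or.inr (Or.inl rfl)))
        have e2 : t0 * u * u = t0 := by rw [mul_assoc, u2, mul_one]
        rwa [e2] at this
      · calc s * (t0 * u) = (s * t0 * s⁻¹) * (s * u * s⁻¹) * s := by group
          _ = t0 * (u * w) * w * s := by rw [e, ← hw]
          _ = t0 * u * (w * w) * s := by group
          _ = t0 * u * s := by rw [w2, mul_one]
  have hv1 : v ≠ 1 := by
    intro h; apply hvA; rw [h]; exact A.one_mem
  have hvvA : v * v ∈ A := (hA2 v v hvT hvT).2 Iff.rfl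
  have hvvc : v * v ∈ Subgroup.center S := (Subgroup.center S).mul_mem hvc hvc
  have hvv : v * v = u * w := by
    rcases (hAmem _).1 hvvA with h | h | h | h
    · exfalso
      apply hvA
      have := hcyc v (u * w) hvc hζc h hζ2 hv1 huw1
      rw [this]; exact (hAmem _).2 (Or.inr (Or.inr (Or.inr rfl)))
    · exact absurd (h ▸ hvvc) hunc
    · exact absurd (h ▸ hvvc) hwnc
    · exact h
  have hord : orderOf v = 4 := by
    have : Fact (Nat.Prime 2) := ⟨Nat.prime_two⟩
    have h1 : ¬ v ^ 2 ^ 1 = 1 := by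
      rw [pow_one, pow_two, hvv]; exact huw1
    have h2 : v ^ 2 ^ (1 + 1) = 1 := by
      have : v ^ 2 ^ (1 + 1) = (v * v) * (v * v) := by
        rw [show (2 : ℕ) ^ (1 + 1) = 2 + 2 by norm_num, pow_add, pow_two]
      rw [this, hvv, hζ2]
    have := orderOf_eq_prime_pow h1 h2
    simpa using this
  have hssc : s * s ∈ Subgroup.center S :=
    hcen _ (fun t ht => hTab t ht _ hssT) (by rw [mul_assoc])
  refine ⟨v, s, hord, hvc, ?_, ?_⟩
  · rw [pow_two, hvv, ← hw, ← mul_assoc, u2, one_mul]
  · rw [Subgroup.mem_zpowers_iff, pow_two]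
    by_cases hss : s * s ∈ A
    · rcases (hAmem _).1 hss with h | h | h | h
      · exact ⟨0, by rw [zpow_zero, h]⟩
      · exact absurd (h ▸ hssc) hunc
      · exact absurd (h ▸ hssc) hwnc
      · exact ⟨2, by rw [h, ← hvv, zpow_two]⟩
    · have hvinvA : v⁻¹ ∉ A := fun h => hvA (by simpa using A.inv_mem h)
      have hb : v⁻¹ * (s * s) ∈ A := by
        rw [hA2 _ _ (T.inv_mem hvT) hssT]
        constructor
        · intro h; exact absurd h hvinvA
        · intro h; exact absurd h hss
      have hbc : v⁻¹ * (s * s) ∈ Subgroup.center S :=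
        (Subgroup.center S).mul_mem ((Subgroup.center S).inv_mem hvc) hssc
      rcases (hAmem _).1 hb with h | h | h | h
      · refine ⟨1, ?_⟩
        rw [zpow_one]
        calc v = v * (v⁻¹ * (s * s)) := by rw [h, mul_one]
          _ = s * s := by group
      · exact absurd (h ▸ hbc) hunc
      · exact absurd (h ▸ hbc) hwnc
      · refine ⟨3, ?_⟩
        calc v ^ (3 : ℤ) = v * (v * v) := by
              rw [show (3 : ℤ) = 1 + 2 by norm_num, zpow_add, zpow_one, zpow_two]
          _ = v * (v⁻¹ * (s * s)) := by rw [hvv, h]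
          _ = s * s := by group

end core

section app

variable {G : Type*} [Group G] [Finite G]

omit [Finite G] in
/-- an element of order dividing two of `N(R)`, `R = ⟨y⟩` of order five, centralises or inverts `y` -/
theorem h1_inv_or_cent (R : Subgroup G) (y : G) (hy : orderOf y = 5) (hR : R = Subgroup.zpowers y)
    (x : G) (hx : x ∈ Subgroup.normalizer (R : Set G)) (hxx : x * x = 1) :
    x * y * x⁻¹ = y ∨ x * y * x⁻¹ = y⁻¹ := by
  have hyR : y ∈ R := by rw [hR]; exact Subgroup.mem_zpowers y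
  have h1 : x * y * x⁻¹ ∈ R := (Subgroup.mem_normalizer_iff.1 hx y).1 hyR
  rw [hR, Subgroup.mem_zpowers_iff] at h1
  obtain ⟨k, hk⟩ := h1
  have h2 : y ^ (k * k) = y := by
    calc y ^ (k * k) = (y ^ k) ^ k := by rw [zpow_mul]
      _ = (x * y * x⁻¹) ^ k := by rw [hk]
      _ = x * y ^ k * x⁻¹ := by rw [conj_zpow]
      _ = x * (x * y * x⁻¹) * x⁻¹ := by rw [hk]
      _ = (x * x) * y * (x * x)⁻¹ := by group
      _ = y := by rw [hxx]; group
  have h3 : y ^ (k * k - 1) = 1 := by
    rw [zpow_sub, h2, zpow_one, mul_inv_cancel]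
  have h4 : ((orderOf y : ℕ) : ℤ) ∣ k * k - 1 := orderOf_dvd_iff_zpow_eq_one.2 h3
  rw [hy] at h4
  have h5 : (5 : ℤ) ∣ k - 1 ∨ (5 : ℤ) ∣ k + 1 := by
    have e : k * k - 1 = (k - 1) * (k + 1) := by ring
    rw [e] at h4
    have hp : Prime (5 : ℤ) := by
      rw [Int.prime_iff_natAbs_prime]; norm_num
    exact hp.dvd_or_dvd h4
  rcases h5 with h5 | h5
  · left
    have h6 : y ^ (k - 1) = 1 := by
      apply orderOf_dvd_iff_zpow_eq_one.1; rw [hy]; exact_mod_cast h5
    rw [← hk]
    calc y ^ k = y ^ (k - 1) * y := by rw [← zpow_add_one]; congr 1; ring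
      _ = y := by rw [h6, one_mul]
  · right
    have h6 : y ^ (k + 1) = 1 := by
      apply orderOf_dvd_iff_zpow_eq_one.1; rw [hy]; exact_mod_cast h5
    rw [← hk]
    apply eq_inv_of_mul_eq_one_left
    rw [← zpow_add_one]; exact h6

theorem struct_of_10 (hG : Nat.card G = 5040) (R : Sylow 5 G)
    (hN : Nat.card (NorS (R : Subgroup G)) = 40) (hC : Nat.card (CenS (R : Subgroup G)) = 10)
    (u : G) (hu : orderOf u = 2) (huR : u ∈ CenS (R : Subgroup G))
    (hNu : NorS (R : Subgroup G) ≤ Cen u) (hCu : Nat.card (Cen u) = 40) :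
    ∃ (S : Sylow 2 G) (v s : G), orderOf v = 4 ∧ u ∈ S ∧ v ∈ S ∧ s ∈ S ∧
      (∀ g ∈ S, g * v = v * g) ∧ s * u * s⁻¹ = u * v ^ 2 ∧ s ^ 2 ∈ Subgroup.zpowers v := by
  classical
  have hp2 : Fact (Nat.Prime 2) := ⟨Nat.prime_two⟩
  have hp5 : Fact (Nat.Prime 5) := ⟨by norm_num⟩
  have hNeq : NorS (R : Subgroup G) = Cen u :=
    Subgroup.eq_of_le_of_card_ge hNu (by rw [hN, hCu])
  have huC : u ∈ Cen u := Subgroup.mem_centralizer_singleton_iff.2 rfl
  have hu1 : u ≠ 1 := by
    intro h; rw [h, orderOf_one] at hu; omega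
  -- a subgroup of order 8 of `C(u)` containing `u`
  obtain ⟨K, hK8, hKC, huK⟩ : ∃ K : Subgroup G, Nat.card K = 8 ∧ K ≤ Cen u ∧ u ∈ K := by
    have huc : orderOf (⟨u, huC⟩ : ↥(Cen u)) = 2 := by rw [← hu]; exact Subgroup.orderOf_mk u huC
    have hH : Nat.card (Subgroup.zpowers (⟨u, huC⟩ : ↥(Cen u))) = 2 ^ 1 := by
      rw [Nat.card_zpowers, huc, pow_one]
    obtain ⟨K0, hK0, huK0⟩ := Sylow.exists_subgroup_card_pow_prime_le 2 (n := 1) (m := 3)
      (by rw [hCu]; norm_num) (Subgroup.zpowers (⟨u, huC⟩ : ↥(Cen u))) hH (by norm_num)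
    refine ⟨K0.map (Cen u).subtype, ?_, Subgroup.map_subtype_le K0, ?_⟩
    · rw [Subgroup.card_map_of_injective (Subgroup.subtype_injective _), hK0]; norm_num
    · exact ⟨⟨u, huC⟩, huK0 (Subgroup.mem_zpowers _), rfl⟩
  have hKp : IsPGroup 2 K := IsPGroup.of_card (n := 3) (by rw [hK8]; norm_num)
  obtain ⟨S, hKS⟩ := hKp.exists_le_sylow
  have huS : u ∈ (S : Subgroup G) := hKS huK
  have hS16 : Nat.card (S : Subgroup G) = 16 := by
    have := Cfsg.Agent.S1017.sylow_card_eq S 4 315 (by rw [hG]; norm_num) (by norm_num)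
    simpa using this
  have hR5 : Nat.card (R : Subgroup G) = 5 := by
    have := Cfsg.Agent.S1017.sylow_card_eq R 1 1008 (by rw [hG]; norm_num) (by norm_num)
    simpa using this
  have hD8 : Nat.card ((S : Subgroup G) ⊓ Cen u : Subgroup G) = 8 := by
    have h1 : Nat.card ((S : Subgroup G) ⊓ Cen u : Subgroup G) ∣ 16 :=
      hS16 ▸ Subgroup.card_dvd_of_le inf_le_left
    have h2 : Nat.card ((S : Subgroup G) ⊓ Cen u : Subgroup G) ∣ 40 :=
      hCu ▸ Subgroup.card_dvd_of_le inf_le_right
    have h3 : 8 ∣ Nat.card ((S : Subgroup G) ⊓ Cen u : Subgroup G) :=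
      hK8 ▸ Subgroup.card_dvd_of_le (le_inf hKS hKC)
    have h4 : Nat.card ((S : Subgroup G) ⊓ Cen u : Subgroup G) ∣ 8 := by
      have := Nat.dvd_gcd h1 h2
      simpa using this
    exact Nat.dvd_antisymm h4 h3
  -- `u` is not central in `S`
  have hunc : ¬ ∀ g ∈ (S : Subgroup G), g * u = u * g := by
    intro h
    have hle : (S : Subgroup G) ≤ Cen u := fun g hg =>
      Subgroup.mem_centralizer_singleton_iff.2 (h g hg)
    have : (S : Subgroup G) ⊓ Cen u = (S : Subgroup G) := inf_eq_left.2 hle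
    rw [this, hS16] at hD8
    omega
  -- a generator of `R`
  obtain ⟨y, hyR, hy5, hRy⟩ : ∃ y : G, y ∈ (R : Subgroup G) ∧ orderOf y = 5 ∧
      (R : Subgroup G) = Subgroup.zpowers y := by
    obtain ⟨y0, hy0⟩ := exists_prime_orderOf_dvd_card' (G := ↥(R : Subgroup G)) 5 (by rw [hR5])
    have hy5 : orderOf (y0 : G) = 5 := by rw [Subgroup.orderOf_coe, hy0]
    refine ⟨y0, y0.2, hy5, ?_⟩
    symm
    apply Subgroup.eq_of_le_of_card_ge
    · rw [Subgroup.zpowers_le]; exact y0.2
    · rw [Nat.card_zpowers, hy5, hR5]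
  -- elements of `S ⊓ C(R)`
  have hSC : ∀ x : G, x ∈ (S : Subgroup G) → x * y = y * x → x = 1 ∨ x = u := by
    intro x hxS hxy
    have hxC : x ∈ CenS (R : Subgroup G) := by
      rw [Subgroup.mem_centralizer_iff]
      intro h hh
      have hh' : h ∈ Subgroup.zpowers y := by rw [← hRy]; exact hh
      obtain ⟨k, rfl⟩ := Subgroup.mem_zpowers_iff.1 hh'
      exact ((Commute.zpow_right (show Commute x y from hxy) k).eq).symm
    have h1 : Nat.card ((S : Subgroup G) ⊓ CenS (R : Subgroup G) : Subgroup G) ∣ 16 :=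
      hS16 ▸ Subgroup.card_dvd_of_le inf_le_left
    have h2 : Nat.card ((S : Subgroup G) ⊓ CenS (R : Subgroup G) : Subgroup G) ∣ 10 :=
      hC ▸ Subgroup.card_dvd_of_le inf_le_right
    have h3 : Nat.card ((S : Subgroup G) ⊓ CenS (R : Subgroup G) : Subgroup G) ∣ 2 := by
      have := Nat.dvd_gcd h1 h2
      simpa using this
    have hle : Subgroup.zpowers u ≤ (S : Subgroup G) ⊓ CenS (R : Subgroup G) := by
      rw [Subgroup.zpowers_le]; exact ⟨huS, huR⟩
    have heq : Subgroup.zpowers u = (S : Subgroup G) ⊓ CenS (R : Subgroup G) := by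
      apply Subgroup.eq_of_le_of_card_ge hle
      rw [Nat.card_zpowers, hu]
      exact Nat.le_of_dvd (by norm_num) h3
    have hx : x ∈ Subgroup.zpowers u := by rw [heq]; exact ⟨hxS, hxC⟩
    obtain ⟨k, rfl⟩ := Subgroup.mem_zpowers_iff.1 hx
    have hk := zpow_mod_orderOf u k
    rw [hu] at hk
    have : k % ((2 : ℕ) : ℤ) = 0 ∨ k % ((2 : ℕ) : ℤ) = 1 := by omega
    rcases this with h | h
    · left; rw [← hk, h, zpow_zero]
    · right; rw [← hk, h, zpow_one]
  have hcenS : ∀ x : G, x ∈ (S : Subgroup G) → (∀ g ∈ (S : Subgroup G), g * x = x * g) →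
      x * y = y * x → x = 1 := by
    intro x hxS hxc hxy
    rcases hSC x hxS hxy with h | h
    · exact h
    · exfalso; apply hunc; intro g hg; rw [← h]; exact hxc g hg
  -- the core lemma in the group `S`
  have hcore := h1_s10_core (S := ↥(S : Subgroup G)) hS16 ⟨u, huS⟩
    ((Subgroup.orderOf_mk u huS).trans hu) ((Cen u).subgroupOf (S : Subgroup G))
    (by
      rw [← Subgroup.inf_subgroupOf_left (Cen u) (S : Subgroup G)]
      rw [Nat.card_congr (Subgroup.subgroupOfEquivOfLe
        (inf_le_left : (S : Subgroup G) ⊓ Cen u ≤ (S : Subgroup G))).toEquiv]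
      exact hD8)
    (by
      intro g
      rw [Subgroup.mem_subgroupOf, Subgroup.mem_centralizer_singleton_iff, Subtype.ext_iff]
      rfl)
    (by
      intro g h hg hh hgg hhh hg1 hh1
      have key : ∀ a : ↥(S : Subgroup G), a ∈ Subgroup.center ↥(S : Subgroup G) → a * a = 1 →
          a ≠ 1 → (a : G) * y * (a : G)⁻¹ = y⁻¹ ∧
            (∀ b ∈ (S : Subgroup G), b * (a : G) = (a : G) * b) := by
        intro a ha haa ha1
        have hac : ∀ b ∈ (S : Subgroup G), b * (a : G) = (a : G) * b := by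
          intro b hb
          have := Subgroup.mem_center_iff.1 ha ⟨b, hb⟩
          exact congrArg Subtype.val this
        have haN : (a : G) ∈ Subgroup.normalizer ((R : Subgroup G) : Set G) := by
          have : (a : G) ∈ Cen u := by
            rw [Subgroup.mem_centralizer_singleton_iff]
            exact (hac u huS).symm
          rw [← hNeq] at this
          exact this
        have haa' : (a : G) * (a : G) = 1 := by
          have := congrArg Subtype.val haa
          simpa using this
        refine ⟨?_, hac⟩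
        rcases h1_inv_or_cent (R : Subgroup G) y hy5 hRy (a : G) haN haa' with h | h
        · exfalso
          apply ha1
          have h' : (a : G) * y = y * (a : G) := by
            calc (a : G) * y = ((a : G) * y * (a : G)⁻¹) * (a : G) := by group
              _ = y * (a : G) := by rw [h]
          have := hcenS (a : G) a.2 hac h'
          exact Subtype.ext this
        · exact h
      obtain ⟨hgy, hgc⟩ := key g hg hgg hg1
      obtain ⟨hhy, hhc⟩ := key h hh hhh hh1
      have hprod : ((g : G) * (h : G)) * y = y * ((g : G) * (h : G)) := by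
        calc ((g : G) * (h : G)) * y
            = (g : G) * ((h : G) * y * (h : G)⁻¹) * (g : G)⁻¹ * ((g : G) * (h : G)) := by group
          _ = ((g : G) * y * (g : G)⁻¹)⁻¹ * ((g : G) * (h : G)) := by rw [hhy]; group
          _ = y * ((g : G) * (h : G)) := by rw [hgy, inv_inv]
      have h1 := hcenS ((g : G) * (h : G)) ((S : Subgroup G).mul_mem g.2 h.2)
        (by
          intro b hb
          calc b * ((g : G) * (h : G)) = (b * (g : G)) * (h : G) := by rw [mul_assoc]
            _ = (g : G) * (b * (h : G)) := by rw [hgc b hb, mul_assoc]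
            _ = (g : G) * (h : G) * b := by rw [hhc b hb, mul_assoc]) hprod
      have hhh' : (h : G) * (h : G) = 1 := by
        have := congrArg Subtype.val hhh
        simpa using this
      apply Subtype.ext
      calc (g : G) = ((g : G) * (h : G)) * (h : G)⁻¹ := by group
        _ = (h : G)⁻¹ := by rw [h1, one_mul]
        _ = (h : G) := inv_eq_of_mul_eq_one_right hhh')
  obtain ⟨v, s, hv4, hvc, hconj, hs2⟩ := hcore
  refine ⟨S, (v : G), (s : G), ?_, huS, v.2, s.2, ?_, ?_, ?_⟩
  · rw [Subgroup.orderOf_coe]; exact hv4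
  · intro g hg
    have := Subgroup.mem_center_iff.1 hvc ⟨g, hg⟩
    exact congrArg Subtype.val this
  · have := congrArg Subtype.val hconj
    simpa using this
  · obtain ⟨k, hk⟩ := Subgroup.mem_zpowers_iff.1 hs2
    rw [Subgroup.mem_zpowers_iff]
    refine ⟨k, ?_⟩
    have := congrArg Subtype.val hk
    simpa using this

end app

end Cfsg.Agent.Helper1.O5040
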