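import Mathlib
import Cfsg.Agent.Lib.Helper1.S4FreeC
import Cfsg.Agent.Lib.Helper1.ZCoprime

/-!
# The core lemma: in an `S₄`-free solvable group with `O_{2'}(G) = 1` and Sylow 2-subgroup of class
at most two, every elementary abelian 2-subgroup of maximal order lies in `O_2(G)`.
-/

set_option autoImplicit false

namespace Cfsg.Agent.Helper1.S4Free

open Subgroup
open scoped Pointwise commutatorElement
open Cfsg Cfsg.Agent.Helper1 Cfsg.Agent.Helper1.SysNorm

universe u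

variable {G : Type u} [Group G]

theorem conj_pow_eq (b x : G) (n : ℕ) : b⁻¹ * x ^ n * b = (b⁻¹ * x * b) ^ n := by
  have := conj_pow (a := b⁻¹) (b := x) (i := n)
  rw [inv_inv] at this
  exact this.symm

theorem conj_zpow_eq (b x : G) (n : ℤ) : b⁻¹ * x ^ n * b = (b⁻¹ * x * b) ^ n := by
  have := conj_zpow (a := b⁻¹) (b := x) (i := n)
  rw [inv_inv] at this
  exact this.symm

theorem mem_normalizer_zpowers_of_inv {a k : G} (hka : a⁻¹ * k * a = k⁻¹) :
    a ∈ normalizer ((zpowers k : Subgroup G) : Set G) := by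
  rw [Subgroup.mem_normalizer_iff'']
  intro h
  constructor
  · rintro ⟨i, rfl⟩
    refine ⟨-i, ?_⟩
    change k ^ (-i) = a⁻¹ * k ^ i * a
    rw [conj_zpow_eq, hka, inv_zpow, zpow_neg]
  · rintro ⟨i, hi⟩
    change k ^ i = a⁻¹ * h * a at hi
    refine ⟨-i, ?_⟩
    change k ^ (-i) = h
    have h1 : a * k * a⁻¹ = k⁻¹ := by
      have h2 : a * k⁻¹ * a⁻¹ = k := by
        calc a * k⁻¹ * a⁻¹ = a * (a⁻¹ * k * a) * a⁻¹ := by rw [hka]
          _ = k := by group
      calc a * k * a⁻¹ = (a * k⁻¹ * a⁻¹)⁻¹ := by group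
        _ = k⁻¹ := by rw [h2]
    have h3 : h = a * (a⁻¹ * h * a) * a⁻¹ := by group
    rw [h3, ← hi]
    have h4 : a * k ^ i * a⁻¹ = (a * k * a⁻¹) ^ i := conj_zpow.symm
    rw [h4, h1, inv_zpow, zpow_neg]

theorem le_pCore_of_max_elementary [Finite G] [Group.IsSolvable G]
    (hS4 : ¬ Cfsg.Involves (Equiv.Perm (Fin 4)) G) (hO : pPrimeCore 2 G = ⊥)
    (S : Sylow 2 G) (hcl : ⁅⁅(S : Subgroup G), (S : Subgroup G)⁆, (S : Subgroup G)⁆ = ⊥)
    (A : Subgroup G) (hAS : A ≤ S) (hA2 : ∀ b ∈ A, b * b = 1)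
    (hAc : ∀ b ∈ A, ∀ c ∈ A, b * c = c * b)
    (hmax : ∀ B : Subgroup G, B ≤ S → (∀ b ∈ B, b * b = 1) → (∀ b ∈ B, ∀ c ∈ B, b * c = c * b) →
      Nat.card B ≤ Nat.card A) :
    A ≤ pCore 2 G := by
  classical
  have hp2 : Fact (Nat.Prime 2) := ⟨Nat.prime_two⟩
  by_contra hAQ
  obtain ⟨a, haA, haQ⟩ := SetLike.not_le_iff_exists.mp hAQ
  set Q := pCore 2 G with hQ
  have hQS : Q ≤ S := Cfsg.Agent.Helper54.pCore_le_sylow S
  have hCQ : centralizer (Q : Set G) ≤ Q := Cfsg.Agent.Helper54.centralizer_pCore_le 2 hO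
  have haa := hA2 a haA
  -- the quotient
  let π : G →* G ⧸ Q := QuotientGroup.mk' Q
  have hπker : ∀ x, π x = 1 ↔ x ∈ Q := fun x => QuotientGroup.eq_one_iff x
  have hπsurj : Function.Surjective π := QuotientGroup.mk'_surjective Q
  have hsolq : Group.IsSolvable (G ⧸ Q) := Group.isSolvable_of_surjective hπsurj
  have hO2 : pCore 2 (G ⧸ Q) = ⊥ := pCore_quotient_eq_bot 2
  set X := pPrimeCore 2 (G ⧸ Q) with hX
  have hXodd : Odd (Nat.card X) :=
    Nat.coprime_two_right.mp (Cfsg.Agent.Helper54.pPrimeCore_coprime 2)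
  have hXC : centralizer (X : Set (G ⧸ Q)) ≤ X := centralizer_pPrimeCore_le 2 hO2
  set Ab : Subgroup (G ⧸ Q) := A.map π with hAb
  have hAb2 : ∀ b ∈ Ab, b * b = 1 := by
    rintro _ ⟨b, hb, rfl⟩
    rw [← map_mul, hA2 b hb, map_one]
  have hAbc : ∀ b ∈ Ab, ∀ c ∈ Ab, b * c = c * b := by
    rintro _ ⟨b, hb, rfl⟩ _ ⟨c, hc, rfl⟩
    rw [← map_mul, ← map_mul, hAc b hb c hc]
  have hAbX : Ab ≤ normalizer (X : Set (G ⧸ Q)) := by
    rw [Subgroup.normalizer_eq_top]; exact le_top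
  have haAb : π a ∈ Ab := Subgroup.mem_map_of_mem _ haA
  have hαα : π a * π a = 1 := hAb2 _ haAb
  have hmove : ∃ x ∈ X, (π a)⁻¹ * x * π a ≠ x := by
    by_contra hno
    push Not at hno
    have h1 : π a ∈ centralizer (X : Set (G ⧸ Q)) := by
      rw [Subgroup.mem_centralizer_iff]
      intro x hx
      have h2 := hno x hx
      calc x * π a = π a * ((π a)⁻¹ * x * π a) := by group
        _ = π a * x := by rw [h2]
    have h2 : π a ∈ X := hXC h1
    have h3 : π a = 1 := eq_one_of_sq_of_odd hXodd (Subgroup.orderOf_dvd_natCard X h2)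
      (by rw [pow_two]; exact hαα)
    exact haQ ((hπker a).mp h3)
  obtain ⟨kb, hkbX, hkb1, hkba, hkbA⟩ :=
    exists_common_eigen Ab X hAb2 hAbc hAbX hXodd inferInstance (π a) haAb hmove
  have hkbodd : Odd (orderOf kb) :=
    Odd.of_dvd_nat hXodd (Subgroup.orderOf_dvd_natCard X hkbX)
  obtain ⟨k₀, hk₀⟩ := hπsurj kb
  -- the dihedral trick
  set a' : G := k₀⁻¹ * a * k₀ with ha'
  set k₁ : G := a * a' with hk₁
  have ha'a' : a' * a' = 1 := by
    have h1 : a' * a' = k₀⁻¹ * (a * a) * k₀ := by rw [ha']; group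
    rw [h1, haa]; group
  have hk₁a : a⁻¹ * k₁ * a = k₁⁻¹ := by
    have hainv : a⁻¹ = a := inv_eq_of_mul_eq_one_left haa
    have ha'inv : a'⁻¹ = a' := inv_eq_of_mul_eq_one_left ha'a'
    have h1 : a⁻¹ * k₁ * a = a' * a := by rw [hk₁]; group
    have h2 : k₁⁻¹ = a'⁻¹ * a⁻¹ := by rw [hk₁, mul_inv_rev]
    rw [h1, h2, hainv, ha'inv]
  have hαinv : π a * kb⁻¹ * (π a)⁻¹ = kb := by
    have h1 : π a * kb⁻¹ * (π a)⁻¹ = π a * ((π a)⁻¹ * kb * π a) * (π a)⁻¹ := by rw [hkba]
    rw [h1]; group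
  have hπk₁ : π k₁ = kb ^ 2 := by
    have h1 : π k₁ = π a * (kb⁻¹ * π a * kb) := by
      rw [hk₁, ha', map_mul, map_mul, map_mul, map_inv, hk₀]
    have h2 : π a * (kb⁻¹ * π a * kb) = (π a * kb⁻¹ * (π a)⁻¹) * (π a * π a) * kb := by group
    rw [h1, h2, hαinv, hαα, mul_one, pow_two]
  obtain ⟨e, m, hm, hem⟩ := Nat.exists_eq_two_pow_mul_odd (orderOf_pos k₁).ne'
  set k : G := k₁ ^ (2 ^ e) with hk
  have hkodd : Odd (orderOf k) := by
    have h1 : k ^ m = 1 := by
      rw [hk, ← pow_mul, ← hem, pow_orderOf_eq_one]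
    exact Odd.of_dvd_nat hm (orderOf_dvd_of_pow_eq_one h1)
  have hka : a⁻¹ * k * a = k⁻¹ := by
    rw [hk, conj_pow_eq, hk₁a, inv_pow]
  have hπk : π k = kb ^ (2 * 2 ^ e) := by
    rw [hk, map_pow, hπk₁, ← pow_mul]
  have hπk1 : π k ≠ 1 := by
    intro h
    rw [hπk] at h
    have h1 : orderOf kb ∣ 2 * 2 ^ e := orderOf_dvd_of_pow_eq_one h
    have h2 : Nat.Coprime (orderOf kb) (2 * 2 ^ e) := by
      have : 2 * 2 ^ e = 2 ^ (e + 1) := by rw [pow_succ]; ring
      rw [this]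
      exact Nat.Coprime.pow_right _ (Nat.coprime_two_right.mpr hkbodd)
    have h3 : orderOf kb = 1 := Nat.Coprime.eq_one_of_dvd h2 h1
    exact hkb1 (orderOf_eq_one_iff.mp h3)
  have hk1 : k ≠ 1 := by
    intro h; apply hπk1; rw [h, map_one]
  -- the subgroup `B`
  set B : Subgroup G := A ⊓ (centralizer ({kb} : Set (G ⧸ Q))).comap π with hB
  have hBA : B ≤ A := inf_le_left
  have hBmem : ∀ b, b ∈ B ↔ b ∈ A ∧ kb * π b = π b * kb := by
    intro b
    rw [hB, Subgroup.mem_inf, Subgroup.mem_comap, Subgroup.mem_centralizer_iff]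
    simp only [Set.mem_singleton_iff, forall_eq]
  have hBdich : ∀ b ∈ A, b ∈ B ∨ a * b ∈ B := by
    intro b hb
    rcases hkbA (π b) (Subgroup.mem_map_of_mem _ hb) with h | h
    · left
      rw [hBmem]
      refine ⟨hb, ?_⟩
      calc kb * π b = π b * ((π b)⁻¹ * kb * π b) := by group
        _ = π b * kb := by rw [h]
    · right
      rw [hBmem]
      refine ⟨A.mul_mem haA hb, ?_⟩
      have h1 : (π (a * b))⁻¹ * kb * π (a * b) = kb := by
        rw [map_mul]
        have h2 : (π a * π b)⁻¹ * kb * (π a * π b) = (π b)⁻¹ * ((π a)⁻¹ * kb * π a) * π b := by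
          group
        rw [h2, hkba]
        have h3 : (π b)⁻¹ * kb⁻¹ * π b = ((π b)⁻¹ * kb * π b)⁻¹ := by group
        rw [h3, h, inv_inv]
      calc kb * π (a * b) = π (a * b) * ((π (a * b))⁻¹ * kb * π (a * b)) := by group
        _ = π (a * b) * kb := by rw [h1]
  have hcardA : Nat.card A ≤ 2 * Nat.card B := by
    have h1 : (A : Set G) ⊆ (B : Set G) ∪ (fun x => a * x) '' (B : Set G) := by
      intro b hb
      rcases hBdich b hb with h | h
      · exact Or.inl h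
      · right
        refine ⟨a * b, h, ?_⟩
        change a * (a * b) = b
        rw [← mul_assoc, haa, one_mul]
    have hfin : ((B : Set G) ∪ (fun x => a * x) '' (B : Set G)).Finite := Set.toFinite _
    calc Nat.card A = (A : Set G).ncard := Nat.card_coe_set_eq _
      _ ≤ ((B : Set G) ∪ (fun x => a * x) '' (B : Set G)).ncard := Set.ncard_le_ncard h1 hfin
      _ ≤ (B : Set G).ncard + ((fun x => a * x) '' (B : Set G)).ncard := Set.ncard_union_le _ _
      _ ≤ (B : Set G).ncard + (B : Set G).ncard :=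
          Nat.add_le_add_left (Set.ncard_image_le (Set.toFinite _)) _
      _ = 2 * Nat.card B := by
          rw [← Nat.card_coe_set_eq]; change Nat.card B + Nat.card B = _; ring
  -- the subgroup `Q₁`
  set Q₁ : Subgroup G := Q ⊔ B with hQ₁
  have hQQ₁ : Q ≤ Q₁ := le_sup_left
  have hBQ₁ : B ≤ Q₁ := le_sup_right
  have hQ₁S : Q₁ ≤ S := sup_le hQS (hBA.trans hAS)
  have hQ₁c : ∀ x ∈ Q₁, kb * π x = π x * kb := by
    have h1 : Q₁ ≤ (centralizer ({kb} : Set (G ⧸ Q))).comap π := by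
      apply sup_le
      · intro x hx
        rw [Subgroup.mem_comap, (hπker x).mpr hx]
        exact Subgroup.one_mem _
      · exact inf_le_right
    intro x hx
    have h2 := h1 hx
    rw [Subgroup.mem_comap, Subgroup.mem_centralizer_iff] at h2
    exact h2 kb rfl
  have haQ₁ : a ∉ Q₁ := by
    intro h
    have h1 := hQ₁c a h
    have h2 : (π a)⁻¹ * kb * π a = kb := by
      calc (π a)⁻¹ * kb * π a = (π a)⁻¹ * (kb * π a) := by group
        _ = (π a)⁻¹ * (π a * kb) := by rw [h1]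
        _ = kb := by group
    rw [hkba] at h2
    have h3 : kb ^ 2 = 1 := by
      rw [pow_two]
      calc kb * kb = kb * kb⁻¹ := by rw [h2]
        _ = 1 := mul_inv_cancel kb
    exact hkb1 (eq_one_of_sq_of_odd hkbodd dvd_rfl h3)
  have hQ₁map : Q₁.map π ≤ Ab := by
    rw [hQ₁, Subgroup.map_sup]
    apply sup_le
    · rintro _ ⟨x, hx, rfl⟩
      rw [(hπker x).mpr hx]; exact Subgroup.one_mem _
    · exact Subgroup.map_mono hBA
  -- elements centralising `Q₁` modulo `Q` normalise `Q₁`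
  have hnormQ₁ : ∀ g : G, (∀ x ∈ Q₁, π g * π x = π x * π g) → g ∈ normalizer (Q₁ : Set G) := by
    have key : ∀ g : G, (∀ x ∈ Q₁, π g * π x = π x * π g) → ∀ x ∈ Q₁, g * x * g⁻¹ ∈ Q₁ := by
      intro g hg x hx
      have h1 : g * x * g⁻¹ = x * (x⁻¹ * g * x * g⁻¹) := by group
      rw [h1]
      refine Q₁.mul_mem hx (hQQ₁ ?_)
      rw [← hπker]
      rw [map_mul, map_mul, map_mul, map_inv, map_inv, mul_assoc (π x)⁻¹, hg x hx]
      group
    intro g hg
    rw [Subgroup.mem_normalizer_iff]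
    intro x
    constructor
    · exact key g hg x
    · intro hx
      have hg' : ∀ y ∈ Q₁, π g⁻¹ * π y = π y * π g⁻¹ := by
        intro y hy
        rw [map_inv]
        have := hg y hy
        calc (π g)⁻¹ * π y = (π g)⁻¹ * (π y * π g) * (π g)⁻¹ := by group
          _ = (π g)⁻¹ * (π g * π y) * (π g)⁻¹ := by rw [this]
          _ = π y * (π g)⁻¹ := by group
      have := key g⁻¹ hg' _ hx
      have h2 : g⁻¹ * (g * x * g⁻¹) * g⁻¹⁻¹ = x := by group
      rwa [h2] at this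
  have hk₀N : k₀ ∈ normalizer (Q₁ : Set G) := by
    apply hnormQ₁
    intro x hx
    rw [hk₀]; exact hQ₁c x hx
  have hAN : A ≤ normalizer (Q₁ : Set G) := by
    intro b hb
    apply hnormQ₁
    intro x hx
    exact hAbc _ (Subgroup.mem_map_of_mem _ hb) _ (hQ₁map (Subgroup.mem_map_of_mem _ hx))
  have haN : a ∈ normalizer (Q₁ : Set G) := hAN haA
  -- trivial action on `Q₁ / Ω₁(Z(Q₁))`
  have ha_triv : a ∈ trivMod Q₁ := mem_trivMod_of_class_two hcl hQ₁S (hAS haA) haa haN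
  have ha'_triv : a' ∈ trivMod Q₁ := conj_mem_trivMod hk₀N ha_triv
  have hk₁_triv : k₁ ∈ trivMod Q₁ := (trivMod Q₁).mul_mem ha_triv ha'_triv
  have hk_triv : k ∈ trivMod Q₁ := (trivMod Q₁).pow_mem hk₁_triv _
  have hkN : k ∈ normalizer (Q₁ : Set G) := hk_triv.1
  have hzkN : zpowers k ≤ normalizer (Q₁ : Set G) := Subgroup.zpowers_le.mpr hkN
  have hzk_triv : zpowers k ≤ trivMod Q₁ := Subgroup.zpowers_le.mpr hk_triv
  -- the subgroup `U`
  set U : Subgroup G := ⁅Q₁, zpowers k⁆ with hU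
  have hUZ : U ≤ omegaZ Q₁ := by
    rw [hU, Subgroup.commutator_le]
    intro x hx g hg
    have hg' : g⁻¹ ∈ trivMod Q₁ := (trivMod Q₁).inv_mem (hzk_triv hg)
    have h1 := hg'.2 x⁻¹ (Q₁.inv_mem hx)
    have h2 : x⁻¹⁻¹ * (g⁻¹⁻¹ * x⁻¹ * g⁻¹) = ⁅x, g⁆ := by
      rw [commutatorElement_def]; group
    rwa [h2] at h1
  have hUQ₁ : U ≤ Q₁ := hUZ.trans (omegaZ_le Q₁)
  have hUcent : ∀ u ∈ U, ∀ y ∈ Q₁, u * y = y * u := fun u hu y hy => (hUZ hu).2.1 y hy
  have hU2 : ∀ u ∈ U, u * u = 1 := fun u hu => (hUZ hu).2.2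
  have hUcomm : IsMulCommutative U := by
    constructor
    constructor
    intro x y
    exact Subtype.ext (hUcent x x.2 y (hUQ₁ y.2))
  have hS2 : IsPGroup 2 (S : Subgroup G) := S.isPGroup'
  have hQ₁2 : IsPGroup 2 Q₁ := hS2.to_le hQ₁S
  have hU2g : IsPGroup 2 U := hQ₁2.to_le hUQ₁
  have hcopk : ∀ H : Subgroup G, IsPGroup 2 H → (Nat.card (zpowers k)).Coprime (Nat.card H) := by
    intro H hH
    obtain ⟨j, hj⟩ := IsPGroup.iff_card.mp hH
    rw [Nat.card_zpowers, hj]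
    exact Nat.Coprime.pow_right _ (Nat.coprime_two_right.mpr hkodd)
  have hzkU : zpowers k ≤ normalizer (U : Set G) := le_normalizer_commutator_right hzkN
  have hkU : k ∈ normalizer (U : Set G) := hzkU (Subgroup.mem_zpowers k)
  have hUU : ⁅U, zpowers k⁆ = U :=
    commutator_commutator_eq (zpowers k) Q₁ hzkN (hcopk Q₁ hQ₁2) (Or.inr inferInstance)
  have hUfix0 : U ⊓ centralizer ((zpowers k : Subgroup G) : Set G) = ⊥ := by
    have := Cfsg.Agent.Helper1.ZCoprime.commutator_inf_centralizer_eq_bot (zpowers k) U hzkU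
      (hcopk U hU2g)
    rwa [hUU] at this
  have hfix : ∀ u ∈ U, k⁻¹ * u * k = u → u = 1 := by
    intro u hu h
    have h1 : u ∈ U ⊓ centralizer ((zpowers k : Subgroup G) : Set G) := by
      refine Subgroup.mem_inf.mpr ⟨hu, ?_⟩
      rw [Subgroup.mem_centralizer_iff]
      intro g hg
      obtain ⟨i, rfl⟩ := Subgroup.mem_zpowers_iff.mp hg
      have h2 : k * u = u * k := by
        calc k * u = k * (k⁻¹ * u * k) := by rw [h]
          _ = u * k := by group
      exact ((Commute.zpow_left h2 i)).eq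
    rw [hUfix0, Subgroup.mem_bot] at h1
    exact h1
  have hUne : U ≠ ⊥ := by
    intro h
    have h1 : k ∈ centralizer (Q : Set G) := by
      rw [Subgroup.mem_centralizer_iff]
      intro x hx
      have h2 : ⁅x, k⁆ ∈ U := Subgroup.commutator_mem_commutator (hQQ₁ hx) (Subgroup.mem_zpowers k)
      rw [h, Subgroup.mem_bot, commutatorElement_eq_one_iff_mul_comm] at h2
      exact h2
    exact hπk1 ((hπker k).mpr (hCQ h1))
  -- `a` normalises `U`
  have haU : a ∈ normalizer (U : Set G) := by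
    have hza : zpowers a ≤ normalizer (Q₁ : Set G) := Subgroup.zpowers_le.mpr haN
    have hzak : zpowers a ≤ normalizer ((zpowers k : Subgroup G) : Set G) :=
      Subgroup.zpowers_le.mpr (mem_normalizer_zpowers_of_inv hka)
    have h1 : zpowers a ≤ normalizer (U : Set G) := by
      rw [le_normalizer_iff_conj_smul_eq] at hza hzak ⊢
      intro b hb
      have h2 : MulAut.conj b • ⁅Q₁, zpowers k⁆ =
          ⁅MulAut.conj b • Q₁, MulAut.conj b • zpowers k⁆ := by
        change (⁅Q₁, zpowers k⁆).map (MulAut.conj b).toMonoidHom =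
          ⁅Q₁.map (MulAut.conj b).toMonoidHom, (zpowers k).map (MulAut.conj b).toMonoidHom⁆
        rw [Subgroup.map_commutator]
      rw [hU, h2, hza b hb, hzak b hb]
    exact h1 (Subgroup.mem_zpowers a)
  -- counting
  set C : Subgroup G := U ⊓ centralizer ({a} : Set G) with hC
  have hBUle : B ⊓ U ≤ C := by
    intro x hx
    obtain ⟨hx1, hx2⟩ := Subgroup.mem_inf.mp hx
    refine Subgroup.mem_inf.mpr ⟨hx2, ?_⟩
    rw [Subgroup.mem_centralizer_iff]
    intro y hy
    rw [Set.mem_singleton_iff] at hy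
    subst hy
    exact hAc _ haA x (hBA hx1)
  have hBnU : B ≤ normalizer (U : Set G) := by
    refine le_trans ?_ (Subgroup.centralizer_le_normalizer (s := (U : Set G)))
    intro b hb
    rw [Subgroup.mem_centralizer_iff]
    intro u hu
    exact hUcent u hu b (hBQ₁ hb)
  have hBU_elem : ∀ x ∈ (B ⊔ U : Subgroup G), ∃ b ∈ B, ∃ u ∈ U, x = b * u := by
    intro x hx
    rw [← SetLike.mem_coe, Subgroup.coe_mul_of_left_le_normalizer_right B U hBnU] at hx
    obtain ⟨b, hb, u, hu, rfl⟩ := hx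
    exact ⟨b, hb, u, hu, rfl⟩
  have hBUS : B ⊔ U ≤ S := sup_le (hBA.trans hAS) (hUQ₁.trans hQ₁S)
  have hcomm_bu : ∀ b ∈ B, ∀ u ∈ U, b * u = u * b := fun b hb u hu =>
    (hUcent u hu b (hBQ₁ hb)).symm
  have hBU2 : ∀ x ∈ (B ⊔ U : Subgroup G), x * x = 1 := by
    intro x hx
    obtain ⟨b, hb, u, hu, rfl⟩ := hBU_elem x hx
    have h1 : b * u * (b * u) = b * (u * b) * u := by group
    rw [h1, ← hcomm_bu b hb u hu]
    have h2 : b * (b * u) * u = (b * b) * (u * u) := by group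
    rw [h2, hA2 b (hBA hb), hU2 u hu, one_mul]
  have hBUc : ∀ x ∈ (B ⊔ U : Subgroup G), ∀ y ∈ (B ⊔ U : Subgroup G), x * y = y * x := by
    intro x hx y hy
    obtain ⟨b, hb, u, hu, rfl⟩ := hBU_elem x hx
    obtain ⟨c, hc, v, hv, rfl⟩ := hBU_elem y hy
    have hbc : b * c = c * b := hAc b (hBA hb) c (hBA hc)
    have huv : u * v = v * u := hUcent u hu v (hUQ₁ hv)
    have huc : u * c = c * u := hUcent u hu c (hBQ₁ hc)
    have hvb : v * b = b * v := hUcent v hv b (hBQ₁ hb)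
    calc b * u * (c * v) = b * (u * c) * v := by group
      _ = b * (c * u) * v := by rw [huc]
      _ = (b * c) * (u * v) := by group
      _ = (c * b) * (v * u) := by rw [hbc, huv]
      _ = c * (b * v) * u := by group
      _ = c * (v * b) * u := by rw [hvb]
      _ = c * v * (b * u) := by group
  have hle1 : Nat.card (B ⊔ U : Subgroup G) ≤ Nat.card A := hmax _ hBUS hBU2 hBUc
  have hprod := card_sup_mul_card_inf' B U hBnU
  have hCU : Nat.card C * Nat.card C ≤ Nat.card U := by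
    have hCk : ∀ v ∈ C, k⁻¹ * v * k ∈ U := fun v hv => nconj hkU hv.1
    let f : ↥C × ↥C → ↥U := fun p => ⟨p.1.1 * (k⁻¹ * p.2.1 * k), U.mul_mem p.1.2.1 (hCk _ p.2.2)⟩
    have hf : Function.Injective f := by
      rintro ⟨u, v⟩ ⟨u', v'⟩ h
      have h1 : u.1 * (k⁻¹ * v.1 * k) = u'.1 * (k⁻¹ * v'.1 * k) := congrArg Subtype.val h
      -- `w := v' * v⁻¹`
      have hwC : v'.1 * v.1⁻¹ ∈ C := C.mul_mem v'.2 (C.inv_mem v.2)
      have hxC : u'.1⁻¹ * u.1 ∈ C := C.mul_mem (C.inv_mem u'.2) u.2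
      have h2 : u'.1⁻¹ * u.1 = k⁻¹ * (v'.1 * v.1⁻¹) * k := by
        have h3 : u'.1⁻¹ * u.1 = u'.1⁻¹ * (u.1 * (k⁻¹ * v.1 * k)) * (k⁻¹ * v.1 * k)⁻¹ := by group
        rw [h3, h1]; group
      -- `a` centralises both sides
      have hac : ∀ z ∈ C, a⁻¹ * z * a = z := by
        intro z hz
        have := (Subgroup.mem_centralizer_iff.mp hz.2) a rfl
        calc a⁻¹ * z * a = a⁻¹ * (z * a) := by group
          _ = a⁻¹ * (a * z) := by rw [this]
          _ = z := by group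
      have h4 := hac _ hxC
      rw [h2] at h4
      have h5 : a⁻¹ * (k⁻¹ * (v'.1 * v.1⁻¹) * k) * a =
          (a⁻¹ * k * a)⁻¹ * (a⁻¹ * (v'.1 * v.1⁻¹) * a) * (a⁻¹ * k * a) := by group
      rw [h5, hka, hac _ hwC, inv_inv] at h4
      -- `k * w * k⁻¹ = k⁻¹ * w * k`, so `k²` centralises `w`
      have h6 : (k ^ 2)⁻¹ * (v'.1 * v.1⁻¹) * k ^ 2 = v'.1 * v.1⁻¹ := by
        have h7 : (k ^ 2)⁻¹ * (v'.1 * v.1⁻¹) * k ^ 2 =
            k⁻¹ * (k⁻¹ * (v'.1 * v.1⁻¹) * k) * k := by rw [pow_two]; group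
        rw [h7, ← h4]; group
      have h8 : k⁻¹ * (v'.1 * v.1⁻¹) * k = v'.1 * v.1⁻¹ := by
        -- `k` is a power of `k²`
        obtain ⟨m', hm'⟩ := hkodd
        have h9 : k = (k ^ 2) ^ (m' + 1) := by
          rw [← pow_mul]
          have : 2 * (m' + 1) = orderOf k + 1 := by omega
          rw [this, pow_succ, pow_orderOf_eq_one, one_mul]
        have h10 : ∀ n : ℕ, ((k ^ 2) ^ n)⁻¹ * (v'.1 * v.1⁻¹) * (k ^ 2) ^ n = v'.1 * v.1⁻¹ := by
          intro n
          induction n with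
          | zero => simp
          | succ n ih =>
            have h11 : ((k ^ 2) ^ (n + 1))⁻¹ * (v'.1 * v.1⁻¹) * (k ^ 2) ^ (n + 1) =
                (k ^ 2)⁻¹ * (((k ^ 2) ^ n)⁻¹ * (v'.1 * v.1⁻¹) * (k ^ 2) ^ n) * k ^ 2 := by
              rw [pow_succ]; group
            rw [h11, ih, h6]
        have := h10 (m' + 1)
        rw [← h9] at this
        exact this
      have h12 : v'.1 * v.1⁻¹ = 1 := hfix _ hwC.1 h8
      have h13 : v' = v := by
        apply Subtype.ext
        exact (mul_inv_eq_one.mp h12)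
      have h14 : u'.1⁻¹ * u.1 = 1 := by rw [h2, h12]; group
      have h15 : u = u' := by
        apply Subtype.ext
        exact (inv_mul_eq_one.mp h14).symm
      rw [h13, h15]
    have := Nat.card_le_card_of_injective f hf
    rwa [Nat.card_prod] at this
  -- numerical conclusion
  obtain ⟨j, hj⟩ := IsPGroup.iff_card.mp hU2g
  have hC2g : IsPGroup 2 C := hU2g.to_le inf_le_left
  obtain ⟨i, hi⟩ := IsPGroup.iff_card.mp hC2g
  have hBUcard : Nat.card (B ⊓ U : Subgroup G) ≤ Nat.card C := Subgroup.card_le_of_le hBUle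
  have hBpos : 0 < Nat.card B := Nat.card_pos
  have hU_le : Nat.card U ≤ 2 * Nat.card C := by
    have h1 : Nat.card B * Nat.card U ≤ Nat.card B * (2 * Nat.card C) := by
      calc Nat.card B * Nat.card U = Nat.card (B ⊔ U : Subgroup G) * Nat.card (B ⊓ U : Subgroup G) :=
            hprod.symm
        _ ≤ Nat.card A * Nat.card C := Nat.mul_le_mul hle1 hBUcard
        _ ≤ (2 * Nat.card B) * Nat.card C := Nat.mul_le_mul_right _ hcardA
        _ = Nat.card B * (2 * Nat.card C) := by ring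
    exact Nat.le_of_mul_le_mul_left h1 hBpos
  have hj1 : 1 ≤ j := by
    rcases Nat.eq_zero_or_pos j with h | h
    · exfalso
      rw [h, pow_zero] at hj
      exact hUne (Subgroup.card_eq_one.mp hj)
    · exact h
  rw [hj, hi] at hCU hU_le
  have h2i : 2 * i ≤ j := by
    rw [← pow_add] at hCU
    have := (Nat.pow_le_pow_iff_right (by norm_num : 1 < 2)).mp hCU
    omega
  have hji : j ≤ i + 1 := by
    have h1 : 2 * 2 ^ i = 2 ^ (i + 1) := by rw [pow_succ]; ring
    rw [h1] at hU_le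
    exact (Nat.pow_le_pow_iff_right (by norm_num : 1 < 2)).mp hU_le
  have hcases : (i = 0 ∧ j = 1) ∨ (i = 1 ∧ j = 2) := by omega
  rcases hcases with ⟨_, hj'⟩ | ⟨hi', hj'⟩
  · -- `|U| = 2` is impossible
    rw [hj', pow_one] at hj
    obtain ⟨u, hu, hu1⟩ : ∃ u ∈ U, u ≠ 1 := by
      by_contra h
      push Not at h
      exact hUne ((Subgroup.eq_bot_iff_forall U).mpr h)
    have hzu : zpowers u = U := by
      apply Subgroup.eq_of_le_of_card_ge (Subgroup.zpowers_le.mpr hu)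
      rw [hj, Nat.card_zpowers]
      have h1 : orderOf u ∣ 2 := orderOf_dvd_of_pow_eq_one (by rw [pow_two]; exact hU2 u hu)
      have h2 : orderOf u ≠ 1 := fun h => hu1 (orderOf_eq_one_iff.mp h)
      rcases (Nat.dvd_prime Nat.prime_two).mp h1 with h | h
      · exact absurd h h2
      · rw [h]
    have h3 : k⁻¹ * u * k ∈ zpowers u := by rw [hzu]; exact nconj hkU hu
    rcases mem_zpowers_of_mul_self (hU2 u hu) h3 with h | h
    · apply hu1
      have h4 : u = k * (k⁻¹ * u * k) * k⁻¹ := by group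
      rw [h4, h]; group
    · exact hu1 (hfix u hu h)
  · -- `|U| = 4`
    rw [hj'] at hj
    rw [hi', pow_one] at hi
    have hU4 : Nat.card U = 4 := by rw [hj]; norm_num
    exact hS4 (involves_S4_of_four_group U hU4 k a hkU haU haa hka hkodd hfix hi)

end Cfsg.Agent.Helper1.S4Free
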