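import Mathlib
import Cfsg.Prelude.Def_Transfer
import Cfsg.Agent.Lib.Helper1.S4FreeD

/-!
# Thompson factorisation `G = N_G(J_e(S)) O_{2'}(G)` for `S₄`-free solvable groups with Sylow
2-subgroups of class at most two.
-/

set_option autoImplicit false

namespace Cfsg.Agent.Helper1.S4Free

open Subgroup
open scoped Pointwise commutatorElement
open Cfsg Cfsg.Agent.Helper1 Cfsg.Agent.Helper1.SysNorm

universe u

variable {G : Type u} [Group G]

/-- A section of a quotient is a section of the group. -/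
theorem involves_of_quotient {H : Type*} [Group H] (K : Subgroup G) [K.Normal]
    (h : Cfsg.Involves H (G ⧸ K)) : Cfsg.Involves H G := by
  obtain ⟨K₁, R₁, hn, ⟨e⟩⟩ := h
  let π : G →* G ⧸ K := QuotientGroup.mk' K
  have hπ : Function.Surjective π := QuotientGroup.mk'_surjective K
  let f : ↥(K₁.comap π) →* G := (K₁.comap π).subtype
  let ρ : ↥(K₁.comap π) →* H :=
    (e.toMonoidHom.comp (QuotientGroup.mk' (R₁.subgroupOf K₁))).comp (π.subgroupComap K₁)
  have hρ : Function.Surjective ρ := by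
    have h1 : Function.Surjective (π.subgroupComap K₁) :=
      π.subgroupComap_surjective_of_surjective K₁ hπ
    have h2 : Function.Surjective (QuotientGroup.mk' (R₁.subgroupOf K₁)) :=
      QuotientGroup.mk'_surjective _
    exact (e.surjective.comp h2).comp h1
  apply involves_of_hom f ρ hρ
  intro x hx
  have h1 : x = 1 := by
    apply Subtype.ext
    exact hx
  rw [h1]; exact Subgroup.one_mem _

/-- Ambient form of "elementary abelian 2-subgroup of `S` of largest order". -/
def IsMaxEA (S A : Subgroup G) : Prop :=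
  A ≤ S ∧ (∀ x ∈ A, x * x = 1) ∧ (∀ x ∈ A, ∀ y ∈ A, x * y = y * x) ∧
    ∀ B : Subgroup G, B ≤ S → (∀ x ∈ B, x * x = 1) → (∀ x ∈ B, ∀ y ∈ B, x * y = y * x) →
      Nat.card B ≤ Nat.card A

theorem isElementaryAbelian_two_iff {S : Subgroup G} (A' : Subgroup ↥S) :
    Cfsg.IsElementaryAbelian 2 A' ↔
      (∀ x ∈ A'.map S.subtype, x * x = 1) ∧
        (∀ x ∈ A'.map S.subtype, ∀ y ∈ A'.map S.subtype, x * y = y * x) := by
  constructor
  · rintro ⟨hc, h2⟩
    refine ⟨?_, ?_⟩
    · rintro _ ⟨x, hx, rfl⟩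
      have := h2 x hx
      rw [pow_two] at this
      exact congrArg Subtype.val this
    · rintro _ ⟨x, hx, rfl⟩ _ ⟨y, hy, rfl⟩
      have := hc.is_comm.comm (⟨x, hx⟩ : ↥A') ⟨y, hy⟩
      have h3 : x * y = y * x := congrArg Subtype.val this
      exact congrArg Subtype.val h3
  · rintro ⟨h2, hc⟩
    refine ⟨⟨⟨?_⟩⟩, ?_⟩
    · intro x y
      apply Subtype.ext
      apply Subtype.ext
      exact hc _ (Subgroup.mem_map_of_mem _ x.2) _ (Subgroup.mem_map_of_mem _ y.2)
    · intro x hx
      rw [pow_two]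
      apply Subtype.ext
      exact h2 _ (Subgroup.mem_map_of_mem _ hx)

theorem thompsonSubgroupOf_two_eq (S : Subgroup G) :
    Cfsg.thompsonSubgroupOf 2 S = sSup {A : Subgroup G | IsMaxEA S A} := by
  unfold Cfsg.thompsonSubgroupOf Cfsg.thompsonSubgroup
  apply le_antisymm
  · rw [Subgroup.map_le_iff_le_comap]
    apply sSup_le
    rintro A' ⟨hA'e, hA'm⟩
    rw [← Subgroup.map_le_iff_le_comap]
    apply le_sSup
    obtain ⟨h2, hc⟩ := (isElementaryAbelian_two_iff A').mp hA'e
    refine ⟨Subgroup.map_subtype_le _, h2, hc, ?_⟩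
    intro B hBS hB2 hBc
    have hBmap : (B.subgroupOf S).map S.subtype = B := by
      rw [Subgroup.subgroupOf_map_subtype, inf_of_le_left hBS]
    have hBe : Cfsg.IsElementaryAbelian 2 (B.subgroupOf S) := by
      rw [isElementaryAbelian_two_iff, hBmap]
      exact ⟨hB2, hBc⟩
    have h1 := hA'm _ hBe
    rw [card_subgroupOf_of_le hBS] at h1
    rw [Subgroup.card_map_of_injective S.subtype_injective]
    exact h1
  · apply sSup_le
    rintro A ⟨hAS, hA2, hAc, hAm⟩
    have hAmap : (A.subgroupOf S).map S.subtype = A := by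
      rw [Subgroup.subgroupOf_map_subtype, inf_of_le_left hAS]
    have hmem : A.subgroupOf S ∈ Cfsg.maxElementaryAbelianSubgroups 2 ↥S := by
      refine ⟨?_, ?_⟩
      · rw [isElementaryAbelian_two_iff, hAmap]
        exact ⟨hA2, hAc⟩
      · intro B' hB'e
        obtain ⟨h2, hc⟩ := (isElementaryAbelian_two_iff B').mp hB'e
        have h1 := hAm _ (Subgroup.map_subtype_le B') h2 hc
        rw [Subgroup.card_map_of_injective S.subtype_injective] at h1
        rw [card_subgroupOf_of_le hAS]
        exact h1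
    rw [← hAmap]
    exact Subgroup.map_mono (le_sSup hmem)

/-- The Thompson factorisation in ambient form. -/
theorem thompson_factorization_class_two [Finite G] [Group.IsSolvable G]
    (hS4 : ¬ Cfsg.Involves (Equiv.Perm (Fin 4)) G) (S : Sylow 2 G)
    (hcl : ⁅⁅(S : Subgroup G), (S : Subgroup G)⁆, (S : Subgroup G)⁆ = ⊥) :
    normalizer ((sSup {A : Subgroup G | IsMaxEA S A} : Subgroup G) : Set G) ⊔ pPrimeCore 2 G = ⊤ := by
  classical
  have hp2 : Fact (Nat.Prime 2) := ⟨Nat.prime_two⟩
  set K := pPrimeCore 2 G with hK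
  set J : Subgroup G := sSup {A : Subgroup G | IsMaxEA S A} with hJ
  let π : G →* G ⧸ K := QuotientGroup.mk' K
  have hπsurj : Function.Surjective π := QuotientGroup.mk'_surjective K
  have hπker : ∀ x, π x = 1 ↔ x ∈ K := fun x => QuotientGroup.eq_one_iff x
  have hsolq : Group.IsSolvable (G ⧸ K) := Group.isSolvable_of_surjective hπsurj
  have hS4q : ¬ Cfsg.Involves (Equiv.Perm (Fin 4)) (G ⧸ K) := fun h => hS4 (involves_of_quotient K h)
  have hOq : pPrimeCore 2 (G ⧸ K) = ⊥ := Cfsg.Agent.Helper54.pPrimeCore_quotient_eq_bot 2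
  have hKodd : (Nat.card K).Coprime 2 := Cfsg.Agent.Helper54.pPrimeCore_coprime 2
  set Sb : Sylow 2 (G ⧸ K) := S.mapSurjective hπsurj with hSb
  have hSbcoe : (Sb : Subgroup (G ⧸ K)) = (S : Subgroup G).map π := rfl
  have hclq : ⁅⁅(Sb : Subgroup (G ⧸ K)), (Sb : Subgroup (G ⧸ K))⁆, (Sb : Subgroup (G ⧸ K))⁆ = ⊥ := by
    rw [hSbcoe, ← Subgroup.map_commutator, ← Subgroup.map_commutator, hcl, Subgroup.map_bot]
  -- `S ∩ K = 1`
  have hSK : ∀ x ∈ (S : Subgroup G), x ∈ K → x = 1 := by
    intro x hxS hxK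
    have h1 : orderOf x ∣ Nat.card K := Subgroup.orderOf_dvd_natCard K hxK
    obtain ⟨j, hj⟩ := (S.isPGroup'.to_le le_rfl) ⟨x, hxS⟩
    have h2 : x ^ 2 ^ j = 1 := by
      have := congrArg Subtype.val hj
      simpa using this
    have h3 : orderOf x ∣ 2 ^ j := orderOf_dvd_of_pow_eq_one h2
    have h4 : Nat.Coprime (Nat.card K) (2 ^ j) := Nat.Coprime.pow_right _ hKodd
    exact orderOf_eq_one_iff.mp (Nat.eq_one_of_dvd_coprimes h4 h1 h3)
  have hinjS : Function.Injective (π.comp (S : Subgroup G).subtype) := by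
    rw [injective_iff_map_eq_one]
    intro x hx
    apply Subtype.ext
    exact hSK x.1 x.2 ((hπker _).mp hx)
  -- every maximal elementary abelian subgroup lies in `R`
  set Qb := pCore 2 (G ⧸ K) with hQb
  set R : Subgroup G := Qb.comap π with hR
  have hRn : R.Normal := (inferInstance : Qb.Normal).comap π
  have hKR : K ≤ R := by
    intro x hx
    rw [hR, Subgroup.mem_comap, (hπker x).mpr hx]
    exact Subgroup.one_mem _
  have hQbS : Qb ≤ Sb := Cfsg.Agent.Helper54.pCore_le_sylow Sb
  have hAR : ∀ A : Subgroup G, IsMaxEA S A → A ≤ R := by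
    rintro A ⟨hAS, hA2, hAc, hAm⟩
    rw [hR, ← Subgroup.map_le_iff_le_comap]
    apply le_pCore_of_max_elementary hS4q hOq Sb hclq (A.map π)
    · rw [hSbcoe]; exact Subgroup.map_mono hAS
    · rintro _ ⟨x, hx, rfl⟩
      rw [← map_mul, hA2 x hx, map_one]
    · rintro _ ⟨x, hx, rfl⟩ _ ⟨y, hy, rfl⟩
      rw [← map_mul, ← map_mul, hAc x hx y hy]
    · intro Bb hBbS hBb2 hBbc
      set B : Subgroup G := Bb.comap π ⊓ S with hB
      have hBS : B ≤ S := inf_le_right
      have hBmap : B.map π = Bb := by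
        apply le_antisymm
        · rw [Subgroup.map_le_iff_le_comap]; exact inf_le_left
        · intro y hy
          have hy' := hBbS hy
          rw [hSbcoe] at hy'
          obtain ⟨s, hs, rfl⟩ := hy'
          exact ⟨s, ⟨hy, hs⟩, rfl⟩
      have hB2 : ∀ x ∈ B, x * x = 1 := by
        intro x hx
        apply hSK _ ((S : Subgroup G).mul_mem (hBS hx) (hBS hx))
        rw [← hπker, map_mul]
        exact hBb2 _ hx.1
      have hBc : ∀ x ∈ B, ∀ y ∈ B, x * y = y * x := by
        intro x hx y hy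
        have h1 : (y * x)⁻¹ * (x * y) = 1 := by
          apply hSK
          · exact (S : Subgroup G).mul_mem ((S : Subgroup G).inv_mem
              ((S : Subgroup G).mul_mem (hBS hy) (hBS hx))) ((S : Subgroup G).mul_mem (hBS hx) (hBS hy))
          · rw [← hπker, map_mul, map_inv, map_mul, map_mul, hBbc _ hx.1 _ hy.1]
            group
        exact (inv_mul_eq_one.mp h1).symm
      have h1 := hAm B hBS hB2 hBc
      have hcardmap : ∀ D : Subgroup G, D ≤ S → Nat.card (D.map π) = Nat.card D := by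
        intro D hD
        have h2 : D.map π = (D.subgroupOf S).map (π.comp (S : Subgroup G).subtype) := by
          rw [← Subgroup.map_map, Subgroup.subgroupOf_map_subtype, inf_of_le_left hD]
        rw [h2, Subgroup.card_map_of_injective hinjS, card_subgroupOf_of_le hD]
      rw [← hBmap, hcardmap B hBS, hcardmap A hAS]
      exact h1
  have hJS : J ≤ S := sSup_le fun A hA => hA.1
  have hJR : J ≤ R := sSup_le hAR
  -- `T = S ∩ R`
  set T : Subgroup G := (S : Subgroup G) ⊓ R with hT
  have hRTK : R = T ⊔ K := by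
    apply le_antisymm
    · intro r hr
      have h1 : π r ∈ (Sb : Subgroup (G ⧸ K)) := hQbS hr
      rw [hSbcoe] at h1
      obtain ⟨s, hs, hsr⟩ := h1
      have h2 : s⁻¹ * r ∈ K := by
        rw [← hπker, map_mul, map_inv, hsr, inv_mul_cancel]
      have h3 : s ∈ R := by
        have : s = r * (s⁻¹ * r)⁻¹ := by group
        rw [this]
        exact R.mul_mem hr (R.inv_mem (hKR h2))
      have h4 : r = s * (s⁻¹ * r) := by group
      rw [h4]
      exact Subgroup.mul_mem_sup ⟨hs, h3⟩ h2
    · exact sup_le inf_le_right hKR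
  -- Frattini
  have hTR : T ≤ R := inf_le_right
  have hT2 : IsPGroup 2 (T.subgroupOf R) := by
    have h1 : IsPGroup 2 T := S.isPGroup'.to_le inf_le_left
    exact h1.comap_subtype
  have hidx : ¬ 2 ∣ (T.subgroupOf R).index := by
    change ¬ 2 ∣ T.relIndex R
    rw [hRTK]
    intro h
    have h1 : T.relIndex (T ⊔ K) ∣ Nat.card K := relIndex_sup_dvd_card T K
    have h2 := h.trans h1
    have h3 : Nat.Coprime 2 (Nat.card K) := hKodd.symm
    exact (Nat.Prime.coprime_iff_not_dvd Nat.prime_two).mp h3 h2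
  set P : Sylow 2 ↥R := hT2.toSylow hidx with hP
  have hPmap : (P : Subgroup ↥R).map R.subtype = T := by
    rw [hP, IsPGroup.toSylow_coe, Subgroup.subgroupOf_map_subtype, inf_of_le_left hTR]
  have hfrat : normalizer (T : Set G) ⊔ R = ⊤ := by
    have := Sylow.normalizer_sup_eq_top P
    rw [hPmap] at this
    exact this
  have hfrat' : normalizer (T : Set G) ⊔ K = ⊤ := by
    rw [hRTK, ← sup_assoc, sup_eq_left.mpr (le_normalizer : T ≤ normalizer (T : Set G))] at hfrat
    exact hfrat
  -- `N(T) ≤ N(J)`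
  have hNT : normalizer (T : Set G) ≤ normalizer (J : Set G) := by
    apply le_normalizer_of_conj_smul_le
    intro g hg
    rw [← inv_inv g, conj_inv_smul_le_iff]
    rw [hJ]
    apply sSup_le
    rintro A ⟨hAS, hA2, hAc, hAm⟩
    rw [← conj_inv_smul_le_iff, inv_inv]
    apply le_sSup
    have hAT : A ≤ T := le_inf hAS (hAR A ⟨hAS, hA2, hAc, hAm⟩)
    have hgT : MulAut.conj g • T = T := by
      have := (le_normalizer_iff_conj_smul_eq (A := normalizer (T : Set G)) (H := T)).mp le_rfl g hg
      exact this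
    refine ⟨?_, ?_, ?_, ?_⟩
    · have h1 : MulAut.conj g • A ≤ MulAut.conj g • T := Subgroup.pointwise_smul_le_pointwise_smul_iff.mpr hAT
      rw [hgT] at h1
      exact h1.trans inf_le_left
    · intro x hx
      rw [mem_conj_smul] at hx
      have h1 := hA2 _ hx
      have h2 : x * x = g * ((g⁻¹ * x * g) * (g⁻¹ * x * g)) * g⁻¹ := by group
      rw [h2, h1]; group
    · intro x hx y hy
      rw [mem_conj_smul] at hx hy
      have h1 := hAc _ hx _ hy
      have h2 : x * y = g * ((g⁻¹ * x * g) * (g⁻¹ * y * g)) * g⁻¹ := by group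
      have h3 : y * x = g * ((g⁻¹ * y * g) * (g⁻¹ * x * g)) * g⁻¹ := by group
      rw [h2, h3, h1]
    · intro B hBS hB2 hBc
      rw [card_conj_smul]
      exact hAm B hBS hB2 hBc
  rw [eq_top_iff, ← hfrat']
  exact sup_le_sup_right hNT K

end Cfsg.Agent.Helper1.S4Free
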