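import Mathlib
import Cfsg.Agent.Lib.Helper62.SUO0

/-!
# SUO server (helper62, S2282): piece (C1) `exists_R`, verbatim.
`R = E_{m-1} ⋯ E_1 E_0`, `E_k = eich (b k) (-(b (2m+3-k))) 0`.
-/

set_option autoImplicit false
set_option linter.unusedSectionVars false
set_option linter.unusedVariables false
set_option quotPrecheck false

namespace Cfsg.Agent.Helper1.SUO

open Matrix Cfsg Cfsg.Agent.Helper13 Cfsg.Agent.Helper87.PsuA Cfsg.Agent.Helper62.SUO
open Cfsg.Agent.Helper87.PsuB0

section U
variable {F : Type*} [Field F] [Fintype F] {q n : ℕ} (hF : Fintype.card F = q ^ 2)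
  {b : Fin n → Fin n → F}

local notation "V" => Fin n → F
local notation "G" => ↥(Cfsg.SU n F q)
local notation "H" => Cfsg.hermForm n F q

/-- superdiagonal entries of unitriangular elements add -/
theorem h1_superdiag_mul (hb : HB q b) {g h : G} (hg : g ∈ Usub hb) (hh : h ∈ Usub hb)
    (i j : Fin n) (hij : i.val + 1 = j.val) :
    co q b (actv (g * h) (b j)) i = co q b (actv g (b j)) i + co q b (actv h (b j)) i := by
  have hg' := (mem_Usub_iff hb).1 hg
  have hh' := (mem_Usub_iff hb).1 hh
  have hne : i ≠ j := by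
    intro h; rw [h] at hij; omega
  rw [← rhoM_apply, ← rhoM_apply, ← rhoM_apply, rhoM_mul hb, Matrix.mul_apply]
  rw [Finset.sum_eq_add i j hne ?_ (fun h => absurd (Finset.mem_univ _) h)
    (fun h => absurd (Finset.mem_univ _) h)]
  · rw [rhoM_apply g i i, hg' i i le_rfl, if_pos rfl, one_mul, rhoM_apply h j j, hh' j j le_rfl,
      if_pos rfl, mul_one, add_comm]
  · intro c _ hc
    by_cases hci : c ≤ i
    · rw [rhoM_apply g i c, hg' i c hci, if_neg (Ne.symm hc.1), zero_mul]
    · have hjc : j ≤ c := by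
        rw [Fin.le_def]; rw [Fin.le_def] at hci
        have : c.val ≠ j.val := fun h => hc.2 (Fin.ext h)
        omega
      rw [rhoM_apply h c j, hh' c j hjc, if_neg hc.2, mul_zero]

end U

section C
variable {F : Type*} [Field F] [Fintype F] {q m : ℕ} (hF : Fintype.card F = q ^ 2)
  {b : Fin (2 * m + 5) → Fin (2 * m + 5) → F}

local notation "V" => Fin (2 * m + 5) → F
local notation "G" => ↥(Cfsg.SU (2 * m + 5) F q)
local notation "H" => Cfsg.hermForm (2 * m + 5) F q

include hF

/-- the factor `E_k = eich (b k) (-(b (2m+3-k))) 0`, `k < m` -/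
theorem h1_factor (hb : HB q b) (k : ℕ) (hk : k < m) :
    ∃ E : G, E ∈ Usub hb ∧
      actv E (b ⟨m + 3, by omega⟩) = b ⟨m + 3, by omega⟩ ∧
      actv E (b ⟨m + 4, by omega⟩) = b ⟨m + 4, by omega⟩ ∧
      (∀ i j : Fin (2 * m + 5), i.val + 1 = j.val →
        co q b (actv E (b j)) i =
          if j.val = k + 1 then 1 else if j.val = 2 * m + 4 - k then -1 else 0) := by
  obtain ⟨kk, hkk⟩ : ∃ kk : Fin (2 * m + 5), kk.val = k := ⟨⟨k, by omega⟩, rfl⟩
  obtain ⟨rr, hrr⟩ : ∃ rr : Fin (2 * m + 5), rr.val = 2 * m + 3 - k := ⟨⟨2 * m + 3 - k, by omega⟩, rfl⟩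
  obtain ⟨w, hw⟩ : ∃ w : V, w = (-1 : F) • b rr := ⟨_, rfl⟩
  have hrevv : ∀ x : Fin (2 * m + 5), (Fin.rev x).val = 2 * m + 4 - x.val := by
    intro x; rw [Fin.val_rev]; omega
  have hcow : ∀ i, co q b w i = if i = rr then -1 else 0 := by
    intro i
    rw [hw, co_smul, co_b hb]
    split_ifs <;> simp
  have hne : kk ≠ Fin.rev kk := by
    intro h
    have := congrArg Fin.val h
    rw [hrevv] at this; omega
  have hlt : kk < Fin.rev kk := by
    rw [Fin.lt_def, hrevv]; omega
  have huw : H (b kk) w = 0 := by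
    rw [hw, hermForm_smul_right, hb kk rr, if_neg, mul_zero]
    intro h
    have := congrArg Fin.val h
    rw [hrevv] at this; omega
  have hww : H w w = 0 := by
    rw [hw, hermForm_smul_left, hermForm_smul_right, hb rr rr, if_neg, mul_zero, mul_zero]
    intro h
    have := congrArg Fin.val h
    rw [hrevv] at this; omega
  have ha : (0 : F) + 0 ^ q + H w w = 0 := by rw [hww, frob_zero hF]; ring
  have hm1 : ((-1 : F)) ^ q = -1 := by rw [frob_neg hF, one_pow]
  have hfix : ∀ j : Fin (2 * m + 5), j.val ≠ k + 1 → j.val ≠ 2 * m + 4 - k →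
      actv (eich hF (b kk) w 0) (b j) = b j := by
    intro j h1 h2
    have e1 : ¬ kk = Fin.rev j := by
      intro h
      have := congrArg Fin.val h
      rw [hrevv] at this; omega
    have e2 : ¬ Fin.rev j = rr := by
      intro h
      have := congrArg Fin.val h
      rw [hrevv] at this; omega
    rw [eich_b hF hb kk hne w 0 huw ha, if_neg e1, hcow, if_neg e2, frob_zero hF]
    simp
  refine ⟨eich hF (b kk) w 0, ?_, ?_, ?_, ?_⟩
  · apply eich_mem_Usub hF hb kk hlt w 0 _ ha
    intro i hi
    rw [hcow, if_neg]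
    intro h
    rw [h, Fin.le_def, hrevv] at hi; omega
  · exact hfix _ (by simp; omega) (by simp; omega)
  · exact hfix _ (by simp; omega) (by simp; omega)
  · intro i j hij
    rw [co_eich_b hF hb kk hne w 0 huw ha j i, hcow, hcow]
    have hij' : ¬ i = j := by
      intro h; rw [h] at hij; omega
    rw [if_neg hij']
    by_cases h1 : j.val = k + 1
    · rw [if_pos h1]
      have e1 : ¬ kk = Fin.rev j := by
        intro h
        have := congrArg Fin.val h
        rw [hrevv] at this; omega
      have e2 : Fin.rev j = rr := by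
        apply Fin.ext; rw [hrevv]; omega
      have e3 : i = kk := by
        apply Fin.ext; omega
      rw [if_neg e1, if_pos e2, if_pos e3, hm1]
      ring
    · rw [if_neg h1]
      by_cases h2 : j.val = 2 * m + 4 - k
      · rw [if_pos h2]
        have e1 : kk = Fin.rev j := by
          apply Fin.ext; rw [hrevv]; omega
        have e2 : ¬ Fin.rev j = rr := by
          intro h
          have := congrArg Fin.val h
          rw [hrevv] at this; omega
        have e3 : i = rr := by
          apply Fin.ext; omega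
        have e4 : ¬ i = kk := by
          intro h
          have := congrArg Fin.val h
          omega
        rw [if_pos e1, if_pos e3, if_neg e2, if_neg e4]
        ring
      · rw [if_neg h2]
        have e1 : ¬ kk = Fin.rev j := by
          intro h
          have := congrArg Fin.val h
          rw [hrevv] at this; omega
        have e2 : ¬ Fin.rev j = rr := by
          intro h
          have := congrArg Fin.val h
          rw [hrevv] at this; omega
        rw [if_neg e1, if_neg e2, frob_zero hF]
        ring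

/-- partial products -/
theorem h1_R_aux (hb : HB q b) (k : ℕ) (hk : k ≤ m) :
    ∃ R : G, R ∈ Usub hb ∧
      actv R (b ⟨m + 3, by omega⟩) = b ⟨m + 3, by omega⟩ ∧
      actv R (b ⟨m + 4, by omega⟩) = b ⟨m + 4, by omega⟩ ∧
      (∀ i j : Fin (2 * m + 5), i.val + 1 = j.val → (j.val ≤ k ∨ 2 * m + 5 ≤ j.val + k) →
        co q b (actv R (b j)) i ≠ 0) ∧
      (∀ i j : Fin (2 * m + 5), i.val + 1 = j.val → k + 1 ≤ j.val → j.val + k ≤ 2 * m + 4 →
        co q b (actv R (b j)) i = 0) := by
  induction k with
  | zero =>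
    refine ⟨1, (Usub hb).one_mem, actv_one _, actv_one _, ?_, ?_⟩
    · intro i j hij h
      exfalso
      have := j.isLt
      omega
    · intro i j hij _ _
      rw [actv_one, co_b hb, if_neg]
      intro h; rw [h] at hij; omega
  | succ k ih =>
    obtain ⟨R, hR, hR3, hR4, hnz, hz⟩ := ih (by omega)
    obtain ⟨E, hE, hE3, hE4, hEs⟩ := h1_factor hF hb k (by omega)
    refine ⟨E * R, (Usub hb).mul_mem hE hR, ?_, ?_, ?_, ?_⟩
    · rw [actv_mul, hR3, hE3]
    · rw [actv_mul, hR4, hE4]
    · intro i j hij h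
      rw [h1_superdiag_mul hb hE hR i j hij, hEs i j hij]
      by_cases h1 : j.val = k + 1
      · rw [if_pos h1, hz i j hij (by omega) (by omega), add_zero]
        exact one_ne_zero
      · rw [if_neg h1]
        by_cases h2 : j.val = 2 * m + 4 - k
        · rw [if_pos h2, hz i j hij (by omega) (by omega), add_zero]
          exact neg_ne_zero.2 one_ne_zero
        · rw [if_neg h2, zero_add]
          exact hnz i j hij (by omega)
    · intro i j hij h1 h2
      rw [h1_superdiag_mul hb hE hR i j hij, hEs i j hij, if_neg (by omega), if_neg (by omega),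
        zero_add]
      exact hz i j hij (by omega) (by omega)

/-- (C1) induction on `j ≤ m`: `R_0 = 1`, `R_{j+1} = eich (b j) (-(b (2m+3-j))) 0 * R_j`
(`eich_mem_Usub`, `co_eich_b`, U1) -/
theorem exists_R (hb : HB q b) :
    ∃ R : G, R ∈ Usub hb ∧
      actv R (b ⟨m + 3, by omega⟩) = b ⟨m + 3, by omega⟩ ∧
      actv R (b ⟨m + 4, by omega⟩) = b ⟨m + 4, by omega⟩ ∧
      (∀ i j : Fin (2 * m + 5), i.val + 1 = j.val → (j.val ≤ m ∨ m + 5 ≤ j.val) →
        co q b (actv R (b j)) i ≠ 0) ∧
      (∀ i j : Fin (2 * m + 5), i.val + 1 = j.val → m + 1 ≤ j.val → j.val ≤ m + 4 →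
        co q b (actv R (b j)) i = 0) := by
  obtain ⟨R, hR, hR3, hR4, hnz, hz⟩ := h1_R_aux hF hb m le_rfl
  refine ⟨R, hR, hR3, hR4, ?_, ?_⟩
  · intro i j hij h
    exact hnz i j hij (by omega)
  · intro i j hij h1 h2
    exact hz i j hij h1 (by omega)

end C

end Cfsg.Agent.Helper1.SUO
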