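import Mathlib
import Cfsg.Agent.Lib.Helper62.SUO0
import Cfsg.Agent.Lib.Helper1.SUOC1

/-!
# SUO server (helper62, S2282): piece (C2) `exists_u`, verbatim.
`u = A * (B * R)`, `A = eich (b m) (-(b (m+3))) 0`, `B = eich (b (m+1)) (t • b (m+2)) a`, `R` from (C1).
-/

set_option autoImplicit false
set_option linter.unusedSectionVars false
set_option linter.unusedVariables false
set_option quotPrecheck false

namespace Cfsg.Agent.Helper1.SUO

open Matrix Cfsg Cfsg.Agent.Helper13 Cfsg.Agent.Helper87.PsuA Cfsg.Agent.Helper62.SUO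
open Cfsg.Agent.Helper87.PsuB0

section C
variable {F : Type*} [Field F] [Fintype F] {q m : ℕ} (hF : Fintype.card F = q ^ 2)
  {b : Fin (2 * m + 5) → Fin (2 * m + 5) → F}

local notation "V" => Fin (2 * m + 5) → F
local notation "G" => ↥(Cfsg.SU (2 * m + 5) F q)
local notation "H" => Cfsg.hermForm (2 * m + 5) F q

include hF

/-- the factor `A = eich (b m) (-(b (m+3))) 0` -/
theorem h1_factorA (hb : HB q b) :
    ∃ E : G, E ∈ Usub hb ∧
      actv E (b ⟨m + 4, by omega⟩) = b ⟨m + 4, by omega⟩ - b ⟨m + 3, by omega⟩ ∧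
      actv E (b ⟨m + 3, by omega⟩) = b ⟨m + 3, by omega⟩ ∧
      actv E (b ⟨m + 2, by omega⟩) = b ⟨m + 2, by omega⟩ ∧
      actv E (b ⟨m + 1, by omega⟩) = b ⟨m + 1, by omega⟩ + b ⟨m, by omega⟩ ∧
      (∀ i j : Fin (2 * m + 5), i.val + 1 = j.val →
        co q b (actv E (b j)) i =
          if j.val = m + 1 then 1 else if j.val = m + 4 then -1 else 0) := by
  obtain ⟨kk, hkk⟩ : ∃ kk : Fin (2 * m + 5), kk.val = m := ⟨⟨m, by omega⟩, rfl⟩
  obtain ⟨rr, hrr⟩ : ∃ rr : Fin (2 * m + 5), rr.val = m + 3 := ⟨⟨m + 3, by omega⟩, rfl⟩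
  obtain ⟨w, hw⟩ : ∃ w : V, w = (-1 : F) • b rr := ⟨_, rfl⟩
  have hrevv : ∀ x : Fin (2 * m + 5), (Fin.rev x).val = 2 * m + 4 - x.val := by
    intro x; rw [Fin.val_rev]; omega
  have hcow : ∀ i, co q b w i = if i = rr then -1 else 0 := by
    intro i
    rw [hw, co_smul, co_b hb]
    split_ifs <;> simp
  have hne : kk ≠ Fin.rev kk := by
    intro h
    have := congrArg Fin.val h
    rw [hrevv] at this; omega
  have hlt : kk < Fin.rev kk := by
    rw [Fin.lt_def, hrevv]; omega
  have huw : H (b kk) w = 0 := by
    rw [hw, hermForm_smul_right, hb kk rr, if_neg, mul_zero]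
    intro h
    have := congrArg Fin.val h
    rw [hrevv] at this; omega
  have hww : H w w = 0 := by
    rw [hw, hermForm_smul_left, hermForm_smul_right, hb rr rr, if_neg, mul_zero, mul_zero]
    intro h
    have := congrArg Fin.val h
    rw [hrevv] at this; omega
  have ha : (0 : F) + 0 ^ q + H w w = 0 := by rw [hww, frob_zero hF]; ring
  have hm1 : ((-1 : F)) ^ q = -1 := by rw [frob_neg hF, one_pow]
  have hfix : ∀ j : Fin (2 * m + 5), j.val ≠ m + 1 → j.val ≠ m + 4 →
      actv (eich hF (b kk) w 0) (b j) = b j := by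
    intro j h1 h2
    have e1 : ¬ kk = Fin.rev j := by
      intro h
      have := congrArg Fin.val h
      rw [hrevv] at this; omega
    have e2 : ¬ Fin.rev j = rr := by
      intro h
      have := congrArg Fin.val h
      rw [hrevv] at this; omega
    rw [eich_b hF hb kk hne w 0 huw ha, if_neg e1, hcow, if_neg e2, frob_zero hF]
    simp
  have hrrE : rr = ⟨m + 3, by omega⟩ := Fin.ext hrr
  have hkkE : kk = ⟨m, by omega⟩ := Fin.ext hkk
  refine ⟨eich hF (b kk) w 0, ?_, ?_, ?_, ?_, ?_, ?_⟩
  · apply eich_mem_Usub hF hb kk hlt w 0 _ ha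
    intro i hi
    rw [hcow, if_neg]
    intro h
    rw [h, Fin.le_def, hrevv] at hi; omega
  · -- b (m+4) = b (rev kk)
    have e1 : kk = Fin.rev (⟨m + 4, by omega⟩ : Fin (2 * m + 5)) := by
      apply Fin.ext; rw [hrevv]; simp only []; omega
    have e2 : ¬ Fin.rev (⟨m + 4, by omega⟩ : Fin (2 * m + 5)) = rr := by
      intro h
      have := congrArg Fin.val h
      rw [hrevv] at this; simp only [] at this; omega
    rw [eich_b hF hb kk hne w 0 huw ha, if_pos e1, hcow, if_neg e2, frob_zero hF, hw, hrrE]
    module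
  · exact hfix _ (by simp) (by simp)
  · exact hfix _ (by simp) (by simp)
  · have e1 : ¬ kk = Fin.rev (⟨m + 1, by omega⟩ : Fin (2 * m + 5)) := by
      intro h
      have := congrArg Fin.val h
      rw [hrevv] at this; simp only [] at this; omega
    have e2 : Fin.rev (⟨m + 1, by omega⟩ : Fin (2 * m + 5)) = rr := by
      apply Fin.ext; rw [hrevv]; simp only []; omega
    rw [eich_b hF hb kk hne w 0 huw ha, if_neg e1, hcow, if_pos e2, hm1, hkkE]
    module
  · intro i j hij
    rw [co_eich_b hF hb kk hne w 0 huw ha j i, hcow, hcow]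
    have hij' : ¬ i = j := by
      intro h; rw [h] at hij; omega
    rw [if_neg hij']
    by_cases h1 : j.val = m + 1
    · rw [if_pos h1]
      have e1 : ¬ kk = Fin.rev j := by
        intro h
        have := congrArg Fin.val h
        rw [hrevv] at this; omega
      have e2 : Fin.rev j = rr := by
        apply Fin.ext; rw [hrevv]; omega
      have e3 : i = kk := by
        apply Fin.ext; omega
      rw [if_neg e1, if_pos e2, if_pos e3, hm1]
      ring
    · rw [if_neg h1]
      by_cases h2 : j.val = m + 4
      · rw [if_pos h2]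
        have e1 : kk = Fin.rev j := by
          apply Fin.ext; rw [hrevv]; omega
        have e2 : ¬ Fin.rev j = rr := by
          intro h
          have := congrArg Fin.val h
          rw [hrevv] at this; omega
        have e3 : i = rr := by
          apply Fin.ext; omega
        have e4 : ¬ i = kk := by
          intro h
          have := congrArg Fin.val h
          omega
        rw [if_pos e1, if_pos e3, if_neg e2, if_neg e4]
        ring
      · rw [if_neg h2]
        have e1 : ¬ kk = Fin.rev j := by
          intro h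
          have := congrArg Fin.val h
          rw [hrevv] at this; omega
        have e2 : ¬ Fin.rev j = rr := by
          intro h
          have := congrArg Fin.val h
          rw [hrevv] at this; omega
        rw [if_neg e1, if_neg e2, frob_zero hF]
        ring

/-- the factor `B = eich (b (m+1)) (t • b (m+2)) a` -/
theorem h1_factorB (hb : HB q b) (t a : F) (hta : a + a ^ q + t * t ^ q = 0) :
    ∃ E : G, E ∈ Usub hb ∧
      actv E (b ⟨m + 4, by omega⟩) = b ⟨m + 4, by omega⟩ ∧
      actv E (b ⟨m + 3, by omega⟩) = b ⟨m + 3, by omega⟩ + t • b ⟨m + 2, by omega⟩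
        + a • b ⟨m + 1, by omega⟩ ∧
      (∀ i j : Fin (2 * m + 5), i.val + 1 = j.val →
        co q b (actv E (b j)) i =
          if j.val = m + 2 then -(t ^ q) else if j.val = m + 3 then t else 0) := by
  obtain ⟨kk, hkk⟩ : ∃ kk : Fin (2 * m + 5), kk.val = m + 1 := ⟨⟨m + 1, by omega⟩, rfl⟩
  obtain ⟨dd, hdd⟩ : ∃ dd : Fin (2 * m + 5), dd.val = m + 2 := ⟨⟨m + 2, by omega⟩, rfl⟩
  obtain ⟨w, hw⟩ : ∃ w : V, w = t • b dd := ⟨_, rfl⟩
  have hrevv : ∀ x : Fin (2 * m + 5), (Fin.rev x).val = 2 * m + 4 - x.val := by
    intro x; rw [Fin.val_rev]; omega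
  have hcow : ∀ i, co q b w i = if i = dd then t else 0 := by
    intro i
    rw [hw, co_smul, co_b hb]
    split_ifs <;> simp
  have hne : kk ≠ Fin.rev kk := by
    intro h
    have := congrArg Fin.val h
    rw [hrevv] at this; omega
  have hlt : kk < Fin.rev kk := by
    rw [Fin.lt_def, hrevv]; omega
  have huw : H (b kk) w = 0 := by
    rw [hw, hermForm_smul_right, hb kk dd, if_neg, mul_zero]
    intro h
    have := congrArg Fin.val h
    rw [hrevv] at this; omega
  have hww : H w w = t * t ^ q := by
    rw [hw, hermForm_smul_left, hermForm_smul_right, hb dd dd, if_pos, mul_one]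
    apply Fin.ext; rw [hrevv]; omega
  have ha : a + a ^ q + H w w = 0 := by rw [hww]; exact hta
  have hddE : dd = ⟨m + 2, by omega⟩ := Fin.ext hdd
  have hkkE : kk = ⟨m + 1, by omega⟩ := Fin.ext hkk
  refine ⟨eich hF (b kk) w a, ?_, ?_, ?_, ?_⟩
  · apply eich_mem_Usub hF hb kk hlt w a _ ha
    intro i hi
    rw [hcow, if_neg]
    intro h
    rw [h, Fin.le_def, hrevv] at hi; omega
  · have e1 : ¬ kk = Fin.rev (⟨m + 4, by omega⟩ : Fin (2 * m + 5)) := by
      intro h
      have := congrArg Fin.val h
      rw [hrevv] at this; simp only [] at this; omega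
    have e2 : ¬ Fin.rev (⟨m + 4, by omega⟩ : Fin (2 * m + 5)) = dd := by
      intro h
      have := congrArg Fin.val h
      rw [hrevv] at this; simp only [] at this; omega
    rw [eich_b hF hb kk hne w a huw ha, if_neg e1, hcow, if_neg e2, frob_zero hF]
    simp
  · have e1 : kk = Fin.rev (⟨m + 3, by omega⟩ : Fin (2 * m + 5)) := by
      apply Fin.ext; rw [hrevv]; simp only []; omega
    have e2 : ¬ Fin.rev (⟨m + 3, by omega⟩ : Fin (2 * m + 5)) = dd := by
      intro h
      have := congrArg Fin.val h
      rw [hrevv] at this; simp only [] at this; omega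
    rw [eich_b hF hb kk hne w a huw ha, if_pos e1, hcow, if_neg e2, frob_zero hF, hw, hddE, hkkE]
    module
  · intro i j hij
    rw [co_eich_b hF hb kk hne w a huw ha j i, hcow, hcow]
    have hij' : ¬ i = j := by
      intro h; rw [h] at hij; omega
    rw [if_neg hij']
    by_cases h1 : j.val = m + 2
    · rw [if_pos h1]
      have e1 : ¬ kk = Fin.rev j := by
        intro h
        have := congrArg Fin.val h
        rw [hrevv] at this; omega
      have e2 : Fin.rev j = dd := by
        apply Fin.ext; rw [hrevv]; omega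
      have e3 : i = kk := by
        apply Fin.ext; omega
      rw [if_neg e1, if_pos e2, if_pos e3]
      ring
    · rw [if_neg h1]
      by_cases h2 : j.val = m + 3
      · rw [if_pos h2]
        have e1 : kk = Fin.rev j := by
          apply Fin.ext; rw [hrevv]; omega
        have e2 : ¬ Fin.rev j = dd := by
          intro h
          have := congrArg Fin.val h
          rw [hrevv] at this; omega
        have e3 : i = dd := by
          apply Fin.ext; omega
        have e4 : ¬ i = kk := by
          intro h
          have := congrArg Fin.val h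
          omega
        rw [if_pos e1, if_pos e3, if_neg e2, if_neg e4, frob_zero hF]
        ring
      · rw [if_neg h2]
        have e1 : ¬ kk = Fin.rev j := by
          intro h
          have := congrArg Fin.val h
          rw [hrevv] at this; omega
        have e2 : ¬ Fin.rev j = dd := by
          intro h
          have := congrArg Fin.val h
          rw [hrevv] at this; omega
        rw [if_neg e1, if_neg e2, frob_zero hF]
        ring

/-- (C2) `u = A * B * R`, `A = eich (b m) (-(b (m+3))) 0`, `B = eich (b (m+1)) (t • b (m+2)) a`,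
`R` from C1 (`eich_b`, `eich_mem_Usub`, U1) -/
theorem exists_u (hb : HB q b) (t a : F) (ht : t ≠ 0) (hta : a + a ^ q + t * t ^ q = 0) :
    ∃ u : G, u ∈ Usub hb ∧ SupNZ q b u ∧
      actv u (b ⟨m + 4, by omega⟩) = b ⟨m + 4, by omega⟩ - b ⟨m + 3, by omega⟩ ∧
      actv u (b ⟨m + 3, by omega⟩) = b ⟨m + 3, by omega⟩ + t • b ⟨m + 2, by omega⟩
        + a • b ⟨m + 1, by omega⟩ + a • b ⟨m, by omega⟩ := by
  obtain ⟨R, hR, hR3, hR4, hnz, hz⟩ := exists_R hF hb
  obtain ⟨A, hA, hA4, hA3, hA2, hA1, hAs⟩ := h1_factorA hF hb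
  obtain ⟨B, hB, hB4, hB3, hBs⟩ := h1_factorB hF hb t a hta
  have hBR : B * R ∈ Usub hb := (Usub hb).mul_mem hB hR
  refine ⟨A * (B * R), (Usub hb).mul_mem hA hBR, ?_, ?_, ?_⟩
  · intro i j hij
    rw [h1_superdiag_mul hb hA hBR i j hij, h1_superdiag_mul hb hB hR i j hij, hAs i j hij,
      hBs i j hij]
    have htq : t ^ q ≠ 0 := pow_ne_zero _ ht
    by_cases c1 : j.val = m + 1
    · rw [if_pos c1, if_neg (by omega), if_neg (by omega), hz i j hij (by omega) (by omega)]
      simp
    · rw [if_neg c1]
      by_cases c2 : j.val = m + 2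
      · rw [if_neg (by omega), if_pos c2, hz i j hij (by omega) (by omega)]
        simpa using htq
      · rw [if_neg c2]
        by_cases c3 : j.val = m + 3
        · rw [if_neg (by omega), if_pos c3, hz i j hij (by omega) (by omega)]
          simpa using ht
        · rw [if_neg c3]
          by_cases c4 : j.val = m + 4
          · rw [if_pos c4, hz i j hij (by omega) (by omega)]
            simp
          · rw [if_neg c4, zero_add, zero_add]
            exact hnz i j hij (by omega)
  · rw [actv_mul, actv_mul, hR4, hB4, hA4]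
  · rw [actv_mul, actv_mul, hR3, hB3, actv_add, actv_add, actv_smul, actv_smul, hA3, hA2, hA1]
    module

end C

end Cfsg.Agent.Helper1.SUO
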