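import Mathlib
import Cfsg.Agent.S1017
import Cfsg.Agent.Lib.Helper17.Simple
import Cfsg.Agent.Lib.Helper17.SylowInter2

/-!
# Kit for the exercise orders 5600 and 4800 (helper1, for helper17's S0983 server)

* `h1_card_sylow_le_mod`: the number of Sylow `p`-subgroups of `G` inside a subgroup `H`
  containing one of them is `≡ 1 mod p` (helper85's BASE2 without the unused hypothesis).
* `h1_card_dvd_of_stabilizer`: if `H` acts on an invariant finite set `S` with all stabilizers of
  order `k`, then `|H|` divides `k * |S|`.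
* `h1_card_stabilizer_subgroup`: the stabilizer of a Sylow subgroup `R` in a subgroup `N` (acting by
  conjugation) has the order of `N_G(R) ⊓ N`.
-/

set_option autoImplicit false

namespace Cfsg.Agent.Helper1.SV

open MulAction

universe u

variable {G : Type u} [Group G] [Finite G]

theorem h1_card_sylow_le_mod (p : ℕ) [Fact p.Prime] (P : Sylow p G)
    (H : Subgroup G) (hPH : (P : Subgroup G) ≤ H) :
    Nat.card {Q : Sylow p G // (Q : Subgroup G) ≤ H} ≡ 1 [MOD p] := by
  classical
  let X : SubMulAction (P : Subgroup G) (Sylow p G) :=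
    { carrier := {Q | (Q : Subgroup G) ≤ H}
      smul_mem' := by
        rintro ⟨g, hg⟩ Q hQ
        show ((⟨g, hg⟩ : (P : Subgroup G)) • Q : Sylow p G).1 ≤ H
        intro x hx
        have hx' : x ∈ (g • Q : Sylow p G).1 := hx
        rw [Sylow.coe_subgroup_smul] at hx'
        obtain ⟨s, hs, rfl⟩ := (Subgroup.mem_smul_pointwise_iff_exists _ _ _).mp hx'
        have h1 : s ∈ H := hQ hs
        have hgH : g ∈ H := hPH hg
        have h3 : MulAut.conj g • s = g * s * g⁻¹ := rfl
        rw [h3]
        exact H.mul_mem (H.mul_mem hgH h1) (H.inv_mem hgH) }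
  have hmod := P.2.card_modEq_card_fixedPoints ↥X
  have e1 : Nat.card ↥X = Nat.card {Q : Sylow p G // (Q : Subgroup G) ≤ H} := rfl
  have hfix : ∀ x : ↥X, x ∈ fixedPoints (P : Subgroup G) ↥X ↔ x = ⟨P, hPH⟩ := by
    intro x
    constructor
    · intro hx
      have h1 : (x : Sylow p G) ∈ fixedPoints (P : Subgroup G) (Sylow p G) := by
        intro g
        have := hx g
        exact congrArg (fun t : ↥X => (t : Sylow p G)) this
      have h2 : (P : Subgroup G) ≤ (x : Sylow p G) := P.2.sylow_mem_fixedPoints_iff.mp h1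
      have h3 : ((x : Sylow p G) : Subgroup G) = P := P.3 (x : Sylow p G).2 h2
      apply Subtype.ext
      exact Sylow.ext h3
    · rintro rfl g
      apply Subtype.ext
      show g • P = P
      have : P ∈ fixedPoints (P : Subgroup G) (Sylow p G) :=
        P.2.sylow_mem_fixedPoints_iff.mpr le_rfl
      exact this g
  have e2 : Nat.card (fixedPoints (P : Subgroup G) ↥X) = 1 := by
    rw [Nat.card_eq_one_iff_unique]
    refine ⟨⟨?_⟩, ⟨⟨⟨P, hPH⟩, (hfix _).2 rfl⟩⟩⟩
    rintro ⟨a, ha⟩ ⟨b, hb⟩
    apply Subtype.ext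
    exact ((hfix a).1 ha).trans ((hfix b).1 hb).symm
  rw [e1, e2] at hmod
  exact hmod

/-- Orbit counting: all stabilizers of order `k` on the whole set. -/
theorem h1_card_dvd_of_stabilizer' {H : Type*} [Group H] [Finite H] {Y : Type*} [MulAction H Y]
    [Finite Y] (k : ℕ) (hk : ∀ y : Y, Nat.card (stabilizer H y) = k) :
    Nat.card H ∣ k * Nat.card Y := by
  classical
  have := Fintype.ofFinite Y
  have := Fintype.ofFinite H
  have e := MulAction.selfEquivSigmaOrbits' H Y
  have hcard : Nat.card Y = ∑ ω : orbitRel.Quotient H Y, Nat.card ω.orbit := by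
    rw [Nat.card_congr e, Nat.card_sigma]
  rw [hcard, Finset.mul_sum]
  apply Finset.dvd_sum
  intro ω _
  induction ω using Quotient.inductionOn' with
  | h y =>
    have h1 : orbitRel.Quotient.orbit (Quotient.mk'' y : orbitRel.Quotient H Y) = orbit H y :=
      orbitRel.Quotient.orbit_mk y
    show Nat.card H ∣ k * Nat.card ↥(orbitRel.Quotient.orbit (Quotient.mk'' y : orbitRel.Quotient H Y))
    rw [h1]
    have h2 := MulAction.card_orbit_mul_card_stabilizer_eq_card_group H y
    simp only [← Nat.card_eq_fintype_card] at h2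
    rw [hk y] at h2
    rw [← h2, mul_comm]

/-- Orbit counting on an invariant subset. -/
theorem h1_card_dvd_of_stabilizer {H : Type*} [Group H] [Finite H] {Y : Type*} [MulAction H Y]
    [Finite Y] (S : Set Y) (hS : ∀ (h : H) (y : Y), y ∈ S → h • y ∈ S) (k : ℕ)
    (hk : ∀ y ∈ S, Nat.card (stabilizer H y) = k) :
    Nat.card H ∣ k * Nat.card S := by
  let X : SubMulAction H Y := { carrier := S, smul_mem' := fun h y hy => hS h y hy }
  have e1 : Nat.card ↥X = Nat.card S := rfl
  rw [← e1]
  apply h1_card_dvd_of_stabilizer' k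
  intro y
  have : stabilizer H y = stabilizer H (y : Y) := SubMulAction.stabilizer_of_subMul y
  rw [this]
  exact hk y y.2

end Cfsg.Agent.Helper1.SV
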