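import Mathlib
import Cfsg.Agent.Lib.Helper1.SVKit

/-!
# Kit 2 for the exercise orders 5600 and 4800 (helper1): Sylow subgroups of order `p ^ 2`
meeting nontrivially, and the two orbit counts.
-/

set_option autoImplicit false

namespace Cfsg.Agent.Helper1.SV

open MulAction Subgroup

open scoped Pointwise

universe u

variable {G : Type u} [Group G] [Finite G]

/-- the stabilizer of a Sylow subgroup `R` in a subgroup `N` acting by conjugation. -/
theorem h1_card_stabilizer_subgroup {p : ℕ} [Fact p.Prime] (N : Subgroup G) (R : Sylow p G) :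
    Nat.card (stabilizer ↥N R) = Nat.card ↥(normalizer ((R : Subgroup G) : Set G) ⊓ N) := by
  apply Nat.card_congr
  refine ⟨fun h => ⟨(h.1 : G), ?_, h.1.2⟩, fun y => ⟨⟨y.1, y.2.2⟩, ?_⟩, ?_, ?_⟩
  · have := h.2
    rw [mem_stabilizer_iff] at this
    exact Sylow.smul_eq_iff_mem_normalizer.mp this
  · rw [mem_stabilizer_iff]
    exact Sylow.smul_eq_iff_mem_normalizer.mpr y.2.1
  · intro h; rfl
  · intro y; rfl

/-- conjugating by an element of `N_G(P)`: `P ⊓ g • R = g • (P ⊓ R)` as subgroups. -/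
theorem h1_inf_smul {p : ℕ} [Fact p.Prime] (P R : Sylow p G) (g : G)
    (hg : g ∈ normalizer ((P : Subgroup G) : Set G)) :
    ((P : Subgroup G) ⊓ ((g • R : Sylow p G) : Subgroup G)) =
      MulAut.conj g • ((P : Subgroup G) ⊓ (R : Subgroup G)) := by
  have h1 : (g • P : Sylow p G) = P := Sylow.smul_eq_iff_mem_normalizer.mpr hg
  have h2 : ((g • P : Sylow p G) : Subgroup G) = MulAut.conj g • (P : Subgroup G) :=
    Sylow.coe_subgroup_smul
  have h3 : ((g • R : Sylow p G) : Subgroup G) = MulAut.conj g • (R : Subgroup G) :=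
    Sylow.coe_subgroup_smul
  rw [h3, Subgroup.smul_inf, ← h2, h1]

theorem h1_smul_ne {p : ℕ} [Fact p.Prime] (P R : Sylow p G) (g : G)
    (hg : g ∈ normalizer ((P : Subgroup G) : Set G)) (hne : R ≠ P) : (g • R : Sylow p G) ≠ P := by
  have h1 : (g • P : Sylow p G) = P := Sylow.smul_eq_iff_mem_normalizer.mpr hg
  intro h
  apply hne
  rw [← h1] at h
  exact (MulAction.injective g) h

theorem h1_smul_eq_bot_iff (D : Subgroup G) (g : G) :
    MulAut.conj g • D = ⊥ ↔ D = ⊥ := by
  constructor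
  · intro h
    rw [eq_bot_iff] at h ⊢
    intro x hx
    have : MulAut.conj g • x ∈ MulAut.conj g • D := Subgroup.smul_mem_pointwise_smul _ _ _ hx
    have h2 := h this
    rw [Subgroup.mem_bot] at h2 ⊢
    have h3 : MulAut.conj g • x = g * x * g⁻¹ := rfl
    rw [h3] at h2
    have : x = g⁻¹ * (g * x * g⁻¹) * g := by group
    rw [this, h2]; group
  · rintro rfl
    exact Subgroup.smul_bot _

/-- an element normalizing `P` and `R` normalizes `P ⊓ R`. -/
theorem h1_normalizer_inf_le (A B : Subgroup G) :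
    normalizer (A : Set G) ⊓ normalizer (B : Set G) ≤ normalizer ((A ⊓ B : Subgroup G) : Set G) := by
  intro g hg
  rw [Subgroup.mem_normalizer_iff]
  intro x
  have hA := (Subgroup.mem_normalizer_iff.1 hg.1) x
  have hB := (Subgroup.mem_normalizer_iff.1 hg.2) x
  rw [Subgroup.mem_inf, Subgroup.mem_inf, hA, hB]

/-- Data of two distinct Sylow subgroups of order `p ^ 2` meeting nontrivially. -/
theorem h1_inter_data {p : ℕ} [hp : Fact p.Prime] (P R : Sylow p G)
    (hP : Nat.card (P : Subgroup G) = p ^ 2) (hne : R ≠ P)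
    (hD : ((P : Subgroup G) ⊓ (R : Subgroup G)) ≠ ⊥) :
    Nat.card ↥((P : Subgroup G) ⊓ (R : Subgroup G)) = p ∧
    (P : Subgroup G) ≤ normalizer (((P : Subgroup G) ⊓ (R : Subgroup G) : Subgroup G) : Set G) ∧
    (R : Subgroup G) ≤ normalizer (((P : Subgroup G) ⊓ (R : Subgroup G) : Subgroup G) : Set G) := by
  have hR : Nat.card (R : Subgroup G) = p ^ 2 := by
    rw [Cfsg.Agent.S1017.sylow_card_all P R, hP]
  have hdvd : Nat.card ↥((P : Subgroup G) ⊓ (R : Subgroup G)) ∣ p ^ 2 := by
    rw [← hP]; exact Subgroup.card_dvd_of_le inf_le_left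
  obtain ⟨i, hi, hci⟩ := (Nat.dvd_prime_pow hp.out).1 hdvd
  have hcard : Nat.card ↥((P : Subgroup G) ⊓ (R : Subgroup G)) = p := by
    interval_cases i
    · exfalso; apply hD
      rw [pow_zero] at hci
      exact Subgroup.card_eq_one.1 hci
    · rw [hci, pow_one]
    · exfalso; apply hne
      have h1 : ((P : Subgroup G) ⊓ (R : Subgroup G)) = (P : Subgroup G) :=
        Subgroup.eq_of_le_of_card_ge inf_le_left (by rw [hci, hP])
      have h2 : (P : Subgroup G) ≤ (R : Subgroup G) := by rw [← h1]; exact inf_le_right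
      have h3 : (P : Subgroup G) = (R : Subgroup G) :=
        Subgroup.eq_of_le_of_card_ge h2 (by rw [hP, hR])
      exact (Sylow.ext h3).symm
  have hppos : 0 < p := hp.out.pos
  have hrel1 : (R : Subgroup G).relIndex (P : Subgroup G) = p := by
    have h := Cfsg.Agent.Helper17.card_inf_mul_relIndex (R : Subgroup G) (P : Subgroup G)
    rw [inf_comm, hcard, hP] at h
    have : p * (R : Subgroup G).relIndex (P : Subgroup G) = p * p := by rw [h]; ring
    exact Nat.eq_of_mul_eq_mul_left hppos this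
  have hrel2 : (P : Subgroup G).relIndex (R : Subgroup G) = p := by
    rw [← Cfsg.Agent.Helper17.sylow_relIndex_symm]; exact hrel1
  refine ⟨hcard, ?_, ?_⟩
  · exact Cfsg.Agent.Helper17.le_normalizer_inf_of_relIndex_eq_prime P (R : Subgroup G) hrel1
  · have := Cfsg.Agent.Helper17.le_normalizer_inf_of_relIndex_eq_prime R (P : Subgroup G) hrel2
    rwa [inf_comm] at this

/-- Counting in `L = N_G(P ⊓ R)`. -/
theorem h1_inter_count {p : ℕ} [hp : Fact p.Prime] (P R : Sylow p G)
    (hP : Nat.card (P : Subgroup G) = p ^ 2) (hne : R ≠ P)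
    (hD : ((P : Subgroup G) ⊓ (R : Subgroup G)) ≠ ⊥) :
    ∃ nL m' : ℕ, nL % p = 1 ∧ 2 ≤ nL ∧
      Nat.card ↥(normalizer ((P : Subgroup G) : Set G) ⊓
        normalizer (((P : Subgroup G) ⊓ (R : Subgroup G) : Subgroup G) : Set G)) = p ^ 2 * m' ∧
      Nat.card ↥(normalizer (((P : Subgroup G) ⊓ (R : Subgroup G) : Subgroup G) : Set G)) =
        nL * (p ^ 2 * m') := by
  obtain ⟨hcard, hPL, hRL⟩ := h1_inter_data P R hP hne hD
  set L := normalizer (((P : Subgroup G) ⊓ (R : Subgroup G) : Subgroup G) : Set G) with hL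
  have h1 := Cfsg.Agent.S1017.card_eq_card_mul L P hPL
  have h2 := h1_card_sylow_le_mod p P L hPL
  have hle : (P : Subgroup G) ≤ normalizer ((P : Subgroup G) : Set G) ⊓ L :=
    le_inf Subgroup.le_normalizer hPL
  obtain ⟨m', hm'⟩ : p ^ 2 ∣ Nat.card ↥(normalizer ((P : Subgroup G) : Set G) ⊓ L) := by
    rw [← hP]; exact Subgroup.card_dvd_of_le hle
  refine ⟨Nat.card {Q : Sylow p G // (Q : Subgroup G) ≤ L}, m', ?_, ?_, hm', ?_⟩
  · rw [Nat.ModEq, Nat.mod_eq_of_lt hp.out.one_lt] at h2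
    exact h2
  · have : Nontrivial {Q : Sylow p G // (Q : Subgroup G) ≤ L} :=
      ⟨⟨⟨P, hPL⟩, ⟨R, hRL⟩, fun h => hne (congrArg Subtype.val h).symm⟩⟩
    exact Finite.one_lt_card_iff_nontrivial.2 this
  · rw [h1, hm']

/-- if `N_G(P) ⊓ N_G(P ⊓ R)` has order `p ^ 2` then the stabilizer of `R` in `N_G(P)` has order `p`. -/
theorem h1_stab_card {p : ℕ} [hp : Fact p.Prime] (P R : Sylow p G)
    (hP : Nat.card (P : Subgroup G) = p ^ 2) (hne : R ≠ P)
    (hD : ((P : Subgroup G) ⊓ (R : Subgroup G)) ≠ ⊥)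
    (hm : Nat.card ↥(normalizer ((P : Subgroup G) : Set G) ⊓
        normalizer (((P : Subgroup G) ⊓ (R : Subgroup G) : Subgroup G) : Set G)) = p ^ 2) :
    Nat.card (stabilizer ↥(normalizer ((P : Subgroup G) : Set G)) R) = p := by
  obtain ⟨hcard, hPL, hRL⟩ := h1_inter_data P R hP hne hD
  rw [h1_card_stabilizer_subgroup]
  set N := normalizer ((P : Subgroup G) : Set G) with hN
  set L := normalizer (((P : Subgroup G) ⊓ (R : Subgroup G) : Subgroup G) : Set G) with hL
  have hNL : N ⊓ L = (P : Subgroup G) := by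
    symm
    apply Subgroup.eq_of_le_of_card_ge (le_inf Subgroup.le_normalizer hPL)
    rw [hm, hP]
  have h1 : normalizer ((R : Subgroup G) : Set G) ⊓ N ≤ (P : Subgroup G) := by
    rw [← hNL]
    refine le_inf inf_le_right ?_
    rw [inf_comm]
    exact h1_normalizer_inf_le _ _
  have h2 : normalizer ((R : Subgroup G) : Set G) ⊓ N = (P : Subgroup G) ⊓ (R : Subgroup G) := by
    apply le_antisymm
    · intro x hx
      have hxP : x ∈ (P : Subgroup G) := h1 hx
      have h3 : (P : Subgroup G) ⊓ normalizer ((R : Subgroup G) : Set G) =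
          (P : Subgroup G) ⊓ (R : Subgroup G) := P.2.inf_normalizer_sylow R
      have : x ∈ (P : Subgroup G) ⊓ normalizer ((R : Subgroup G) : Set G) := ⟨hxP, hx.1⟩
      rw [h3] at this
      exact this
    · intro x hx
      exact ⟨Subgroup.le_normalizer hx.2, Subgroup.le_normalizer hx.1⟩
  rw [h2, hcard]

/-- the stabilizer in `P` of a Sylow subgroup `R` meeting `P` trivially is trivial. -/
theorem h1_stab_card_triv {p : ℕ} [hp : Fact p.Prime] (P R : Sylow p G)
    (hD : ((P : Subgroup G) ⊓ (R : Subgroup G)) = ⊥) :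
    Nat.card (stabilizer ↥(P : Subgroup G) R) = 1 := by
  rw [h1_card_stabilizer_subgroup]
  have h3 : (P : Subgroup G) ⊓ normalizer ((R : Subgroup G) : Set G) =
      (P : Subgroup G) ⊓ (R : Subgroup G) := P.2.inf_normalizer_sylow R
  rw [inf_comm, h3, hD]
  exact Subgroup.card_bot

end Cfsg.Agent.Helper1.SV

namespace Cfsg.Agent.Helper1.SV

open MulAction Subgroup

open scoped Pointwise

universe u

variable {G : Type u} [Group G] [Finite G]

/-- The two orbit counts: `x` Sylow subgroups meet `P` trivially, `r` nontrivially. -/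
theorem h1_two_counts {p : ℕ} [hp : Fact p.Prime] (P : Sylow p G)
    (hP : Nat.card (P : Subgroup G) = p ^ 2)
    (hB : ∀ R : Sylow p G, R ≠ P → ((P : Subgroup G) ⊓ (R : Subgroup G)) ≠ ⊥ →
      Nat.card ↥(normalizer ((P : Subgroup G) : Set G) ⊓
        normalizer (((P : Subgroup G) ⊓ (R : Subgroup G) : Subgroup G) : Set G)) = p ^ 2) :
    ∃ x r : ℕ, x + r + 1 = Nat.card (Sylow p G) ∧ p ^ 2 ∣ x ∧
      Nat.card ↥(normalizer ((P : Subgroup G) : Set G)) ∣ p * r := by
  classical
  set N := normalizer ((P : Subgroup G) : Set G) with hN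
  let setX : Set (Sylow p G) := {R | R ≠ P ∧ ((P : Subgroup G) ⊓ (R : Subgroup G)) = ⊥}
  let setR : Set (Sylow p G) := {R | R ≠ P ∧ ((P : Subgroup G) ⊓ (R : Subgroup G)) ≠ ⊥}
  refine ⟨Nat.card setX, Nat.card setR, ?_, ?_, ?_⟩
  · -- partition
    have hfin : ∀ s : Set (Sylow p G), s.Finite := fun s => Set.toFinite s
    have hU : (Set.univ : Set (Sylow p G)) = ({P} ∪ setX) ∪ setR := by
      ext R
      simp only [Set.mem_univ, Set.mem_union, Set.mem_singleton_iff, true_iff]
      by_cases h1 : R = P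
      · exact Or.inl (Or.inl h1)
      · by_cases h2 : ((P : Subgroup G) ⊓ (R : Subgroup G)) = ⊥
        · exact Or.inl (Or.inr ⟨h1, h2⟩)
        · exact Or.inr ⟨h1, h2⟩
    have hd1 : Disjoint ({P} : Set (Sylow p G)) setX := by
      rw [Set.disjoint_left]
      intro R hR hX
      exact hX.1 hR
    have hd2 : Disjoint (({P} : Set (Sylow p G)) ∪ setX) setR := by
      rw [Set.disjoint_left]
      intro R hR hRR
      rcases hR with hR | hR
      · exact hRR.1 hR
      · exact hRR.2 hR.2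
    have h1 := Set.ncard_union_eq hd2 (hfin _) (hfin _)
    have h2 := Set.ncard_union_eq hd1 (hfin _) (hfin _)
    rw [← hU, Set.ncard_univ, h2, Set.ncard_singleton] at h1
    rw [Nat.card_coe_set_eq, Nat.card_coe_set_eq, h1]
    ring
  · -- `P` acts semiregularly on `setX`
    have h := h1_card_dvd_of_stabilizer (H := ↥(P : Subgroup G)) (Y := Sylow p G) setX ?_ 1 ?_
    · rw [hP, one_mul] at h; exact h
    · rintro ⟨g, hg⟩ R ⟨hR1, hR2⟩
      have hgN : g ∈ normalizer ((P : Subgroup G) : Set G) := Subgroup.le_normalizer hg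
      refine ⟨h1_smul_ne P R g hgN hR1, ?_⟩
      show ((P : Subgroup G) ⊓ ((g • R : Sylow p G) : Subgroup G)) = ⊥
      rw [h1_inf_smul P R g hgN, hR2]
      exact Subgroup.smul_bot _
    · rintro R ⟨_, hR2⟩
      exact h1_stab_card_triv P R hR2
  · -- `N` acts on `setR` with stabilizers of order `p`
    have h := h1_card_dvd_of_stabilizer (H := ↥N) (Y := Sylow p G) setR ?_ p ?_
    · exact h
    · rintro ⟨g, hg⟩ R ⟨hR1, hR2⟩
      refine ⟨h1_smul_ne P R g hg hR1, ?_⟩
      show ((P : Subgroup G) ⊓ ((g • R : Sylow p G) : Subgroup G)) ≠ ⊥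
      rw [h1_inf_smul P R g hg]
      intro h0
      exact hR2 ((h1_smul_eq_bot_iff _ g).1 h0)
    · rintro R ⟨hR1, hR2⟩
      exact h1_stab_card P R hP hR1 hR2 (hB R hR1 hR2)

end Cfsg.Agent.Helper1.SV
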