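import Mathlib
import Cfsg.Agent.Lib.Helper1.SVKit2
import Cfsg.Agent.Lib.Helper17.Sieve

/-!
# No simple group of order 5600 (helper1, exercise order for helper17's S0983 server)

`5600 = 2^5 * 5^2 * 7`.  `n_5 ∈ {16, 56}`.  For Sylow 5-subgroups `R ≠ P` with `D = P ⊓ R ≠ 1` the
normalizer `L = N_G(D)` contains `P` and `R`, so the number `n_L ∈ {16, 56}` of Sylow 5-subgroups in
`L` and `|L| = n_L |N_G(P) ⊓ L|`, index at least `10`, force `N_G(P) ⊓ L = P`.  Hence `N_G(P)` acts on
those `R` with stabilizers of order `5`, and `P` acts semiregularly on the others: the two orbit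
counts contradict `n_5 - 1 ∈ {15, 55}`.
-/

set_option autoImplicit false

namespace Cfsg.Agent.Helper1.SV

open Subgroup Cfsg.Agent.Helper17 Cfsg.Agent.Helper17.Sieve

theorem h1_idx_ge_ten {idx n : ℕ} (h : 2 * n ∣ idx.factorial) (h25 : 25 ∣ n) : 10 ≤ idx := by
  by_contra hlt
  push_neg at hlt
  have h1 : idx.factorial ∣ (9 : ℕ).factorial := Nat.factorial_dvd_factorial (by omega)
  have h2 : 25 ∣ (9 : ℕ).factorial :=
    dvd_trans (dvd_trans h25 (Dvd.intro_left 2 rfl)) (dvd_trans h h1)
  revert h2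
  decide

theorem no_5600.{u} : NoSimple.{u} 5600 := by
  intro G _ _ _ hna hcard
  haveI : Fact (Nat.Prime 5) := ⟨by norm_num⟩
  have hn : Nat.card G = 5 ^ 2 * 224 := by rw [hcard]; norm_num
  have hpm : ¬ 5 ∣ 224 := by norm_num
  obtain ⟨hd1, hd2⟩ := sylow_count (G := G) hn hpm
  have hne := sylow_count_ne_one (G := G) hn hpm two_ne_zero (by norm_num)
  obtain ⟨P⟩ : Nonempty (Sylow 5 G) := inferInstance
  have hPc : Nat.card (P : Subgroup G) = 5 ^ 2 := sylow_card_eq P hn hpm
  have hNd := card_normalizer_mul_sylow_count P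
  -- the key lemma (B)
  have hB : ∀ R : Sylow 5 G, R ≠ P → ((P : Subgroup G) ⊓ (R : Subgroup G)) ≠ ⊥ →
      Nat.card ↥(normalizer ((P : Subgroup G) : Set G) ⊓
        normalizer (((P : Subgroup G) ⊓ (R : Subgroup G) : Subgroup G) : Set G)) = 5 ^ 2 := by
    intro R hR hD
    obtain ⟨nL, m', hmod, h2, hm, hL⟩ := h1_inter_count P R hPc hR hD
    obtain ⟨hDc, -, -⟩ := h1_inter_data P R hPc hR hD
    set L := normalizer (((P : Subgroup G) ⊓ (R : Subgroup G) : Subgroup G) : Set G) with hLdef
    have hLtop : L ≠ ⊤ := by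
      intro htop
      have hnorm : ((P : Subgroup G) ⊓ (R : Subgroup G)).Normal :=
        Subgroup.normalizer_eq_top_iff.1 htop
      apply normal_card_absurd _ hnorm
      · rw [hDc]; norm_num
      · rw [hDc, hcard]; norm_num
    have hfac := two_mul_card_dvd_factorial hna L hLtop
    have hidx := L.card_mul_index
    rw [hL, hcard] at hidx
    rw [hcard] at hfac
    have h10 : 10 ≤ L.index := h1_idx_ge_ten hfac (by norm_num)
    set idx := L.index with hidxdef
    have hprod : nL * m' * idx = 224 := by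
      have h25 : nL * (5 ^ 2 * m') * idx = 25 * (nL * m' * idx) := by ring
      omega
    have hnLdvd : nL ∣ 224 := ⟨m' * idx, by rw [← hprod]; ring⟩
    have hnLle : nL ≤ 224 := Nat.le_of_dvd (by norm_num) hnLdvd
    have hnL : nL = 16 ∨ nL = 56 := by
      interval_cases nL <;> omega
    have hm1 : m' = 1 := by
      rcases hnL with rfl | rfl
      · have h14 : m' * idx = 14 := by
          have h16 : 16 * m' * idx = 16 * (m' * idx) := by ring
          omega
        have hm'le : m' ≤ 14 := Nat.le_of_dvd (by norm_num) ⟨idx, h14.symm⟩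
        interval_cases m' <;> omega
      · have h4 : m' * idx = 4 := by
          have h56 : 56 * m' * idx = 56 * (m' * idx) := by ring
          omega
        have hidxle : idx ≤ 4 := Nat.le_of_dvd (by norm_num) ⟨m', by rw [← h4]; ring⟩
        omega
    rw [hm, hm1, mul_one]
  obtain ⟨x, r, hxr, hx, hr⟩ := h1_two_counts P hPc hB
  obtain ⟨b, hb⟩ := hx
  obtain ⟨a, ha⟩ := hr
  set n5 := Nat.card (Sylow 5 G) with hn5
  have hn5le : n5 ≤ 224 := Nat.le_of_dvd (by norm_num) hd1
  have hn5' : n5 = 16 ∨ n5 = 56 := by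
    interval_cases n5 <;> omega
  rw [hcard] at hNd
  rcases hn5' with h16 | h56
  · rw [h16] at hNd hxr
    have hN : Nat.card ↥(normalizer ((P : Subgroup G) : Set G)) = 350 := by omega
    rw [hN] at ha
    omega
  · rw [h56] at hNd hxr
    have hN : Nat.card ↥(normalizer ((P : Subgroup G) : Set G)) = 100 := by omega
    rw [hN] at ha
    omega

end Cfsg.Agent.Helper1.SV
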