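import Mathlib
import Cfsg.Prelude.Def_SolvableStructure
import Cfsg.Agent.Lib.Helper1.SysNorm

set_option autoImplicit false

namespace Cfsg.Agent.Helper1.SysNorm

open Subgroup
open scoped Pointwise
open Cfsg.Agent.Helper1 Cfsg.Agent.Helper1.Carter

universe u

variable {G : Type u} [Group G]

/-- Joining with an arbitrary subgroup can only decrease the relative index of two normal
subgroups. -/
theorem relIndex_sup_sup_dvd' [Finite G] (Q A B : Subgroup G) [A.Normal] [B.Normal] :
    (Q ⊔ A).relIndex (Q ⊔ B) ∣ A.relIndex B := by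
  have hsurj := QuotientGroup.mk'_surjective A
  have : (B.map (QuotientGroup.mk' A)).Normal := Subgroup.Normal.map inferInstance _ hsurj
  have h1 : Q ⊔ A = (Q.map (QuotientGroup.mk' A)).comap (QuotientGroup.mk' A) := by
    rw [Subgroup.comap_map_eq, QuotientGroup.ker_mk']
  have h2 : (Q ⊔ A).relIndex (Q ⊔ B) =
      (Q.map (QuotientGroup.mk' A)).relIndex
        (Q.map (QuotientGroup.mk' A) ⊔ B.map (QuotientGroup.mk' A)) := by
    rw [h1, relIndex_comap, Subgroup.map_sup]
  have h3 : A.relIndex B = Nat.card (B.map (QuotientGroup.mk' A)) := by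
    have := relIndex_ker (QuotientGroup.mk' A) (K := B)
    rwa [QuotientGroup.ker_mk'] at this
  rw [h2, h3]
  exact relIndex_sup_dvd_card _ _

/-- The Hall `p'`-subgroup of a nilpotent normal subgroup is normal. -/
theorem exists_normal_hall_of_normal_nilpotent [Finite G] (p : ℕ) [Fact p.Prime] (F : Subgroup G)
    [F.Normal] (hF : Group.IsNilpotent F) :
    ∃ Q : Subgroup G, Q.Normal ∧ Q ≤ F ∧ (Nat.card Q).Coprime p ∧
      ∃ k : ℕ, Q.relIndex F = p ^ k := by
  obtain ⟨Q, hQF, hFQ, hQc, k, hk⟩ := exists_normal_hall_compl_sub p F hF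
  have h1 : Q.relIndex F * F.index = Q.index := relIndex_mul_index hQF
  rw [hk] at h1
  have h2 : Q.relIndex F = p ^ k :=
    Nat.eq_of_mul_eq_mul_right (Nat.pos_of_ne_zero Subgroup.index_ne_zero_of_finite) h1
  refine ⟨Q, ?_, hQF, hQc, k, h2⟩
  rw [← normalizer_eq_top_iff, eq_top_iff]
  apply le_normalizer_of_conj_smul_le
  intro g _
  apply le_of_coprime_of_relIndex_pow hFQ _ _ ⟨k, h2⟩
  · have : MulAut.conj g • Q ≤ MulAut.conj g • F :=
      Subgroup.pointwise_smul_le_pointwise_smul_iff.mpr hQF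
    rwa [Subgroup.Normal.conj_smul_eq_self g F] at this
  · rw [card_conj_smul]; exact hQc

theorem sup_eq_top_of_nilpotent_quotient [Finite G] [Group.IsSolvable G] (F : Subgroup G)
    [F.Normal] (hGF : Group.IsNilpotent (G ⧸ F)) {C : Subgroup G} (hC : IsCarter C) :
    C ⊔ F = ⊤ := by
  have h1 : C.map (QuotientGroup.mk' F) = ⊤ :=
    (hC.map hPC_of_solvable _ (QuotientGroup.mk'_surjective F)).eq_top_of_isNilpotent
  have := congrArg (Subgroup.comap (QuotientGroup.mk' F)) h1
  rwa [Subgroup.comap_map_eq, QuotientGroup.ker_mk', Subgroup.comap_top] at this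

/-- In a nilpotent-by-nilpotent group every Carter subgroup is a system normalizer. -/
theorem exists_system_of_carter [Finite G] [Group.IsSolvable G] (F : Subgroup G) [F.Normal]
    (hF : Group.IsNilpotent F) (hGF : Group.IsNilpotent (G ⧸ F)) {C : Subgroup G}
    (hC : IsCarter C) :
    ∃ K : Nat.Primes → Subgroup G, IsCS K ∧ C = Cfsg.systemNormalizer K := by
  have hCF : C ⊔ F = ⊤ := sup_eq_top_of_nilpotent_quotient F hGF hC
  have key : ∀ p : Nat.Primes, ∃ H : Subgroup G, (Nat.card H).Coprime p ∧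
      (∃ k : ℕ, H.index = (p : ℕ) ^ k) ∧ (∃ k : ℕ, H.relIndex C = (p : ℕ) ^ k) ∧
      C ≤ normalizer (H : Set G) := by
    intro p
    have : Fact (p : ℕ).Prime := ⟨p.2⟩
    obtain ⟨Q, hQC, hCQ, hQc, k, hk⟩ := exists_normal_hall_compl_sub (p : ℕ) C hC.1
    have h1 : Q.relIndex C * C.index = Q.index := relIndex_mul_index hQC
    rw [hk] at h1
    have hQrel : Q.relIndex C = (p : ℕ) ^ k :=
      Nat.eq_of_mul_eq_mul_right (Nat.pos_of_ne_zero Subgroup.index_ne_zero_of_finite) h1
    obtain ⟨F', hF'n, hF'F, hF'c, hF'rel⟩ := exists_normal_hall_of_normal_nilpotent (p : ℕ) F hF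
    refine ⟨Q ⊔ F', ?_, ?_, ?_, ?_⟩
    · exact Nat.Coprime.coprime_dvd_left (card_sup_dvd Q F') (Nat.Coprime.mul_left hQc hF'c)
    · have h2 : (Q ⊔ F').relIndex (Q ⊔ F) * (Q ⊔ F).index = (Q ⊔ F').index :=
        relIndex_mul_index (sup_le_sup_left hF'F Q)
      rw [← h2]
      apply ppow_mul
      · exact ppow_of_dvd p.2 (relIndex_sup_sup_dvd' Q F' F) hF'rel
      · have h3 := relIndex_sup_sup_dvd F Q C
        rw [hCF, relIndex_top_right] at h3
        exact ppow_of_dvd p.2 h3 ⟨k, hQrel⟩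
    · exact ppow_of_dvd p.2 (relIndex_dvd_of_le_left C le_sup_left) ⟨k, hQrel⟩
    · rw [le_normalizer_iff_conj_smul_eq]
      intro c hc
      rw [Subgroup.smul_sup, le_normalizer_iff_conj_smul_eq.mp hCQ c hc,
        Subgroup.Normal.conj_smul_eq_self]
  choose K hK1 hK2 hK3 hK4 using key
  have hK : IsCS K := fun p => ⟨hK1 p, hK2 p⟩
  refine ⟨K, hK, le_antisymm ?_ (systemNormalizer_le_of_red hC hK hK3)⟩
  intro c hc
  rw [mem_systemNormalizer]
  exact fun p => hK4 p hc

theorem isSolvable_of_nilpotent_by_nilpotent (F : Subgroup G) [F.Normal]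
    (hF : Group.IsNilpotent F) (hGF : Group.IsNilpotent (G ⧸ F)) : Group.IsSolvable G := by
  apply Group.isSolvable_of_ker_le_range F.subtype (QuotientGroup.mk' F)
  rw [QuotientGroup.ker_mk', Subgroup.range_subtype]

/-- S0570. -/
theorem carter_iff_systemNormalizer [Finite G] (F : Subgroup G) [F.Normal]
    (hF : Group.IsNilpotent F) (hGF : Group.IsNilpotent (G ⧸ F)) (C : Subgroup G) :
    Cfsg.IsCarterSubgroup C ↔
      ∃ K : Nat.Primes → Subgroup G, Cfsg.IsComplementSystem K ∧ C = Cfsg.systemNormalizer K := by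
  have : Group.IsSolvable G := isSolvable_of_nilpotent_by_nilpotent F hF hGF
  constructor
  · intro hC
    obtain ⟨K, hK, hKC⟩ := exists_system_of_carter F hF hGF hC
    exact ⟨K, isComplementSystem_of_isCS hK, hKC⟩
  · rintro ⟨K, hK, rfl⟩
    obtain ⟨C0, hC0⟩ := (carter G).1
    obtain ⟨K0, hK0, hKC0⟩ := exists_system_of_carter F hF hGF hC0
    obtain ⟨g, hg⟩ := conj_systems hK0 (isCS_of_isComplementSystem hK)
    have hKeq : K = fun p => MulAut.conj g • K0 p := funext hg
    rw [hKeq, systemNormalizer_conj, ← hKC0]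
    exact hC0.conj g

end Cfsg.Agent.Helper1.SysNorm
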