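import Mathlib
import Cfsg.Agent.Lib.Helper98.UT0

/-!
# UT server (helper98, S2283): piece (E3) `top_of_Q`, verbatim.
`Q_e ≤ Hs` and one lower transvection `t ∈ Hs` give `Hs = ⊤` (`Helper13.SUGen.TG_top`).
-/

set_option autoImplicit false
set_option quotPrecheck false
set_option linter.unusedSectionVars false
set_option linter.unusedVariables false

namespace Cfsg.Agent.Helper1.UT

open Matrix Cfsg Cfsg.Agent.Helper13 Cfsg.Agent.Helper87.PsuA Cfsg.Agent.Helper87.PsuB0
  Cfsg.Agent.Helper98.UT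

variable {F : Type*} [Field F] [Fintype F] {q : ℕ}

local notation "G" => ↥(Cfsg.SU 3 F q)
local notation "H" => Cfsg.hermForm 3 F q

variable (hF : Fintype.card F = q ^ 2) {b : Fin 3 → Fin 3 → F}

/-- values of the form on the hyperbolic basis -/
theorem h1_hb_vals (hb : HB q b) :
    H (b 0) (b 0) = 0 ∧ H (b 0) (b 1) = 0 ∧ H (b 0) (b 2) = 1 ∧
    H (b 1) (b 0) = 0 ∧ H (b 1) (b 1) = 1 ∧ H (b 1) (b 2) = 0 ∧
    H (b 2) (b 0) = 1 ∧ H (b 2) (b 1) = 0 ∧ H (b 2) (b 2) = 0 := by
  refine ⟨?_, ?_, ?_, ?_, ?_, ?_, ?_, ?_, ?_⟩ <;> rw [hb] <;>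
    first | exact if_pos (by decide) | exact if_neg (by decide)

/-- `x(0, β)` is the transvection `E(e, 0, β)` -/
theorem h1_yEl_zero (β : F) : yEl hF b 0 β = eich hF (b 0) 0 β := by
  unfold yEl
  rw [frob_zero hF, neg_zero, zero_smul]

theorem h1_lEl_zero (c : F) : lEl hF b 0 c = eich hF (b 2) 0 c := by
  unfold lEl
  rw [frob_zero hF, neg_zero, zero_smul]

/-- image of `f` under `x(a, β)` -/
theorem h1_yEl_f (hb : HB q b) (a β : F) (hab : β + β ^ q + a * a ^ q = 0) :
    actv (yEl hF b a β) (b 2) = b 2 + (-(a ^ q)) • b 1 + β • b 0 := by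
  obtain ⟨h00, h01, h02, h10, h11, h12, h20, h21, h22⟩ := h1_hb_vals hb
  unfold yEl
  have huw : H (b 0) ((-(a ^ q)) • b 1) = 0 := by rw [hermForm_smul_right, h01, mul_zero]
  have ha : β + β ^ q + H ((-(a ^ q)) • b 1) ((-(a ^ q)) • b 1) = 0 := by
    rw [hermForm_smul_left, hermForm_smul_right, h11, frob_neg hF, frob_frob hF]
    linear_combination hab
  rw [eich_act hF h00 huw ha, h20, hermForm_smul_right, h21]
  module

/-- conjugating a transvection `E(u, 0, a)` -/
theorem h1_conj0 {u : Fin 3 → F} {a : F} (huu : H u u = 0) (ha : a + a ^ q = 0) (g : G) :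
    g * eich hF u 0 a * g⁻¹ = eich hF (actv g u) 0 a := by
  have h := eich_conj hF (u := u) (w := 0) (a := a) huu (H_zero_right hF u)
    (by rw [H_zero_right hF]; linear_combination ha) g
  rw [actv_zero] at h
  exact h

/-- rescaling the vector of a transvection -/
theorem h1_smul0 {u : Fin 3 → F} {a : F} (huu : H u u = 0) (ha : a + a ^ q = 0) (c : F) :
    eich hF (c • u) 0 a = eich hF u 0 (c * c ^ q * a) := by
  have h := eich_smul hF (u := u) (w := 0) (a := a) (c := c) huu (H_zero_right hF u)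
    (by rw [H_zero_right hF]; linear_combination ha)
  rw [smul_zero] at h
  exact h

include hF in
/-- the norm times a trace-zero element is trace-zero -/
theorem h1_tr0 {a : F} (ha : a + a ^ q = 0) (c : F) :
    c * c ^ q * a + (c * c ^ q * a) ^ q = 0 := by
  rw [mul_pow, mul_pow, frob_frob hF]
  linear_combination (c * c ^ q) * ha

theorem top_of_Q (hb : HB q b) (hq : 3 ≤ q) (Hs : Subgroup G)
    (hQ : ∀ ω β : F, β + β ^ q + ω * ω ^ q = 0 → yEl hF b ω β ∈ Hs)
    {c : F} (hc0 : c ≠ 0) (hc : c + c ^ q = 0) (ht : lEl hF b 0 c ∈ Hs) : Hs = ⊤ := by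
  obtain ⟨h00, h01, h02, h10, h11, h12, h20, h21, h22⟩ := h1_hb_vals hb
  have hTG : TG hF (⊤ : Submodule F (Fin 3 → F)) = ⊤ :=
    TG_top hF (le_refl 3) (by rintro ⟨_, h2⟩; omega)
  -- (A) the root group of `e`
  have hA : ∀ r : F, r + r ^ q = 0 → eich hF (b 0) 0 r ∈ Hs := by
    intro r hr
    rw [← h1_yEl_zero hF]
    exact hQ 0 r (by rw [zero_mul]; linear_combination hr)
  -- (C) the root group of `f`
  have hcq : c ^ q = -c := by linear_combination hc
  have hci : c⁻¹ + c⁻¹ ^ q = 0 := by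
    rw [inv_pow, hcq]
    field_simp
    ring
  have hN0 : c * c ^ q ≠ 0 := mul_ne_zero hc0 (pow_ne_zero _ hc0)
  have hC : ∀ s : F, s + s ^ q = 0 → eich hF (b 2) 0 s ∈ Hs := by
    intro s hs
    -- r with c c^q r = s
    set r : F := (c * c ^ q)⁻¹ * s with hr
    have hNq : (c * c ^ q) ^ q = c * c ^ q := by
      rw [mul_pow, frob_frob hF]; ring
    have hrr : r + r ^ q = 0 := by
      rw [hr, mul_pow, inv_pow, hNq]
      linear_combination (c * c ^ q)⁻¹ * hs
    have hrs : c * c ^ q * r = s := by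
      rw [hr]; field_simp
    have hte : actv (lEl hF b 0 c) (b 0) = b 0 + c • b 2 := by
      rw [h1_lEl_zero hF, eich_act hF h22 (H_zero_right hF _)
        (by rw [H_zero_right hF]; linear_combination hc), h02, H_zero_right hF]
      module
    have h1 : eich hF (b 0 + c • b 2) 0 r ∈ Hs := by
      rw [← hte, ← h1_conj0 hF h00 hrr]
      exact Hs.mul_mem (Hs.mul_mem ht (hA r hrr)) (Hs.inv_mem ht)
    have hy : yEl hF b 0 c⁻¹ ∈ Hs := hQ 0 c⁻¹ (by rw [zero_mul]; linear_combination hci)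
    have hyf : actv (yEl hF b 0 c⁻¹) (b 2) = b 2 + c⁻¹ • b 0 := by
      rw [h1_yEl_f hF hb 0 c⁻¹ (by rw [zero_mul]; linear_combination hci), frob_zero hF]
      module
    have hu2 : b 0 + c • b 2 = c • (b 2 + c⁻¹ • b 0) := by
      rw [smul_add, smul_smul, mul_inv_cancel₀ hc0, one_smul, add_comm]
    have huu2 : H (b 2 + c⁻¹ • b 0) (b 2 + c⁻¹ • b 0) = 0 := by
      rw [hermForm_add_left, hermForm_add_right hF, hermForm_add_right hF,
        hermForm_smul_left, hermForm_smul_left, hermForm_smul_right, hermForm_smul_right,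
        h22, h20, h02, h00]
      linear_combination hci
    rw [hu2, h1_smul0 hF huu2 hrr, hrs, ← hyf, ← h1_conj0 hF h22 hs] at h1
    have := Hs.mul_mem (Hs.mul_mem (Hs.inv_mem hy) h1) hy
    simpa [mul_assoc] using this
  -- vectors with `H u' e = 1`
  have hU : ∀ u' : Fin 3 → F, H u' u' = 0 → H u' (b 0) = 1 → ∀ r : F, r + r ^ q = 0 →
      eich hF u' 0 r ∈ Hs := by
    intro u' huu hu1 r hr
    have hex := expand hb u'
    rw [Fin.sum_univ_three] at hex
    simp only [co] at hex
    have hr0 : (Fin.rev (0 : Fin 3)) = 2 := by decide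
    have hr1 : (Fin.rev (1 : Fin 3)) = 1 := by decide
    have hr2 : (Fin.rev (2 : Fin 3)) = 0 := by decide
    rw [hr0, hr1, hr2, hu1] at hex
    set α := H u' (b 2) with hα
    set δ := H u' (b 1) with hδ
    have hiso : α + α ^ q + δ * δ ^ q = 0 := by
      have h := huu
      rw [hex, hermForm_add_right hF, hermForm_add_right hF, hermForm_smul_right,
        hermForm_smul_right, hermForm_smul_right, ← hex, hu1, ← hα, ← hδ, one_pow] at h
      linear_combination h
    have hcond : α + α ^ q + (-(δ ^ q)) * (-(δ ^ q)) ^ q = 0 := by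
      rw [frob_neg hF, frob_frob hF]
      linear_combination hiso
    have hy : yEl hF b (-(δ ^ q)) α ∈ Hs := hQ _ _ hcond
    have hyf : actv (yEl hF b (-(δ ^ q)) α) (b 2) = u' := by
      rw [h1_yEl_f hF hb _ _ hcond, frob_neg hF, frob_frob hF, neg_neg]
      conv_rhs => rw [hex]
      module
    rw [← hyf, ← h1_conj0 hF h22 hr]
    exact Hs.mul_mem (Hs.mul_mem hy (hC r hr)) (Hs.inv_mem hy)
  rw [eq_top_iff, ← hTG, TG, Subgroup.closure_le]
  rintro g ⟨u, a, huu, ha, -, rfl⟩
  rw [tvSU_eq_eich]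
  have ha' : a + a ^ q = 0 := by linear_combination ha
  show eich hF u 0 a ∈ Hs
  by_cases hφ : H u (b 0) = 0
  · -- `u = α • e`
    have hex := expand hb u
    rw [Fin.sum_univ_three] at hex
    simp only [co] at hex
    have hr0 : (Fin.rev (0 : Fin 3)) = 2 := by decide
    have hr1 : (Fin.rev (1 : Fin 3)) = 1 := by decide
    have hr2 : (Fin.rev (2 : Fin 3)) = 0 := by decide
    rw [hr0, hr1, hr2, hφ] at hex
    set α := H u (b 2) with hα
    set δ := H u (b 1) with hδ
    have hδ0 : δ = 0 := by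
      have h := huu
      rw [hex, hermForm_add_right hF, hermForm_add_right hF, hermForm_smul_right,
        hermForm_smul_right, hermForm_smul_right, ← hex, hφ, ← hδ] at h
      have h2 : δ ^ q * δ = 0 := by rw [frob_zero hF] at h; linear_combination h
      rcases mul_eq_zero.mp h2 with h3 | h3
      · exact pow_eq_zero_iff (by omega) |>.mp h3
      · exact h3
    have hue : u = α • b 0 := by
      rw [hex, hδ0]; module
    rw [hue, h1_smul0 hF h00 ha']
    exact hA _ (h1_tr0 hF ha' α)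
  · -- rescale to `H u' e = 1`
    set φ := H u (b 0) with hφd
    have hus : u = φ • (φ⁻¹ • u) := by
      rw [smul_smul, mul_inv_cancel₀ hφ, one_smul]
    have huu' : H (φ⁻¹ • u) (φ⁻¹ • u) = 0 := by
      rw [hermForm_smul_left, hermForm_smul_right, huu, mul_zero, mul_zero]
    have hu1 : H (φ⁻¹ • u) (b 0) = 1 := by
      rw [hermForm_smul_left, ← hφd, inv_mul_cancel₀ hφ]
    rw [hus, h1_smul0 hF huu' ha']
    exact hU _ huu' hu1 _ (h1_tr0 hF ha' φ)

end Cfsg.Agent.Helper1.UT
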